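import Cfsg.Agent.Lib.ZD.Defs
import Cfsg.Agent.Lib.SF.Gen
import Cfsg.Agent.Lib.Solv.SZ
import Cfsg.Agent.Lib.ZStar.Main

/-! Basic properties of `ZH`. -/

open Subgroup MulAction

set_option linter.unusedSectionVars false

namespace Cfsg.Agent.ZD

open FT Tr SF.GP

universe u

variable {G : Type u} {Ω : Type u} [Group G] [MulAction G Ω]

theorem exists_cent_of_pgroup {p : ℕ} [Fact p.Prime] {T : Subgroup G} (hT : IsPGroup p T)
    (S : Set G) (hS : ∀ g ∈ T, ∀ y ∈ S, g * y * g⁻¹ ∈ S) (hc : ¬ p ∣ S.ncard) :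
    ∃ y ∈ S, ∀ g ∈ T, Commute g y := by
  letI : MulAction G G := MulAction.compHom G (MulAut.conj : G →* MulAut G)
  obtain ⟨y, hy, h⟩ := Solv.exists_fixed_of_pgroup (X := G) hT S hS (by rwa [Nat.card_coe_set_eq])
  exact ⟨y, hy, fun g hg => mul_inv_eq_iff_eq_mul.1 (h g hg)⟩

theorem zstar_in [Finite G] {L : Subgroup G} {d : G} (hd : d ∈ L) (d2 : orderOf d = 2)
    (hi : ∀ g ∈ L, Commute d (g * d * g⁻¹) → g * d * g⁻¹ = d) {g : G} (hg : g ∈ L) :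
    d * g * d⁻¹ * g⁻¹ ∈ 𝐎(L) := by
  have hi : IsIsolatedInvolution (⟨d, hd⟩ : L) := ⟨by rw [orderOf_mk, d2], fun g hc =>
    Subtype.ext (hi g g.2 (hc.map L.subtype))⟩
  refine le_core (Y := (pPrimeCore 2 L).map L.subtype)
    (Nat.coprime_two_right.1 (Fit.coprime_card_map_pPrimeCore_subtype L))
    ⟨map_subtype_le _, fun g hg => ?_⟩ (mem_map_of_mem L.subtype (ZStar.zstar hi ⟨g, hg⟩))
  refine Tr.mem_normalizer_of_forall ?_
  rintro _ ⟨x, hx, rfl⟩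
  exact mem_map_of_mem L.subtype
    ((inferInstance : (pPrimeCore 2 L).Normal).conj_mem x hx ⟨g, hg⟩)

theorem isPGroup_zpowers_sq {s : G} (hs : s * s = 1) : IsPGroup 2 (zpowers s) :=
  isPGroup_zpowers (k := 1) (by rw [pow_one, pow_two, hs])

theorem mem_zpowers_sq {s g : G} (hs : s * s = 1) : g ∈ zpowers s ↔ g = 1 ∨ g = s := by
  constructor
  · rintro ⟨n, rfl⟩
    have e : s ^ (2 : ℤ) = 1 := by rw [zpow_two, hs]
    rcases Int.even_or_odd' n with ⟨k, rfl | rfl⟩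
    · left; simp only [zpow_mul, e, one_zpow]
    · right; simp only [zpow_add, zpow_mul, e, one_zpow, zpow_one, one_mul]
  · rintro (rfl | rfl)
    exacts [one_mem _, mem_zpowers _]

/-- The fixed points of a subgroup. -/
def Fix (Ω : Type u) [MulAction G Ω] (T : Subgroup G) : Set Ω := {ω | ∀ g ∈ T, g • ω = ω}

theorem mem_Fix {T : Subgroup G} {ω : Ω} : ω ∈ Fix Ω T ↔ ∀ g ∈ T, g • ω = ω := Iff.rfl

theorem Fix_zpowers (s : G) : Fix Ω (zpowers s) = fixedBy Ω s := by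
  ext ω
  exact ⟨fun h => h s (mem_zpowers s), fun h g hg =>
    (zpowers_le.2 (show s ∈ stabilizer G ω from h)) hg⟩

theorem mem_Ker {F : Set Ω} {g : G} : g ∈ Ker G F ↔ ∀ ω ∈ F, g • ω = ω := Iff.rfl

theorem mem_Stab {F : Set Ω} {g : G} : g ∈ Stab G F ↔ ∀ ω, g • ω ∈ F ↔ ω ∈ F := Iff.rfl

namespace FR

variable {F F' : Set Ω} {x y : G}

theorem mono (h : FR F x) (hF : F ⊆ F') : FR F' x := by
  obtain ⟨α, ha, β, hb, h⟩ := h
  exact ⟨α, hF ha, β, hF hb, h⟩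

theorem of_fix (h : FR F x) (hy : ∀ ω ∈ F, x • ω = ω → y • ω = ω) : FR F y := by
  obtain ⟨α, ha, β, hb, ne, h1, h2⟩ := h
  exact ⟨α, ha, β, hb, ne, hy _ ha h1, hy _ hb h2⟩

theorem of_mem_zpowers (h : FR F x) (hy : y ∈ zpowers x) : FR F y :=
  h.of_fix fun ω _ e => (zpowers_le.2 (show x ∈ stabilizer G ω from e)) hy

theorem conj (h : FR F x) {g : G} (hg : ∀ ω ∈ F, g • ω ∈ F) : FR F (g * x * g⁻¹) := by
  obtain ⟨α, ha, β, hb, ne, h1, h2⟩ := h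
  exact ⟨_, hg _ ha, _, hg _ hb, fun e => ne (smul_left_cancel g e), BS.smul_conj_fixed h1,
    BS.smul_conj_fixed h2⟩

end FR

/-- The members of `D` fixing `α`. -/
def DA (D : Set G) (α : Ω) : Set G := {d | d ∈ D ∧ d • α = α}

/-- The members of `D` mapping `α` to `β`. -/
def DS (D : Set G) (α β : Ω) : Set G := {d | d ∈ D ∧ d • α = β}

namespace ZH

variable {H : Subgroup G} {F : Set Ω} {D : Set G} (h : ZH H F D)
include h

theorem sq {d : G} (hd : d ∈ D) : d * d = 1 := mul_self_of_orderOf_two (h.two d hd)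
theorem inv_eq {d : G} (hd : d ∈ D) : d⁻¹ = d := inv_eq_of_mul_self (h.sq hd)
theorem ne_one {d : G} (hd : d ∈ D) : d ≠ 1 := ne_one_of_orderOf_two (h.two d hd)
theorem sq' {d : G} (hd : d ∈ D) (x : G) : d * (d * x) = x := by rw [← mul_assoc, h.sq hd, one_mul]
theorem sq'' {d : G} (hd : d ∈ D) (x : G) : x * d * d = x := by rw [mul_assoc, h.sq hd, mul_one]
theorem smul_smul {d : G} (hd : d ∈ D) (ω : Ω) : d • d • ω = ω := by
  rw [← mul_smul, h.sq hd, one_smul]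
theorem swap {d : G} (hd : d ∈ D) {α β : Ω} (e : d • α = β) : d • β = α := by
  rw [← e, h.smul_smul hd]
theorem closure_le : closure D ≤ H := (Subgroup.closure_le H).2 h.le

theorem eq_pt {d : G} (hd : d ∈ D) {α β : Ω} (ha : α ∈ F) (hb : β ∈ F) (h1 : d • α = α)
    (h2 : d • β = β) : α = β := by
  by_contra ne
  exact h.uniq d hd ⟨α, ha, β, hb, ne, h1, h2⟩

theorem fix_of_comm {d g : G} (hd : d ∈ D) {α : Ω} (ha : α ∈ F) (h1 : d • α = α) (hg : g ∈ H)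
    (hc : Commute g d) : g • α = α :=
  h.eq_pt hd (h.inv g hg α ha) ha (BS.smul_fixed_of_commute h1 hc) h1

theorem smul_of_conj {d e g : G} (he : e ∈ D) {α β : Ω} (ha : α ∈ F) (hb : β ∈ F)
    (h1 : d • α = α) (h2 : e • β = β) (hg : g ∈ H) (hc : g * d * g⁻¹ = e) : g • α = β :=
  h.eq_pt he (h.inv g hg α ha) hb (hc ▸ BS.smul_conj_fixed h1) h2

theorem pow_mul_mem {d e : G} (hd : d ∈ D) (he : e ∈ D) (i : ℕ) : (d * e) ^ i * e ∈ D := by
  have hk : zpowers (d * e) ≤ H := zpowers_le.2 (H.mul_mem (h.le d hd) (h.le e he))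
  rcases exists_conj_pow_mul (h.sq hd) (h.sq he) i with ⟨-, k, hk', e'⟩ | ⟨-, k, hk', e'⟩
  · exact e' ▸ h.conj e he k (hk hk')
  · exact e' ▸ h.conj d hd k (hk hk')

theorem sub {H' : Subgroup G} {F' : Set Ω} (hH : H' ≤ H) (hF : F' ⊆ F)
    (hi : ∀ g ∈ H', ∀ ω ∈ F', g • ω ∈ F') (hex : ∀ d ∈ D, d ∈ H' → ∃ ω ∈ F', d • ω = ω)
    (hs : ∀ ω ∈ F', ∃ d ∈ D, d ∈ H' ∧ d • ω = ω) : ZH H' F' (D ∩ H') where
  le := fun _ hd => hd.2
  inv := hi
  conj := fun d hd g hg =>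
    ⟨h.conj d hd.1 g (hH hg), H'.mul_mem (H'.mul_mem hg hd.2) (H'.inv_mem hg)⟩
  two := fun d hd => h.two d hd.1
  ex := fun d hd => hex d hd.1 hd.2
  surj := fun ω hω => by
    obtain ⟨d, h1, h2, h3⟩ := hs ω hω
    exact ⟨d, ⟨h1, h2⟩, h3⟩
  uniq := fun d hd hf => h.uniq d hd.1 (hf.mono hF)
  prod := fun d hd e he ne hc hf => h.prod d hd.1 e he.1 ne hc (hf.mono hF)

/-- The action of a subgroup on the points of its members of `D`. -/
theorem pts {H' : Subgroup G} (hH : H' ≤ H) :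
    ZH H' {ω | ω ∈ F ∧ ∃ d ∈ D, d ∈ H' ∧ d • ω = ω} (D ∩ H') := by
  refine h.sub hH (fun _ h => h.1) ?_ (fun d hd hd' => ?_) fun ω hω => hω.2
  · rintro g hg ω ⟨hω, d, hd, hd', e⟩
    exact ⟨h.inv g (hH hg) ω hω, _, h.conj d hd g (hH hg),
      H'.mul_mem (H'.mul_mem hg hd') (H'.inv_mem hg), BS.smul_conj_fixed e⟩
  · obtain ⟨ω, hω, e⟩ := h.ex d hd
    exact ⟨ω, ⟨hω, d, hd, hd', e⟩, e⟩

variable [Finite G]

theorem mul_mem_of_zpowers {d e k : G} (hd : d ∈ D) (he : e ∈ D) (hk : k ∈ zpowers (d * e)) :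
    k * e ∈ D := by
  obtain ⟨i, rfl⟩ := (mem_powers_iff_mem_zpowers.2 hk)
  exact h.pow_mul_mem hd he i

theorem central {d e : G} (hd : d ∈ D) (he : e ∈ D) (hev : Even (orderOf (d * e))) :
    ∃ m : ℕ, orderOf (d * e) = 2 * m ∧ orderOf ((d * e) ^ m) = 2 ∧ Commute ((d * e) ^ m) d ∧
      Commute ((d * e) ^ m) e ∧ ¬ FR F ((d * e) ^ m) := by
  obtain ⟨m, h1, h2, h3, h4⟩ := exists_central_of_even (h.sq hd) (h.sq he) hev
  refine ⟨m, h1, h2, h3, h4, fun hf => h.prod _ (h.pow_mul_mem hd he m) e he (fun e' => ?_)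
    (h4.mul_left (Commute.refl e)) (by rwa [h.sq'' he])⟩
  exact ne_one_of_orderOf_two h2 (by simpa using e')

theorem odd_of_fr {d e : G} (hd : d ∈ D) (he : e ∈ D) (hf : FR F (d * e)) :
    Odd (orderOf (d * e)) := by
  by_contra hev
  obtain ⟨m, -, -, -, -, h5⟩ := h.central hd he (Nat.not_odd_iff_even.1 hev)
  exact h5 (hf.of_mem_zpowers (pow_mem (mem_zpowers _) m))

theorem eq_of_fr {d e : G} (hd : d ∈ D) (he : e ∈ D) (hf : FR F (d * e)) {n : ℕ}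
    (hn : (d * e) ^ 2 ^ n = 1) : d = e := by
  have := eq_one_of_pow_pow_of_coprime hn (Nat.coprime_two_right.2 (h.odd_of_fr hd he hf))
  rw [eq_inv_of_mul_eq_one_left this, h.inv_eq he]

theorem comm_of_fr {d e : G} (hd : d ∈ D) (he : e ∈ D) (hf : FR F (d * e * (d * e))) {n : ℕ}
    (hn : (d * e) ^ 2 ^ n = 1) : Commute d e := by
  have key : d * e * (d * e) = 1 := by
    rcases Nat.even_or_odd (orderOf (d * e)) with hev | ho
    · obtain ⟨m, h1, -, -, -, h5⟩ := h.central hd he hev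
      obtain ⟨k, -, hk⟩ := (Nat.dvd_prime_pow Nat.prime_two).1 (orderOf_dvd_of_pow_eq_one hn)
      rcases Nat.even_or_odd m with ⟨i, rfl⟩ | hm
      · refine (h5 (hf.of_mem_zpowers ?_)).elim
        rw [← two_mul, pow_mul, pow_two]
        exact pow_mem (mem_zpowers _) i
      · have : m ∣ 2 ^ k := hk ▸ h1 ▸ Dvd.intro_left 2 rfl
        have : m = 1 := Nat.Coprime.eq_one_of_dvd
          ((Nat.coprime_two_right.2 hm).pow_right k) this
        rw [← pow_two, ← orderOf_dvd_iff_pow_eq_one, h1, this]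
    · rw [eq_one_of_pow_pow_of_coprime hn (Nat.coprime_two_right.2 ho), one_mul]
  have := inv_eq_of_mul_self key
  rw [mul_inv_rev, h.inv_eq hd, h.inv_eq he] at this
  exact this.symm

theorem odd_mul {d e : G} (hd : d ∈ D) (he : e ∈ D) {α β : Ω} (ha : α ∈ F) (hb : β ∈ F)
    (ne : α ≠ β) (h1 : d • α = α) (h2 : e • β = β) : Odd (orderOf (d * e)) := by
  by_contra hev
  obtain ⟨m, -, -, h3, h4, h5⟩ := h.central hd he (Nat.not_odd_iff_even.1 hev)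
  have hm := H.pow_mem (H.mul_mem (h.le d hd) (h.le e he)) m
  exact h5 ⟨α, ha, β, hb, ne, h.fix_of_comm hd ha h1 hm h3, h.fix_of_comm he hb h2 hm h4⟩

theorem exists_swap {d e : G} (hd : d ∈ D) (he : e ∈ D) {α β : Ω} (ha : α ∈ F) (hb : β ∈ F)
    (ne : α ≠ β) (h1 : d • α = α) (h2 : e • β = β) :
    ∃ s ∈ D, s * d * s⁻¹ = e ∧ s • α = β ∧ ∀ X : Subgroup G, d ∈ X → e ∈ X → s ∈ X := by
  obtain ⟨k, hk, e'⟩ := exists_conj_of_odd (h.sq he) (h.sq hd) (h.odd_mul he hd hb ha ne.symm h2 h1)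
  have hs := h.mul_mem_of_zpowers he hd hk
  have e2 : k * d * d * (k * d)⁻¹ = e := by rw [← e']; group
  exact ⟨_, hs, e2, h.smul_of_conj he ha hb h1 h2 (h.le _ hs) e2,
    fun X h1 h2 => X.mul_mem (zpowers_le.2 (X.mul_mem h2 h1) hk) h1⟩

theorem exists_DS {α β : Ω} (ha : α ∈ F) (hb : β ∈ F) (ne : α ≠ β) : ∃ s ∈ D, s • α = β := by
  obtain ⟨d, hd, h1⟩ := h.surj α ha
  obtain ⟨e, he, h2⟩ := h.surj β hb
  obtain ⟨s, hs, -, h3, -⟩ := h.exists_swap hd he ha hb ne h1 h2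
  exact ⟨s, hs, h3⟩

theorem tr {α β : Ω} (ha : α ∈ F) (hb : β ∈ F) : ∃ g ∈ closure D, g • α = β := by
  by_cases ne : α = β
  · exact ⟨1, one_mem _, by rw [one_smul, ne]⟩
  · obtain ⟨s, hs, e⟩ := h.exists_DS ha hb ne
    exact ⟨s, subset_closure hs, e⟩

theorem isConj {d e : G} (hd : d ∈ D) (he : e ∈ D) {α β : Ω} (ha : α ∈ F) (hb : β ∈ F)
    (ne : α ≠ β) : ∃ g ∈ closure D, g * d * g⁻¹ = e := by
  obtain ⟨γ, hc, h1⟩ := h.ex d hd
  obtain ⟨δ, hδ, h2⟩ := h.ex e he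
  by_cases e1 : γ = δ
  · subst e1
    obtain ⟨ε, hε, ne'⟩ : ∃ ε ∈ F, γ ≠ ε := by
      by_cases e2 : γ = α
      · exact ⟨β, hb, e2 ▸ ne⟩
      · exact ⟨α, ha, e2⟩
    obtain ⟨c, hc', h3⟩ := h.surj ε hε
    obtain ⟨s, hs, e3, -⟩ := h.exists_swap hd hc' hc hε ne' h1 h3
    obtain ⟨s', hs', e4, -⟩ := h.exists_swap hc' he hε hc ne'.symm h3 h2
    exact ⟨s' * s, mul_mem (subset_closure hs') (subset_closure hs), by rw [← e4, ← e3]; group⟩
  · obtain ⟨s, hs, e3, -⟩ := h.exists_swap hd he hc hδ e1 h1 h2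
    exact ⟨s, subset_closure hs, e3⟩

theorem fr_swap {s s' : G} (hs : s ∈ D) (hs' : s' ∈ D) {α β : Ω} (ha : α ∈ F) (hb : β ∈ F)
    (ne : α ≠ β) (h1 : s • α = β) (h2 : s' • α = β) : FR F (s * s') :=
  ⟨α, ha, β, hb, ne, by rw [mul_smul, h2, h.swap hs h1], by rw [mul_smul, h.swap hs' h2, h1]⟩

/-- An element inverted by a swapper which centralizes a member of `D_α` is trivial. -/
theorem eq_one_of_inv {s d y : G} (hs : s ∈ D) (hd : d ∈ D) {α : Ω} (ha : α ∈ F)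
    (h1 : s • α ≠ α) (h2 : d • α = α) (ho : Odd (orderOf y)) (hi : s * y * s⁻¹ = y⁻¹)
    (hc : Commute y d) : y = 1 := by
  obtain ⟨γ, hγ, h3⟩ := h.ex s hs
  obtain ⟨k, -, e, -, hk⟩ := h.exists_swap hd hs ha hγ (fun e => h1 (e ▸ h3)) h2 h3
  have hk := hk 𝐍(zpowers y) (cent_sub _ (by
      rw [zpowers_eq_closure, cent_gen]; exact mem_cent1.2 hc.symm.eq)) (mem_normalizer_of_forall fun x hx => by
      rw [conj_eq_inv_of_mem_zpowers hi hx]; exact inv_mem hx)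
  have h4 : Commute d (k⁻¹ * y * k) :=
    (zpowers_le.2 (show y ∈ 𝐂[d] from mem_cent1.2 hc.eq)
      (conj_mem_of_mem_normalizer' hk (mem_zpowers y)) |> mem_cent1.1).symm
  have h5 : s * y * s⁻¹ = y := by
    rw [← e]
    calc k * d * k⁻¹ * y * (k * d * k⁻¹)⁻¹ = k * (d * (k⁻¹ * y * k)) * d⁻¹ * k⁻¹ := by group
      _ = y := by rw [h4.eq]; group
  exact eq_one_of_odd_of_mul_self (mul_eq_one_iff_eq_inv.2 (h5.symm.trans hi)) ho

theorem swap_inj {s s' d : G} (hs : s ∈ D) (hs' : s' ∈ D) (hd : d ∈ D) {α β : Ω} (ha : α ∈ F)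
    (hb : β ∈ F) (ne : α ≠ β) (h1 : s • α = β) (h2 : s' • α = β) (h3 : d • α = α)
    (e : s * d * s⁻¹ = s' * d * s'⁻¹) : s = s' := by
  have := h.eq_one_of_inv hs hd ha (h1 ▸ ne.symm) h3
    (h.odd_of_fr hs' hs (h.fr_swap hs' hs ha hb ne h2 h1))
    (conj_mul_eq_inv_right (h.sq hs') (h.sq hs)) (by
      change _ * _ = _ * _
      calc s' * s * d = s' * (s * d * s⁻¹) * s := by group
        _ = d * (s' * s) := by rw [e, h.inv_eq hs']; simp only [mul_assoc, h.sq' hs'])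
  rw [eq_inv_of_mul_eq_one_right this, h.inv_eq hs']

theorem ncard_DS {α β : Ω} (ha : α ∈ F) (hb : β ∈ F) (ne : α ≠ β) :
    (DS D α β).ncard = (DA D β).ncard := by
  obtain ⟨d, hd, h1⟩ := h.surj α ha
  refine Set.ncard_congr (fun s _ => s * d * s⁻¹) (fun s hs => ⟨h.conj d hd s (h.le s hs.1),
    hs.2 ▸ BS.smul_conj_fixed h1⟩) (fun s s' hs hs' e => h.swap_inj hs.1 hs'.1 hd ha hb ne hs.2
      hs'.2 h1 e) fun e he => ?_
  obtain ⟨s, hs, e1, e2, -⟩ := h.exists_swap hd he.1 ha hb ne h1 he.2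
  exact ⟨s, ⟨hs, e2⟩, e1⟩

theorem DS_symm (α β : Ω) : DS D α β = DS D β α := by
  ext s
  exact ⟨fun hs => ⟨hs.1, h.swap hs.1 hs.2⟩, fun hs => ⟨hs.1, h.swap hs.1 hs.2⟩⟩

theorem ncard_DA {α β : Ω} (ha : α ∈ F) (hb : β ∈ F) : (DA D α).ncard = (DA D β).ncard := by
  by_cases ne : α = β
  · rw [ne]
  · rw [← h.ncard_DS ha hb ne, h.DS_symm, h.ncard_DS hb ha (Ne.symm ne)]

theorem odd_DS {α β : Ω} (ha : α ∈ F) (hb : β ∈ F) (ne : α ≠ β) : Odd (DS D α β).ncard := by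
  obtain ⟨s, hs, h1⟩ := h.exists_DS ha hb ne
  have hm : s ∈ DS D α β := ⟨hs, h1⟩
  by_contra hev
  obtain ⟨y, hy, hc⟩ := exists_cent_of_pgroup (isPGroup_zpowers_sq (h.sq hs)) (DS D α β \ {s})
    (fun g hg y hy => by
      rcases (mem_zpowers_sq (h.sq hs)).1 hg with rfl | rfl
      · simpa using hy
      · refine ⟨⟨h.conj y hy.1.1 g (h.le g hs), ?_⟩, fun e => hy.2 ?_⟩
        · rw [h.inv_eq hs, mul_smul, mul_smul, h1, h.swap hy.1.1 hy.1.2, h1]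
        · have e : g * y * g⁻¹ = g := e
          change y = g
          calc y = g⁻¹ * (g * y * g⁻¹) * g := by group
            _ = g := by rw [e]; group) (by
      have := Set.ncard_sdiff_singleton_add_one hm
      rw [Nat.not_odd_iff_even, ← this, Nat.even_add_one, even_iff_two_dvd] at hev
      exact hev)
  exact h.prod s hs y hy.1.1 (fun e => hy.2 e.symm) (hc s (mem_zpowers s))
    (h.fr_swap hs hy.1.1 ha hb ne h1 hy.1.2)

theorem odd_DA {α β : Ω} (ha : α ∈ F) (hb : β ∈ F) (ne : α ≠ β) : Odd (DA D α).ncard := by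
  rw [← h.ncard_DS hb ha ne.symm]; exact h.odd_DS hb ha ne.symm

theorem DA_pos {α : Ω} (ha : α ∈ F) : 0 < (DA D α).ncard := by
  obtain ⟨d, hd, e⟩ := h.surj α ha
  exact (Set.ncard_pos (Set.toFinite _)).2 ⟨d, hd, e⟩

theorem exists_cent_fix {T : Subgroup G} (hT : IsPGroup 2 T) (hH : T ≤ H) {α β : Ω} (ha : α ∈ F)
    (hb : β ∈ F) (ne : α ≠ β) (h1 : ∀ g ∈ T, g • α = α) : ∃ d ∈ D, d ∈ 𝐂(T) ∧ d • α = α := by
  obtain ⟨d, hd, hc⟩ := exists_cent_of_pgroup hT (DA D α) (fun g hg y hy =>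
    ⟨h.conj y hy.1 g (hH hg), by
      rw [mul_smul, mul_smul, h1 _ (T.inv_mem hg), hy.2, h1 g hg]⟩)
    (h.odd_DA ha hb ne).not_two_dvd_nat
  exact ⟨d, hd.1, mem_cent.2 hc, hd.2⟩

theorem exists_cent_swap {T : Subgroup G} (hT : IsPGroup 2 T) (hH : T ≤ H) {α β : Ω} (ha : α ∈ F)
    (hb : β ∈ F) (ne : α ≠ β)
    (h1 : ∀ g ∈ T, (g • α = α ∧ g • β = β) ∨ (g • α = β ∧ g • β = α)) :
    ∃ d ∈ D, d ∈ 𝐂(T) ∧ d • α = β := by
  obtain ⟨d, hd, hc⟩ := exists_cent_of_pgroup hT (DS D α β) (fun g hg y hy =>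
    ⟨h.conj y hy.1 g (hH hg), by
      rcases h1 g hg with ⟨e1, e2⟩ | ⟨e1, e2⟩
      · rw [mul_smul, mul_smul, BS.inv_smul_fixed e1, hy.2, e2]
      · rw [mul_smul, mul_smul, inv_smul_eq_iff.2 e2.symm, h.swap hy.1 hy.2, e1]⟩)
    (h.odd_DS ha hb ne).not_two_dvd_nat
  exact ⟨d, hd.1, mem_cent.2 hc, hd.2⟩

/-- (A3) the centralizer of a `2`-subgroup acts on its fixed points. -/
theorem cent {T : Subgroup G} (hT : IsPGroup 2 T) (hH : T ≤ H) {α β : Ω} (ha : α ∈ F)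
    (hb : β ∈ F) (ne : α ≠ β) : ZH (H ⊓ 𝐂(T)) (F ∩ Fix Ω T) (D ∩ (H ⊓ 𝐂(T) : Subgroup G)) := by
  refine h.sub inf_le_left Set.inter_subset_left (fun g hg ω hω => ⟨h.inv g hg.1 ω hω.1,
    fun x hx => BS.smul_fixed_of_commute (hω.2 x hx) (mem_cent.1 hg.2 x hx).symm⟩)
    (fun d hd hd' => ?_) fun ω hω => ?_
  · obtain ⟨ω, hω, e⟩ := h.ex d hd
    exact ⟨ω, ⟨hω, fun x hx => h.fix_of_comm hd hω e (hH hx) (mem_cent.1 hd'.2 x hx)⟩, e⟩
  · obtain ⟨ε, hε, ne'⟩ : ∃ ε ∈ F, ω ≠ ε := by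
      by_cases e2 : ω = α
      · exact ⟨β, hb, e2 ▸ ne⟩
      · exact ⟨α, ha, e2⟩
    obtain ⟨d, hd, hc, e⟩ := h.exists_cent_fix hT hH hω.1 hε ne' hω.2
    exact ⟨d, hd, ⟨h.le d hd, hc⟩, e⟩

theorem cent1 {s : G} (hs : s * s = 1) (hH : s ∈ H) {α β : Ω} (ha : α ∈ F)
    (hb : β ∈ F) (ne : α ≠ β) :
    ZH (H ⊓ 𝐂[s]) (F ∩ fixedBy Ω s) (D ∩ (H ⊓ 𝐂[s] : Subgroup G)) := by
  have := h.cent (isPGroup_zpowers_sq hs) (zpowers_le.2 hH) ha hb ne
  rwa [Fix_zpowers, zpowers_eq_closure, cent_gen] at this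

/-- The members of `D` centralizing `t` are conjugate in `C(t)`. -/
theorem conj_cent1 {t d e : G} (ht : t * t = 1) (hH : t ∈ H) (hf : FR F t) (hd : d ∈ D)
    (he : e ∈ D) (h1 : Commute d t) (h2 : Commute e t) :
    ∃ g ∈ H, Commute g t ∧ g * d * g⁻¹ = e := by
  obtain ⟨α, ha, β, hb, ne, e1, e2⟩ := hf
  have h' := h.cent1 ht hH ha hb ne
  obtain ⟨g, hg, e'⟩ := h'.isConj (d := d) (e := e) ⟨hd, h.le d hd, mem_cent1.2 h1⟩
    ⟨he, h.le e he, mem_cent1.2 h2⟩ (α := α) (β := β) ⟨ha, e1⟩ ⟨hb, e2⟩ ne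
  have := h'.closure_le hg
  exact ⟨g, this.1, mem_cent1.1 this.2, e'⟩

/-- (A4) -/
theorem exists_comm {s : G} (hs : s * s = 1) (hH : s ∈ H) {ε : Ω} (hε : ε ∈ F) (ne : s • ε ≠ ε) :
    ∃ d ∈ D, Commute d s ∧ d • ε = s • ε := by
  obtain ⟨d, hd, hc, e⟩ := h.exists_cent_swap (isPGroup_zpowers_sq hs) (zpowers_le.2 hH) hε
    (h.inv s hH ε hε) ne.symm fun g hg => by
      rcases (mem_zpowers_sq hs).1 hg with rfl | rfl
      · simp
      · exact Or.inr ⟨rfl, by rw [← mul_smul, hs, one_smul]⟩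
  exact ⟨d, hd, (mem_cent.1 hc s (mem_zpowers s)).symm, e⟩

theorem fr_of_smul {s d : G} (hs : s * s = 1) (hH : s ∈ H) (hd : d ∈ D) {ε : Ω} (hε : ε ∈ F)
    (ne : s • ε ≠ ε) (e : d • ε = s • ε) : FR F (s * d) :=
  ⟨ε, hε, s • ε, h.inv s hH ε hε, ne.symm, by rw [mul_smul, e, ← mul_smul, hs, one_smul],
    by rw [mul_smul, h.swap hd e]⟩

theorem fr_mul {t d : G} (ht : t * t = 1) (hH : t ∈ H) (hf : FR F t) {ε : Ω} (hε : ε ∈ F)
    (ne : t • ε ≠ ε) (hd : d ∈ D) (hc : Commute d t) : FR F (t * d) := by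
  obtain ⟨d', hd', hc', e⟩ := h.exists_comm ht hH hε ne
  obtain ⟨g, hg, h1, h2⟩ := h.conj_cent1 ht hH hf hd' hd hc' hc
  have := (h.fr_of_smul ht hH hd' hε ne e).conj (h.inv g hg)
  rwa [← mul_assoc, h1.eq, mul_assoc t, mul_assoc t, h2] at this

theorem fr_of_not_mem (hf : ∀ g ∈ H, (∀ ω ∈ F, g • ω = ω) → g = 1) {s : G} (hH : s ∈ H)
    (s2 : orderOf s = 2) (hs : s ∉ D) : FR F s := by
  have ss := mul_self_of_orderOf_two s2
  obtain ⟨ε, hε, ne⟩ : ∃ ε ∈ F, s • ε ≠ ε := by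
    by_contra hh
    push Not at hh
    exact ne_one_of_orderOf_two s2 (hf s hH hh)
  obtain ⟨d, hd, hc, e⟩ := h.exists_comm ss hH hε ne
  have hH' := H.mul_mem hH (h.le d hd)
  obtain ⟨ε', hε', ne'⟩ : ∃ ε ∈ F, (s * d) • ε ≠ ε := by
    by_contra hh
    push Not at hh
    have := hf _ hH' hh
    exact hs (by rw [eq_inv_of_mul_eq_one_left this, h.inv_eq hd]; exact hd)
  have := h.fr_mul (t := s * d) (by
    rw [mul_assoc, ← mul_assoc d, hc.eq, h.sq'' hd, ss]) hH' (h.fr_of_smul ss hH hd hε ne e) hε' ne'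
    hd (hc.mul_right (Commute.refl d))
  rwa [h.sq'' hd] at this

theorem mul_mem (hf : ∀ g ∈ H, (∀ ω ∈ F, g • ω = ω) → g = 1) {d e : G} (hd : d ∈ D) (he : e ∈ D)
    (ne : d ≠ e) (hc : Commute d e) : d * e ∈ D := by
  by_contra hm
  refine h.prod d hd e he ne hc (h.fr_of_not_mem hf (H.mul_mem (h.le d hd) (h.le e he))
    (orderOf_eq_two ?_ fun e' => ne ?_) hm)
  · rw [mul_assoc, ← mul_assoc e, ← hc.eq, h.sq'' he, h.sq hd]
  · rw [eq_inv_of_mul_eq_one_left e', h.inv_eq he]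

/-- (A5) -/
theorem conj_mul (hm : ∀ d ∈ D, ∀ e ∈ D, d ≠ e → Commute d e → d * e ∈ D) {t d : G}
    (ht : t * t = 1) (hH : t ∈ H) (hf : FR F t) {ε : Ω} (hε : ε ∈ F) (ne : t • ε ≠ ε)
    (hp : CP (D ∩ 𝐂[t])) (hd : d ∈ D) (hc : Commute d t) : ∃ g ∈ H, g * t * g⁻¹ = t * d := by
  obtain ⟨a, ⟨ha, ha'⟩, b, ⟨hb, hb'⟩, hne, hab⟩ := hp
  have ha' : Commute a t := mem_cent1.1 ha'
  have hb' : Commute b t := mem_cent1.1 hb'
  obtain ⟨g, hg, h1, h2⟩ := h.conj_cent1 (t := t * a)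
    (by rw [mul_assoc, ← mul_assoc a, ha'.eq, h.sq'' ha, ht]) (H.mul_mem hH (h.le a ha))
    (h.fr_mul ht hH hf hε ne ha ha') ha hb (ha'.mul_right (Commute.refl a))
    (hb'.mul_right hab.symm)
  obtain ⟨g', hg', h3, h4⟩ := h.conj_cent1 ht hH hf (hm a ha b hb hne hab) hd
    (ha'.mul_left hb') hc
  refine ⟨g' * g, H.mul_mem hg' hg, ?_⟩
  have e1 : g * t * g⁻¹ = t * (a * b) := by
    calc g * t * g⁻¹ = g * (t * a) * g⁻¹ * (g * a * g⁻¹) := by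
          simp only [mul_assoc, inv_mul_cancel_left, h.sq' ha]
      _ = _ := by rw [h1.eq, h2]; group
  calc g' * g * t * (g' * g)⁻¹ = g' * (g * t * g⁻¹) * g'⁻¹ := by group
    _ = g' * t * g'⁻¹ * (g' * (a * b) * g'⁻¹) := by rw [e1]; group
    _ = t * d := by rw [h3.eq, h4]; group

/-- Products of two swappers lie in the odd core of the two point stabilizer. -/
theorem swap_mem_core {s s' : G} (hs : s ∈ D) (hs' : s' ∈ D) {α β : Ω} (ha : α ∈ F) (hb : β ∈ F)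
    (ne : α ≠ β) (h1 : s • α = β) (h2 : s' • α = β) :
    s * s' ∈ 𝐎(H ⊓ Stab G ({α, β} : Set Ω)) := by
  have hS : ∀ s ∈ D, s • α = β → s ∈ H ⊓ Stab G ({α, β} : Set Ω) := fun s hs h1 =>
    ⟨h.le s hs, fun ω => by
      simp only [Set.mem_insert_iff, Set.mem_singleton_iff]
      constructor
      · rintro (e | e)
        · right; rw [← h.smul_smul hs ω, e, h1]
        · left; rw [← h.smul_smul hs ω, e, h.swap hs h1]
      · rintro (rfl | rfl)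
        · exact Or.inr h1
        · exact Or.inl (h.swap hs h1)⟩
  obtain ⟨k, hk, e⟩ := exists_conj_of_odd (h.sq hs') (h.sq hs)
    (h.odd_of_fr hs' hs (h.fr_swap hs' hs ha hb ne h2 h1))
  have := zstar_in (hS s hs h1) (h.two s hs) (fun g hg hc => ?_)
    (zpowers_le.2 (Subgroup.mul_mem _ (hS s' hs' h2) (hS s hs h1)) hk)
  · rwa [h.inv_eq hs, mul_assoc, mul_assoc, ← mul_assoc k, e] at this
  · by_contra hne
    have hd := h.conj s hs g hg.1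
    refine h.prod s hs _ hd (Ne.symm hne) hc (h.fr_swap hs hd ha hb ne h1 ?_)
    have hL : g * s * g⁻¹ ∈ Stab G ({α, β} : Set Ω) :=
      Subgroup.mul_mem _ (Subgroup.mul_mem _ hg.2 (hS s hs h1).2) (Subgroup.inv_mem _ hg.2)
    rcases (hL α).2 (Or.inl rfl) with e | e
    · rcases (hL β).2 (Or.inr rfl) with e' | e'
      · exact absurd (smul_left_cancel _ (e.trans e'.symm)) ne
      · exact absurd (h.eq_pt hd ha hb e e') ne
    · exact e

end ZH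

end Cfsg.Agent.ZD
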