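import Cfsg.Agent.Lib.ZD.CF1

/-! Row CF: no `UUU` four-group contains `t`. -/

open Subgroup MulAction
open scoped commutatorElement

set_option linter.unusedSectionVars false

namespace Cfsg.Agent.ZD

open FT Tr SF.GP

universe u

variable {G : Type u} {Ω : Type u} [Group G] [MulAction G Ω] [Finite G]

set_option hygiene false in
local notation "π" => pT Ω t

namespace CU

variable {D : Set G} {t : G} {a b : fixedBy Ω t} {R V K P : Subgroup G} {j τ : G} {q : ℕ}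
  {Q W : Subgroup (XT Ω t)} (c : CU D t a b R V K P j q Q W τ)
include c

theorem conj_tw {y w v : G} (hy : y ∈ 𝐂(V)) (e : y * t * y⁻¹ = t * w) (hv : v ∈ V) :
    y * (t * v) * y⁻¹ = t * w * v := by
  rw [← e, ← mul_assoc, mul_assoc _ v, inv_mem hy v hv, mul_assoc (y * t)]

variable {T : Subgroup G} (hT : SylowIn 2 T (𝐍(P) ⊓ 𝐂(V))) (hR : R ⊓ 𝐂(V) ≤ T)
include hT hR

theorem TR {x : G} (hx : x ∈ T) (h : x ∈ 𝐂[t]) : x ∈ R :=
  ((c.cf_sylP.eq_of_le (Q := T ⊓ 𝐂[t]) (hT.isPGroup.to_le inf_le_left)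
    (le_inf hR (inf_le_left.trans c.sylR.le))
    (le_inf inf_le_right (inf_le_left.trans (hT.le.trans inf_le_right)))).le ⟨hx, h⟩).1

theorem PT : P ≤ T := (le_inf c.PR c.PV).trans hR

theorem sqT {y w : G} (hy : y ∈ T) (hG : y ∈ cfG P V) (hw : w ∈ V) (w1 : w ≠ 1)
    (e : y * t * y⁻¹ = t * w) : y * y ∈ V := by
  have hV := hG.1.2
  have h1 : y * y ∈ 𝐂[t] := cent1_conj.2 (by
    calc _ = y * (y * t * y⁻¹) * y⁻¹ := by group
      _ = t := by rw [e, c.conj_tw hV e hw, mul_assoc, c.sqV hw, mul_one])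
  have h2 := c.TR hT hR (mul_mem hy hy) h1
  have key : ∀ x ∈ P, ⁅x, y * y⁆ = 1 ∨ ⁅x, y * y⁆ = w := fun x hx => by
    have h3 : ⁅x, y * y⁆ = x * ((x⁻¹ * (y * x * y⁻¹)) * (y * (x⁻¹ * (y * x * y⁻¹)) * y⁻¹))⁻¹ * x⁻¹ := by
      simp [commutatorElement_def, mul_assoc]
    rcases c.cenE (mul_mem (inv_mem hx) (conj_mem_of_mem_normalizer hG.1.1 hx)) (hG.2 x hx) with
      h | ⟨v, hv, h⟩
    · left
      rw [h3, ← hV _ h, mul_inv_cancel_right, c.sqV h]; simp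
    · right
      rw [h3, h, c.conj_tw hV e hv, show t * v * (t * w * v) = w by
        rw [mul_assoc t w, (c.commV hw hv).eq, ← mul_assoc t, ← mul_assoc,
          sq_mul_of_comm (c.commt hv).symm c.ti.sq (c.sqV hv), one_mul], c.invV hw,
        ← c.PV hx w hw, mul_inv_cancel_right]
  have h3 : ∀ ξ ∈ Q, ⁅ξ, π (y * y)⁆ = 1 ∨ ⁅ξ, π (y * y)⁆ = π w := fun ξ hξ => by
    obtain ⟨x, hx, rfl⟩ := c.onto hξ
    rw [← pT_comm (c.PS hx) (c.RS h2)]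
    exact (key x hx).imp (fun h => by rw [h, pT_one]) fun h => by rw [h]
  have h4 : π (y * y) ∈ Q := c.good.g6 _ (c.pi_CW (c.RS h2) (mul_mem hV hV)) fun ξ hξ => by
    rw [← commutatorElement_def, ← commutatorElement_inv]
    rcases h3 ξ hξ with h | h <;> rw [h]
    exacts [inv_mem (one_mem _), inv_mem (c.pi_mem hw)]
  refine (c.memE h2 (c.good.rk _ h4 _ h3)).resolve_right fun ⟨v, hv, h⟩ => w1 ?_
  have := c.conj_tw hV e hv
  rw [← h, mul_assoc y, mul_inv_cancel_right, h, mul_left_inj] at this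
  exact (left_eq_mul.1 this)

theorem lift {g w : G} (hG : g ∈ cfG P V) (hw : w ∈ V) (e : g * t * g⁻¹ = t * w) :
    ∃ y ∈ T, y ∈ cfG P V ∧ y * t * y⁻¹ = t * w := by
  obtain ⟨r, hr, o, ⟨n, rfl⟩, ⟨k, hk⟩, ho, e1⟩ := S2.dec2 g
  have h1 : g * g ∈ 𝐂[t] := cent1_conj.2 (by
    calc _ = g * (g * t * g⁻¹) * g⁻¹ := by group
      _ = t := by rw [e, c.conj_tw hG.1.2 e hw, mul_assoc, c.sqV hw, mul_one])
  have h2 : Commute (g ^ n) t := g2_comm_of_odd ho (by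
    rw [← (Commute.refl g).mul_zpow]; exact mem_cent1.1 (zpow_mem h1 n))
  have h3 : r ∈ cfG P V := zpowers_le.2 hG hr
  obtain ⟨m, hm, h4⟩ := (hT.inf_of_le_normalizer (N := cfG P V) (fun x hx => hx.1)
    ((hT.le.trans (inf_le_inf_left _ (cent_sub V))).trans cfG_norm)).exists_conj_mem h3 hk
  obtain ⟨v, hv, e2⟩ := c.del (inv_mem hm.1)
  refine ⟨_, h4.1, h4.2, ?_⟩
  have e3 : r * t * r⁻¹ = t * w := by
    rw [← e]; conv_rhs => rw [e1]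
    simp only [mul_inv_rev, mul_assoc]
    rw [← mul_assoc (g ^ n) t, h2.eq, mul_assoc, mul_inv_cancel_left]
  calc _ = m * (r * (m⁻¹ * t * m⁻¹⁻¹) * r⁻¹) * m⁻¹ := by group
    _ = m * (m⁻¹ * t * m⁻¹⁻¹ * w) * m⁻¹ := by
      rw [e2, c.conj_tw h3.1.2 e3 hv, mul_assoc t, (c.commV hw hv).eq, ← mul_assoc t]
    _ = t * (m * w * m⁻¹) := by group
    _ = _ := by rw [← hm.1.2 w hw, mul_inv_cancel_right]

theorem key {g w : G} (hG : g ∈ cfG P V) (hw : w ∈ V) (w1 : w ≠ 1) (e : g * t * g⁻¹ = t * w) :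
    ∃ y ∈ T, y ∈ cfG P V ∧ y ∈ 𝐂[τ] ∧ y * t * y⁻¹ = t * w := by
  have := finite_XT (Ω := Ω) (t := t)
  obtain ⟨y, hy, h1, e1⟩ := c.lift hT hR hG hw e
  have hτ : τ ∈ T := hR ⟨c.τR, c.τV⟩
  have hT' := mul_mem (mul_mem hy hτ) (inv_mem hy)
  have hV' := (hT.le hT').2
  have h2 : y * τ * y⁻¹ ∈ R := c.TR hT hR hT' (by
    have h3 : y * τ * y⁻¹ ∈ 𝐂[t * w] := by
      rw [← e1, mem_cent1, conj_mul, conj_mul, mem_cent1.1 c.τt]
    rw [mem_cent1, ← mul_assoc, mul_assoc t, hV' w hw, ← mul_assoc, mul_left_inj] at h3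
    exact mem_cent1.2 h3)
  have h3 : π (y * τ * y⁻¹) ∉ Q := fun h => c.τQ (c.pQ (by
    simpa [mul_assoc] using conj_mem_of_mem_normalizer' h1.1.1 ((c.memP _).2 ⟨h2, h⟩)))
  have h4 : y * τ * y⁻¹ * (y * τ * y⁻¹) = 1 := by rw [conj_mul, c.tt]; simp
  generalize hσ : y * τ * y⁻¹ = σ at *
  obtain ⟨p, hp, p1, p2⟩ := c.cf_fix (y := σ) ((fr_pr (Stab_inv _) (c.RS h2)).1
    (c.good.zd.fr_of_not_mem (fun g _ hg => c.good.faith g fun ω => hg ω trivial) trivial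
      (orderOf_eq_prime (by rw [sq]; exact pT_sq (c.RS h2) h4) fun h => h3 (by
        rw [show π σ = 1 from h]; exact one_mem _))
      fun h => h3 (c.good.VQ ((c.good.memV _).2 (Or.inr ⟨h, (pT_smul (c.RS h2)).2 (c.Ra _ h2)⟩)))))
  have hp' := (c.memP p).2 ⟨hp, p1⟩
  have h5 : p * σ * p⁻¹ ∈ R ⊓ 𝐂(V) := ⟨R.mul_mem (mul_mem hp h2) (inv_mem hp),
    𝐂(V).mul_mem (mul_mem (c.PV hp') hV') (inv_mem (c.PV hp'))⟩
  have h6 := c.cf_syl (T := R ⊓ 𝐂(V)) c.cf_sylP.isPGroup (inf_le_left.trans c.sylR.le) inf_le_right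
    h5 ⟨c.τR, c.τV⟩ (fun h => h3 (by
      rw [pT_conj (c.RS hp) (c.RS h2)] at h
      simpa [mul_assoc] using mul_mem (mul_mem (inv_mem p1) h) p1)) c.τQ
  have h7 := mul_mem h5.1 c.τR
  have e2 : p * y * t * (p * y)⁻¹ = t * w := by
    calc _ = p * (y * t * y⁻¹) * p⁻¹ := by group
      _ = _ := by rw [e1, c.conj_tw (c.PV hp') (w := 1) (by simpa using cent1_conj.1 (c.Pt hp')) hw,
          mul_one]
  have h8 := mul_mem (c.PT hT hR hp') hy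
  have h9 := mul_mem (c.P_le hp') h1
  have e3 : p * σ * p⁻¹ = p * y * τ * (p * y)⁻¹ := by rw [← hσ]; group
  refine ⟨_, h8, h9, cent1_conj.2 ?_, e2⟩
  rw [e3] at h6 h7 p2
  generalize p * y = z at *
  have τi : τ⁻¹ = τ := inv_eq_of_mul_eq_one_right c.tt
  rcases c.K2 h7 (c.cf_ker (c.sylR.le h7) (by rw [mul_smul, c.τb, p2]) h6) with h | h
  · rw [eq_inv_of_mul_eq_one_left h, τi]
  refine absurd ?_ w1
  have e4 := eq_mul_inv_of_mul_eq h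
  have e5 : z * z * τ * (z * z)⁻¹ = τ := by
    rw [c.τV _ (c.sqT hT hR h8 h9 hw w1 e2), mul_assoc, mul_inv_cancel, mul_one]
  rw [show z * z * τ * (z * z)⁻¹ = z * (z * τ * z⁻¹) * z⁻¹ by group, e4, τi, ← conj_mul, e2, e4, τi,
    mul_assoc t, ← mul_assoc w, (c.commt hw).eq, mul_assoc, ← mul_assoc t, c.ti.sq, one_mul] at e5
  exact mul_eq_right.1 e5

omit hT hR in
theorem exists_y {w : G} (hw : w ∈ V) : ∃ y ∈ P, y * y = w ∧ y * τ * y⁻¹ = τ * w ∧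
    ∀ g ∈ cfG P V, g ∈ 𝐂[τ] → Commute g y := by
  obtain ⟨ξ, hξ, e⟩ := c.good.sqY _ (pT_sq (c.RS c.τR) c.tt)
    (fun h => c.τQ (h ▸ one_mem _)) ((pT_smul (c.RS c.τR)).2 c.τb) c.uu.1 _ (c.pi_mem hw)
  obtain ⟨x, hx, rfl⟩ := c.onto hξ
  have τi : τ⁻¹ = τ := inv_eq_of_mul_eq_one_right c.tt
  have h1 : x * τ * x⁻¹ * τ ∈ P := by
    simpa [mul_assoc, τi] using mul_mem hx (conj_mem_of_mem_normalizer (c.RP c.τR) (inv_mem hx))
  have h2 : x * τ * x⁻¹ * τ * (x * τ * x⁻¹ * τ) = w := c.pi_inj (c.sqP _ h1) hw (by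
    rw [pT_mul (c.PS h1) (c.PS h1), pT_mul (c.RS (mul_mem (mul_mem (c.PR hx) c.τR)
      (inv_mem (c.PR hx)))) (c.RS c.τR), pT_conj (c.PS hx) (c.RS c.τR), e])
  refine ⟨_, h1, h2, ?_, fun g hg h3 => ?_⟩
  · rw [← c.τV w hw, ← h2]
    simp only [mul_inv_rev, τi, inv_inv, mul_assoc, c.tt, mul_one]
  · have h4 := hg.2 x hx
    have h5 : Commute (x⁻¹ * (g * x * g⁻¹)) τ := by
      rcases c.cenE (mul_mem (inv_mem hx) (conj_mem_of_mem_normalizer hg.1.1 hx)) h4 with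
        h | ⟨v, hv, h⟩
      · exact c.τV _ h
      · rw [h]; exact Commute.mul_left (mem_cent1.1 c.τt).symm (c.τV _ hv)
    refine mul_inv_eq_iff_eq_mul.1 ?_
    calc _ = x * (x⁻¹ * (g * x * g⁻¹) * (g * τ * g⁻¹) * (x⁻¹ * (g * x * g⁻¹))⁻¹) * x⁻¹ *
          (g * τ * g⁻¹) := by group
      _ = _ := by rw [cent1_conj.1 h3, h5.eq, mul_inv_cancel_right]

omit hT hR in
theorem false (tr : ∀ w ∈ V, ∃ h ∈ 𝐍(P) ⊓ 𝐂(V), h * t * h⁻¹ = t * w) : False := by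
  have := finite_XT (Ω := Ω) (t := t)
  obtain ⟨T, hT, hR⟩ := exists_sylowIn_ge (H := 𝐍(P) ⊓ 𝐂(V)) c.cf_sylP.isPGroup
    (le_inf (inf_le_left.trans c.RP) inf_le_right)
  have TV := hT.le.trans inf_le_right
  have tτ := cent1C.1 c.τt
  obtain ⟨ha, R', Q', W', i', l, h1⟩ := c.cf_at c.tt c.τt c.τV c.τb c.τK
  obtain ⟨ha', R₂, Q₂, W₂, i₂, l₂, h2⟩ := c.cf_at (u := t * τ)
    (sq_mul_of_comm (mem_cent1.1 tτ) c.ti.sq c.tt) (mul_mem (cent1id t) c.τt) (mul_mem c.tV c.τV)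
    (by rw [mul_smul, c.τb, b.2]) fun h => c.τK ((mul_mem_cancel_left (self_mem_Ker t)).1 h)
  have mul : ∀ {s y z w v : G}, y ∈ 𝐂(V) → v ∈ V → y * s * y⁻¹ = s * w → z * s * z⁻¹ = s * v →
      y * z * s * (y * z)⁻¹ = s * (w * v) := fun {s y z w v} hy hv e e' => by
    calc _ = y * (z * s * z⁻¹) * y⁻¹ := by group
      _ = y * s * y⁻¹ * (y * v * y⁻¹) := by rw [e']; group
      _ = _ := by rw [e, ← hy v hv]; group
  have B : ∀ {y w : G}, y ∈ T → y ∈ cfG P V → y ∈ 𝐂[τ] → w ∈ V → w ≠ 1 → y * t * y⁻¹ = t * w →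
      pT Ω τ y ∈ Q' → y * y = w := fun hy k1 k2 hw w1 e hQ =>
    l.cf_sq c.ti.sq tτ c.tV b.2 h1 k2 hQ hw e (c.sqT hT hR hy k1 hw w1 e)
  have A : ∀ {g w : G}, g ∈ cfG P V → w ∈ V → w ≠ 1 → g * t * g⁻¹ = t * w →
      ∃ y ∈ T, y ∈ cfG P V ∧ y ∈ 𝐂[τ] ∧ y * t * y⁻¹ = t * w ∧ pT Ω τ y ∈ Q' := by
    intro g w hg hw w1 e
    obtain ⟨y, hy, k1, k2, e⟩ := c.key hT hR hg hw w1 e
    by_cases hQ : pT Ω τ y ∈ Q'
    · exact ⟨y, hy, k1, k2, e, hQ⟩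
    have tT := c.PT hT hR c.tP
    exact ⟨y * t, mul_mem hy tT, mul_mem k1 (c.P_le c.tP), mul_mem k2 tτ, by rw [← e]; group,
      l.cf_syl (T := T ⊓ 𝐂[τ]) (hT.isPGroup.to_le inf_le_left) inf_le_right
        (inf_le_left.trans TV) ⟨hy, k2⟩ ⟨tT, tτ⟩ hQ fun h => h1 (l.cf_ker tτ b.2 h)⟩
  have C : ∀ {x y w : G}, x ∈ P → y ∈ T → y ∈ cfG P V → y ∈ 𝐂[τ] → w ∈ V → w ≠ 1 → x * x = w →
      y * y = w → x * τ * x⁻¹ = τ * w → y * t * y⁻¹ = t * w → Commute y x →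
      x * y ∈ T ⊓ 𝐂[t * τ] ∧ pT Ω (t * τ) (x * y) ∉ Q₂ := by
    intro x y w hx hy k1 k2 hw w1 x2 y2 e1 e2 hc
    have e3 := mul (c.PV hx) hw (w := 1) (by simpa using cent1_conj.1 (c.Pt hx)) e2
    have e4 := mul (c.PV hx) V.one_mem (z := y) e1 (by simpa using cent1_conj.1 k2)
    have k3 : x * y ∈ 𝐂[t * τ] := cent1_conj.2 (by
      rw [← conj_mul, e3, e4, one_mul, mul_one, ← c.τV w hw, mul_assoc, ← mul_assoc w, c.sqV hw,
        one_mul])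
    have k4 : x * y * (x * y) = 1 := by rw [hc.mul_mul_mul_comm, x2, y2, c.sqV hw]
    exact ⟨⟨mul_mem (c.PT hT hR hx) hy, k3⟩, fun hQ => w1 (by
      rw [← l₂.cf_sq c.ti.sq (mem_cent1.2 ((Commute.refl t).mul_right (mem_cent1.1 tτ))) c.tV b.2 h2
        k3 hQ hw (by rw [e3, one_mul]) (by rw [k4]; exact one_mem _), k4])⟩
  have hj := mul_mem c.jt c.jt
  have hV := mul_mem c.jV c.jV
  have fpf : ∀ v ∈ V, j * j * v * (j * j)⁻¹ = v → v = 1 := fun v hv e => by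
    refine c.eq_one_of_Ker hv ((pT_eq_one (c.VS hv)).1 (c.good.fpf 2 (fun h => ?_) _
      (c.good.VQ (c.pi_mem hv)) ?_))
    · have := Nat.le_of_dvd two_pos (orderOf_dvd_of_pow_eq_one h)
      have := c.q4
      have := c.good.ord
      omega
    · rw [← pT_pow (cent1_le_Stab t c.jt), sq]
      exact pT_commute (cent1_le_Stab t hj) (c.VS hv) (mul_inv_eq_iff_eq_mul.1 e)
  obtain ⟨v, hv, v1⟩ := c.exists_ne_one
  obtain ⟨h, hh, e⟩ := tr v hv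
  have hg := c.centroid (inv_mem hh)
  have hN : j * j ∈ 𝐍(cfG P V) := cfG_norm ⟨mul_mem c.jP c.jP, hV⟩
  generalize j * j = ρ at *
  obtain ⟨w, hw, e1⟩ := c.del hg.1
  have w1 : w ≠ 1 := by
    rintro rfl
    refine v1 (fpf v hv (mul_left_cancel (a := t) ?_))
    calc _ = ρ * (h * (ρ⁻¹ * t * ρ⁻¹⁻¹) * h⁻¹) * ρ⁻¹ := by
          rw [cent1_conj.1 (inv_mem hj), e, ← conj_mul, cent1_conj.1 hj]
      _ = h * (h⁻¹ * ρ * h⁻¹⁻¹ * ρ⁻¹ * t * (h⁻¹ * ρ * h⁻¹⁻¹ * ρ⁻¹)⁻¹) * h⁻¹ := by group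
      _ = _ := by rw [e1, mul_one, e]
  have hw' := conj_mem_of_mem_normalizer hV hw
  have w1' : ρ * w * ρ⁻¹ ≠ 1 := by simpa using w1
  have ne : w * (ρ * w * ρ⁻¹) ≠ 1 := fun h =>
    w1 (fpf w hw (by rw [eq_inv_of_mul_eq_one_right h, c.invV hw]))
  obtain ⟨y, hy, k1, k2, e2, k3⟩ := A hg hw w1 e1
  obtain ⟨y', hy', k1', k2', e2', k3'⟩ := A (conj_mem_of_mem_normalizer hN k1) hw' w1' (by
    calc _ = ρ * (y * (ρ⁻¹ * t * ρ⁻¹⁻¹) * y⁻¹) * ρ⁻¹ := by group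
      _ = _ := by rw [cent1_conj.1 (inv_mem hj), e2, ← conj_mul, cent1_conj.1 hj])
  generalize ρ * w * ρ⁻¹ = w' at *
  obtain ⟨x, hx, x2, e3, x3⟩ := c.exists_y hw
  obtain ⟨x', hx', x2', e3', x3'⟩ := c.exists_y hw'
  have hww := mul_mem hw hw'
  have e4 := mul k1.1.2 hw' e2 e2'
  obtain ⟨m1, m2⟩ := C hx hy k1 k2 hw w1 x2 (B hy k1 k2 hw w1 e2 k3) e3 e2 (x3 y k1 k2)
  obtain ⟨m1', m2'⟩ := C hx' hy' k1' k2' hw' w1' x2' (B hy' k1' k2' hw' w1' e2' k3') e3' e2'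
    (x3' y' k1' k2')
  have m3 := l₂.cf_syl (hT.isPGroup.to_le inf_le_left) inf_le_right (inf_le_left.trans TV) m1 m1'
    m2 m2'
  rw [(x3' y k1 k2).mul_mul_mul_comm] at m3
  have hxx := mul_mem hx hx'
  have e5 := mul (c.PV hx) hw' e3 e3'
  exact (C hxx (mul_mem hy hy') (mul_mem k1 k1') (mul_mem k2 k2') hww ne
    (c.cf_sq c.tt c.τt c.τV c.τb c.τK (c.Pt hxx) (c.pQ hxx) hww e5 (c.sqP _ hxx))
    (B (mul_mem hy hy') (mul_mem k1 k1') (mul_mem k2 k2') hww ne e4 (by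
      rw [pT_mul (cent1_le_Stab τ k2) (cent1_le_Stab τ k2')]; exact mul_mem k3 k3'))
    e5 e4 ((x3 _ (mul_mem k1 k1') (mul_mem k2 k2')).mul_right
      (x3' _ (mul_mem k1 k1') (mul_mem k2 k2')))).2 m3

end CU

theorem cf : CFStmt.{u} := by
  intro G Ω _ _ _ D t a b R V K P j q Q W c tr s s2 hc hf
  by_contra hK
  obtain ⟨g, hg, h1⟩ := c.sylR.exists_conj_mem (mem_cent1.2 hc) (k := 1) (by rw [pow_one, sq, s2])
  obtain ⟨p, hp, -, h2⟩ := c.cf_fix (hf.conj (Stab_inv _ g (cent1_le_Stab t hg)))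
  have u : CU D t a b R V K P j q Q W (p * (g * s * g⁻¹) * p⁻¹) :=
    ⟨c, by simp only [conj_mul, s2]; simp, mul_mem (mul_mem hp h1) (inv_mem hp), h2, fun h => hK (by
      simpa [mul_assoc] using conj_mem_Ker (inv_mem (mul_mem (c.RS hp) (cent1_le_Stab t hg))) h)⟩
  refine u.false (tr fun e => ?_)
  have := u.uu.2.1
  rw [e, c.good.cardV] at this
  have := c.q4
  nlinarith [Nat.pow_le_pow_left this 2]

end Cfsg.Agent.ZD
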