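import Cfsg.Agent.Lib.ZD.E1

/-! Row E of `docs/ZD_PLAN.md`, part 2: step E2 in the unitary case. -/

open Subgroup MulAction
open scoped commutatorElement

namespace Cfsg.Agent.ZD

open FT Tr E

set_option linter.unusedSectionVars false

universe u

variable {G : Type u} [Group G] {t j : G} {V P T S A B C : Subgroup G} {q : ℕ}

namespace E

theorem commg_cycle_le [Finite G] {b : G} (hb : b ∈ 𝐍(C)) (h : ∀ a ∈ A, a * b * a⁻¹ * b⁻¹ ∈ C) :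
    ⁅A, zpowers b⁆ ≤ C := by
  refine commg_le.2 fun a ha x hx => ?_
  obtain ⟨n, rfl⟩ := mem_powers_iff_mem_zpowers.2 hx
  induction n with
  | zero => simp
  | succ n ih =>
    have : a * b ^ (n + 1) * a⁻¹ * (b ^ (n + 1))⁻¹ =
        a * b * a⁻¹ * b⁻¹ * (b * (a * b ^ n * a⁻¹ * (b ^ n)⁻¹) * b⁻¹) := by group
    exact this ▸ mul_mem (h a ha) ((memJ_norm hb).2 (ih (pow_mem (mem_zpowers b) n)))

theorem centroid {U : Subgroup G} {g x : G} (hj : j ∈ 𝐍(U)) (hg : g ∈ 𝐍(U)) (hV : g ∈ 𝐂(V))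
    (hc : ∀ x ∈ U, ∀ y ∈ U, ⁅x, y⁆ ∈ V)
    (bl : ∀ x ∈ U, ∀ y ∈ U, ⁅j ^ 2 * x * (j ^ 2)⁻¹, y⁆ = j * ⁅x, y⁆ * j⁻¹) (hx : x ∈ U) :
    g * j ^ 2 * g⁻¹ * (j ^ 2)⁻¹ * x * (g * j ^ 2 * g⁻¹ * (j ^ 2)⁻¹)⁻¹ * x⁻¹ ∈ U ⊓ 𝐂(U) := by
  have hj2 := pow_mem hj 2
  have hcN : g * j ^ 2 * g⁻¹ * (j ^ 2)⁻¹ ∈ 𝐍(U) :=
    mul_mem (mul_mem (mul_mem hg hj2) (inv_mem hg)) (inv_mem hj2)
  refine mem_inf.2 ⟨mul_mem ((memJ_norm hcN).2 hx) (inv_mem hx), ?_⟩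
  set c := g * j ^ 2 * g⁻¹ * (j ^ 2)⁻¹ with hc'
  have : x⁻¹ * (c * x * c⁻¹) ∈ 𝐂(U) := mem_cent.2 fun y hy => by
    have fx : ∀ a ∈ U, ∀ b ∈ U, ⁅g * a * g⁻¹, g * b * g⁻¹⁆ = ⁅a, b⁆ := fun a ha b hb => by
      rw [← conjugate_commutatorElement, ← mem_cent.1 hV _ (hc a ha b hb)]; group
    set x' := g⁻¹ * ((j ^ 2)⁻¹ * x * j ^ 2) * g with hx'
    have hx'U : x' ∈ U := (memJ_norm' hg).2 ((memJ_norm' hj2).2 hx)
    have hy' : g⁻¹ * y * g ∈ U := (memJ_norm' hg).2 hy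
    have e1 := fx _ ((memJ_norm hj2).2 hx'U) _ hy'
    have e2 := fx _ hx'U _ hy'
    rw [bl _ hx'U _ hy', ← e2, ← bl _ ((memJ_norm hg).2 hx'U) _ ((memJ_norm hg).2 hy')] at e1
    have e3 : ⁅c * x * c⁻¹, y⁆ = ⁅x, y⁆ := by
      convert e1 using 2 <;> (try simp only [hx', hc']) <;> group
    have e4 : c * x * c⁻¹ * y * (c * x * c⁻¹)⁻¹ = x * y * x⁻¹ := mul_right_cancel (b := y⁻¹) e3
    calc y * (x⁻¹ * (c * x * c⁻¹)) = x⁻¹ * (x * y * x⁻¹) * (c * x * c⁻¹) := by group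
      _ = _ := by rw [← e4]; group
  exact (show c * x * c⁻¹ * x⁻¹ = x * (x⁻¹ * (c * x * c⁻¹)) * x⁻¹ by group) ▸
    (memJ_norm (cent_norm U (normG U hx))).2 this

theorem mem_qc {N : Subgroup G} {x : G} (hx : x ∈ 𝐍(N)) (hA : A ≤ 𝐍(N)) :
    x ∈ qpre N 𝐂(A /c N) ↔ ∀ y ∈ A, x * y * x⁻¹ * y⁻¹ ∈ N := by
  rw [mem_qpre, cst_mem_cent hx hA, and_iff_right hx]
  refine forall₂_congr fun y _ => ?_
  rw [← inv_mem_iff, show (y * x * y⁻¹ * x⁻¹)⁻¹ = x * y * x⁻¹ * y⁻¹ by group]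

theorem comm_mul_right {a x z : G} (h : Commute x z) : ⁅a * x, z⁆ = ⁅a, z⁆ := by
  rw [commutatorElement_def, commutatorElement_def, mul_assoc a x z, h.eq]; group

end E

namespace ET

variable [Finite G] (h : ET t V P T j q)
include h

theorem act {U N : Subgroup G} (hN : N ≤ T) (hjN : j ∈ 𝐍(N)) (hNU : N ≤ 𝐍(U)) (hj : j ∈ 𝐍(U))
    (hc : ∀ x ∈ U, ∀ y ∈ U, ⁅x, y⁆ ∈ V)
    (bl : ∀ x ∈ U, ∀ y ∈ U, ⁅j ^ 2 * x * (j ^ 2)⁻¹, y⁆ = j * ⁅x, y⁆ * j⁻¹) {x : G} (hx : x ∈ N) :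
    (∀ u ∈ U, x * u * x⁻¹ * u⁻¹ ∈ U ⊓ 𝐂(U)) ∨ ∀ u ∈ U, x * t * u * (x * t)⁻¹ * u⁻¹ ∈ U ⊓ 𝐂(U) := by
  have hZ : 𝐍(U) ≤ 𝐍(U ⊓ 𝐂(U)) := norms_center le_rfl
  have hU : U ≤ 𝐍(U ⊓ 𝐂(U)) := (normG U).trans hZ
  have hj2 := pow_mem hj 2
  have hle : ⁅N, zpowers (j ^ 2)⁆ ≤ qpre (U ⊓ 𝐂(U)) 𝐂(U /c (U ⊓ 𝐂(U))) :=
    commg_cycle_le ((mem_norm_cosetpre (hZ hj2)).2 (cent_norm _ (cst_mem_norm hj2))) fun a ha =>
      (mem_qc (hZ (mul_mem (mul_mem (mul_mem (hNU ha) hj2) (inv_mem (hNU ha)))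
        (inv_mem hj2))) hU).2 fun y hy => centroid hj (hNU ha) (h.TV (hN ha)) hc bl hy
  exact (h.split h.j2 hN hjN hx).imp
    (fun a => (mem_qc (cosetpre_le_norm _ (hle a)) hU).1 (hle a))
    fun a => (mem_qc (cosetpre_le_norm _ (hle a)) hU).1 (hle a)

end ET

namespace EA

variable [Finite G] (h : EA t V P S A j q)
include h

theorem mul_out {x y : G} (hx : x ∈ A ⊔ zpowers t) (hy : y ∈ A ⊔ zpowers t) (hx' : x ∉ A)
    (hy' : y ∉ A) : x * y ∈ A := by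
  have := mul_mem ((h.memY.1 hx).resolve_left hx')
    ((memJ_norm h.tA).2 ((h.memY.1 hy).resolve_left hy'))
  rwa [show x * t * (t * (y * t) * t⁻¹) = x * (t * t) * y by group, h.t2, mul_one] at this

theorem cls2 {x y : G} (hx : x ∈ A) (hy : y ∈ A) : ⁅x, y⁆ ∈ A ⊓ 𝐂(A) := by
  obtain ⟨m, hm⟩ := h.nil
  exact mem_inf.2 ⟨mul_mem (mul_mem (mul_mem hx hy) (inv_mem hx)) (inv_mem hy), VT.part3' hm hx hy⟩

theorem bl2 {u x : G} (hu : u ∈ A) (h2 : ∀ y ∈ A, ⁅y, u⁆ * ⁅y, u⁆ = 1) (hx : x ∈ A) :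
    ⁅j ^ 2 * x * (j ^ 2)⁻¹, u⁆ = j * ⁅x, u⁆ * j⁻¹ := by
  obtain ⟨m, hm⟩ := h.nil
  rw [conjugate_commutatorElement, ← VT.part4 hm hu h2 ((memJ_norm h.jA).2 hx)]
  congr 1; rw [sq]; group

theorem sq_comm {x u : G} (hx : x ∈ A) (hu : u ∈ A) : ⁅x, u * u⁆ = ⁅x, u⁆ * ⁅x, u⁆ :=
  commgM_central (mem_cent.1 (h.cls2 hx hu).2 u hu)

variable (b : EB3 t V P j q)
include b

theorem zP {x : G} (hx : x ∈ P ⊓ 𝐂(P)) : x ∈ V ∨ x * t ∈ V :=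
  b.rk x hx.1 1 fun y hy => Or.inl (commutatorElement_eq_one_iff_mul_comm.2 (mem_cent.1 hx.2 y hy))

theorem zQ {x : G} (hx : x ∈ A) (hP : x ∈ P) (hc : x ∈ 𝐂(A ⊓ P)) : x ∈ V := by
  refine h.memV hx (h.zP b ⟨hP, mem_cent.2 fun y hy => ?_⟩)
  rcases h.PA hy with a | a
  · exact mem_cent.1 hc y ⟨a, hy⟩
  · have e := mem_cent.1 hc _ ⟨a, mul_mem hy h.tP⟩
    rw [mul_assoc, ← mem_cent1.1 (h.Pt hP), ← mul_assoc, ← mul_assoc] at e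
    exact mul_right_cancel e

theorem notP : ¬ A ≤ P := fun hA => by
  have hjN : j ∈ 𝐍(S ⊓ 𝐍(P)) :=
    zpowers_le.1 (normsI (zpowers_le.2 h.jT) (norms_norm (zpowers_le.2 h.jP)))
  have hPN : P ≤ S ⊓ 𝐍(P) := le_inf h.PT (normG P)
  have hact : ∀ x ∈ S ⊓ 𝐍(P), ∀ u ∈ P, x * u * x⁻¹ * u⁻¹ ∈ V ∨ x * u * x⁻¹ * u⁻¹ * t ∈ V :=
    fun x hx u hu => h.zP b (by
      rcases h.act inf_le_left hjN inf_le_right h.jP (fun x hx y hy => h.comm hx hy)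
        (fun x hx y hy => by simpa using h.blpow b 1 hx hy) hx with a | a
      · exact a u hu
      · have := a u hu
        rwa [show x * t * u * (x * t)⁻¹ = x * (t * u * t⁻¹) * x⁻¹ by group,
          cent1_conj'.1 (h.Pt hu)] at this)
  have hsq : ∀ x ∈ S ⊓ 𝐍(P), x * x ∈ V := fun x hx => by
    by_cases hP : x ∈ P
    · exact h.sqP x hP
    have hxV := mem_cent.1 (h.TV hx.1)
    have htV := mem_cent.1 h.tC
    obtain ⟨w, hw, e⟩ : ∃ w ∈ V, x * t * x⁻¹ = w * t :=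
      ⟨_, (hact x hx t h.tP).resolve_right (by simpa using h.nV x), by group⟩
    have e2 : ∀ v ∈ V, x * (v * t) * x⁻¹ = v * w * t := fun v hv => by
      rw [← mul_assoc, ← hxV v hv, mul_assoc v w, ← e]; group
    have hy : x * x ∈ P := h.memP (mul_mem hx.1 hx.1) (cent1_conj.2 (by
      rw [show x * x * t * (x * x)⁻¹ = x * (x * t * x⁻¹) * x⁻¹ by group, e, e2 w hw,
        h.sing.two w hw, one_mul]))
    rcases b.rk _ hy w (fun r hr => by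
      have e3 : ⁅r, x * x⁆⁻¹ = x * (x * r * x⁻¹ * r⁻¹) * x⁻¹ * (x * r * x⁻¹ * r⁻¹) := by
        simp [commutatorElement_def, mul_assoc]
      rcases hact x hx r hr with a | a
      · left
        rw [← hxV _ a, mul_inv_cancel_right, h.sing.two _ a] at e3
        exact inv_eq_one.1 e3
      · right
        obtain ⟨v, hv, e4⟩ : ∃ v ∈ V, x * r * x⁻¹ * r⁻¹ = v * t :=
          ⟨_, a, by rw [mul_assoc _ t t, h.t2, mul_one]⟩
        rw [e4, e2 v hv, mul_assoc, ← mul_assoc t, ← htV v hv, mul_assoc v t, h.t2, mul_one,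
          h.sing.comm hv hw, mul_assoc, h.sing.two v hv, mul_one] at e3
        rw [← inv_inv ⁅r, x * x⁆, e3, BW.inv_eq (h.sing.two w hw)]) with a | a
    · exact a
    · refine absurd (h.memP hx.1 (mem_cent1.2 ?_)) hP
      have := hxV _ a
      rw [mul_assoc, mul_assoc, mul_assoc, mul_left_cancel_iff, mul_left_cancel_iff] at this
      exact this.symm
  have hle := (h.leY (h.VP.trans hPN) inf_le_left hsq h.jV hjN (hPN h.tP) h.tV fun a ha =>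
    mem_sup_left (commSg _ hPN ((h.split1 h.PT h.jP (hA ha)).resolve_right fun c =>
      h.not_t ha ((le_sup_left.trans h.QA) c)))).trans (sup_le hA (zpowers_le.2 h.tP))
  have hS : P = S := by
    by_contra hne
    exact (pgroup_proper_norm h.T2 (lt_of_le_of_ne h.PT hne)).not_ge hle
  obtain ⟨g, hg, w, hw, w1, e⟩ := b.trT
  have hs := (hS ▸ h.syl : SylowIn 2 P 𝐂(V)).mono (le_inf (normG P) h.PV) inf_le_right
  have h1 : g ^ P.relIndex (𝐍(P) ⊓ 𝐂(V)) ∈ P := by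
    rw [← cst_pow_eq_one hg.1, ← card_quotient inf_le_left]
    exact orderOf_dvd_iff_pow_eq_one.1 (BW.ord_dvd (mem_quotient P hg))
  have h2 : g ^ 2 ∈ 𝐂[t] := cent1_conj.2 (by
    rw [show g ^ 2 * t * (g ^ 2)⁻¹ = g * (g * t * g⁻¹) * g⁻¹ by rw [sq]; group, e, ← conj_mul, e,
      ← mem_cent.1 hg.2 w hw, mul_inv_cancel_right, mul_assoc, h.sing.two w hw, mul_one])
  have h3 := mem_of_pow h2 (h.Pt h1) ((Nat.Prime.coprime_iff_not_dvd Nat.prime_two).2 hs.not_dvd)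
  rw [cent1_conj.1 h3] at e
  exact w1 (by simpa using e.symm)

/-- Step (b). -/
theorem zb (hV : ∀ a ∈ A, ⁅a, t⁆ ∈ V) : ∃ z ∈ A ⊓ 𝐂(A), z ∉ V := by
  have hu : ∀ u ∈ A ⊓ P, ∀ a ∈ A, ⁅a, u⁆ ∈ V := fun u hu a ha => by
    have hc := h.cls2 ha hu.1
    refine h.zQ b hc.1 (mul_mem (h.memP (h.AS ((memJ_norm (normG A ha)).2 hu.1)) ?_) (inv_mem hu.2))
      (centS inf_le_left hc.2)
    have e : a⁻¹ * t * a = ⁅a⁻¹, t⁆ * t := by rw [commutatorElement_def]; group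
    have h1 : u ∈ 𝐂[a⁻¹ * t * a] := e ▸ cent1C.1 (mul_mem
      (cent1C.1 (cent_le_cent1 (hV _ (inv_mem ha)) (h.PV hu.2))) (cent1C.1 (h.Pt hu.2)))
    refine mem_cent1.2 ?_
    calc a * u * a⁻¹ * t = a * (u * (a⁻¹ * t * a)) * a⁻¹ := by group
      _ = _ := by rw [mem_cent1.1 h1]; group
  have hn : ∀ u ∈ A ⊓ P, j ∈ 𝐍(A ⊓ 𝐂[u]) := fun u hu' =>
    mem_of_odd (k := 1) h.jodd (mem_normalizer_of_forall fun a ha =>
      ⟨(memJ_norm (pow_mem h.jA _)).2 ha.1, mem_cent1.2 (commutatorElement_eq_one_iff_mul_comm.1 (by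
        rw [pow_one, h.bl2 hu'.1 (fun y hy => h.sing.two _ (hu u hu' y hy)) ha.1,
          commutatorElement_eq_one_iff_mul_comm.2 (mem_cent1.1 ha.2)]; simp))⟩)
  obtain ⟨u₁, h1, u₂, h2, hg⟩ := b.gen2
  have lift : ∀ u ∈ P, ∃ u' ∈ A ⊓ P, u = u' ∨ u = u' * t := fun u hu =>
    (h.PA hu).elim (fun a => ⟨u, ⟨a, hu⟩, Or.inl rfl⟩) fun a =>
      ⟨u * t, ⟨a, mul_mem hu h.tP⟩, Or.inr (by rw [mul_assoc, h.t2, mul_one])⟩
  obtain ⟨v₁, hv1, e1⟩ := lift u₁ h1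
  obtain ⟨v₂, hv2, e2⟩ := lift u₂ h2
  obtain ⟨z, hz, hzV⟩ : ∃ z ∈ A ⊓ (𝐂[v₁] ⊓ 𝐂[v₂]), z ∉ V := by
    by_contra hc
    push Not at hc
    have c1 : #|A ⊓ (𝐂[v₁] ⊓ 𝐂[v₂])| ≤ q := h.sing.card ▸ subset_leq_card hc
    have c2 := BW.card_mul_relIndex' A (𝐂[v₁] ⊓ 𝐂[v₂])
    have c3 := relIndex_inf_le (H := 𝐂[v₁]) (K := 𝐂[v₂]) (L := A)
    have c4 := index_cent1_le (hu v₁ hv1)
    have c5 := index_cent1_le (hu v₂ hv2)
    have c6 := card_two (B := A ⊓ P) inf_le_right h.tP (fun a => h.tnA a.1) fun x hx =>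
      (h.PA hx).imp (fun a => ⟨a, hx⟩) fun a => ⟨a, mul_mem hx h.tP⟩
    have c7 : #|A ⊓ P| < #|A| := proper_card (inf_lt_left.2 (h.notP b))
    rw [h.sing.card] at c4 c5
    have c8 := Nat.mul_le_mul c1 (c3.trans (Nat.mul_le_mul c4 c5))
    rw [b.card] at c6
    rw [c2] at c8
    nlinarith
  have hL : ∀ u v, v ∈ A ⊓ P → z ∈ 𝐂[v] → (u = v ∨ u = v * t) → ∀ n : ℕ,
      j ^ n * u * (j ^ n)⁻¹ ∈ (A ⊓ P ⊓ 𝐂[z]) ⊔ zpowers t := fun u v hv hc e n => by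
    have : j ^ n * v * (j ^ n)⁻¹ ∈ A ⊓ P ⊓ 𝐂[z] := ⟨⟨(memJ_norm (pow_mem h.jA n)).2 hv.1,
      (memJ_norm (pow_mem h.jP n)).2 hv.2⟩, cent1C.1 (by
        rw [cent1J, mem_cj]; exact ((memJ_norm' (pow_mem (hn v hv) n)).2 ⟨hz.1, hc⟩).2)⟩
    rcases e with rfl | rfl
    · exact mem_sup_left this
    · rw [← conj_mul, h.jtn]; exact mul_mem_sup this (mem_zpowers t)
  have hle := hg _ (le_sup_of_le_left (le_inf (le_inf h.VA h.VP)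
    (sub_cent1.2 (h.AV hz.1)))) (mem_sup_right (mem_zpowers t)) (hL _ _ hv1 hz.2.1 e1)
    (hL _ _ hv2 hz.2.2 e2)
  have hzQ : z ∈ 𝐂(A ⊓ P) := sub_cent1.1 fun x hx =>
    (((mem_sup_t h.t2 (cent_sub _ (centS (inf_le_left.trans inf_le_right)
      (sub_cent1.1 h.Pt)))).1 (hle hx.2)).resolve_right fun c => h.not_t hx.1 c.1.1).2
  have ne1 : ∀ a ∈ A, a ∉ P → ⁅a, t⁆ ≠ 1 := fun a ha hP e =>
    hP (h.memP (h.AS ha) (mem_cent1.2 (commutatorElement_eq_one_iff_mul_comm.1 e)))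
  refine ⟨z, ⟨hz.1, mem_cent.2 fun a ha => ?_⟩, hzV⟩
  by_cases hP : a ∈ P
  · exact mem_cent.1 hzQ a ⟨ha, hP⟩
  obtain ⟨n, e⟩ := h.sing.tr _ (hV z hz.1) (ne1 z hz.1 fun c => hzV (h.zQ b hz.1 c hzQ)) _
    (hV a ha) (ne1 a ha hP)
  rw [conjugate_commutatorElement, h.jtn] at e
  obtain ⟨m, hm⟩ := h.nil
  have c1 := VT.part2 hm hz.1 n
  set z' := j ^ n * z * (j ^ n)⁻¹ with hz'
  have hA : z'⁻¹ * a ∈ A := mul_mem (inv_mem ((memJ_norm (pow_mem h.jA n)).2 hz.1)) ha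
  have c2 : Commute (z'⁻¹ * a) z := mem_cent.1 hzQ _ ⟨hA, h.memP (h.AS hA) (cent1_conj.2 (by
    have e' : z' * t * z'⁻¹ = a * t * a⁻¹ := mul_right_cancel (b := t⁻¹) e
    rw [show z'⁻¹ * a * t * (z'⁻¹ * a)⁻¹ = z'⁻¹ * (a * t * a⁻¹) * z' by group, ← e']; group))⟩
  simpa using (c1.symm.mul_left c2).eq

/-- Step (c). -/
theorem normY {g : G} (hg : g ∈ 𝐍(A ⊔ zpowers t)) (hV : g ∈ 𝐍(V)) : g ∈ 𝐍(A) := by
  by_contra hne
  obtain ⟨y, hy', hy⟩ : ∃ y ∈ cj g A, y ∉ A :=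
    SetLike.not_le_iff_exists.1 fun c => hne (mem_normalizer_of_cj_le c)
  have hAY : cj g A ≤ A ⊔ zpowers t := cj_le_iff.2 fun a ha => (memJ_norm hg).2 (mem_sup_left ha)
  have hyt : y * t ∈ A := (h.memY.1 (hAY hy')).resolve_left hy
  have out : ∀ x ∈ A, ∀ x' ∈ A, x ∉ cj g A → x' ∉ cj g A → x * x' ∈ cj g A :=
    fun x hx x' hx' n1 n2 => by
      rw [mem_cj] at n1 n2 ⊢
      convert h.mul_out ((memJ_norm' hg).2 (mem_sup_left hx)) ((memJ_norm' hg).2 (mem_sup_left hx'))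
        n1 n2 using 1; group
  have hZ : ∀ z ∈ A ⊓ 𝐂(A), z ∈ V := fun z hz => by
    by_contra hzV
    have hjz : j * z * j⁻¹ ∈ A ⊓ 𝐂(A) := (memJ_norm (norms_center le_rfl h.jA)).2 hz
    obtain ⟨z', hz', hA, hV'⟩ : ∃ z' ∈ A ⊓ 𝐂(A), g * z' * g⁻¹ ∈ A ∧ z' ∉ V := by
      by_cases c1 : g * z * g⁻¹ ∈ A
      · exact ⟨z, hz, c1, hzV⟩
      by_cases c2 : g * (j * z * j⁻¹) * g⁻¹ ∈ A
      · exact ⟨_, hjz, c2, fun c => hzV ((memJ_norm h.jV).1 c)⟩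
      refine ⟨_, mul_mem hz hjz, by
        rw [← conj_mul]; exact h.mul_out ((memJ_norm hg).2 (mem_sup_left hz.1))
          ((memJ_norm hg).2 (mem_sup_left hjz.1)) c1 c2, fun c => hzV (h.memV hz.1
          (h.fpf h.j2 h.VT h.jV (h.AS hz.1) (cent_sub V (h.AV hz.1)) ?_))⟩
      have := mul_mem (inv_mem c) ((memJ_norm (cent_sub V (h.AV hz.1))).2 ((memJ_norm h.jV).2 c))
      convert this using 1
      simp [sq, mul_assoc]
    set w := g * z' * g⁻¹ with hw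
    have hwC : w ∈ 𝐂(cj g A) := by rw [centJ]; exact conj_mem_cj.2 hz'.2
    have hwV : w ∉ V := fun c => hV' ((memJ_norm hV).1 c)
    obtain ⟨a, ha, hc⟩ : ∃ a ∈ A, ⁅a, w⁆ ≠ 1 := by
      by_contra c
      push Not at c
      have c' : w ∈ 𝐂(A) := mem_cent.2 fun a ha => commutatorElement_eq_one_iff_mul_comm.1 (c a ha)
      refine hwV (h.zQ b hA (h.memP (h.AS hA) (cent1C.1 ?_)) (centS inf_le_left c'))
      simpa using mul_mem (inv_mem (cent1C.1 (cent_le_cent1 hy' hwC)))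
        (cent1C.1 (cent_le_cent1 hyt c'))
    have one : ∀ x ∈ cj g A, ⁅x, w⁆ = 1 := fun x hx =>
      commutatorElement_eq_one_iff_mul_comm.2 (mem_cent.1 hwC x hx)
    have ha' : a ∉ cj g A := fun c => hc (one a c)
    have two : ∀ x ∈ A, ⁅x, w⁆ = 1 ∨ ⁅x, w⁆ = ⁅a, w⁆ := fun x hx => by
      by_cases c : x ∈ cj g A
      · exact Or.inl (one x c)
      · right
        rw [← comm_mul_right (a := a) (mem_cent.1 hwC _ (out _ (inv_mem ha) x hx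
          (fun c => ha' (inv_mem_iff.1 c)) c)), mul_inv_cancel_left]
    have c2 : ⁅a, w⁆ * ⁅a, w⁆ = 1 := by
      rw [← commMg_central (mem_cent.1 (h.cls2 ha hA).2 a ha), one _ (out a ha a ha ha' ha')]
    have e := h.bl2 hA (fun y hy => (two y hy).elim (fun e => by rw [e, one_mul]) fun e => e ▸ c2) ha
    rcases two _ ((memJ_norm (pow_mem h.jA 2)).2 ha) with e' | e'
    · exact hc (by simpa [e'] using e.symm)
    · rcases h.fix (n := 1) (by simpa using h.j1) (h.AS (h.cls2 ha hA).1) (by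
        rw [pow_one]; exact mul_inv_eq_iff_eq_mul.1 (e.symm.trans e')) with e2 | e2
      · exact hc e2
      · exact h.tnA (e2 ▸ (h.cls2 ha hA).1)
  have hd : ∀ x ∈ A, ∀ y ∈ A, ⁅x, y⁆ ∈ V := fun x hx y hy => hZ _ (h.cls2 hx hy)
  have hSV : S ≤ 𝐍(V) := h.TV.trans (cent_sub V)
  have hm : ∀ x ∈ A, x ∈ A ⊓ qpre V 𝐂[cst V t] ↔ ⁅x, t⁆ ∈ V := fun x hx => by
    rw [mem_inf, mem_qpre, mem_cent1, commute_cst (hSV (h.AS hx)) (hSV h.tT)]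
    exact ⟨fun c => c.2.2, fun c => ⟨hx, hSV (h.AS hx), c⟩⟩
  have hin : ∀ x ∈ A, x ∈ cj g A → ⁅x, t⁆ ∈ V := fun x hx hx' => by
    have c1 : ⁅x, y⁻¹⁆ ∈ V := by
      have := (memJ_norm hV).2 (hd _ (mem_cj.1 hx') _ (mem_cj.1 (inv_mem hy')))
      rw [conjugate_commutatorElement] at this
      convert this using 2 <;> group
    have : ⁅x, t⁆ = ⁅x, y⁻¹⁆ * (y⁻¹ * ⁅x, y * t⁆ * y) := by
      simp only [commutatorElement_def]; group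
    exact this ▸ mul_mem c1 ((memJ_norm' (hSV (h.YS (hAY hy')))).2 (hd x hx _ hyt))
  have hall : ∀ x ∈ A, ⁅x, t⁆ ∈ V := fun x hx => by
    by_contra c
    have hVB : V ≤ A ⊓ qpre V 𝐂[cst V t] := le_inf h.VA (sub_cosetpre _)
    have hjx := (memJ_norm h.jA).2 hx
    have hjB : j ∈ 𝐍(A ⊓ qpre V 𝐂[cst V t]) := zpowers_le.1 (normsI (zpowers_le.2 h.jA)
      (zpowers_le.2 ((mem_norm_cosetpre h.jV).2 (zpowers_le.1 (norms_cent1 (zpowers_le.2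
        (mem_cent1.2 ((commute_cst h.jV (hSV h.tT)).2 (by simp [h.jt.eq])))))))))
    have c1 : x⁻¹ ∉ cj g A := fun c' => c (hin x hx (inv_mem_iff.1 c'))
    have c2 : j * x * j⁻¹ ∉ cj g A := fun c' =>
      c ((hm x hx).1 ((memJ_norm hjB).1 ((hm _ hjx).2 (hin _ hjx c'))))
    rcases h.fpf1 (inf_le_left.trans h.AS) hjB (h.AS hx)
      (sub_der1_norm ((commg_le.2 hd).trans hVB) inf_le_left hx)
      ((hm _ (mul_mem hjx (inv_mem hx))).2 (hin _ (mul_mem hjx (inv_mem hx))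
        (out _ hjx _ (inv_mem hx) c2 c1))) with e | e
    · exact c ((hm x hx).1 e)
    · exact h.not_t hx e.1
  obtain ⟨z, hz, hzV⟩ := h.zb b hall
  exact hzV (hZ z hz)

theorem eqY3 : S = A ⊔ zpowers t := by
  have hSV : S ≤ 𝐍(V) := h.TV.trans (cent_sub V)
  have hNA : S ⊓ 𝐍(A ⊔ zpowers t) ≤ 𝐍(A) := fun g hg => h.normY b hg.2 (hSV hg.1)
  refine h.eqY fun _ => ⟨hNA, fun x hx hm => ?_⟩
  set N := S ⊓ 𝐍(A ⊔ zpowers t) with hN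
  have hAN : A ≤ N := le_inf h.AS (normsG le_sup_left)
  by_cases hZ : A ⊓ 𝐂(A) ≤ V
  · have hd : ∀ x ∈ A, ∀ y ∈ A, ⁅x, y⁆ ∈ V := fun x hx y hy => hZ (h.cls2 hx hy)
    have hjN : j ∈ 𝐍(N) :=
      zpowers_le.1 (normsI (zpowers_le.2 h.jT) (norms_norm (zpowers_le.2 h.jY)))
    have key : ∀ g ∈ S, (∀ u ∈ A, g * u * g⁻¹ * u⁻¹ ∈ V) ↔ cst V g ∈ 𝐂(A /c V) := fun g hg => by
      rw [← mem_qc (hSV hg) (h.AS.trans hSV), mem_qpre]; exact ⟨fun c => c.2, fun c => ⟨hSV hg, c⟩⟩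
    have hA : ∀ a ∈ A, cst V a ∈ 𝐂(A /c V) := fun a ha => (key a (h.AS ha)).1 (hd a ha)
    have ht : cst V t ∈ 𝐂(A /c V) := by
      have e := hA _ hm
      rw [cst_mul (hSV (mul_mem hx.1 hx.1)) (hSV h.tT), cst_mul (hSV hx.1) (hSV hx.1)] at e
      rcases h.act inf_le_left hjN hNA h.jA hd (fun x hx y hy => h.bl2 hy
        (fun z hz => h.sing.two _ (hd z hz y hy)) hx) hx with a | a
      · have := (key x hx.1).1 fun u hu => hZ (a u hu)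
        exact (mul_mem_cancel_left (mul_mem this this)).1 e
      · have := (key _ (mul_mem hx.1 h.tT)).1 fun u hu => hZ (a u hu)
        rw [cst_mul (hSV hx.1) (hSV h.tT)] at this
        have hx' : cst V x ∈ 𝐂(A /c V) := (mul_mem_cancel_right this).1 (by rwa [← mul_assoc])
        exact (mul_mem_cancel_left hx').1 this
    obtain ⟨z, hz, hzV⟩ := h.zb b fun a ha => by
      rw [← commutatorElement_inv]; exact inv_mem ((key t h.tT).2 ht a ha)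
    exact hzV (hZ hz)
  · have hNV : N ≤ 𝐍(V) := inf_le_left.trans hSV
    obtain ⟨w, hw, w1⟩ : ∃ w ∈ (A ⊓ 𝐂(A)) /c V ⊓ 𝐂(N /c V), w ≠ 1 := by
      by_contra hc
      push Not at hc
      exact meet_center_nil (pgroup_nil (quotient_isPGroup V (h.T2.to_le inf_le_left)))
        (quotient_normal V ⟨inf_le_left.trans hAN, norms_center hNA⟩)
        (fun c => hZ ((quotient_eq_bot ((inf_le_left.trans hAN).trans hNV)).1 c))
        (eq_bot_iff.2 fun z hz => hc z ⟨hz.1, hz.2.2⟩)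
    obtain ⟨z, hz, hzV, rfl⟩ := mem_qt.1 hw.1
    have hv := (cst_mem_cent hzV hNV).1 hw.2 x hx
    have hc : x * x ∈ 𝐂[z] := cent1_conj.2 (by
      have e1 := mem_cent.1 (h.TV hx.1) _ hv
      have e2 := h.sing.two _ hv
      obtain ⟨v, e⟩ : ∃ v, x * z * x⁻¹ * z⁻¹ = v := ⟨_, rfl⟩
      rw [e] at e1 e2
      have e3 : x * z * x⁻¹ = v * z := by rw [← e]; group
      rw [show x * x * z * (x * x)⁻¹ = x * (x * z * x⁻¹) * x⁻¹ by group, e3, ← conj_mul, e3, ← e1,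
        mul_inv_cancel_right, ← mul_assoc, e2, one_mul])
    have ht : t ∈ 𝐂[z] := (mul_mem_cancel_left hc).1 (cent1C.1 (cent_le_cent1 hm hz.2))
    exact w1 (coset_id (h.zQ b hz.1 (h.memP (h.AS hz.1) (cent1C.1 ht)) (centS inf_le_left hz.2)))

end EA

theorem EA.eqS [Finite G] (h : EA t V P S A j q) : S = A ⊔ zpowers t :=
  h.typ.elim h.eqY1 h.eqY3

end Cfsg.Agent.ZD
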