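import Cfsg.Agent.Lib.ZD.Good2c

/-! Row GOOD2: `Good → GoodX`. -/

open Subgroup MulAction
open scoped commutatorElement

set_option linter.unusedSectionVars false

namespace Cfsg.Agent.ZD

open FT Tr

universe u

variable {G : Type u} {Ω : Type u} [Group G] [MulAction G Ω] [Finite G]

namespace Good

variable {D : Set G} {α β : Ω} {Q V : Subgroup G} {j : G} {q : ℕ} (h : Good D α β Q V j q)
include h

section Inv
variable {τ : G} (h2 : τ * τ = 1) (h1 : τ ≠ 1) (hb : τ • β = β) (hc : τ ∈ 𝐂(V))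
include h2 hc

theorem tQ {x : G} (hx : x ∈ Q) : x * τ * x⁻¹ * τ ∈ Q := by
  have := mul_mem hx (h.Qn τ (h.Ca hc) _ (inv_mem hx))
  rwa [inv_eq_of_mul_self h2, ← mul_assoc, ← mul_assoc] at this

theorem Ymul {x y : G} (hx : x ∈ Q) (e : y * τ * y⁻¹ * τ ∈ V) :
    x * y * τ * (x * y)⁻¹ * τ = (x * τ * x⁻¹ * τ) * (y * τ * y⁻¹ * τ) := by
  have tt : ∀ x, τ * (τ * x) = x := fun x => by rw [← mul_assoc, h2, one_mul]
  rw [← (h.cent _ e _ (h.tQ h2 hc hx)).eq]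
  calc _ = x * (y * τ * y⁻¹ * τ) * τ * x⁻¹ * τ := by simp only [mul_inv_rev, mul_assoc, tt]
    _ = _ := by rw [← (h.cent _ e x hx).eq]; simp only [mul_assoc]

include h1 hb

theorem exY : ∃ z ∈ Q, z * τ * z⁻¹ * τ ∉ V := by
  by_contra! c
  obtain ⟨e3, k⟩ := h.frC h2 h1 hb hc
  obtain ⟨R, hR, e⟩ := g2_card_hom Q V (fun x => x * τ * x⁻¹ * τ)
    (fun x hx y hy => h.Ymul h2 hc hx (c y hy)) fun x hx => ⟨fun e => k x hx (by
      rwa [mul_eq_one_iff_eq_inv, inv_eq_of_mul_self h2, mul_inv_eq_iff_eq_mul] at e),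
      fun xV => by simp only [hc x xV, mul_assoc, mul_inv_cancel_left, h2]⟩
  have := card_le_of_le (show R ≤ V from fun r hr => by
    obtain ⟨x, hx, rfl⟩ := (hR r).1 hr; exact c x hx)
  have := h.q4
  rw [inf_eq_right.2 h.VQ, h.cardV, e3, pow_succ', pow_two] at e
  have := Nat.eq_of_mul_eq_mul_left (by omega) e
  have := h.cardV
  nlinarith

theorem invY {x : G} (hx : x ∈ Q) (e : x * τ * x⁻¹ * τ ∈ V) : τ * x * τ = x⁻¹ := by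
  have ti := inv_eq_of_mul_self h2
  have tt : ∀ x, τ * (τ * x) = x := fun x => by rw [← mul_assoc, h2, one_mul]
  have tV : ∀ v ∈ V, τ * v * τ = v := fun v hv => by rw [← hc v hv, mul_assoc, h2, mul_one]
  by_cases xV : x ∈ V
  · rw [tV x xV, h.Vinv xV]
  have t := h.t3 (h.frC h2 h1 hb hc).1
  obtain ⟨z, hz, zV⟩ := h.exY h2 h1 hb hc
  have yQ := h.tQ h2 hc hz
  have iy : τ * (z * τ * z⁻¹ * τ) * τ = (z * τ * z⁻¹ * τ)⁻¹ := by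
    simp only [mul_inv_rev, inv_inv, ti, mul_assoc, h2, mul_one]
  set y := z * τ * z⁻¹ * τ
  let Y : Subgroup G :=
    { carrier := {x | x ∈ Q ∧ x * τ * x⁻¹ * τ ∈ V}
      mul_mem' := fun ha hb => ⟨mul_mem ha.1 hb.1, h.Ymul h2 hc ha.1 hb.2 ▸ mul_mem ha.2 hb.2⟩
      one_mem' := ⟨one_mem _, by simp [h2]⟩
      inv_mem' := fun {a} ha => ⟨inv_mem ha.1, by
        simpa [mul_assoc, ti, tt] using h.Vn (h.Qa _ (inv_mem ha.1)) (inv_mem ha.2)⟩ }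
  have YJ : ∀ x ∈ Y, ∀ ρ ∈ zpowers j, ρ * x * ρ⁻¹ ∈ Y := fun x hx ρ hρ => ⟨h.JQ hρ hx.1, by
    have c := h.Wj hc hb hρ
    have : ρ * x * ρ⁻¹ * τ * (ρ * x * ρ⁻¹)⁻¹ * τ = ρ * (x * τ * x⁻¹ * τ) * ρ⁻¹ := by
      calc _ = ρ * x * (ρ⁻¹ * τ * ρ) * x⁻¹ * (ρ⁻¹ * τ) := by group
        _ = _ := by rw [← c.inv_right.eq]; group
    rw [this]; exact h.JV hρ hx.2⟩
  have yY : y ∈ Y := ⟨yQ, by
    rw [← iy]; simpa only [mul_assoc, tt, h2, mul_one] using h.sq y yQ⟩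
  have c : Commute y x := by
    by_contra c
    exact zV (h.gen t hx yQ c (L := Y) (fun v hv => ⟨h.VQ hv, by
      rw [h.Vinv hv, mul_assoc, mul_assoc, ← mul_assoc τ, tV v hv]; exact mul_mem hv hv⟩)
      (YJ x ⟨hx, e⟩) (YJ y yY) hz).2
  obtain ⟨ρ, hρ, m⟩ := ((h.line t yQ zV hx).1 c).resolve_left xV
  have cj := h.Wj hc hb hρ
  have e1 : τ * (ρ * y * ρ⁻¹) * τ = (ρ * y * ρ⁻¹)⁻¹ := by
    calc _ = (τ * ρ) * y * (ρ⁻¹ * τ) := by group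
      _ = ρ * (τ * y * τ) * ρ⁻¹ := by rw [cj.eq, ← cj.inv_right.eq]; group
      _ = _ := by rw [iy]; group
  have yJ := h.JQ hρ yQ
  generalize ρ * y * ρ⁻¹ = w at *
  calc τ * x * τ = (τ * w * τ) * (τ * (w⁻¹ * x) * τ) := by simp [mul_assoc, tt]
    _ = (w⁻¹ * x)⁻¹ * w⁻¹ := by rw [e1, tV _ m, h.Vinv m, (h.cent _ m _ (inv_mem yJ)).eq]
    _ = _ := by group

theorem sqY {w : G} (hw : w ∈ V) : ∃ x ∈ Q, (x * τ * x⁻¹ * τ) * (x * τ * x⁻¹ * τ) = w := by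
  by_cases w1 : w = 1
  · exact ⟨1, one_mem _, by simp [h2, w1]⟩
  obtain ⟨z, hz, zV⟩ := h.exY h2 h1 hb hc
  have yQ := h.tQ h2 hc hz
  obtain ⟨ρ, hρ, rfl⟩ := h.trJ (h.sq _ yQ) (mt (h.two _ yQ).1 zV) hw w1
  have c := h.Wj hc hb hρ
  have : ρ * z * ρ⁻¹ * τ * (ρ * z * ρ⁻¹)⁻¹ * τ = ρ * (z * τ * z⁻¹ * τ) * ρ⁻¹ := by
    calc _ = ρ * z * (ρ⁻¹ * τ * ρ) * z⁻¹ * (ρ⁻¹ * τ) := by group
      _ = _ := by rw [← c.inv_right.eq]; group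
  exact ⟨_, h.JQ hρ hz, by rw [this]; group⟩

/-- An element of `C(V)` commuting with `τ` fixes a nontrivial coset inverted by `τ`. -/
theorem fixY : ∃ y ∈ Q, y ∉ V ∧ τ * y * τ = y⁻¹ ∧
    ∀ g ∈ 𝐂(V), Commute g τ → y⁻¹ * (g * y * g⁻¹) ∈ V := by
  have ti := inv_eq_of_mul_self h2
  have tt : ∀ x, τ * (τ * x) = x := fun x => by rw [← mul_assoc, h2, one_mul]
  obtain ⟨z, hz, zV⟩ := h.exY h2 h1 hb hc
  have yQ := h.tQ h2 hc hz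
  have iy : τ * (z * τ * z⁻¹ * τ) * τ = (z * τ * z⁻¹ * τ)⁻¹ := by
    simp only [mul_inv_rev, inv_inv, ti, mul_assoc, h2, mul_one]
  refine ⟨_, yQ, zV, iy, fun g hg c => ?_⟩
  generalize z * τ * z⁻¹ * τ = y at *
  have gQ := h.Qn g (h.Ca hg) y yQ
  have ig : τ * (g * y * g⁻¹) * τ = (g * y * g⁻¹)⁻¹ := by
    calc _ = (τ * g) * y * (g⁻¹ * τ) := by group
      _ = g * (τ * y * τ) * g⁻¹ := by rw [← c.eq, c.inv_left.eq]; group
      _ = _ := by rw [iy]; group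
  have Y : ∀ x ∈ Q, τ * x * τ = x⁻¹ → x * τ * x⁻¹ * τ ∈ V := fun x hx e => by
    rw [← e]; simpa only [mul_assoc, tt, h2, mul_one] using h.sq x hx
  have := h.invY h2 h1 hb hc (mul_mem yQ gQ)
    (h.Ymul h2 hc yQ (Y _ gQ ig) ▸ mul_mem (Y y yQ iy) (Y _ gQ ig))
  refine h.sq_comm yQ gQ (Commute.inv_inv_iff.1 ?_) ?_
  · rw [Commute, SemiconjBy, ← mul_inv_rev y, ← this, ← iy, ← ig]
    simp only [mul_assoc, tt]
  · rw [show g * y * g⁻¹ * (g * y * g⁻¹) = g * (y * y) * g⁻¹ by group, ← hg _ (h.sq y yQ),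
      mul_inv_cancel_right]

end Inv

theorem g6 {g : G} (hg : g ∈ 𝐂(V)) (hU : ∀ x ∈ Q, g * x * g⁻¹ * x⁻¹ ∈ V) : g ∈ Q := by
  obtain ⟨x, hx, τ, hc, hb, rfl, -⟩ := h.decW hg
  have U : ∀ y ∈ Q, τ * y * τ⁻¹ * y⁻¹ ∈ V := fun y hy => by
    have := mul_mem (h.comm (inv_mem hx) (h.Qn _ (h.Ca hg) y hy)) (hU y hy)
    rwa [show ⁅x⁻¹, x * τ * y * (x * τ)⁻¹⁆ * (x * τ * y * (x * τ)⁻¹ * y⁻¹) = τ * y * τ⁻¹ * y⁻¹ by
      simp only [commutatorElement_def]; group] at this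
  have h2 := h.sq_eq_one hc hb U
  by_cases h1 : τ = 1
  · simpa [h1] using hx
  obtain ⟨z, hz, zV⟩ := h.exY h2 h1 hb hc
  exact absurd (by simpa [mul_assoc, inv_eq_of_mul_self h2] using inv_mem (U z hz)) zV

theorem CV (hq : #|Q| ≠ q ^ 3) {g : G} (hg : g ∈ 𝐂(V)) : g ∈ Q := by
  refine h.g6 hg fun x hx => ?_
  rcases h.typ with e | t | t
  · rw [← hg x (e ▸ hx)]; simp
  · have := h.sqinj t.card hx (h.Qn g (h.Ca hg) x hx) (by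
      rw [show g * x * g⁻¹ * (g * x * g⁻¹) = g * (x * x) * g⁻¹ by group, ← hg _ (h.sq x hx),
        mul_inv_cancel_right])
    simpa [mul_assoc] using h.Vn (h.Qa x hx) this
  · exact absurd t.card hq

theorem W_inv {τ σ : G} (h2 : τ * τ = 1) (h1 : τ ≠ 1) (hb : τ • β = β) (hc : τ ∈ 𝐂(V))
    (s2 : σ * σ = 1) (s1 : σ ≠ 1) (sb : σ • β = β) (sc : σ ∈ 𝐂(V)) (c : Commute σ τ) :
    σ * τ = 1 := by
  by_contra ne
  have si := inv_eq_of_mul_self s2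
  obtain ⟨y, hy, yV, iy, k⟩ := h.fixY h2 h1 hb hc
  have := h.invY s2 s1 sb sc (inv_mem hy) (by simpa [mul_assoc, si] using k σ sc c)
  refine yV ((h.frC (τ := σ * τ) (by rw [← pow_two, c.mul_pow, pow_two, pow_two, s2, h2, one_mul])
    ne (by rw [mul_smul, hb, sb]) (mul_mem sc hc)).2 y hy (mul_inv_eq_iff_eq_mul.1 ?_).symm)
  rw [mul_inv_rev, si, inv_eq_of_mul_self h2]
  calc _ = σ * (τ * y * τ) * σ := by group
    _ = y := by rw [iy, this, inv_inv]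

theorem W_two {ρ : G} (hb : ρ • β = β) (hc : ρ ∈ 𝐂(V)) {n : ℕ} (hn : ρ ^ 2 ^ n = 1) :
    ρ * ρ = 1 := by
  induction n generalizing ρ with
  | zero => rw [pow_zero, pow_one] at hn; rw [hn, one_mul]
  | succ n ih =>
    have b2 : (ρ * ρ) • β = β := by rw [mul_smul, hb, hb]
    have h2 := ih b2 (mul_mem hc hc) (by rw [← pow_two, ← pow_mul, ← pow_succ', hn])
    by_contra h1
    obtain ⟨y, hy, yV, -, k⟩ := h.fixY h2 h1 b2 (mul_mem hc hc)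
    have m := k ρ hc ((Commute.refl ρ).mul_right rfl)
    refine yV ((h.frC h2 h1 b2 (mul_mem hc hc)).2 y hy (mul_inv_eq_iff_eq_mul.1 ?_).symm)
    calc _ = ρ * y * ((y⁻¹ * (ρ * y * ρ⁻¹)) * ρ⁻¹) := by group
      _ = y * ((y⁻¹ * (ρ * y * ρ⁻¹)) * (y⁻¹ * (ρ * y * ρ⁻¹))) := by rw [inv_mem hc _ m]; group
      _ = y := by rw [h.Vsq m, mul_one]

theorem dec2 {T : Subgroup G} (hT : IsPGroup 2 T) {g : G} (hg : g ∈ T) {x τ : G}
    (hx : x ∈ Q) (hc : τ ∈ 𝐂(V)) (hb : τ • β = β) (e : g = x * τ) : τ * τ = 1 := by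
  obtain ⟨n, hn⟩ := hT ⟨g, hg⟩
  have := h.pow_dec hx (h.Ca hc) (2 ^ n)
  rw [← e, show g ^ 2 ^ n = 1 from congrArg Subtype.val hn, one_mul, inv_mem_iff] at this
  exact h.W_two hb hc (h.reg _ this (pow_mem (show τ ∈ stabilizer G β from hb) _))

theorem syl {T : Subgroup G} (hT : IsPGroup 2 T) (hC : T ≤ 𝐂(V)) {x y : G} (hx : x ∈ T)
    (hy : y ∈ T) (xQ : x ∉ Q) (yQ : y ∉ Q) : x * y ∈ Q := by
  obtain ⟨a, ha, σ, sc, sb, rfl, -⟩ := h.decW (hC hx)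
  obtain ⟨b, hb, τ, tc, tb, rfl, -⟩ := h.decW (hC hy)
  have m := mul_mem ha (h.Qn σ (h.Ca sc) b hb)
  have e : a * σ * (b * τ) = a * (σ * b * σ⁻¹) * (σ * τ) := by group
  have s2 := h.dec2 hT hx ha sc sb rfl
  have t2 := h.dec2 hT hy hb tc tb rfl
  have st := h.dec2 hT (mul_mem hx hy) m (mul_mem sc tc) (by rw [mul_smul, tb, sb]) e
  rw [e, h.W_inv t2 (fun e => yQ (by simpa [e] using hb)) tb tc s2
    (fun e => xQ (by simpa [e] using ha)) sb sc (by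
      rw [Commute, SemiconjBy, ← inv_eq_of_mul_self st, mul_inv_rev, inv_eq_of_mul_self s2,
        inv_eq_of_mul_self t2]), mul_one]
  exact m

theorem oddW {g : G} (hg : g ∈ 𝐂(V)) (ho : Odd (orderOf g)) : g ^ (q + 1) = 1 := by
  have key : ∀ n : ℕ, g ^ n ∈ Q → g ^ n = 1 := fun n hn => by
    obtain ⟨m, hm⟩ := h.p2 ⟨_, hn⟩
    exact orderOf_eq_one_iff.1 (Nat.Coprime.eq_one_of_dvd ((Nat.coprime_two_right.2
      (ho.of_dvd_nat (orderOf_pow_dvd n))).pow_right m)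
      (orderOf_dvd_of_pow_eq_one (congrArg Subtype.val hm)))
  by_cases hq : #|Q| = q ^ 3
  · obtain ⟨x, hx, τ, hc, hb, e, k⟩ := h.decW hg
    exact key _ ((k _).2 (h.oddW0 (h.t3 hq) hc hb (ho.of_dvd_nat (orderOf_dvd_of_pow_eq_one
      ((k _).1 (by rw [pow_orderOf_eq_one]; exact one_mem _))))))
  · exact key _ (pow_mem (h.CV hq hg) _)

theorem sqV {y : G} (hy : y ∈ 𝐂(V)) (e : y * y ∈ V) : y ∈ Q ∨ y * y = 1 := by
  obtain ⟨x, hx, τ, hc, hb, rfl, k⟩ := h.decW hy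
  have h2 : τ * τ = 1 := by simpa [pow_two] using (k 2).1 (by simpa [pow_two] using h.VQ e)
  by_cases h1 : τ = 1
  · exact Or.inl (by simpa [h1] using hx)
  have := h.invY h2 h1 hb hc hx (by
    have := mul_mem e (h.Vn (h.Ca hc) (inv_mem (h.sq x hx)))
    rwa [show x * τ * (x * τ) * (τ * (x * x)⁻¹ * τ⁻¹) = x * τ * x * (τ * τ) * x⁻¹ * x⁻¹ * τ⁻¹ by
      group, h2, mul_one, mul_inv_cancel_right, inv_eq_of_mul_self h2] at this)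
  exact Or.inr (by rw [mul_assoc, ← mul_assoc τ, this, mul_inv_cancel])

theorem gL {L : Subgroup G} (hC : L ≤ 𝐂(V)) (hN : ∀ g ∈ closure D, g ∈ 𝐂(V) → g ∈ 𝐍(L))
    (hc : ∀ ρ ∈ zpowers j, ρ ≠ 1 → ∀ x ∈ L ⊓ Q, ∀ y ∈ L ⊓ Q, Commute x (ρ * y * ρ⁻¹)) :
    L ≤ V := by
  have k : L ⊓ Q ≤ V := fun x hx => by
    by_contra xV
    rcases h.typ with e | t | t
    · exact xV (e ▸ hx.2)
    · refine xV (h.cenV hx.2 fun y hy => ?_)
      by_cases yV : y ∈ V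
      · exact (h.cent y yV x hx.2).symm
      obtain ⟨ρ, hρ, m⟩ := h.trU t.card hx.2 xV hy yV
      have : Commute x (ρ * x * ρ⁻¹) := by
        by_cases r1 : ρ = 1
        · simp [r1]
        · exact hc ρ hρ r1 x hx x hx
      simpa only [mul_inv_cancel_left] using this.mul_right (h.cent _ m x hx.2).symm
    · obtain ⟨ζ, zD, z1, zo, za, zb, zc⟩ := t.zeta
      have yQ := h.Qn ζ za x hx.2
      have c := hc j (mem_zpowers j) h.j_ne x hx _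
        ⟨(mem_normalizer_iff.1 (hN ζ zD zc) x).1 hx.1, yQ⟩
      have c' := h.comm_J t (inv_mem (mem_zpowers j)) (h.JQ (mem_zpowers j) yQ) hx.2 c.symm
      refine z1 (h.semi t zc zb zo hx.2 xV (h.sq_comm hx.2 yQ (by
        simpa [mul_assoc] using c'.symm) ?_))
      rw [show ζ * x * ζ⁻¹ * (ζ * x * ζ⁻¹) = ζ * (x * x) * ζ⁻¹ by group, ← zc _ (h.sq x hx.2),
        mul_inv_cancel_right]
  refine fun g hg => k ⟨hg, h.g6 (hC hg) fun x hx => k ⟨?_,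
    Q.mul_mem (h.Qn g (h.Ca (hC hg)) x hx) (Q.inv_mem hx)⟩⟩
  simpa [mul_assoc] using mul_mem hg
    ((mem_normalizer_iff.1 (hN x (h.QD hx) (h.QC hx)) g⁻¹).1 (L.inv_mem hg))

theorem o2 {L : Subgroup G} (hC : L ≤ 𝐂(V)) (hN : ∀ g ∈ closure D, g ∈ 𝐂(V) → g ∈ 𝐍(L))
    (hL : IsPGroup 2 L) : L ≤ Q := fun g hg => by
  by_contra gQ
  obtain ⟨x, hx, τ, hc, hb, rfl, -⟩ := h.decW (hC hg)
  have h2 := h.dec2 hL hg hx hc hb rfl
  have h1 : τ ≠ 1 := fun e => gQ (by simpa [e] using hx)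
  have t := h.t3 (h.frC h2 h1 hb hc).1
  obtain ⟨ζ, zD, z1, zo, za, zb, zc⟩ := t.zeta
  have m := h.syl hL hC ((mem_normalizer_iff.1 (hN ζ zD zc) _).1 hg) hg (fun m => gQ (by
    simpa [mul_assoc] using h.Qn ζ⁻¹ (inv_smul_eq_iff.2 za.symm) _ m)) gQ
  have ta := h.Ca (mul_mem (mul_mem zc hc) (inv_mem zc))
  have m2 : ζ * τ * ζ⁻¹ * τ ∈ Q := by
    have := mul_mem (inv_mem (mul_mem (h.Qn ζ za x hx) (h.Qn _ ta x hx))) m
    rwa [show (ζ * x * ζ⁻¹ * (ζ * τ * ζ⁻¹ * x * (ζ * τ * ζ⁻¹)⁻¹))⁻¹ * (ζ * (x * τ) * ζ⁻¹ * (x * τ)) =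
      ζ * τ * ζ⁻¹ * τ by group] at this
  have c := h.reg _ m2 (by rw [mul_smul, hb, mul_smul, inv_smul_eq_iff.2 zb.symm, mul_smul, hb, zb])
  rw [mul_eq_one_iff_eq_inv, inv_eq_of_mul_self h2, mul_inv_eq_iff_eq_mul] at c
  obtain ⟨y, hy, yV, -, k⟩ := h.fixY h2 h1 hb hc
  exact z1 (h.semi t zc zb zo hy yV (k ζ zc c))

theorem cenQ {x : G} (hx : x ∈ 𝐂(Q)) : x ∈ V :=
  h.cenV (h.g6 (fun v hv => hx v (h.VQ hv)) fun y hy => by rw [← hx y hy]; simp)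
    fun y hy => (hx y hy).symm

theorem goodX : GoodX D α β Q V j q where
  toGood := h
  cardΩ := h.cardΩ
  cardFix _ := h.cardFix
  dec _ := h.dec
  comm _ hx _ hy := h.comm hx hy
  fpfU n h1 _ hx := h.fpfU (npow_mem_zpowers j n) h1 hx
  jfix n h1 _ := h.jfix (npow_mem_zpowers j n) h1
  fr τ h2 h1 ha hb := (em (τ ∈ 𝐂(V))).imp (fun hc => ⟨hc, h.frC h2 h1 hb hc⟩) (h.frN h2 ha hb)
  invY _ h2 h1 hb hc _ := h.invY h2 h1 hb hc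
  sqY _ h2 h1 hb hc _ := h.sqY h2 h1 hb hc
  syl _ hT hC _ hx _ hy := h.syl hT hC hx hy
  g6 _ := h.g6
  oddW _ := h.oddW
  sqV _ := h.sqV
  gL _ hC hN hc := h.gL hC hN fun ρ hρ => by obtain ⟨n, rfl⟩ := g2_pw hρ; exact hc n
  o2 _ := h.o2
  cenQ _ := h.cenQ
  CV hq _ := h.CV hq
  sqinj hq _ hx _ hy := h.sqinj hq hx hy
  trU hq _ hx xV _ hy yV := by
    obtain ⟨ρ, hρ, m⟩ := h.trU hq hx xV hy yV
    obtain ⟨n, rfl⟩ := g2_pw hρ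
    exact ⟨n, m⟩
  rk _ hr _ := h.rk hr
  line hq _ hx xV _ hy := (h.line (h.t3 hq) hx xV hy).trans (or_congr_right
    ⟨fun ⟨_, hρ, m⟩ => by obtain ⟨n, rfl⟩ := g2_pw hρ; exact ⟨n, m⟩,
      fun ⟨n, m⟩ => ⟨_, npow_mem_zpowers j n, m⟩⟩)
  gen2 hq := by
    obtain ⟨y, hy, x, hx, c⟩ := (h.t3 hq).nab
    refine ⟨x, hx, y, hy, fun L hV h1 h2 => h.gen (h.t3 hq) hx hy c hV (fun ρ hρ => ?_)
      fun ρ hρ => ?_⟩ <;> obtain ⟨n, rfl⟩ := g2_pw hρ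
    exacts [h1 n, h2 n]

end Good

theorem good2 : Good2Stmt.{u} := fun _ _ _ _ _ _ _ _ _ _ _ _ h => h.goodX

end Cfsg.Agent.ZD
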