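import Cfsg.Agent.Lib.ZD.Z2

/-! Row Z of `docs/ZD_PLAN.md`. -/

open Subgroup MulAction
open scoped commutatorElement

namespace Cfsg.Agent.ZD

open FT Tr Solv

universe u

theorem zrow : ZStmt.{u} := fun G _ _ V H j q δ s hH jH d1 dV dm ds dC dS => by
  obtain ⟨F, _, _, φ, c, k, hq, _⟩ := s.coord
  let := ZMod.algebra F 2
  obtain ⟨n, hn⟩ := IsPGroup.iff_card.1 s.p2
  have hc : Fintype.card F = 2 ^ n := by rw [hq, ← s.card, hn]
  have n2 : 2 ≤ n := by
    by_contra e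
    have := s.q4
    have : 2 ^ n ≤ 2 ^ 1 := Nat.pow_le_pow_right two_pos (by omega)
    omega
  choose T T1 hT using fun h : H => k.exists_add (hH h.2)
  have cm := fun (h : H) v (hv : v ∈ V) => conj_mem_of_mem_normalizer (hH h.2) hv
  have d0 : δ 1 = 1 := dC 1 H.one_mem (one_mem _)
  let act : MulAction H F :=
    { smul := fun h a => φ (δ h) + T h a
      one_smul := fun a => by
        obtain ⟨v, hv, rfl⟩ := k.surj a
        change φ (δ 1) + T 1 (φ v) = _
        simp [hT 1 v hv, d0, k.one]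
      mul_smul := fun g h a => by
        obtain ⟨v, hv, rfl⟩ := k.surj a
        change φ (δ (g * h)) + T (g * h) (φ v) = φ (δ g) + T g (φ (δ h) + T h (φ v))
        rw [dm _ g.2 _ h.2, k.add _ (dV _ g.2) _ (cm g _ (dV _ h.2)), map_add, hT _ _ (dV _ h.2), hT _ v hv,
          hT _ v hv, hT _ _ (cm h v hv), add_assoc]
        congr 3; push_cast; group }
  let π := (toPermHom H F).rangeRestrict
  have hπ : ∀ (h : H) (a : F), π h • a = φ (δ h) + T h a := fun _ _ => rfl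
  have sπ : Function.Surjective π := MonoidHom.rangeRestrict_surjective _
  have lin : ∀ h : H, (∀ a, T h a = a) → (h : G) ∈ 𝐂(V) := fun h e v hv =>
    (mul_inv_eq_iff_eq_mul.1 (k.inj _ (cm h v hv) v hv (by rw [← hT h v hv, e]))).symm
  have kπ : ∀ h : H, π h = 1 ↔ (h : G) ∈ 𝐂(V) := fun h => by
    refine ⟨fun e => lin h fun a => ?_, fun e => Subtype.ext (Equiv.ext fun a => ?_)⟩
    · have e1 := hπ h 0
      have e2 := hπ h a
      rw [e, one_smul] at e1 e2
      rw [map_zero, add_zero] at e1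
      rw [← e1, zero_add] at e2; exact e2.symm
    · obtain ⟨v, hv, rfl⟩ := k.surj a
      refine (hπ h _).trans ?_
      rw [dC _ h.2 e, k.one, zero_add, hT h v hv, ← e v hv, mul_inv_cancel_right]; rfl
  have kπ' : π.ker = 𝐂(V).subgroupOf H := Subgroup.ext kπ
  have dj : ∀ m : ℕ, δ (j ^ m) = 1 := fun m => by
    induction m with
    | zero => rwa [pow_zero]
    | succ m ih => rw [pow_succ, dm _ (pow_mem jH m) _ jH, ih, d1]; group
  have z0 : ∀ h : H, π h • (0 : F) = 0 ↔ δ h = 1 := fun h => by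
    rw [hπ, map_zero, add_zero, k.eq_zero (dV _ h.2)]
  have af : AF F (toPermHom H F).range :=
    { aff := fun x a b => by
        obtain ⟨h, rfl⟩ := sπ x
        simp only [hπ, map_add, map_zero]
        linear_combination -AF.aa (φ (δ h))
      ntr := fun x e => by
        obtain ⟨h, rfl⟩ := sπ x
        refine (kπ h).2 (lin h fun a => ?_)
        have := e a
        simp only [hπ, map_zero] at this
        linear_combination this
      mul := fun b b0 => by
        obtain ⟨m, rfl⟩ := k.gen b b0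
        refine ⟨π ⟨j ^ m, pow_mem jH m⟩, fun a => ?_⟩
        obtain ⟨v, hv, rfl⟩ := k.surj a
        rw [hπ, hT _ v hv, dj, k.one, zero_add, k.conj m v hv]
      tr := fun b => by
        obtain ⟨v, hv, rfl⟩ := k.surj b
        obtain ⟨h, hh, rfl⟩ := ds v hv
        exact ⟨π ⟨h, hh⟩, by rw [hπ, map_zero, add_zero]⟩
      semi := fun x e => by
        obtain ⟨h, rfl⟩ := sπ x
        have e1 := (z0 h).1 e
        obtain ⟨b, σ, -, hσ⟩ := k.semi s.nj (hH h.2) (dS _ h.2 e1)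
        have : ∀ a, π h • a = b * σ a := fun a => by
          obtain ⟨v, hv, rfl⟩ := k.surj a
          rw [hπ, e1, k.one, zero_add, hT h v hv, hσ v hv]
        exact ⟨σ, fun a => by rw [this, this, map_one, mul_one]⟩ }
  obtain ⟨y0, γ, r, cf⟩ := af.exists_cf hc n2
  obtain ⟨rfl, P0, O0, hP0, OP, iO, O2, yP, yO⟩ := af.main cf hc
  have cV : #|V| = 8 := hn
  have ix : ∀ S : Subgroup H, 𝐂(V).relIndex (S.map H.subtype) = #|S.map π| := fun S => by
    rw [← relIndex_ker, kπ', subgroupOf, relIndex_comap]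
  have sq : ∀ h : H, π h * π h = 1 ↔ (h : G) * h ∈ 𝐂(V) := fun h => by rw [← map_mul, kπ]; rfl
  refine ⟨s.card.symm.trans cV, fun h hh e1 e2 => (kπ ⟨h, hh⟩).1 (af.inv_fpf cf hc ((sq _).2 e2)
    ((z0 _).2 e1)), fun y hy y1 y2 => ?_, fun S hS => ?_⟩
  · have y3 := mt (kπ ⟨y, hy⟩).1 y1
    have y4 := (sq ⟨y, hy⟩).2 y2
    have h1 := half s.two (fun x hx z hz => s.comm hz hx) (hH hy) y2
    have h2 := LagrangeI' V 𝐂[y]
    have h3 := indexg_gt1.2 (mt sub_cent1.1 y1)
    have h4 : #|V ⊓ 𝐂[y]| = 4 ∧ 𝐂[y].relIndex V = 2 := by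
      rw [cV] at h2
      generalize #|V ⊓ 𝐂[y]| = a at *
      generalize 𝐂[y].relIndex V = b at *
      have : b ≤ 2 := by nlinarith
      obtain rfl : b = 2 := by omega
      omega
    refine ⟨fun v hv e => y3 (af.inv_fpf cf hc y4 (u := φ v) (by
      rw [hπ, hT _ v hv, ← k.add _ (dV _ hy) _ (cm ⟨y, hy⟩ v hv), e])), h4.1, ?_,
      (𝐂[π ⟨y, hy⟩].comap π).map H.subtype, fun x hx => ⟨⟨x, hx.1⟩, by
        rw [SetLike.mem_coe, mem_comap, (kπ ⟨x, hx.1⟩).2 hx.2]; exact one_mem _, rfl⟩, map_subtype_le _, ?_,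
      ⟨⟨y, hy⟩, mem_cent1.2 rfl, rfl⟩, ?_⟩
    · obtain ⟨a, ha, -, e⟩ := relIndex_eq_two_iff_exists_notMem_and.1 h4.2
      refine ⟨y * a * y⁻¹ * a, mul_mem (cm ⟨y, hy⟩ a ha) ha, fun v hv => (e v hv).symm.imp cent1_conj'.1
        fun e => ?_⟩
      have e1 := cent1_conj'.1 e
      have e2 := s.two _ (cm ⟨y, hy⟩ a ha)
      calc y * v * y⁻¹ = y * (v * a) * y⁻¹ * (y * a * y⁻¹) * (y * (a * a) * y⁻¹)⁻¹ := by group
        _ = _ := by
          rw [e1, s.two a ha, s.comm hv ha, s.comm (mul_mem ha hv) (cm ⟨y, hy⟩ a ha)]; group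
    · rw [ix, map_comap_eq_self_of_surjective sπ]
      exact af.card_syl cf hc (af.cw cf hc y4 y3).1
    · rintro _ ⟨x, hx, rfl⟩
      exact (kπ ⁅x, ⟨y, hy⟩⁆).1 (by
        rw [map_commutatorElement, commutatorElement_eq_one_iff_mul_comm]; exact mem_cent1.1 hx)
  · have hS' := sylowIn_iff.1 hS
    have h1 := morphim_pSylow π ((Sylow_subgroupOf le_rfl hS'.le).2 hS')
    rw [subgroupOf_self, ← MonoidHom.range_eq_map, MonoidHom.range_eq_top.2 sπ] at h1
    have e1 := map_subgroupOf_eq_of_le hS'.le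
    obtain ⟨g, -, e⟩ := Sylow_trans hP0 h1
    obtain ⟨y, hy, e2⟩ := e.ge (conj_mem_cj.2 yP)
    refine ⟨by rw [← e1, ix]; exact af.card_syl cf hc h1, S ⊓ ((cj g O0).comap π).map H.subtype,
      fun x hx => ⟨hx.1, ⟨x, hS'.le hx.1⟩, by
        rw [SetLike.mem_coe, mem_comap, (kπ ⟨x, hS'.le hx.1⟩).2 hx.2]; exact one_mem _, rfl⟩, inf_le_left, ?_, ?_, y, hy,
      fun hO => ?_, (sq y).1 (by rw [e2]; simp [mul_assoc, ← mul_assoc y0 y0, cf.yy])⟩
    · rw [indexgI, ← e1, relIndex_map_map_of_injective _ _ H.subtype_injective, relIndex_comap, e,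
        relIndex_cj, iO]
    · rintro _ ⟨-, x, hx, rfl⟩
      obtain ⟨o, ho, e3⟩ := mem_cj'.1 (mem_comap.1 hx)
      exact (sq x).1 (by rw [← e3]; simp [mul_assoc, ← mul_assoc o o, O2 o ho])
    · have := mem_comap.1 ((mem_map_iff_mem H.subtype_injective).1 hO.2)
      rw [e2, conj_mem_cj] at this
      exact yO this

end Cfsg.Agent.ZD
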