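import Cfsg.Agent.Lib.ZD.C0
import Cfsg.Agent.Lib.ZD.E2
import Cfsg.Agent.Lib.ZD.Z3
import Cfsg.Agent.Lib.ZD.Good2

/-! Row CT of `docs/ZD_PLAN.md`: translations. -/

open Subgroup MulAction
open scoped commutatorElement

namespace Cfsg.Agent.ZD

open FT Tr E

set_option linter.unusedSectionVars false

universe u

variable {G : Type u} {Ω : Type u} [Group G] [MulAction G Ω] {D : Set G} {t j : G}
  {a b : fixedBy Ω t} {R V K P : Subgroup G} {q : ℕ} {Q W : Subgroup (XT Ω t)}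

theorem LS.sc_nj [Finite G] (h : LS D t a b R V Q W (pT Ω t j) q) (jt : j ∈ 𝐂[t]) (jV : j ∈ 𝐍(V))
    {g : G} (hg : g ∈ 𝐂[t] ⊓ 𝐍(V)) : Sc V j (g * j * g⁻¹) := by
  have hS := cent1_le_Stab (Ω := Ω) t
  have fa : pT Ω t g • a = a := (pT_smul (hS hg.1)).2 (h.fix_a hg.2)
  obtain ⟨ξ, hξ, e⟩ := h.good.dec _ fa
  obtain ⟨n, hn⟩ := mem_powers_iff_mem_zpowers.2 (h.good.nj _ (by
    rw [mul_smul, fa, inv_smul_eq_iff, h.good.Qa ξ hξ]) e)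
  simp only at hn
  have hj : g * j * g⁻¹ ∈ 𝐂[t] ⊓ 𝐍(V) := mul_mem (mul_mem hg (mem_inf.2 ⟨jt, jV⟩)) (inv_mem hg)
  refine ⟨n, fun v hv => h.pi_inj ((memJ_norm hj.2).2 hv) ((memJ_norm (pow_mem jV n)).2 hv) ?_⟩
  have c := fun w hw => (h.good.cent w hw ξ hξ).eq
  have hw := h.pi_mem ((memJ_norm (pow_mem jV n)).2 hv)
  rw [pT_conj (pow_mem (hS jt) n) (h.VS hv), pT_pow (hS jt)] at hw
  rw [pT_conj (hS hj.1) (h.VS hv), pT_conj (hS hg.1) (hS jt),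
    pT_conj (pow_mem (hS jt) n) (h.VS hv), pT_pow (hS jt)]
  calc _ = ξ * (pT Ω t j ^ n * (ξ⁻¹ * (pT Ω t v * ξ)) * (pT Ω t j ^ n)⁻¹) * ξ⁻¹ := by
        rw [hn]; group
    _ = _ := by rw [c _ (h.pi_mem hv), inv_mul_cancel_left, ← c _ hw, mul_inv_cancel_right]

namespace C0

variable [Finite G] (h : C0 D t a b R V K P j q Q W)
include h

theorem tPR : P ≤ R := fun x hx => ((h.memP x).1 hx).1
theorem tPS : P ≤ Stab G (fixedBy Ω t) := h.tPR.trans h.RS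
theorem tpi {x : G} (hx : x ∈ P) : pT Ω t x ∈ Q := ((h.memP x).1 hx).2
theorem tPV : P ≤ 𝐂(V) := fun _ hx =>
  h.mem_CV (h.RV (h.tPR hx)) (h.tPS hx) (h.good.toGood.QC (h.tpi hx))
theorem tVP : V ≤ P := fun v hv => (h.memP v).2 ⟨h.VR hv, h.good.VQ (h.pi_mem hv)⟩
theorem ttK : t ∈ K := h.eqK ▸ mem_inf.2 ⟨h.tR, self_mem_Ker t⟩
theorem tjt : j ∈ 𝐂[t] := cent_le_cent1 h.ttK h.jK
theorem tjS : j ∈ Stab G (fixedBy Ω t) := cent1_le_Stab t h.tjt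
theorem tsing : Sing V j q := h.sing h.tjS h.jV rfl
theorem tQP {ξ : XT Ω t} (hξ : ξ ∈ Q) : ∃ x ∈ P, pT Ω t x = ξ := by
  obtain ⟨x, hx, rfl⟩ := h.QR hξ
  exact ⟨x, (h.memP x).2 ⟨hx, hξ⟩, rfl⟩
theorem tcm {x y : G} (hx : x ∈ P) (hy : y ∈ P) : ⁅x, y⁆ ∈ V :=
  der_of_sq h.tVP h.sqP (commutator_mem_commutator hx hy)

theorem tW {x : G} (hx : x ∈ P) (e : pT Ω t x ∈ W) : x ∈ 𝐂(P) ∧ x * x = 1 := by
  obtain ⟨v, hv, e'⟩ := (h.piV _).1 e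
  have hk : v⁻¹ * x ∈ K := h.eqK ▸ mem_inf.2 ⟨mul_mem (inv_mem (h.VR hv)) (h.tPR hx),
    (pT_eq_iff (h.VS hv) (h.tPS hx)).1 e'⟩
  have hc : v⁻¹ * x ∈ 𝐂(P) := centS (le_inf h.tPR h.tPV) (h.cenK hk)
  have c : Commute v (v⁻¹ * x) := mem_cent.1 hc v (h.tVP hv)
  refine ⟨(mul_mem_cancel_left (inv_mem (centsC.1 h.tPV hv))).1 hc, ?_⟩
  simpa using sq_mul_of_comm c (h.sqV hv) (h.twoK _ hk)

theorem sc3 (b3 : T3 (DT Ω D t) a b Q W (pT Ω t j) q) {g : G} (hV : g ∈ 𝐍(V)) (hP : g ∈ 𝐍(P)) :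
    Sc V j (g * j * g⁻¹) := by
  have jx : ∀ x ∈ P, j * x * j⁻¹ ∈ P := fun x hx => (memJ_norm h.jP).2 hx
  have bl : ∀ x ∈ P, ∀ y ∈ P, ⁅j * x * j⁻¹, y⁆ = ⁅x, j * y * j⁻¹⁆ := fun x hx y hy =>
    h.pi_inj (h.tcm (jx x hx) hy) (h.tcm hx (jx y hy)) (by
      rw [pT_comm (h.tPS (jx x hx)) (h.tPS hy), pT_comm (h.tPS hx) (h.tPS (jx y hy)),
        pT_conj h.tjS (h.tPS hx), pT_conj h.tjS (h.tPS hy)]
      exact b3.bl _ (h.tpi hx) _ (h.tpi hy))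
  refine h.tsing.cent (mul_mem (mul_mem hV h.jV) (inv_mem hV)) fun v hv => ?_
  by_cases v1 : v = 1
  · simp [v1]
  obtain ⟨x, hx, y, hy, rfl⟩ : ∃ x ∈ P, ∃ y ∈ P, ⁅x, y⁆ = v := by
    obtain ⟨ξ, hξ, η, hη, hc⟩ := b3.nab
    obtain ⟨x, hx, rfl⟩ := h.tQP hξ
    obtain ⟨y, hy, rfl⟩ := h.tQP hη
    obtain ⟨n, e⟩ := h.tsing.tr _ (h.tcm hx hy) (fun c => hc (pT_commute (h.tPS hx) (h.tPS hy)
      (commutatorElement_eq_one_iff_mul_comm.1 c))) v hv v1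
    exact ⟨_, (memJ_norm (pow_mem h.jP n)).2 hx, _, (memJ_norm (pow_mem h.jP n)).2 hy, by
      rw [← conjugate_commutatorElement, e]⟩
  have r : ∀ x ∈ P, j * ⁅x, y⁆ * j⁻¹ = ⁅x, j * (j * y * j⁻¹) * j⁻¹⁆ := fun x hx => by
    rw [conjugate_commutatorElement, bl x hx _ (jx y hy)]
  have l : ∀ u ∈ P, g * j * g⁻¹ * ⁅x, u⁆ * (g * j * g⁻¹)⁻¹ =
      ⁅g * (j * (j * (g⁻¹ * x * g) * j⁻¹) * j⁻¹) * g⁻¹, u⁆ := fun u hu => by
    have := bl _ (jx _ ((memJ_norm' hP).2 hx)) _ ((memJ_norm' hP).2 hu)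
    rw [show u = g * (g⁻¹ * u * g) * g⁻¹ by group, ← conjugate_commutatorElement, this]
    simp only [commutatorElement_def]; group
  rw [r x hx, l _ (jx _ (jx y hy)), l y hy,
    r _ ((memJ_norm hP).2 (jx _ (jx _ ((memJ_norm' hP).2 hx))))]

theorem no2 (hq : q = 8) (b2 : #|Q| = q ^ 2) {y : G} (hP : y ∈ 𝐍(P)) (h4 : #|V ⊓ 𝐂[y]| = 4) :
    False := by
  have g := h.good
  have si : ∀ x ∈ P, ∀ z ∈ P, x * x = z * z → pT Ω t (x⁻¹ * z) ∈ W := fun x hx z hz e => by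
    rw [pT_mul (inv_mem (h.tPS hx)) (h.tPS hz), pT_inv (h.tPS hx)]
    exact g.sqinj b2 _ (h.tpi hx) _ (h.tpi hz) (by
      rw [← pT_mul (h.tPS hx) (h.tPS hx), ← pT_mul (h.tPS hz) (h.tPS hz), e])
  have onto : ∀ v ∈ V, v ≠ 1 → ∃ u ∈ P, u * u = v := fun v hv v1 => by
    obtain ⟨ξ, hξ, hξ'⟩ := SetLike.not_le_iff_exists.1 (show ¬ Q ≤ W from fun c => by
      have := card_le_of_le c
      rw [b2, g.cardV, hq] at this; omega)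
    obtain ⟨x, hx, rfl⟩ := h.tQP hξ
    obtain ⟨n, e⟩ := h.tsing.tr _ (h.sqP x hx) (fun c => hξ' ((g.two _ hξ).1
      (pT_sq (h.tPS hx) c))) v hv v1
    exact ⟨_, (memJ_norm (pow_mem h.jP n)).2 hx, by rw [conj_mul, e]⟩
  obtain ⟨c₁, h1, c₂, h2, n1, n2, n3, hall⟩ : ∃ c₁ ∈ V ⊓ 𝐂[y], ∃ c₂ ∈ V ⊓ 𝐂[y], c₁ ≠ 1 ∧ c₂ ≠ 1 ∧
      c₁ ≠ c₂ ∧ ∀ c ∈ V ⊓ 𝐂[y], c = 1 ∨ c = c₁ ∨ c = c₂ ∨ c = c₁ * c₂ := by
    have := TwoGrp.isKleinFour_of_card h4 fun x hx => h.sqV hx.1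
    have := Fintype.ofFinite (V ⊓ 𝐂[y] : Subgroup G)
    obtain ⟨x, u, z, a1, a2, a3⟩ := (Fintype.two_lt_card_iff (α := (V ⊓ 𝐂[y] : Subgroup G))).1
      (by rw [← Nat.card_eq_fintype_card, h4]; omega)
    have b1 : x⁻¹ * u ≠ 1 := fun c => a1 (inv_mul_eq_one.1 c)
    have b2 : x⁻¹ * z ≠ 1 := fun c => a2 (inv_mul_eq_one.1 c)
    have b3 : x⁻¹ * u ≠ x⁻¹ * z := fun c => a3 (mul_left_cancel c)
    refine ⟨_, (x⁻¹ * u).2, _, (x⁻¹ * z).2, fun c => b1 (Subtype.ext c), fun c => b2 (Subtype.ext c),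
      fun c => b3 (Subtype.ext c), fun c hc => ?_⟩
    by_contra hn
    push Not at hn
    exact hn.2.2.2 (congrArg Subtype.val (IsKleinFour.eq_mul_of_ne_all (z := ⟨c, hc⟩) b1 b2 b3
      (fun e => hn.1 (congrArg Subtype.val e)) (fun e => hn.2.1 (congrArg Subtype.val e))
      fun e => hn.2.2.1 (congrArg Subtype.val e)))
  obtain ⟨u₁, hu₁, rfl⟩ := onto c₁ h1.1 n1
  obtain ⟨u₂, hu₂, rfl⟩ := onto c₂ h2.1 n2
  have fx : ∀ u ∈ P, u * u ∈ 𝐂[y] → ∃ e ∈ 𝐂(P), e * e = 1 ∧ y * u * y⁻¹ = u * e := fun u hu c => by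
    have hy := (memJ_norm hP).2 hu
    obtain ⟨a1, a2⟩ := h.tW (mul_mem (inv_mem hu) hy) (si u hu _ hy (by
      rw [conj_mul, cent1_conj'.1 c]))
    exact ⟨_, a1, a2, by group⟩
  have nW : ∀ u ∈ P, u * u ≠ 1 → pT Ω t u ∉ W := fun u hu c c' => c (h.tW hu c').2
  have n12 : pT Ω t (u₁⁻¹ * u₂) ∉ W := fun c => by
    obtain ⟨a1, a2⟩ := h.tW (mul_mem (inv_mem hu₁) hu₂) c
    refine n3 ?_
    have c' : Commute u₁ (u₁⁻¹ * u₂) := mem_cent.1 a1 u₁ hu₁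
    calc u₁ * u₁ = u₁ * u₁ * (u₁⁻¹ * u₂ * (u₁⁻¹ * u₂)) := by rw [a2, mul_one]
      _ = u₂ * u₂ := by rw [← c'.symm.mul_mul_mul_comm]; group
  have n12' : pT Ω t (u₁ * u₂) ∉ W := fun c => n12 (by
    rw [show u₁⁻¹ * u₂ = (u₁ * u₁)⁻¹ * (u₁ * u₂) by group, pT_mul (inv_mem (h.VS h1.1))
      (h.tPS (mul_mem hu₁ hu₂))]
    exact mul_mem (h.pi_mem (inv_mem h1.1)) c)
  have hc : Commute u₁ u₂ := by
    obtain ⟨e₁, a1, a2, a3⟩ := fx u₁ hu₁ h1.2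
    obtain ⟨e₂, b1, b2, b3⟩ := fx u₂ hu₂ h2.2
    have hu := mul_mem hu₁ hu₂
    have he₂ : e₂ ∈ P := by
      rw [show e₂ = u₂⁻¹ * (y * u₂ * y⁻¹) by rw [b3]; group]
      exact mul_mem (inv_mem hu₂) ((memJ_norm hP).2 hu₂)
    have c1 : Commute (u₁ * u₂) (e₁ * e₂) := mem_cent.1 (mul_mem a1 b1) _ hu
    have e : y * (u₁ * u₂) * y⁻¹ = u₁ * u₂ * (e₁ * e₂) := by
      rw [← conj_mul, a3, b3, mul_assoc u₁, ← mul_assoc e₁, ← mem_cent.1 a1 u₂ hu₂]; group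
    rcases hall _ (mem_inf.2 ⟨h.sqP _ hu, cent1_conj'.2 (by
      rw [← conj_mul, e, c1.symm.mul_mul_mul_comm,
        sq_mul_of_comm (mem_cent.1 a1 e₂ he₂ : Commute e₂ e₁).symm a2 b2, mul_one])⟩) with c | c | c | c
    · exact absurd ((g.two _ (h.tpi hu)).1 (pT_sq (h.tPS hu) c)) n12'
    · exact absurd (by simpa using si u₁ hu₁ _ hu c.symm) (nW u₂ hu₂ n2)
    · refine absurd (si u₂ hu₂ _ hu c.symm) (nW _ (mul_mem (inv_mem hu₂) hu) fun c' => n1 ?_)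
      calc u₁ * u₁ = u₂ * (u₂⁻¹ * (u₁ * u₂) * (u₂⁻¹ * (u₁ * u₂))) * u₂⁻¹ := by group
        _ = 1 := by rw [c']; group
    · calc u₁ * u₂ = u₁⁻¹ * (u₁ * u₁ * (u₂ * u₂)) * u₂⁻¹ := by group
        _ = u₂ * u₁ := by rw [← c]; group
  have s1 := h.tPS hu₁
  have s2 := h.tPS hu₂
  set C := Q ⊓ 𝐂[pT Ω t u₁] with hC
  have hWC : W ≤ C := le_inf g.VQ fun w hw => mem_cent1.2 (g.cent w hw _ (h.tpi hu₁)).eq
  have i4 := coset_count (M := W) (H := C)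
    (fun i => pT Ω t (if i = 0 then u₁ else if i = 1 then u₂ else u₁ * u₂)) 3 (fun i => by
      have m1 : pT Ω t u₁ ∈ C := mem_inf.2 ⟨h.tpi hu₁, mem_cent1.2 rfl⟩
      have m2 : pT Ω t u₂ ∈ C := mem_inf.2 ⟨h.tpi hu₂, mem_cent1.2 (pT_commute s2 s1 hc.symm).eq⟩
      split_ifs
      exacts [m1, m2, pT_mul s1 s2 ▸ mul_mem m1 m2])
    (fun i => by
      split_ifs
      exacts [nW u₁ hu₁ n1, nW u₂ hu₂ n2, n12'])
    fun i k h1 h2 => by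
      have : (i = 0 ∧ k = 1) ∨ (i = 0 ∧ k = 2) ∨ (i = 1 ∧ k = 2) := by omega
      rcases this with ⟨rfl, rfl⟩ | ⟨rfl, rfl⟩ | ⟨rfl, rfl⟩
      · simpa [pT_mul (inv_mem s1) s2, pT_inv s1] using n12
      · simpa [pT_mul s1 s2] using nW u₂ hu₂ n2
      · simpa [hc.eq, pT_mul s2 s1] using nW u₁ hu₁ n1
  have k1 := card_mul_relIndex hWC
  have k2 := card_mul_relIndex (inf_le_left : C ≤ Q)
  rw [g.cardV, hq] at k1
  rw [b2, hq] at k2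
  have k3 : C.relIndex Q = 1 ∨ C.relIndex Q = 2 := by
    have : C.relIndex Q ≠ 0 := fun c => by rw [c] at k2; omega
    have : C.relIndex Q < 3 := by by_contra c; nlinarith
    omega
  refine nW u₁ hu₁ n1 ?_
  rcases k3 with k3 | k3
  · exact g.rk _ (h.tpi hu₁) 1 fun x hx => Or.inl (commutatorElement_eq_one_iff_mul_comm.2
      (mem_cent1.1 (relIndex_eq_one.1 k3 hx).2))
  · obtain ⟨x₀, hx₀, hn⟩ := SetLike.not_le_iff_exists.1 (show ¬ Q ≤ C from fun c => by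
      rw [relIndex_eq_one.2 c] at k3; omega)
    refine g.rk _ (h.tpi hu₁) ⁅x₀, pT Ω t u₁⁆ fun x hx => ?_
    by_cases c : x ∈ C
    · exact Or.inl (commutatorElement_eq_one_iff_mul_comm.2 (mem_cent1.1 c.2))
    · have : x₀⁻¹ * x ∈ C := (mul_mem_of_relIndex_two k3 (inv_mem hx₀) hx).2 (by
        rw [inv_mem_iff]; tauto)
      rw [← comm_mul_right (a := x₀) (mem_cent1.1 this.2 : Commute (x₀⁻¹ * x) _)]
      simp

end C0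

/-- Row CT. -/
theorem ct : CTStmt.{u} := fun G Ω _ _ _ D t a b R V K P j q Q W h hQ w hw => by
  have t2 := h.ti.sq
  let H : Subgroup G :=
    { carrier := {g | g ∈ 𝐍(V) ∧ g ∈ 𝐍(P) ∧ g * t * g⁻¹ * t ∈ V}
      one_mem' := ⟨one_mem _, one_mem _, by simp [t2]⟩
      mul_mem' := fun {g g'} hg hg' => ⟨mul_mem hg.1 hg'.1, mul_mem hg.2.1 hg'.2.1, by
        have : g * g' * t * (g * g')⁻¹ * t = g * (g' * t * g'⁻¹ * t) * g⁻¹ * (g * t * g⁻¹ * t) := by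
          calc _ = g * (g' * t * g'⁻¹ * (t * t)) * g⁻¹ * t := by rw [t2]; group
            _ = _ := by group
        rw [this]; exact mul_mem ((memJ_norm hg.1).2 hg'.2.2) hg.2.2⟩
      inv_mem' := fun {g} hg => ⟨inv_mem hg.1, inv_mem hg.2.1, by
        have := (memJ_norm' hg.1).2 (inv_mem hg.2.2)
        rw [mul_inv_rev, conj_inv, h.ti.inv_eq] at this
        convert this using 1; group⟩ }
  have tw : ∀ v ∈ V, t * v * t = v := fun v hv => by rw [← (h.commt hv).eq, mul_assoc, t2, mul_one]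
  by_cases hc : ∃ g ∈ H, g ∈ 𝐂(V) ∧ g * t * g⁻¹ * t ≠ 1
  · obtain ⟨g, hg, hg', ne⟩ := hc
    by_cases w1 : w = 1
    · exact ⟨1, one_mem _, by simp [w1]⟩
    obtain ⟨n, e⟩ := h.tsing.tr _ hg.2.2 ne w hw w1
    have jn := cent1_conj.1 (pow_mem h.tjt n)
    refine ⟨j ^ n * g * (j ^ n)⁻¹, mem_inf.2 ⟨mul_mem (mul_mem (pow_mem h.jP n) hg.2.1)
      (inv_mem (pow_mem h.jP n)), (memJ_norm (cent_norm V (pow_mem h.jV n))).2 hg'⟩, ?_⟩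
    rw [← (h.commt hw).eq, ← e]
    nth_rw 1 [← jn]
    nth_rw 4 [← jn]
    calc _ = j ^ n * (g * t * g⁻¹ * (t * t)) * (j ^ n)⁻¹ := by rw [t2]; group
      _ = _ := by group
  push Not at hc
  have jt : j * t * j⁻¹ * t = 1 := by rw [cent1_conj.1 h.tjt, t2]
  obtain ⟨z0, -, z2, z3⟩ := zrow G V H j q (fun g => g * t * g⁻¹ * t) h.tsing (fun _ hg => hg.1)
    ⟨h.jV, h.jP, jt ▸ one_mem _⟩ jt (fun _ hg => hg.2.2) (fun g hg g' hg' => by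
      rw [h.tsing.comm hg.2.2 ((memJ_norm hg.1).2 hg'.2.2)]
      calc _ = g * (g' * t * g'⁻¹ * (t * t)) * g⁻¹ * t := by rw [t2]; group
        _ = _ := by group)
    (fun v hv => by
      obtain ⟨g, hg, e⟩ := h.tr2 v hv
      exact ⟨g, ⟨hg.2, hg.1, by rw [e, tw v hv]; exact hv⟩, by rw [e, tw v hv]⟩) hc
    fun g hg e => h.sc_nj h.tjt h.jV (mem_inf.2 ⟨cent1_conj.2 (by
      rw [eq_inv_of_mul_eq_one_left e, h.ti.inv_eq]), hg.1⟩)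
  obtain ⟨S, hS⟩ := exists_sylowIn (p := 2) H
  obtain ⟨-, O, o1, -, -, -, y, hy, y1, y2⟩ := z3 S hS
  obtain ⟨-, h4, -⟩ := z2 y (hS.le hy) (fun c => y1 (o1 ⟨hy, c⟩)) y2
  exfalso
  rcases h.good.typ with e | e | e
  · exact hQ e
  · exact h.no2 z0 e.card (hS.le hy).2.1 h4
  · obtain ⟨Γ, _, _, _, ρ, -, -, hρ⟩ := gal G V H j 3 (by have := h.tsing; rwa [z0] at this)
      (fun _ hg => hg.1) fun g hg => h.sc3 e hg.1 hg.2.1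
    obtain ⟨v, hv, v1⟩ := ((V ⊓ 𝐂[y]).bot_or_exists_ne_one).resolve_left fun c => by
      rw [c, card_bot] at h4; omega
    have := hρ ⟨y, hS.le hy⟩ v hv.1 v1 (mem_cent1.1 hv.2)
    rw [h4, show 4 = 2 ^ 2 by rfl, ← pow_mul] at this
    have := Nat.pow_right_injective le_rfl this
    omega

end Cfsg.Agent.ZD
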