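import Cfsg.Agent.Lib.ZD.C1
import Cfsg.Agent.Lib.ZD.CT
import Cfsg.Agent.Lib.ZD.CF

/-! Row C. -/

namespace Cfsg.Agent.ZD

universe u

theorem crow : CStmt.{u} := c_of ct cf

end Cfsg.Agent.ZD
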