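import Cfsg.Agent.Lib.ZD.E4

/-! Row E of `docs/ZD_PLAN.md`, part 5: the reduction to `EH` and the final statement. -/

open Subgroup MulAction
open scoped commutatorElement

namespace Cfsg.Agent.ZD

open FT Tr E

set_option linter.unusedSectionVars false

universe u

variable {G : Type u} {Ω : Type u} [Group G] [MulAction G Ω] {D : Set G} {t j : G}
  {a b : fixedBy Ω t} {R V P : Subgroup G} {q : ℕ} {Q W : Subgroup (XT Ω t)}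

namespace E

theorem pm {g x : G} (hg : g ∈ Stab G (fixedBy Ω t)) (hx : x ∈ Stab G (fixedBy Ω t)) :
    pT Ω t (g * x) = pT Ω t g * pT Ω t x := pr_mul (Stab_inv _) hg hx

theorem pcj {g x : G} (hg : g ∈ Stab G (fixedBy Ω t)) (hx : x ∈ Stab G (fixedBy Ω t)) :
    pT Ω t (g * x * g⁻¹) = pT Ω t g * pT Ω t x * (pT Ω t g)⁻¹ := pr_conj (Stab_inv _) hg hx

theorem pp {g : G} (hg : g ∈ Stab G (fixedBy Ω t)) (n : ℕ) : pT Ω t (g ^ n) = pT Ω t g ^ n :=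
  pr_pow (Stab_inv _) hg n

theorem pinv {g : G} (hg : g ∈ Stab G (fixedBy Ω t)) : pT Ω t g⁻¹ = (pT Ω t g)⁻¹ :=
  pr_inv (Stab_inv _) hg

theorem pone : pT Ω t (1 : G) = 1 := pr_one (Stab_inv _)

theorem pk {g : G} (hg : g ∈ Stab G (fixedBy Ω t)) : pT Ω t g = 1 ↔ g ∈ Ker G (fixedBy Ω t) :=
  pr_eq_one (Stab_inv _) hg

end E

namespace CS

variable [Finite G] (h : CS D t a b R V (zpowers t) P j q Q W)
include h

theorem ePR : P ≤ R := h.eqP ▸ inf_le_left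
theorem ePV : P ≤ 𝐂(V) := h.eqP ▸ inf_le_right
theorem ePS : P ≤ Stab G (fixedBy Ω t) := h.ePR.trans h.ls.RS
theorem eVP : V ≤ P := h.eqP ▸ le_inf h.ls.VR h.ls.VC
theorem etP : t ∈ P := h.KP (mem_zpowers t)
theorem ejt : j ∈ 𝐂[t] := cent_cycle t ▸ h.jK
theorem ejS : j ∈ Stab G (fixedBy Ω t) := cent1_le_Stab t h.ejt
theorem epi {x : G} (hx : x ∈ P) : pT Ω t x ∈ Q := (h.piP _).2 ⟨x, hx, rfl⟩

theorem eker {x : G} (hx : x ∈ P) (e : x ∈ Ker G (fixedBy Ω t)) : x = 1 ∨ x = t := by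
  rw [← mem_zpowers_sq h.ti.sq, h.eqK]; exact mem_inf.2 ⟨h.ePR hx, e⟩

theorem eeq {x y : G} (hx : x ∈ P) (hy : y ∈ P) (e : pT Ω t x = pT Ω t y) : y = x ∨ y * t = x := by
  rcases h.eker (mul_mem (inv_mem hx) hy)
    ((pr_eq_iff' (Stab_inv _) (h.ePS hx) (h.ePS hy)).1 e) with c | c
  · exact Or.inl (inv_mul_eq_one.1 c).symm
  · exact Or.inr (by rw [inv_mul_eq_iff_eq_mul.1 c, mul_assoc, h.ti.sq, mul_one])

theorem eW {x : G} (hx : x ∈ P) (e : pT Ω t x ∈ W) : x ∈ V ∨ x * t ∈ V := by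
  obtain ⟨v, hv, e'⟩ := (h.piV _).1 e
  rcases h.eeq (h.eVP hv) hx e' with c | c
  · exact Or.inl (c ▸ hv)
  · exact Or.inr (c ▸ hv)

theorem ecent {y : G} (ht : y ∈ 𝐂[t]) (hP : y ∈ 𝐍(P)) (ho : Odd (orderOf y))
    (e : pT Ω t y = 1) : y ∈ 𝐂(P) := mem_cent.2 fun x hx => by
  have hs := cent1_le_Stab (Ω := Ω) t ht
  have h1 := h.eeq hx ((memJ_norm hP).2 hx) (by rw [pcj hs (h.ePS hx), e]; simp)
  refine (mem_cent1.1 (mem_of_odd (C := 𝐂[x]) (k := 1) ho (cent1_conj.2 ?_))).symm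
  rcases h1 with c | c
  · calc _ = y * (y * x * y⁻¹) * y⁻¹ := by simp [sq, mul_assoc]
      _ = x := by rw [c, c]
  · have c' : y * x * y⁻¹ = x * t := by nth_rw 2 [← c]; rw [mul_assoc _ t, h.ti.sq, mul_one]
    calc _ = y * (y * x * y⁻¹) * y⁻¹ := by simp [sq, mul_assoc]
      _ = y * x * y⁻¹ * (y * t * y⁻¹) := by nth_rw 1 [c']; group
      _ = x := by rw [cent1_conj.1 ht, c]

theorem eb3 (b3 : T3 (DT Ω D t) a b Q W (pT Ω t j) q) : EB3 t V P j q := by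
  have hI := Stab_inv (G := G) (fixedBy Ω t)
  have cm : ∀ x ∈ P, ∀ y ∈ P, ⁅x, y⁆ ∈ V := fun x hx y hy =>
    der_of_sq h.eVP h.sqP (commutator_mem_commutator hx hy)
  have pc : ∀ x ∈ P, ∀ y ∈ P, pT Ω t ⁅x, y⁆ = ⁅pT Ω t x, pT Ω t y⁆ := fun x hx y hy =>
    map_commutatorElement (prHom hI) ⟨x, h.ePS hx⟩ ⟨y, h.ePS hy⟩
  have jx : ∀ x ∈ P, j * x * j⁻¹ ∈ P := fun x hx => (memJ_norm h.jP).2 hx
  refine ⟨?_, fun x hx y hy => h.ls.pi_inj (cm _ (jx x hx) y hy) (cm x hx _ (jx y hy)) ?_, ?_,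
    fun r hr w hw => h.eW hr (h.good.rk _ (h.epi hr) (pT Ω t w) fun ξ hξ => ?_), ?_, ?_⟩
  · have e1 : prS hI P = Q := Subgroup.ext fun ξ => by
      rw [mem_prS, h.piP]
      exact ⟨fun ⟨g, h1, _, h3⟩ => ⟨g, h1, h3⟩, fun ⟨g, h1, h3⟩ => ⟨g, h1, h.ePS h1, h3⟩⟩
    have e2 : P ⊓ Ker G (fixedBy Ω t) = zpowers t := le_antisymm
      (h.eqK ▸ inf_le_inf_right _ h.ePR) (le_inf h.KP (h.eqK ▸ inf_le_right))
    rw [← card_prS hI h.ePS, e1, e2, Nat.card_zpowers, h.ti.two, b3.card]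
  · rw [pc _ (jx x hx) y hy, pc x hx _ (jx y hy), pcj h.ejS (h.ePS hx),
      pcj h.ejS (h.ePS hy)]
    exact b3.bl _ (h.epi hx) _ (h.epi hy)
  · obtain ⟨ξ, hξ, η, hη, hc⟩ := b3.nab
    obtain ⟨x, hx, rfl⟩ := (h.piP _).1 hξ
    obtain ⟨y, hy, rfl⟩ := (h.piP _).1 hη
    exact ⟨x, hx, y, hy, fun c => hc (pr_commute hI (h.ePS hx) (h.ePS hy) c)⟩
  · obtain ⟨x, hx, rfl⟩ := (h.piP _).1 hξ
    rw [← pc x hx r hr]
    exact (hw x hx).imp (fun c => by rw [c, pone]) fun c => by rw [c]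
  · obtain ⟨ξ, hξ, η, hη, hc⟩ := h.good.gen2 b3.card
    obtain ⟨x, hx, rfl⟩ := (h.piP _).1 hξ
    obtain ⟨y, hy, rfl⟩ := (h.piP _).1 hη
    refine ⟨x, hx, y, hy, fun L h1 h2 h3 h4 z hz => ?_⟩
    have key : ∀ u ∈ P, (∀ n : ℕ, j ^ n * u * (j ^ n)⁻¹ ∈ L) → ∀ n : ℕ,
        pT Ω t j ^ n * pT Ω t u * (pT Ω t j ^ n)⁻¹ ∈ prS hI (L ⊓ P) := fun u hu hL n => by
      have hP := (memJ_norm (pow_mem h.jP n)).2 hu
      rw [← pp h.ejS, ← pcj (pow_mem h.ejS n) (h.ePS hu)]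
      exact pr_mem_prS hI ⟨hL n, hP⟩ (h.ePS hP)
    obtain ⟨l, hl, -, e⟩ := (mem_prS hI).1 (hc (prS hI (L ⊓ P)) (fun ξ hξ => by
      obtain ⟨v, hv, rfl⟩ := (h.piV _).1 hξ
      exact pr_mem_prS hI ⟨h1 hv, h.eVP hv⟩ (h.ls.VS hv)) (key x hx h3) (key y hy h4) (h.epi hz))
    rcases h.eeq hl.2 hz e with c | c
    · exact c ▸ hl.1
    · exact (mul_mem_cancel_right h2).1 (c ▸ hl.1)
  · obtain ⟨w, hw, w1⟩ := h.ls.exists_ne_one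
    obtain ⟨g, hg, e⟩ := h.trT (fun e => by
      have h1 := b3.card
      have h4 := h.sing.q4
      rw [e, h.good.cardV] at h1
      nlinarith [Nat.mul_le_mul h4 h4]) w hw
    exact ⟨g, hg, w, hw, w1, e⟩

theorem eh (hq : #|Q| ≠ q ^ 2) : EH t V P j q := by
  have hI := Stab_inv (G := G) (fixedBy Ω t)
  have : Finite (XT Ω t) := finite_XS hI
  have hS := cent1_le_Stab (Ω := Ω) t
  have fa : ∀ g ∈ 𝐂[t] ⊓ 𝐍(V), pT Ω t g • a = a := fun g hg =>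
    (pr_smul_eq hI (hS hg.1)).2 (h.ls.fix_a hg.2)
  refine ⟨h.ti.sq, fun g hg => ?_, h.sing, h.good.exq.imp fun _ e => e.2, h.sylP, h.eVP, h.etP,
    fun g hg => h.ls.conj_N hg, fun x hx e => h.eW hx ((h.good.two _ (h.epi hx)).1 ?_), h.sqP,
    h.jodd, mem_cent1.1 h.ejt, h.jP, fun n hn x hx c => h.eker hx ?_, ?_, fun y hy ho => ?_,
    fun g hg => ?_, fun L h1 h2 h3 τ hτ hn h4 => ?_, ⟨R, h.sylR, h.ls.RV, h.eqP.symm⟩,
    fun S L h1 h2 h3 h4 h5 h6 h7 => h.ls.fin h1 h2 h3 h4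
      (fun x hx y hy => h5 (commutator_mem_commutator hx hy)) h6 h7, ?_⟩
  · exact (h.ti.conj g).ne_one (h.ls.eq_one_of_fr hg (h.ti.conj g).fr)
  · rw [← pm (h.ePS hx) (h.ePS hx), e, pone]
  · rw [← pk (h.ePS hx)]
    refine h.good.fpf n (fun e => hn (h.ls.Ker_CV (pow_mem h.sing.nj n) ?_)) _ (h.epi hx) ?_
    · rwa [← pk (pow_mem h.ejS n), pp h.ejS]
    · rw [← pp h.ejS]; exact pr_commute hI (pow_mem h.ejS n) (h.ePS hx) c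
  · refine h.ecent (pow_mem h.ejt _) (pow_mem h.jP _) (odd_pow h.jodd _) ?_
    rw [pp h.ejS, ← h.good.ord, pow_orderOf_eq_one]
  · refine h.ecent (pow_mem hy.1.1 _) (pow_mem hy.2 _) (odd_pow ho _) ?_
    rw [pp (hS hy.1.1)]
    exact h.good.oddW _ (h.ls.pi_CW (hS hy.1.1) hy.1.2) (ho.of_dvd_nat (orderOf_pr_dvd hI (hS hy.1.1)))
  · obtain ⟨ξ, hξ, e⟩ := h.good.dec _ (fa g hg)
    obtain ⟨n, hn⟩ := mem_powers_iff_mem_zpowers.2 (h.good.nj _ (by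
      rw [mul_smul, fa g hg, inv_smul_eq_iff, h.good.Qa ξ hξ]) e)
    simp only at hn
    have hj : g * j * g⁻¹ ∈ 𝐂[t] ⊓ 𝐍(V) :=
      mul_mem (mul_mem hg (mem_inf.2 ⟨h.ejt, h.sing.nj⟩)) (inv_mem hg)
    refine ⟨n, fun v hv => h.ls.pi_inj ((memJ_norm hj.2).2 hv)
      ((memJ_norm (pow_mem h.sing.nj n)).2 hv) ?_⟩
    have c := fun w hw => (h.good.cent w hw ξ hξ).eq
    have hw := h.ls.pi_mem ((memJ_norm (pow_mem h.sing.nj n)).2 hv)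
    rw [pcj (pow_mem h.ejS n) (h.ls.VS hv), pp h.ejS] at hw
    rw [pcj (hS hj.1) (h.ls.VS hv), pcj (hS hg.1) h.ejS,
      pcj (pow_mem h.ejS n) (h.ls.VS hv), pp h.ejS]
    calc _ = ξ * (pT Ω t j ^ n * (ξ⁻¹ * (pT Ω t v * ξ)) * (pT Ω t j ^ n)⁻¹) * ξ⁻¹ := by
          rw [hn]; group
      _ = _ := by rw [c _ (h.ls.pi_mem hv), inv_mul_cancel_left, ← c _ hw, mul_inv_cancel_right]
  · obtain ⟨ξ, hξ, e⟩ := h.good.dec _ (fa τ hτ)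
    obtain ⟨l, hl, rfl⟩ : ∃ l ∈ L, pT Ω t l = ξ := by
      obtain ⟨x, hx, rfl⟩ := (h.piP _).1 hξ
      exact (h3 x hx).elim (fun c => ⟨x, c, rfl⟩) fun c => ⟨_, c, by
        rw [pm (h.ePS hx) (h.ePS h.etP), (pk (h.ePS h.etP)).2 (self_mem_Ker t),
          mul_one]⟩
    have hlP := h1 hl
    have hl' : l ∈ 𝐂[t] ⊓ 𝐍(V) := mem_inf.2 ⟨h.sylR.le (h.ePR hlP), cent_sub V (h.ePV hlP)⟩
    have hσ : l⁻¹ * τ ∈ 𝐂[t] ⊓ 𝐍(V) := mul_mem (inv_mem hl') hτ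
    rw [← pinv (h.ePS hlP), ← pm (inv_mem (h.ePS hlP)) (hS hτ.1)] at e
    have s1 : l⁻¹ * τ * (l⁻¹ * τ) ∈ L := by
      rw [show l⁻¹ * τ * (l⁻¹ * τ) = l⁻¹ * (τ * l⁻¹ * τ⁻¹) * (τ * τ) by group]
      exact mul_mem (mul_mem (inv_mem hl) ((memJ_norm hn).2 (inv_mem hl))) h4
    have s2 : l⁻¹ * τ * (l⁻¹ * τ) = 1 := (h.eker (h1 s1) ((pk (h.ePS (h1 s1))).1
      (h.good.reg _ (h.epi (h1 s1)) (by
        rw [pm (hS hσ.1) (hS hσ.1), mul_smul, e, e])))).resolve_right fun c => h2 (c ▸ s1)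
    exact (mul_mem_cancel_left (inv_mem (h.ePV hlP))).1 (h.ls.Ker_CV hσ.2 (h.four _ s2
      (mem_cent1.1 hσ.1) ⟨a, a.2, b, b.2, h.ls.ne, h.ls.fix_a hσ.2, (pr_smul_eq hI (hS hσ.1)).1 e⟩))
  · rcases h.good.typ with e | e | e
    · refine Or.inl fun x hx => ?_
      rcases h.eW hx (e ▸ h.epi hx) with c | c
      · exact h.sing.two x c
      · have := h.sing.two _ c
        rwa [mul_assoc, ← mul_assoc t, ← mem_cent1.1 (h.sylR.le (h.ePR hx)), mul_assoc x t,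
          h.ti.sq, mul_one] at this
    · exact absurd e.card hq
    · exact Or.inr (h.eb3 e)

end CS

/-- Row E. -/
theorem erow : EStmt.{u} := fun _ _ _ _ _ _ _ _ _ _ _ _ _ _ _ _ _ h e => by
  subst e
  by_contra hq
  exact (h.eh hq).false

end Cfsg.Agent.ZD
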