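import Cfsg.Agent.Lib.ZD.A4

/-! Four-groups fixing two points (D1, UUU), and C1. -/

open Subgroup MulAction
open scoped commutatorElement

set_option linter.unusedSectionVars false

namespace Cfsg.Agent.ZD

open FT Tr SF.GP

universe u

variable {G : Type u} {Ω : Type u} [Group G] [MulAction G Ω]

section pT
variable {t g x : G}

theorem pT_one : pT Ω t (1 : G) = 1 := pr_one (Stab_inv _)

theorem pT_mul (hg : g ∈ Stab G (fixedBy Ω t)) (hx : x ∈ Stab G (fixedBy Ω t)) :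
    pT Ω t (g * x) = pT Ω t g * pT Ω t x := pr_mul (Stab_inv _) hg hx

theorem pT_inv (hg : g ∈ Stab G (fixedBy Ω t)) : pT Ω t g⁻¹ = (pT Ω t g)⁻¹ :=
  pr_inv (Stab_inv _) hg

theorem pT_pow (hg : g ∈ Stab G (fixedBy Ω t)) (n : ℕ) : pT Ω t (g ^ n) = pT Ω t g ^ n :=
  pr_pow (Stab_inv _) hg n

theorem pT_conj (hg : g ∈ Stab G (fixedBy Ω t)) (hx : x ∈ Stab G (fixedBy Ω t)) :
    pT Ω t (g * x * g⁻¹) = pT Ω t g * pT Ω t x * (pT Ω t g)⁻¹ := pr_conj (Stab_inv _) hg hx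

theorem pT_comm (hg : g ∈ Stab G (fixedBy Ω t)) (hx : x ∈ Stab G (fixedBy Ω t)) :
    pT Ω t ⁅g, x⁆ = ⁅pT Ω t g, pT Ω t x⁆ := by
  rw [commutatorElement_def, commutatorElement_def,
    pT_mul (mul_mem (mul_mem hg hx) (inv_mem hg)) (inv_mem hx), pT_conj hg hx, pT_inv hx]

theorem pT_commute (hg : g ∈ Stab G (fixedBy Ω t)) (hx : x ∈ Stab G (fixedBy Ω t))
    (hc : Commute g x) : Commute (pT Ω t g) (pT Ω t x) := pr_commute (Stab_inv _) hg hx hc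

theorem pT_eq_one (hg : g ∈ Stab G (fixedBy Ω t)) : pT Ω t g = 1 ↔ g ∈ Ker G (fixedBy Ω t) :=
  pr_eq_one (Stab_inv _) hg

theorem pT_Ker (hg : g ∈ Ker G (fixedBy Ω t)) : pT Ω t g = 1 :=
  (pT_eq_one (Ker_le_Stab _ hg)).2 hg

theorem pT_self : pT Ω t t = 1 := pT_Ker (self_mem_Ker t)

theorem pT_eq_iff (hg : g ∈ Stab G (fixedBy Ω t)) (hx : x ∈ Stab G (fixedBy Ω t)) :
    pT Ω t g = pT Ω t x ↔ g⁻¹ * x ∈ Ker G (fixedBy Ω t) := pr_eq_iff' (Stab_inv _) hg hx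

theorem pT_smul (hg : g ∈ Stab G (fixedBy Ω t)) {ω ω' : fixedBy Ω t} :
    pT Ω t g • ω = ω' ↔ g • (ω : Ω) = ω' := pr_smul_eq (Stab_inv _) hg

theorem pT_sq (hg : g ∈ Stab G (fixedBy Ω t)) (h : g * g = 1) : pT Ω t g * pT Ω t g = 1 := by
  rw [← pT_mul hg hg, h, pT_one]

theorem pT_orderOf (hg : g ∈ Stab G (fixedBy Ω t)) : orderOf (pT Ω t g) ∣ orderOf g :=
  orderOf_pr_dvd (Stab_inv _) hg

instance finite_XT [Finite G] : Finite (XT Ω t) := finite_XS (Stab_inv _)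

end pT

theorem FR.one_lt {F : Set Ω} {x : G} (h : FR F x) (hF : F.Finite) :
    1 < (F ∩ fixedBy Ω x).ncard := by
  obtain ⟨α, ha, β, hb, ne, h1, h2⟩ := h
  exact (Set.one_lt_ncard (hF.subset Set.inter_subset_left)).2 ⟨α, ⟨ha, h1⟩, β, ⟨hb, h2⟩, ne⟩

theorem ZH.cnt' [Finite G] {H : Subgroup G} {F : Set Ω} {D : Set G} (h : ZH H F D) {s d g : G}
    (hs : s * s = 1) (hH : s ∈ H) (hf : FR F s) (hd : d ∈ D) (hc : Commute d s) (hg : g ∈ H)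
    (e : g * s * g⁻¹ = s * d) {β : Ω} (hb : β ∈ F) (sb : s • β = β) :
    ((F.ncard : ℚ) - (F ∩ fixedBy Ω s).ncard) * (DA D β).ncard = (F ∩ fixedBy Ω s).ncard *
      (((F ∩ fixedBy Ω s).ncard : ℚ) - 1) * (DA (D ∩ 𝐂[s]) β).ncard ^ 2 := by
  obtain ⟨δ, hδ, e1⟩ := h.ex d hd
  have h1 := h.cnt hs hH hf hd hc hδ e1
  have sδ := h.fix_of_comm hd hδ e1 hH hc.symm
  have h0 := hf.one_lt h.finite_pts
  obtain ⟨α, ha, γ, hγ, ne, -⟩ := hf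
  have hz := h.cent1' hs hH ha hγ ne
  have h2 : g⁻¹ • δ ∈ fixedBy Ω s := (fixedBy_conj g s δ).1 (by
    rw [e, mem_fixedBy, mul_smul, e1, sδ])
  have h3 := h.ncard_DA_conj hg s (g⁻¹ • δ)
  rw [smul_inv_smul] at h3
  rw [← e, ncard_fix_conj (h.inv g hg) (h.inv _ (H.inv_mem hg)), h3,
    hz.ncard_DA (α := g⁻¹ • δ) (β := β) ⟨h.inv _ (H.inv_mem hg) _ hδ, h2⟩ ⟨hb, sb⟩,
    hz.ncard_DA (α := δ) (β := β) ⟨hδ, sδ⟩ ⟨hb, sb⟩, h.ncard_DA hδ hb] at h1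
  have h4 := Set.ncard_inter_add_ncard_sdiff_eq_ncard F (fixedBy Ω s) h.finite_pts
  rw [← h4]
  zify [h0.le] at h1
  push_cast
  rw [add_sub_cancel_left]
  have h5 := congrArg (Int.cast : ℤ → ℚ) h1
  push_cast at h5
  rw [h5]; ring

theorem num_eq {n u f₁ f₂ k k₀ k₁ k₂ k₃ : ℚ} (hu : 1 < u) (p0 : 0 < k₀) (p1 : 0 < k₁) (p2 : 0 < k₂)
    (p3 : 0 < k₃) (e1 : (n - f₁) * k = f₁ * (f₁ - 1) * k₁ ^ 2)
    (e2 : (n - f₂) * k = f₂ * (f₂ - 1) * k₂ ^ 2) (g1 : (f₁ - u) * k₁ = u * (u - 1) * k₀ ^ 2)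
    (g2 : (f₂ - u) * k₂ = u * (u - 1) * k₀ ^ 2) (b : k * k₀ ^ 2 = k₁ * k₂ * k₃)
    (g3 : k₃ ≤ u * k₀ ^ 2) : k₁ = k₂ := by
  obtain ⟨x, hx⟩ : ∃ x, x = k₀ ^ 2 / k₁ := ⟨_, rfl⟩
  obtain ⟨y, hy⟩ : ∃ y, y = k₀ ^ 2 / k₂ := ⟨_, rfl⟩
  obtain ⟨z, hz⟩ : ∃ z, z = k₀ ^ 2 / k₃ := ⟨_, rfl⟩
  have px : 0 < x := by rw [hx]; positivity
  have py : 0 < y := by rw [hy]; positivity
  have pz : 0 < z := by rw [hz]; positivity
  have hk : k = k₁ * k₂ * k₃ / k₀ ^ 2 := by field_simp; exact b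
  have a1 : f₁ = u + u * (u - 1) * x := by rw [hx]; field_simp; linarith
  have a2 : f₂ = u + u * (u - 1) * y := by rw [hy]; field_simp; linarith
  have b1 : (n - f₁) * x = f₁ * (f₁ - 1) * (y * z) := by
    rw [hk] at e1; rw [hx, hy, hz]; field_simp; field_simp at e1; linarith
  have b2 : (n - f₂) * y = f₂ * (f₂ - 1) * (x * z) := by
    rw [hk] at e2; rw [hx, hy, hz]; field_simp; field_simp at e2; linarith
  have c : 1 ≤ u * z := by rw [hz, ← mul_div_assoc, le_div_iff₀ p3]; linarith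
  have key : (y - x) * (u * (u - 1) * (x * y - z * (x + y) - (2 * u - 1) * (x * y * z))) = 0 := by
    have : (n - f₁) * x * y - (n - f₂) * y * x = (f₂ - f₁) * (x * y) := by ring
    rw [b1, b2, a1, a2] at this
    linear_combination -this
  have neg : x * y - z * (x + y) - (2 * u - 1) * (x * y * z) < 0 := by
    have h1 : 0 < x * y := by positivity
    have h2 : 0 < z * (x + y) := by positivity
    have h3 : 0 < (u - 1) * (x * y * z) := mul_pos (by linarith) (by positivity)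
    nlinarith
  rcases mul_eq_zero.1 key with e | e
  · rw [sub_eq_zero, hx, hy] at e
    field_simp at e; exact e
  · exact absurd e (mul_neg_of_pos_of_neg (mul_pos (by linarith) (by linarith)) neg).ne

namespace Min
variable {D : Set G} (h : Min Ω D) [Finite G]
include h

theorem conj2 {a b d : G} (ha : TI Ω a) (b2 : b * b = 1) (hc : Commute b a)
    (hf : FR (fixedBy Ω a) b) (hn : b ∉ Ker G (fixedBy Ω a)) (hd : d ∈ D) (h1 : Commute d a)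
    (h2 : Commute d b) : ∃ g ∈ 𝐂[a], g * b * g⁻¹ = b * d := by
  have hz := h.zh_cent1 ha.sq
  have hb : b ∈ 𝐂[a] := mem_cent1.2 hc
  suffices ∃ d ∈ D, Commute d a ∧ Commute d b ∧ ∃ g ∈ 𝐂[a], g * b * g⁻¹ = b * d by
    obtain ⟨d', k1, k2, k3, g, hg, e⟩ := this
    obtain ⟨x, hx, x1, x2⟩ := hz.conj_cent1 b2 hb hf ⟨k1, mem_cent1.2 k2⟩ ⟨hd, mem_cent1.2 h1⟩ k3 h2
    refine ⟨x * g, Subgroup.mul_mem _ hx hg, ?_⟩
    rw [← x2, mul_inv_rev, mul_assoc x, mul_assoc x, ← mul_assoc (g * b), e, ← mul_assoc,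
      ← mul_assoc, x1.eq]; group
  have hf' := hf
  obtain ⟨α, hα, β, hβ, ne, e1, e2⟩ := hf'
  obtain ⟨R, hR, k1, k2⟩ := h.exists_sylow_fix ha.sq (isPGroup_zpowers_sq b2) (zpowers_le.2 hb) hα
    (zpowers_le (H := stabilizer G α).2 e1)
  obtain ⟨V, Q, W, i, q, hl⟩ := h.ls ha (a := ⟨α, hα⟩) (b := ⟨β, hβ⟩)
    (fun e => ne (congrArg Subtype.val e)) hR k2
  have hbS := cent1_le_Stab (Ω := Ω) a hb
  have hbN := hl.RV (k1 (mem_zpowers b))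
  have bi : b⁻¹ = b := inv_eq_of_mul_eq_one_right b2
  rcases hl.good.fr (pT Ω a b) (by rw [← pr_mul (Stab_inv _) hbS hbS, b2, pr_one (Stab_inv _)])
    (fun e => hn ((pr_eq_one (Stab_inv _) hbS).1 e)) ((pr_smul_eq (Stab_inv _) hbS).2 e1)
    ((pr_smul_eq (Stab_inv _) hbS).2 e2) with ⟨k3, -⟩ | ⟨-, k3, k4⟩
  · have k4 := hl.mem_CV hbN hbS k3
    obtain ⟨v, hv, v1⟩ := hl.exists_ne_one
    obtain ⟨w, hw, w1, wv⟩ := hl.exists_ne_two v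
    obtain ⟨ε, hε⟩ := not_forall.1 hn
    rw [Classical.not_imp] at hε
    exact ⟨v, hl.memD hv v1, hl.commt hv, mem_cent.1 k4 v hv, hz.conj_mul
      (fun d hd e he ne hc => ⟨h.mul_mem hd.1 he.1 ne hc, Subgroup.mul_mem _ hd.2 he.2⟩) b2 hb hf
      hε.1 hε.2 ⟨w, ⟨⟨hl.memD hw w1, mem_cent1.2 (hl.commt hw)⟩, mem_cent1.2 (mem_cent.1 k4 w hw)⟩,
        v, ⟨⟨hl.memD hv v1, mem_cent1.2 (hl.commt hv)⟩, mem_cent1.2 (mem_cent.1 k4 v hv)⟩, wv,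
        hl.commV hw hv⟩ ⟨hl.memD hv v1, mem_cent1.2 (hl.commt hv)⟩ (mem_cent.1 k4 v hv)⟩
  · obtain ⟨ξ, hξ, ξ1⟩ : ∃ ξ ∈ W ⊓ 𝐂[pT Ω a b], ξ ≠ 1 := by
      by_contra! hh
      rw [show W ⊓ 𝐂[pT Ω a b] = ⊥ from eq_bot_iff.2 hh, card_bot] at k3
      have := hl.q4; omega
    obtain ⟨η, hη, e⟩ := k4 ξ hξ.1 (mem_cent1.1 hξ.2)
    obtain ⟨u, hu, rfl⟩ := (hl.piV η).1 hη
    have huS := hl.VS hu
    have hv : u * b * u * b ∈ V := by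
      have := V.mul_mem hu (conj_mem_of_mem_normalizer hbN hu)
      rwa [bi, ← mul_assoc, ← mul_assoc] at this
    have e3 : pT Ω a (u * b * u * b) = ξ := by
      rw [e, ← pT_mul huS hbS, ← pT_mul (Subgroup.mul_mem _ huS hbS) huS,
        ← pT_mul (Subgroup.mul_mem _ (Subgroup.mul_mem _ huS hbS) huS) hbS]
    refine ⟨_, hl.memD hv fun e4 => ξ1 (by rw [← e3, e4]; exact pr_one (Stab_inv _)), hl.commt hv,
      ?_, b * u, Subgroup.mul_mem _ hb (mem_cent1.2 (hl.commt hu)), by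
        rw [mul_inv_rev, bi, hl.invV hu]; group⟩
    have := hl.pi_inj (conj_mem_of_mem_normalizer hbN hv) hv (by
      rw [pT_conj hbS (hl.VS hv), e3, ← mem_cent1.1 hξ.2, mul_inv_cancel_right])
    exact (mul_inv_eq_iff_eq_mul.1 this).symm

theorem exists_comm2 {a b : G} (a2 : a * a = 1) (b2 : b * b = 1) (hc : Commute a b) :
    ∃ d ∈ D, Commute d a ∧ Commute d b := by
  obtain ⟨d, hd, h1⟩ := h.exists_cent (T := zpowers a ⊔ zpowers b) (isPGroup_sup_of_le_normalizer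
    (isPGroup_zpowers_sq a2) (isPGroup_zpowers_sq b2) (zpowers_le.2 (centralizer_le_normalizer _
      (mem_cent.2 fun x hx => by obtain ⟨n, rfl⟩ := hx; exact (hc.symm.zpow_left n).eq))))
  exact ⟨d, hd, (mem_cent.1 h1 a (le_sup_left (a := zpowers a) (mem_zpowers a))).symm,
    (mem_cent.1 h1 b (le_sup_right (b := zpowers b) (mem_zpowers b))).symm⟩

/-- (CNT) in `G`. -/
theorem cnt1 {s : G} (hs : TI Ω s) {β : Ω} (sb : s • β = β) :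
    ((Nat.card Ω : ℚ) - (fixedBy Ω s).ncard) * (DA D β).ncard = (fixedBy Ω s).ncard *
      (((fixedBy Ω s).ncard : ℚ) - 1) * (DA (D ∩ 𝐂[s]) β).ncard ^ 2 := by
  obtain ⟨d, hd, h1, -⟩ := h.exists_comm2 hs.sq hs.sq (Commute.refl s)
  obtain ⟨g, e⟩ := h.conj_td hs hd h1
  simpa using h.zd.cnt' hs.sq trivial hs.fr hd h1 trivial e trivial sb

/-- (CNT) in `C(a)`. -/
theorem cnt2 {a b : G} (ha : TI Ω a) (b2 : b * b = 1) (hc : Commute b a)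
    (hf : FR (fixedBy Ω a) b) (hn : b ∉ Ker G (fixedBy Ω a)) {β : Ω} (h1 : a • β = β)
    (h2 : b • β = β) :
    (((fixedBy Ω a).ncard : ℚ) - (fixedBy Ω a ∩ fixedBy Ω b).ncard) * (DA (D ∩ 𝐂[a]) β).ncard =
      (fixedBy Ω a ∩ fixedBy Ω b).ncard * (((fixedBy Ω a ∩ fixedBy Ω b).ncard : ℚ) - 1) *
        (DA (D ∩ 𝐂[a] ∩ 𝐂[b]) β).ncard ^ 2 := by
  obtain ⟨d, hd, k1, k2⟩ := h.exists_comm2 ha.sq b2 hc.symm
  obtain ⟨g, hg, e⟩ := h.conj2 ha b2 hc hf hn hd k1 k2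
  exact (h.zh_cent1 ha.sq).cnt' b2 (mem_cent1.2 hc) hf ⟨hd, mem_cent1.2 k1⟩ k2 hg e h1 h2

theorem DA_pos2 {a b : G} (a2 : a * a = 1) (b2 : b * b = 1) (hc : Commute a b) {β : Ω}
    (h1 : a • β = β) (h2 : b • β = β) : 0 < (DA (D ∩ 𝐂[a] ∩ 𝐂[b]) β).ncard := by
  obtain ⟨d, hd, h3, h4⟩ := h.exists_cent_fix (T := zpowers a ⊔ zpowers b)
    (isPGroup_sup_of_le_normalizer (isPGroup_zpowers_sq a2) (isPGroup_zpowers_sq b2)
      (zpowers_le.2 (centralizer_le_normalizer _ (mem_cent.2 fun x hx => by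
        obtain ⟨n, rfl⟩ := hx; exact (hc.symm.zpow_left n).eq)))) (α := β)
    (sup_le (zpowers_le (H := stabilizer G β).2 h1) (zpowers_le.2 h2))
  exact (Set.ncard_pos (Set.toFinite _)).2 ⟨d, ⟨⟨hd, mem_cent1.2
    (mem_cent.1 h3 a (le_sup_left (a := zpowers a) (mem_zpowers a))).symm⟩, mem_cent1.2
    (mem_cent.1 h3 b (le_sup_right (b := zpowers b) (mem_zpowers b))).symm⟩, h4⟩

theorem DA_pos1 {a : G} (a2 : a * a = 1) {β : Ω} (h1 : a • β = β) :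
    0 < (DA (D ∩ 𝐂[a]) β).ncard := (h.zh_cent1 a2).DA_pos h1

/-- (D1) -/
theorem d1 {a b : G} (ha : TI Ω a) (b2 : b * b = 1) (b1 : b ≠ 1) (hc : Commute a b)
    (hK : b ∈ Ker G (fixedBy Ω a)) : a ∈ Ker G (fixedBy Ω b) := by
  by_contra hn
  have := h.finite
  obtain ⟨α, -, β, -, ne, e1, e2⟩ := ha.fr
  have c2 := sq_mul_of_comm hc ha.sq b2
  have hK' := Subgroup.mul_mem _ (self_mem_Ker a) hK
  have c1 : a * b ≠ 1 := fun e => hn (by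
    rw [eq_inv_of_mul_eq_one_left e]; exact inv_mem (self_mem_Ker b))
  have hb : TI Ω b := TI.of_sq b2 b1 (fr_of_Ker (F := fixedBy Ω a) e1 e2 ne hK)
  have hab : TI Ω (a * b) := TI.of_sq c2 c1 (fr_of_Ker (F := fixedBy Ω a) e1 e2 ne hK')
  have f1 : FR (fixedBy Ω b) a := ⟨α, hK α e1, β, hK β e2, ne, e1, e2⟩
  by_cases hn' : a ∈ Ker G (fixedBy Ω (a * b))
  · have E1 := h.cnt1 ha e2
    have E2 := h.cnt1 hab (hK' β e2)
    have E3 := h.cnt2 hb ha.sq hc f1 hn (hK β e2) e2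
    have E4 := h.zd.bw4 trivial trivial ne ha.sq b2 hc trivial trivial e1 e2 (hK α e1) (hK β e2)
    rw [show fixedBy Ω (a * b) = fixedBy Ω a from Set.Subset.antisymm hn' hK'] at E2
    rw [show fixedBy Ω b ∩ fixedBy Ω a = fixedBy Ω a from Set.inter_eq_right.2 hK,
      Set.inter_right_comm] at E3
    have p0 : (0 : ℚ) < _ := Nat.cast_pos.2 (h.DA_pos2 ha.sq b2 hc e2 (hK β e2))
    have p1 : (0 : ℚ) < _ := Nat.cast_pos.2 (h.DA_pos1 ha.sq e2)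
    have p2 : (0 : ℚ) < _ := Nat.cast_pos.2 (h.DA_pos1 b2 (hK β e2))
    have p3 : (0 : ℚ) < _ := Nat.cast_pos.2 (h.DA_pos1 c2 (hK' β e2))
    have p4 : (1 : ℚ) < (fixedBy Ω a).ncard := by
      exact_mod_cast (by simpa using ha.fr.one_lt (Set.toFinite _))
    have E5 := congrArg (Nat.cast : ℕ → ℚ) E4
    push_cast at E5
    have E6 := (pow_left_inj₀ p1.le p3.le two_ne_zero).1 (mul_left_cancel₀
      (mul_pos (by linarith) (by linarith)).ne' (E1.symm.trans E2))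
    rw [← E6] at E5
    have E7 : (Nat.card Ω : ℚ) = (fixedBy Ω b).ncard := by
      refine mul_right_cancel₀ (mul_pos (pow_pos p1 2) p2).ne' ?_
      linear_combination (↑(DA (D ∩ ↑𝐂[a] ∩ ↑𝐂[b]) β).ncard ^ 2) * E1 -
        (Nat.card Ω - (fixedBy Ω a).ncard) * E5 - ↑(DA (D ∩ ↑𝐂[a]) β).ncard ^ 2 * E3
    have E8 := (Set.eq_univ_iff_ncard _).2 (Nat.cast_injective E7).symm
    exact b1 (h.faith b fun ω => (E8 ▸ Set.mem_univ ω : ω ∈ fixedBy Ω b))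
  · obtain ⟨d, hd, k1, k2⟩ := h.exists_comm2 ha.sq b2 hc
    obtain ⟨g, hg, e⟩ := h.conj2 hb ha.sq hc f1 hn hd k2 k1
    obtain ⟨g', hg', e'⟩ := h.conj2 hab ha.sq ((Commute.refl a).mul_right hc)
      ⟨α, hK' α e1, β, hK' β e2, ne, e1, e2⟩ hn' hd (k1.mul_right k2) k1
    refine h.zd.uniq d hd ((h.ti_mul ha hd k1).fr.of_fix fun ω _ hω => ?_)
    have k3 : b • ω = ω := (cent1_le_Stab b (inv_mem hg) ω).1 (hK _ ((fixedBy_conj g a ω).1 (e ▸ hω)))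
    have k4 : (a * b) • ω = ω :=
      (cent1_le_Stab _ (inv_mem hg') ω).1 (hK' _ ((fixedBy_conj g' a ω).1 (e' ▸ hω)))
    rw [mul_smul, k3] at k4
    rwa [← k1.eq, mul_smul, k4] at hω

theorem d1_eq {a b : G} (ha : TI Ω a) (b2 : b * b = 1) (b1 : b ≠ 1) (hc : Commute a b)
    (hK : b ∈ Ker G (fixedBy Ω a)) : fixedBy Ω b = fixedBy Ω a :=
  Set.Subset.antisymm (h.d1 ha b2 b1 hc hK) hK

theorem card_fix {a : G} {α β : fixedBy Ω a} {Q W : Subgroup (XT Ω a)} {i : XT Ω a} {q : ℕ}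
    (hg : GoodX (DT Ω D a) α β Q W i q) : (fixedBy Ω a).ncard = #|Q| + 1 := hg.cardΩ

theorem card_fix2 {a b : G} {α β : fixedBy Ω a} {Q W : Subgroup (XT Ω a)} {i : XT Ω a} {q : ℕ}
    (hg : GoodX (DT Ω D a) α β Q W i q) (hb : b ∈ Stab G (fixedBy Ω a)) (h1 : b • (α : Ω) = α)
    (h2 : b • (β : Ω) = β) : (fixedBy Ω a ∩ fixedBy Ω b).ncard = #|Q ⊓ 𝐂[pT Ω a b]| + 1 := by
  rw [← ncard_fixedBy_pr (Stab_inv _) hb]
  exact hg.cardFix _ ((pr_smul_eq (Stab_inv _) hb).2 h1) ((pr_smul_eq (Stab_inv _) hb).2 h2)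

theorem cnt3 {a b : G} (ha : TI Ω a) (b2 : b * b = 1) (hc : Commute b a)
    (hf : FR (fixedBy Ω a) b) (hn : b ∉ Ker G (fixedBy Ω a)) {β : Ω} (h1 : a • β = β)
    (h2 : b • β = β) : ((DA (D ∩ 𝐂[a]) β).ncard : ℚ) ≤
      (fixedBy Ω a ∩ fixedBy Ω b).ncard * (DA (D ∩ 𝐂[a] ∩ 𝐂[b]) β).ncard ^ 2 := by
  have := h.finite
  have E := h.cnt2 ha b2 hc hf hn h1 h2
  have p0 : (0 : ℚ) < _ := Nat.cast_pos.2 (h.DA_pos2 ha.sq b2 hc.symm h1 h2)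
  have p1 : (0 : ℚ) < _ := Nat.cast_pos.2 (h.DA_pos1 ha.sq h1)
  have p4 : (1 : ℚ) < _ := Nat.one_lt_cast.2 (hf.one_lt (Set.toFinite _))
  obtain ⟨α, hα, γ, hγ, ne, e1, e2⟩ := hf
  obtain ⟨Q, W, i, q, hg⟩ := h.loc_t ha ⟨α, hα⟩ ⟨γ, hγ⟩ fun e => ne (congrArg Subtype.val e)
  have k1 := h.card_fix hg
  have k2 := h.card_fix2 hg (cent1_le_Stab a (mem_cent1.2 hc)) e1 e2
  have := finite_XS (Stab_inv (G := G) (fixedBy Ω a))
  obtain ⟨m, hm⟩ := card_dvd_of_le (inf_le_left : Q ⊓ 𝐂[pT Ω a b] ≤ Q)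
  have k3 : 2 ≤ m := by
    have : 0 < #|Q| := Nat.card_pos
    rcases m with _ | _ | m
    · omega
    · rw [k1, k2, hm] at E
      simp only [zero_add, mul_one, sub_self, zero_mul] at E
      rw [k2] at p4
      exact absurd E (mul_pos (mul_pos (by linarith) (by linarith)) (pow_pos p0 2)).ne
    · omega
  have k4 : 2 * (fixedBy Ω a ∩ fixedBy Ω b).ncard ≤ (fixedBy Ω a).ncard + 1 := by
    rw [k1, k2, hm]; nlinarith
  have k5 : (2 : ℚ) * (fixedBy Ω a ∩ fixedBy Ω b).ncard ≤ (fixedBy Ω a).ncard + 1 := by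
    exact_mod_cast k4
  refine le_of_mul_le_mul_left (a := ((fixedBy Ω a ∩ fixedBy Ω b).ncard : ℚ) - 1) ?_ (by linarith)
  nlinarith

/-- (UUU) -/
theorem uuu {a b : G} (ha : TI Ω a) (b2 : b * b = 1) (hc : Commute b a)
    (hn : b ∉ Ker G (fixedBy Ω a)) {α β : fixedBy Ω a} (e1 : b • (α : Ω) = α)
    (e2 : b • (β : Ω) = β) {Q W : Subgroup (XT Ω a)} {i : XT Ω a} {q : ℕ}
    (hg : GoodX (DT Ω D a) α β Q W i q) :
    (pT Ω a b ∈ 𝐂(W) ∧ #|Q| = q ^ 3 ∧ ∀ x ∈ Q, Commute x (pT Ω a b) → x ∈ W) ∧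
      (fixedBy Ω b).ncard = (fixedBy Ω a).ncard ∧ a ∉ Ker G (fixedBy Ω b) := by
  have := h.finite
  have ne : (α : Ω) ≠ β := fun e => hg.ne (Subtype.ext e)
  have hf : FR (fixedBy Ω a) b := ⟨α, α.2, β, β.2, ne, e1, e2⟩
  have b1 : b ≠ 1 := fun e => hn (e ▸ one_mem _)
  have c2 := sq_mul_of_comm hc.symm ha.sq b2
  have c1 : a * b ≠ 1 := fun e => hn (by
    rw [eq_inv_of_mul_eq_one_right e]; exact inv_mem (self_mem_Ker a))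
  have f1 : (a * b) • (α : Ω) = α := by rw [mul_smul, e1, α.2]
  have f2 : (a * b) • (β : Ω) = β := by rw [mul_smul, e2, β.2]
  have hb : TI Ω b := TI.of_sq b2 b1 (hf.mono (Set.subset_univ _))
  have hab : TI Ω (a * b) := TI.of_sq c2 c1 ⟨α, trivial, β, trivial, ne, f1, f2⟩
  have n1 : a ∉ Ker G (fixedBy Ω b) := fun hh => hn (h.d1 hb ha.sq ha.ne_one hc hh)
  have cc : Commute a (a * b) := (Commute.refl a).mul_right hc.symm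
  have n2 : a ∉ Ker G (fixedBy Ω (a * b)) := fun hh => hn (by
    simpa using Subgroup.mul_mem _ (inv_mem (self_mem_Ker a)) (h.d1 hab ha.sq ha.ne_one cc.symm hh))
  have g1 : FR (fixedBy Ω b) a := ⟨α, e1, β, e2, ne, α.2, β.2⟩
  have g2 : FR (fixedBy Ω (a * b)) a := ⟨α, f1, β, f2, ne, α.2, β.2⟩
  have E1 := h.cnt1 ha β.2
  have E2 := h.cnt1 hb e2
  have E3 := h.cnt1 hab f2
  have F1 := h.cnt2 ha b2 hc hf hn β.2 e2
  have F2 := h.cnt2 hb ha.sq hc.symm g1 n1 e2 β.2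
  have F3 := h.cnt2 hab ha.sq cc g2 n2 f2 β.2
  have G2 := h.cnt3 hb ha.sq hc.symm g1 n1 e2 β.2
  have G3 := h.cnt3 hab ha.sq cc g2 n2 f2 β.2
  have s1 : fixedBy Ω (a * b) ∩ fixedBy Ω a = fixedBy Ω a ∩ fixedBy Ω b := by
    ext ω
    simp only [Set.mem_inter_iff, mem_fixedBy]
    refine ⟨fun hh => ⟨hh.2, ?_⟩, fun hh => ⟨by rw [mul_smul, hh.2, hh.1], hh.1⟩⟩
    have := hh.1
    rwa [← hc.eq, mul_smul, hh.2] at this
  have s2 : D ∩ 𝐂[a * b] ∩ 𝐂[a] = D ∩ 𝐂[a] ∩ 𝐂[b] := by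
    ext d
    simp only [Set.mem_inter_iff, SetLike.mem_coe, mem_cent1]
    refine ⟨fun hh => ⟨⟨hh.1.1, hh.2⟩, ?_⟩, fun hh => ⟨⟨hh.1.1, Commute.mul_right hh.1.2 hh.2⟩, hh.1.2⟩⟩
    simpa using ((Commute.inv_right hh.2).mul_right hh.1.2).eq
  rw [Set.inter_comm (fixedBy Ω b), Set.inter_right_comm] at F2 G2
  rw [s1, s2] at F3 G3
  have E4 := h.zd.bw4 trivial trivial ne ha.sq b2 hc.symm trivial trivial α.2 β.2 e1 e2
  have B := congrArg (Nat.cast : ℕ → ℚ) E4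
  push_cast at B
  have p0 : (0 : ℚ) < _ := Nat.cast_pos.2 (h.DA_pos2 ha.sq b2 hc.symm β.2 e2)
  have p1 : (0 : ℚ) < _ := Nat.cast_pos.2 (h.DA_pos1 ha.sq β.2)
  have p2 : (0 : ℚ) < _ := Nat.cast_pos.2 (h.DA_pos1 b2 e2)
  have p3 : (0 : ℚ) < _ := Nat.cast_pos.2 (h.DA_pos1 c2 f2)
  have p4 : (1 : ℚ) < _ := Nat.one_lt_cast.2 (hf.one_lt (Set.toFinite _))
  have k12 := num_eq p4 p0 p1 p2 p3 E1 E2 F1 F2 B G3
  have k13 := num_eq p4 p0 p1 p3 p2 E1 E3 F1 F3 (B.trans (mul_right_comm _ _ _)) G2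
  rw [← k12] at F2
  rw [← k12, ← k13] at B
  have hS := cent1_le_Stab (Ω := Ω) a (mem_cent1.2 hc)
  refine ⟨(hg.fr _ (pT_sq hS b2) (fun e => hn ((pT_eq_one hS).1 e)) ((pT_smul hS).2 e1)
    ((pT_smul hS).2 e2)).resolve_right ?_, Nat.cast_injective (R := ℚ)
      (sub_left_inj.1 (mul_right_cancel₀ p1.ne' (F2.trans F1.symm))), n1⟩
  rintro ⟨rfl, k1, -⟩
  have k2 := h.card_fix hg
  have k3 := h.card_fix2 hg hS e1 e2
  obtain ⟨m, hm, hq⟩ := hg.exq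
  rw [hg.cardV, ← k1] at k2
  rw [k2, k3] at F1
  rw [k2] at E1
  generalize #|Q ⊓ 𝐂[pT Ω a b]| = r at *
  have r2 : 2 ∣ r := Nat.prime_two.dvd_of_dvd_pow (k1 ▸ hq ▸ dvd_pow_self 2 (by omega))
  have r0 : r ≠ 0 := by
    rintro rfl; exact (pow_pos two_pos m).ne' (by rw [← hq, ← k1]; rfl)
  push_cast at E1 F1
  have k4 : ((Nat.card Ω : ℚ) - (r ^ 2 + 1)) * (r + 1) = (r ^ 2 + 1) * r ^ 2 * (r - 1) := by
    refine mul_right_cancel₀ (mul_pos (mul_pos (pow_pos p0 2) (pow_pos p1 3))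
      (Nat.cast_pos.2 (Nat.pos_of_ne_zero r0))).ne' ?_
    generalize ((DA (D ∩ 𝐂[a] ∩ 𝐂[b]) (β : Ω)).ncard : ℚ) = k₀ at *
    generalize ((DA (D ∩ 𝐂[a]) (β : Ω)).ncard : ℚ) = k₁ at *
    linear_combination (k₀ ^ 4 * (r + 1) * r) * E1 - ((Nat.card Ω : ℚ) - (r ^ 2 + 1)) * (r + 1) * r *
      k₀ ^ 2 * B - (r ^ 2 + 1) * r ^ 2 * k₀ ^ 2 * k₁ ^ 2 * F1
  have k5 : ((Nat.card Ω : ℤ) - (r ^ 2 + 1)) * (r + 1) = (r ^ 2 + 1) * r ^ 2 * (r - 1) := by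
    exact_mod_cast k4
  have k6 : (r + 1 : ℤ) ∣ 4 := ⟨r ^ 4 - 2 * r ^ 3 + 3 * r ^ 2 - 4 * r + 4 -
    (Nat.card Ω - (r ^ 2 + 1)), by linear_combination k5⟩
  have k7 := Int.le_of_dvd (by norm_num) k6
  obtain rfl : r = 2 := by omega
  norm_num at k6

end Min

/-- (C1) -/
theorem LS.c1 {D : Set G} {t : G} {a b : fixedBy Ω t} {R V : Subgroup G} {Q W : Subgroup (XT Ω t)}
    {i : XT Ω t} {q : ℕ} (h : LS D t a b R V Q W i q) [Finite G] {w y : G} (hw : w ∈ V)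
    (w1 : w ≠ 1) (h1 : y ∈ 𝐂[t]) (h2 : y ∈ 𝐂(V)) (h3 : y ∈ Ker G (fixedBy Ω (t * w))) :
    pT Ω t y ∈ W := by
  have hS := cent1_le_Stab (Ω := Ω) t
  have hC : ∀ w ∈ V, ∀ g ∈ 𝐂[t] ⊓ 𝐂(V), g ∈ Stab G (fixedBy Ω (t * w)) := fun w hw g hg =>
    cent1_le_Stab _ (mem_cent1.2 (Commute.mul_right (mem_cent1.1 hg.1) (mem_cent.1 hg.2 w hw).symm))
  have hN : ∀ g ∈ 𝐂[t] ⊓ 𝐍(V), g ∈ 𝐍((𝐂[t] ⊓ 𝐂(V) : Subgroup G)) := fun g hg =>
    mem_normalizer_of_forall fun x hx => ⟨𝐂[t].mul_mem (𝐂[t].mul_mem hg.1 hx.1) (𝐂[t].inv_mem hg.1),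
      conj_mem_of_mem_normalizer (normalizer_le_normalizer_centralizer V hg.2) hx.2⟩
  refine h.good.gL (prS (Stab_inv _) (𝐂[t] ⊓ 𝐂(V) ⊓ Ker G (fixedBy Ω (t * w)))) (fun ξ hξ => ?_)
    (fun ξ hξ hc => mem_normalizer_of_forall fun η hη => ?_) (fun n hn ξ hξ η hη => ?_)
    (pr_mem_prS _ ⟨⟨h1, h2⟩, h3⟩ (hS h1))
  · obtain ⟨x, k1, k2, rfl⟩ := (mem_prS _).1 hξ
    exact h.pi_CW k2 k1.1.2
  · obtain ⟨x, k1, k2, rfl⟩ := (mem_prS _).1 hη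
    obtain ⟨v, hv, v1⟩ := h.exists_ne_one
    obtain ⟨g, k3, k4, rfl⟩ := h.lift_NV1 hξ ((h.good.zd).fix_of_comm
      (((h.good.memV _).1 (h.pi_mem hv)).resolve_left fun e =>
        v1 (h.eq_one_of_Ker hv ((pT_eq_one (h.VS hv)).1 e))).1 trivial
        (((pT_smul (h.VS hv)).2 (h.Ra v (h.VR hv)))) trivial
        (show Commute _ _ from mem_cent.1 hc _ (h.pi_mem hv)).symm)
    have k5 := h.mem_CV k4 (hS k3) hc
    rw [← pT_conj (hS k3) k2]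
    have k6 := mul_mem (mul_mem (show g ∈ 𝐂[t] ⊓ 𝐂(V) from ⟨k3, k5⟩) k1.1)
      (inv_mem (show g ∈ 𝐂[t] ⊓ 𝐂(V) from ⟨k3, k5⟩))
    exact pr_mem_prS _ ⟨k6, conj_mem_Ker (hC w hw g ⟨k3, k5⟩) k1.2⟩ (hS k6.1)
  · obtain ⟨x, k1, k2, rfl⟩ := (mem_prS _).1 hξ.1
    obtain ⟨z, l1, l2, rfl⟩ := (mem_prS _).1 hη.1
    obtain ⟨j, j1, j2, rfl⟩ := h.lift_NV1 h.i_mem h.good.ja
    have j3 : j ^ n ∈ 𝐂[t] ⊓ 𝐍(V) := ⟨pow_mem j1 n, pow_mem j2 n⟩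
    have hw' := conj_mem_of_mem_normalizer j3.2 hw
    have ne : j ^ n * w * (j ^ n)⁻¹ ≠ w := fun e => w1 (h.eq_one_of_Ker hw ((pT_eq_one (h.VS hw)).1
      (h.good.fpf n hn _ (h.good.VQ (h.pi_mem hw)) (by
        rw [← pT_pow (hS j1)]; exact pT_commute (hS j3.1) (h.VS hw) (mul_inv_eq_iff_eq_mul.1 e)))))
    have m1 := conj_mem_of_mem_normalizer (hN _ j3) l1.1
    have m2 : j ^ n * z * (j ^ n)⁻¹ ∈ Ker G (fixedBy Ω (t * (j ^ n * w * (j ^ n)⁻¹))) := by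
      rw [show t * (j ^ n * w * (j ^ n)⁻¹) = j ^ n * (t * w) * (j ^ n)⁻¹ by
        rw [← mul_assoc, ← mul_assoc, ← mem_cent1.1 j3.1]; group, ← cj_Ker_fixedBy, conj_mem_cj]
      exact l1.2
    have m3 : pT Ω t j ^ n * pT Ω t z * (pT Ω t j ^ n)⁻¹ ∈ Q :=
      h.good.Qn _ (mem_stabilizer_iff.1 (pow_mem (mem_stabilizer_iff.2 h.good.ja) n)) _ hη.2
    rw [← pT_pow (hS j1), ← pT_conj (hS j3.1) l2] at m3 ⊢
    generalize j ^ n * z * (j ^ n)⁻¹ = z' at *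
    generalize j ^ n * w * (j ^ n)⁻¹ = w' at *
    have c1 : ⁅x, z'⁆ ∈ 𝐂[t] ⊓ 𝐂(V) := mul_mem (mul_mem (mul_mem k1.1 m1) (inv_mem k1.1)) (inv_mem m1)
    have c2 : ⁅x, z'⁆ ∈ Ker G (fixedBy Ω (t * w)) := by
      rw [commutatorElement_def, mul_assoc x, mul_assoc x]
      exact mul_mem k1.2 (conj_mem_Ker (hC w hw _ m1) (inv_mem k1.2))
    have c3 : ⁅x, z'⁆ ∈ Ker G (fixedBy Ω (t * w')) :=
      mul_mem (conj_mem_Ker (hC w' hw' _ k1.1) m2) (inv_mem m2)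
    have c4 : Odd (orderOf ⁅x, z'⁆) := by
      by_contra hev
      obtain ⟨m, hm⟩ := (Nat.not_odd_iff_even.1 hev).two_dvd
      have m0 : m ≠ 0 := by rintro rfl; exact (orderOf_pos _).ne' hm
      have u2 : ⁅x, z'⁆ ^ m * ⁅x, z'⁆ ^ m = 1 := by rw [← pow_add, ← two_mul, ← hm, pow_orderOf_eq_one]
      have u1 : ⁅x, z'⁆ ^ m ≠ 1 := pow_ne_one_of_lt_orderOf m0 (by omega)
      have key : ∀ w ∈ V, ⁅x, z'⁆ ∈ Ker G (fixedBy Ω (t * w)) →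
          fixedBy Ω (⁅x, z'⁆ ^ m) = fixedBy Ω (t * w) := fun w hw hK =>
        h.min.d1_eq (h.ti_mul hw) u2 u1 (Commute.pow_right (Commute.mul_left
          (mem_cent1.1 c1.1).symm (mem_cent.1 c1.2 w hw)) m) (pow_mem hK m)
      have k3 := mul_mem (inv_mem (self_mem_Ker (Ω := Ω) (t * w'))) (show t * w ∈ Ker G
        (fixedBy Ω (t * w')) by rw [← key w' hw' c3, key w hw c2]; exact self_mem_Ker _)
      obtain ⟨α, β, hne⟩ := (h.ti_mul hw').exists_ne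
      refine ne (inv_mul_eq_one.1 (h.eq_one_of_fr (V.mul_mem (V.inv_mem hw') hw)
        (fr_of_Ker α.2 β.2 (fun e => hne (Subtype.ext e)) (by simpa [mul_assoc] using k3))))
    have c5 := h.good.comm _ hξ.2 _ m3
    have c6 := (h.good.two _ (h.good.VQ c5)).2 c5
    rw [← commutatorElement_eq_one_iff_commute]
    refine mem_bot.1 (mem_of_mul_self_mem_of_odd (H := ⊥) ?_ (mem_bot.2 c6))
    rw [← pT_comm k2 (hS m1.1)]
    exact c4.of_dvd_nat (pT_orderOf (hS c1.1))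

end Cfsg.Agent.ZD
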