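import Cfsg.Agent.Lib.ZD.M2e
import Cfsg.Agent.Lib.ZD.Z3

/-! Row M2: the Suzuki type is impossible, assembly. -/

open Subgroup MulAction

set_option linter.unusedSectionVars false

namespace Cfsg.Agent.ZD

open FT Tr SF.GP

universe u

variable {G : Type u} {Ω : Type u} [Group G] [MulAction G Ω]

namespace MF

variable [Finite G] {D : Set G} {t : G} {α β : Ω} {V K P : Subgroup G} {j s s' : G} {q : ℕ}
  (c : MF D t α β V K P j s s' q)
include c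

theorem KnV {k : G} (hk : k ∈ K) (h1 : k ≠ 1) : k ∉ V := fun h => h1 (c.VN h (c.KN hk))

theorem nP {g k : G} (hg : g • α = α) (hk : k ∈ K) (h1 : k ≠ 1) (h : g * k * g⁻¹ ∈ P) : g ∈ 𝐍(P) :=
  Tr.mem_normalizer_of_forall fun x hx => c.CE (c.om _ h (conj_mul_self (c.twoK k hk) g))
    (fun e => c.KnV hk h1 (by simpa [mul_assoc] using conj_mem_of_mem_normalizer' (c.normV hg) e))
    (conj_mem_of_mem_normalizer (cent_norm V (c.normV hg)) (c.PV hx))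
    (commute_conj_iff.2 (c.Pk hx hk))

variable (b : B2 Ω t α β V K P q) (hS : ∀ w ∈ V, ∃ y ∈ SS K V, y * t * y⁻¹ = t * w)
include b

theorem sqSV {y : G} (hy : y ∈ SS K V) (hP : y ∉ P) (y2 : y * y = 1) {x : G} (hx : x ∈ SS K V) :
    x * x ∈ V := by
  by_cases h : x ∈ P
  · exact c.sqP x h
  have tE : t ∈ K ⊔ V := mem_sup_left c.tK
  have k : ∀ z ∈ SS K V, z ∉ P → t⁻¹ * (z * t * z⁻¹) ≠ 1 := fun z hz h e => h (c.CC c.tK c.t1 hz.1 (by
    rw [inv_mul_eq_one, eq_mul_inv_iff_mul_eq] at e; exact e.symm))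
  obtain ⟨n, e⟩ := c.sing.tr _ (c.dl hy.2 tE) (k y hy hP) _ (c.dl hx.2 tE) (k x hx h)
  have hz := conj_mem_of_mem_normalizer (pow_mem c.jS n) hy
  have z2 := conj_mul_self y2 (j ^ n)
  have e' : j ^ n * y * (j ^ n)⁻¹ * t * (j ^ n * y * (j ^ n)⁻¹)⁻¹ = x * t * x⁻¹ := by
    have h := ((c.jK c.tK).pow_left n).eq
    calc _ = j ^ n * y * (j ^ n)⁻¹ * (t * j ^ n) * y⁻¹ * (j ^ n)⁻¹ := by group
      _ = (j ^ n * t) * (t⁻¹ * (y * t * y⁻¹)) * (j ^ n)⁻¹ := by rw [← h]; group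
      _ = t * (j ^ n * (t⁻¹ * (y * t * y⁻¹)) * (j ^ n)⁻¹) := by rw [h]; group
      _ = _ := by rw [e]; group
  generalize j ^ n * y * (j ^ n)⁻¹ = z at hz z2 e'
  have hr : z⁻¹ * x ∈ P := c.CC c.tK c.t1 (mul_mem (inv_mem (mem_SS.1 hz).1) hx.1)
    (mul_inv_eq_iff_eq_mul.1 (by
      rw [show z⁻¹ * x * t * (z⁻¹ * x)⁻¹ = z⁻¹ * (x * t * x⁻¹) * z by group, ← e']; group))
  obtain ⟨r, rfl⟩ : ∃ r, x = z * r := ⟨z⁻¹ * x, by group⟩
  rw [inv_mul_cancel_left] at hr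
  have h1 := b.sqinj r hr _ (conj_mem_of_mem_normalizer (c.SP hz) hr) (by
    rw [show z * r * z⁻¹ * (z * r * z⁻¹) = z * (r * r) * z⁻¹ by group,
      (c.cv hz.1 (c.sqP r hr)).eq, mul_inv_cancel_right])
  have h2 : z * r * (z * r) ∈ K ⊔ V := by
    have := mul_mem (conj_mem_of_mem_normalizer (c.normE (le_normalizer hr)) h1)
      (mem_sup_right (c.sqP r hr))
    rwa [inv_eq_of_mul_self z2, show r * (r⁻¹ * (z * r * z)) * r⁻¹ * (r * r) = z * r * (z * r) by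
      group] at this
  by_contra h3
  exact h (c.CE h2 h3 hx.1 ((Commute.refl _).mul_right (Commute.refl _)))

include hS

/-- The involutions of `S` lie in `K V`. -/
theorem omS {y : G} (hy : y ∈ SS K V) (y2 : y * y = 1) : y ∈ K ⊔ V := by
  by_contra hE
  have hP : y ∉ P := fun h => hE (c.om y h y2)
  have ab : ∀ x ∈ SS K V, ∀ z ∈ SS K V, x * z * x⁻¹ * z⁻¹ ∈ V := fun x hx z hz => by
    have h1 := c.sqSV b hy hP y2 hx
    have := mul_mem (c.sqSV b hy hP y2 (mul_mem hx hz))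
      (inv_mem (mul_mem h1 (c.sqSV b hy hP y2 hz)))
    rwa [← mul_assoc (x * x) z, ← (c.cv hz.1 h1).eq,
      show x * z * (x * z) * (z * (x * x) * z)⁻¹ = x * z * x⁻¹ * z⁻¹ by group] at this
  have y1 : y ≠ 1 := by rintro rfl; exact hE (one_mem _)
  obtain ⟨ω, hω, e⟩ : ∃ ω : Ω, ω ≠ α ∧ y • ω = ω := by
    obtain ⟨γ, -, δ, -, ne, e1, e2⟩ := c.z.fr_of_not_mem (fun g _ h => c.min.faith g fun ω => h ω trivial)
      trivial (orderOf_eq_two y2 y1) fun h => hP (c.VP (c.mV h (c.fixC hy.1)))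
    by_cases h : γ = α
    exacts [⟨δ, fun e => ne (h.trans e.symm), e2⟩, ⟨γ, h, e1⟩]
  obtain ⟨g, g1, rfl⟩ := c.tr2G b hω
  have g2 : g⁻¹ • α = α := by rw [inv_smul_eq_iff, g1]
  have hk : g⁻¹ * y * g ∈ K := c.p2ab b (i := 1) (by rw [mul_smul, mul_smul, g1, c.fixC hy.1, g2])
    (by rw [mul_smul, mul_smul, e, inv_smul_smul]) (by
      simpa [pow_two] using conj_mul_self y2 g⁻¹)
  have gV := c.normV g1
  have h1 : cj g P ≤ SS K V := (c.sylS b hS).le_of_le_normalizer (isPGroup_cj g c.p2)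
    (cj_le_of_mem (fun x hx => c.Pa hx) g1) fun x hx => by
      rw [normalizer_cj, mem_cj]
      refine c.nP (by rw [mul_smul, mul_smul, g1, c.fixC hx.1, g2]) hk (fun e => y1 (by
        simpa [mul_assoc] using congrArg (fun z => g * z * g⁻¹) e)) ?_
      have := mul_mem (c.VP (conj_mem_of_mem_normalizer' gV (ab x hx y hy))) (c.KP hk)
      rwa [show g⁻¹ * (x * y * x⁻¹ * y⁻¹) * g * (g⁻¹ * y * g) =
        g⁻¹ * x * g * (g⁻¹ * y * g) * (g⁻¹ * x * g)⁻¹ by group] at this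
  have h2 : g⁻¹ ∈ 𝐍(SS K V) := Tr.mem_normalizer_of_forall fun x hx => mem_SS.2
    ⟨conj_mem_of_mem_normalizer (cent_norm V (inv_mem gV)) hx.1, fun k hk => by
      have := conj_mem_of_mem_normalizer' gV (ab x hx _ (h1 (conj_mem_cj.2 (c.KP hk))))
      rwa [show g⁻¹ * (x * (g * k * g⁻¹) * x⁻¹ * (g * k * g⁻¹)⁻¹) * g =
        g⁻¹ * x * g⁻¹⁻¹ * k * (g⁻¹ * x * g⁻¹⁻¹)⁻¹ * k⁻¹ by group] at this⟩
  have := conj_mem_of_mem_normalizer' (c.NSE b hS h2) (mem_sup_left hk)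
  exact hE (by simpa [mul_assoc] using this)

theorem p2S' {x : G} {i : ℕ} (hx : x ∈ 𝐍(P)) (ha : x • α = α) (h : x ^ 2 ^ i = 1) : x ∈ SS K V :=
  (c.sylS b hS).le_of_le_normalizer' (isPGroup_zpowers h) (zpowers_le.2 ha)
    (zpowers_le.2 (c.normS (c.normE hx) (c.normV ha))) (mem_zpowers x)

theorem swp {k : G} (hk : k ∈ 𝐂(V)) (k2 : k * k = 1) (hP : k ∉ P) :
    ∃ σ ∈ 𝐂(V), σ * σ = 1 ∧ ∃ v ∈ V, σ * (k * v) * σ⁻¹ = t := by
  have tC := c.KV c.tK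
  have key : ∀ v ∈ V, Odd (orderOf (t * (k * v))) → ∃ σ ∈ 𝐂(V), σ * σ = 1 ∧ ∃ v ∈ V,
      σ * (k * v) * σ⁻¹ = t := fun v hv ho => by
    have h2 : k * v * (k * v) = 1 := by
      rw [(c.cv hk hv).symm.mul_mul_mul_comm, k2, c.twoV hv, one_mul]
    obtain ⟨u, hu, e⟩ := exists_conj_of_odd c.tt h2 ho
    have h3 := conj_eq_inv_of_mem_zpowers (conj_mul_eq_inv_left c.tt h2) hu
    refine ⟨t * u, mul_mem tC (zpowers_le.2 (mul_mem tC (mul_mem hk (c.VV hv))) hu), ?_, v, hv, ?_⟩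
    · rw [inv_eq_of_mul_self c.tt] at h3
      rw [← mul_assoc, h3, inv_mul_cancel]
    · rw [show t * u * (k * v) * (t * u)⁻¹ = t * (u * (k * v) * u⁻¹) * t⁻¹ by group, e]; group
  rcases Nat.even_or_odd (orderOf (t * k)) with he | ho
  swap
  · exact key 1 (one_mem _) (by rwa [mul_one])
  obtain ⟨m, hm, z2, zt, zk⟩ := exists_central_of_even c.tt k2 he
  have zC : (t * k) ^ m ∈ 𝐂(V) := pow_mem (mul_mem tC hk) m
  have zV : (t * k) ^ m ∈ V := by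
    by_contra h
    exact hP (c.CE (c.om _ (c.CC c.tK c.t1 zC zt) (mul_self_of_orderOf_two z2)) h hk zk.symm)
  rcases Nat.even_or_odd' m with ⟨i, rfl | rfl⟩
  · exfalso
    have h3 := conj_eq_inv_of_mem_zpowers (conj_mul_eq_inv_left c.tt k2) (pow_mem (mem_zpowers (t * k)) i)
    have h4 := conj_eq_of_inverts h3
    rw [← pow_add, ← two_mul] at h4
    have uC : (t * k) ^ i * t ∈ 𝐂(V) := mul_mem (pow_mem (mul_mem tC hk) i) tC
    have u2 : (t * k) ^ i * t * ((t * k) ^ i * t) = 1 := by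
      rw [inv_eq_of_mul_self c.tt] at h3
      rw [mul_assoc, ← mul_assoc t, h3, mul_inv_cancel]
    have h5 : (t * k) ^ i * t * t * ((t * k) ^ i * t)⁻¹ = (t * k) ^ (2 * i) * t := by rw [← h4]; group
    have := c.Pk (c.EP (c.omS b hS (c.p2S' b hS (i := 1) (c.nP (c.fixC uC) c.tK c.t1
      (h5 ▸ mul_mem (c.VP zV) (c.KP c.tK))) (c.fixC uC) (by rwa [pow_one, pow_two])) u2)) c.tK
    rw [this.eq, mul_inv_cancel_right] at h5
    exact ne_one_of_orderOf_two z2 (by simpa using h5)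
  · refine key _ zV (Odd.of_dvd_nat (show Odd (2 * i + 1) from ⟨i, rfl⟩) (orderOf_dvd_of_pow_eq_one ?_))
    rw [← mul_assoc, ← pow_succ', ← pow_mul, show (2 * i + 1 + 1) * (2 * i + 1) =
      2 * (2 * i + 1) * (i + 1) by ring, ← hm, pow_mul, pow_orderOf_eq_one, one_pow]

omit b in
theorem orbS {g : G} (hg : g ∈ 𝐍(K ⊔ V)) (ha : g • α = α) : ∃ x ∈ SS K V, x • β = g • β := by
  obtain ⟨k, hk, v, hv, e⟩ := c.memE.1 (conj_mem_of_mem_normalizer hg (mem_sup_left c.tK))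
  have k1 : k ≠ 1 := by
    rintro rfl
    exact c.KnV c.tK c.t1 (by
      have := conj_mem_of_mem_normalizer' (c.normV ha) (e ▸ V.mul_mem V.one_mem hv)
      rwa [show g⁻¹ * (g * t * g⁻¹) * g = t by group] at this)
  obtain ⟨w, hw, w1⟩ := c.exV
  obtain ⟨y, hy, ey⟩ := hS w hw
  obtain ⟨x, hx, ex⟩ := c.trS_of hy (fun h => w1 (by
    rw [(c.Pk h c.tK).eq] at ey; simpa using ey)) hk k1 hv
  obtain ⟨r, hr, er⟩ := c.trP (x⁻¹ • g • β) ((c.FK k hk k1 _).1 (conj_fix.1 (by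
    rw [ex, e]; exact BS.smul_conj_fixed c.tb))) fun e => c.ne (smul_left_cancel g (by
      rw [inv_smul_eq_iff, c.fixC hx.1] at e; rw [e, ha]))
  exact ⟨x * r, mul_mem hx (c.PS hr), by rw [mul_smul, er, smul_inv_smul]⟩

theorem ncard_orbS : {ω : Ω | ∃ x ∈ SS K V, x • β = ω}.ncard = q ^ 3 := by
  have h := card_orb (SS K V) β (Φ := {ω : Ω | ∃ x ∈ SS K V, x • β = ω}) fun _ => Iff.rfl
  rw [show SS K V ⊓ stabilizer G β = K from le_antisymm (fun x hx => by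
    obtain ⟨i, hi⟩ := isPGroup_iff_forall_mem.1 c.p2S x hx.1
    exact c.p2ab b (c.fixC hx.1.1) hx.2 hi) (le_inf (c.KP.trans c.PS) fun k hk => c.KN hk β c.tb),
    c.cardS hS, c.cardP b.card, mul_assoc, ← pow_succ] at h
  exact (Nat.eq_of_mul_eq_mul_left Nat.card_pos h).symm

theorem ME {g : G} (ha : g • α = α) : g ∈ 𝐍(K ⊔ V) := by
  by_contra hg
  have gV := c.normV ha
  have key : ∀ k ∈ K, k ≠ 1 → ∃ σ ∈ 𝐂(V), σ * σ = 1 ∧ σ * g ∈ 𝐍(P) ∧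
      ∃ v ∈ V, σ * (g * k * g⁻¹ * v) * σ⁻¹ = t := fun k hk k1 => by
    obtain ⟨σ, hσ, σ2, v, hv, e⟩ := c.swp b hS (conj_mem_of_mem_normalizer (cent_norm V gV) (c.KV hk))
      (conj_mul_self (c.twoK k hk) g) fun h => hg (c.normE (c.nP ha hk k1 h))
    refine ⟨σ, hσ, σ2, c.nP (by rw [mul_smul, ha, c.fixC hσ]) hk k1 ?_, v, hv, e⟩
    have := mul_mem (c.KP c.tK) (c.VP (conj_mem_of_mem_normalizer (cent_sub V hσ) (inv_mem hv)))
    rwa [← e, show σ * (g * k * g⁻¹ * v) * σ⁻¹ * (σ * v⁻¹ * σ⁻¹) = σ * g * k * (σ * g)⁻¹ by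
      group] at this
  obtain ⟨k, hk, k1, kt⟩ := c.K4
  obtain ⟨σ, hσ, σ2, n1, v, hv, e1⟩ := key t c.tK c.t1
  obtain ⟨τ, hτ, τ2, n2, w, hw, e2⟩ := key k hk k1
  have yP : σ * τ ∈ 𝐍(P) := by
    have := mul_mem n1 (inv_mem n2)
    rwa [show σ * g * (τ * g)⁻¹ = σ * τ⁻¹ by group, inv_eq_of_mul_self τ2] at this
  have yC := mul_mem hσ hτ
  have yS : σ * τ ∉ SS K V := fun h => by
    have h1 := conj_mem_of_mem_normalizer' (cent_sub V hσ) (c.dl h.2 (mem_sup_left c.tK))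
    have e3 : τ * t * τ⁻¹ = g * k * g⁻¹ * w := by
      rw [← e2, show τ * (τ * (g * k * g⁻¹ * w) * τ⁻¹) * τ⁻¹ = τ * τ * (g * k * g⁻¹ * w) * (τ * τ)⁻¹ by
        group, τ2]; group
    rw [show σ * τ * t * (σ * τ)⁻¹ = σ * (τ * t * τ⁻¹) * σ⁻¹ by group, e3] at h1
    nth_rw 1 [← e1] at h1
    have h2 := conj_mem_of_mem_normalizer' gV (mul_mem (mul_mem hv h1) (inv_mem hw))
    refine c.KnV (mul_mem (inv_mem c.tK) hk) (fun e => kt (inv_mul_eq_one.1 e).symm) ?_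
    rwa [show g⁻¹ * (v * (σ⁻¹ * ((σ * (g * t * g⁻¹ * v) * σ⁻¹)⁻¹ * (σ * (g * k * g⁻¹ * w) * σ⁻¹)) * σ) *
      w⁻¹) * g = t⁻¹ * k by group] at h2
  obtain ⟨p, hp, hd, p2⟩ : ∃ p : ℕ, p.Prime ∧ p ∣ orderOf (σ * τ) ∧ p ≠ 2 := by
    by_contra! h
    exact yS (c.p2S' b hS yP (c.fixC yC) (by
      rw [← Nat.eq_prime_pow_of_unique_prime_dvd (orderOf_pos _).ne' fun hp hd => h _ hp hd,
        pow_orderOf_eq_one]))
  have := Fact.mk hp
  obtain ⟨y, hy, oy⟩ := Cauchy hp (H := zpowers (σ * τ)) (by rwa [Nat.card_zpowers])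
  have hi := conj_eq_inv_of_mem_zpowers (conj_mul_eq_inv_left σ2 τ2) hy
  have yC' := zpowers_le.2 yC hy
  obtain ⟨-, ⟨x, hx, rfl⟩, e⟩ := exists_fix (isPGroup_zpowers_of_orderOf_eq oy)
    (Φ := {ω : Ω | ∃ x ∈ SS K V, x • β = ω}) (by
      rintro z hz - ⟨x, hx, rfl⟩
      rw [← mul_smul]
      exact c.orbS hS (mul_mem (c.normE (zpowers_le.2 (zpowers_le.2 yP hy) hz)) (c.SE hx))
        (c.fixC (mul_mem (zpowers_le.2 yC' hz) hx.1))) (by
      obtain ⟨a, -, ha⟩ := c.exq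
      rw [c.ncard_orbS b hS, ha, ← pow_mul]
      exact fun h => p2 ((Nat.prime_dvd_prime_iff_eq hp Nat.prime_two).1 (hp.dvd_of_dvd_pow h)))
  have xC := (mem_SS.1 hx).1
  have h1 := c.C0N b (y := x⁻¹ * y * x) (mul_mem (mul_mem (inv_mem xC) yC') xC)
    (by rw [mul_smul, mul_smul, e y (mem_zpowers y), inv_smul_smul])
  have h2 : x⁻¹ * σ * x ∈ 𝐍(zpowers (x⁻¹ * y * x)) := by
    rw [← cj_eq_iff, cj_zpowers, show x⁻¹ * σ * x * (x⁻¹ * y * x) * (x⁻¹ * σ * x)⁻¹ =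
      x⁻¹ * (σ * y * σ⁻¹) * x by group, hi, ← zpowers_inv]
    congr 1; group
  have h3 := c.GP b (c.normY b (by
    rw [Ne, zpowers_eq_bot]
    intro e
    have : y = 1 := by simpa [mul_assoc] using congrArg (fun z => x * z * x⁻¹) e
    exact hp.one_lt.ne (by simpa [this] using oy)) (zpowers_le.2 h1) h2)
    (c.fixC (mul_mem (mul_mem (inv_mem xC) hσ) xC))
  have h4 : σ ∈ 𝐍(K ⊔ V) := by
    simpa [mul_assoc] using mul_mem (mul_mem (c.SE hx) h3) (inv_mem (c.SE hx))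
  exact hg ((mul_mem_cancel_left h4).1 (c.normE n1))

theorem b2_false : False := by
  have := c.fin
  have h := Set.ncard_le_ncard (show ({α}ᶜ : Set Ω) ⊆ {ω : Ω | ∃ x ∈ SS K V, x • β = ω} from
    fun ω hω => by
      obtain ⟨g, g1, rfl⟩ := c.tr2G b hω
      exact c.orbS hS (c.ME b hS g1) g1)
  rw [c.ncard_compl b, c.ncard_orbS b hS] at h
  obtain ⟨u, rfl⟩ := Nat.exists_eq_add_of_le' c.q4
  have := Nat.le_of_mul_le_mul_left (h.trans (mul_one _).ge) (by positivity)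
  simp at this

end MF

theorem m2_of (hB : MBaseStmt.{u}) : M2Stmt.{u} := by
  intro G Ω _ _ _ D t a b R V K P j q Q W h
  by_contra hK
  obtain ⟨s, s', c⟩ := hB G Ω D t a b R V K P j q Q W h hK
  obtain ⟨y, hy, hP⟩ := c.exS zrow
  have hS := fun w hw => c.trS_of hy hP c.tK c.t1 (v := w) hw
  rcases c.typ with h1 | h1
  · exact mb1 G Ω D t a b V K P j s s' q c hS h1.1 h1.2
  · exact c.b2_false h1 hS

end Cfsg.Agent.ZD
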