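import Cfsg.Agent.Lib.ZD.M2Base3
import Cfsg.Agent.Lib.ZD.A5
import Cfsg.Agent.Lib.ZD.M2

/-! Row M2, steps 1-4. -/

open Subgroup MulAction

namespace Cfsg.Agent.ZD

open FT Tr SF.GP

universe u

theorem mbase : MBaseStmt.{u} := by
  intro G Ω _ _ _ D t a b R V K P j q Q W c h4
  have FK : ∀ k ∈ K, k ≠ 1 → fixedBy Ω k = fixedBy Ω t := fun k hk k1 =>
    c.min.d1_eq c.ti (c.twoK k hk) k1 (c.mkk c.mtK hk) (c.mKN hk)
  refine MB.mf ⟨c, c.mK4 h4, fun k hk k1 ω => Set.ext_iff.1 (FK k hk k1) ω,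
    fun k hk k1 w hw w1 y hy hc hn => ?_⟩
  have tk : TI Ω k := TI.of_sq (c.twoK k hk) k1 (c.mfr (c.mKN hk))
  obtain ⟨R', hR, hP, ha⟩ := c.min.exists_sylow_fix (c.twoK k hk) c.sylP.isPGroup
    (sub_cent1.2 (c.cenK hk)) (c.mKN hk a a.2) fun x hx => c.Ra x (c.mPR hx)
  obtain ⟨V', Q', W', i, q', l⟩ := c.min.ls tk (a := ⟨a, c.mKN hk a a.2⟩) (b := ⟨b, c.mKN hk b b.2⟩)
    (fun e => c.mne (Subtype.mk.inj e)) hR ha
  obtain rfl : V' = V := by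
    ext v
    rw [l.memV]
    refine ⟨?_, fun hv => ?_⟩
    · rintro (rfl | h)
      · exact one_mem _
      · exact c.ls.mem_of_two hR.isPGroup (FK k hk k1 ▸ l.RS) (c.mVP.trans hP) h.1 h.2
    · by_cases v1 : v = 1
      exacts [.inl v1, .inr ⟨c.mVD hv v1, hP (c.mVP hv)⟩]
  have h1 := l.c1 hw w1 (mem_cent1.2 hc) hy hn
  have hG := cent1_le_Stab (Ω := Ω) k (mem_cent1.2 hc)
  rw [NN, ← FK k hk k1, ← pT_eq_one (mul_mem hG hG), pT_mul hG hG]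
  exact (l.good.two _ (l.good.VQ h1)).2 h1

/-- Row M2. -/
theorem m2 : M2Stmt.{u} := m2_of mbase

end Cfsg.Agent.ZD
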