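import Cfsg.Agent.Lib.ZD.A3

/-! Every `s ∈ 𝒯` centralizes a commuting pair of `D`; full subgroups `V`; FIN. -/

open Subgroup MulAction
open scoped commutatorElement

set_option linter.unusedSectionVars false

namespace Cfsg.Agent.ZD

open FT Tr SF.GP

universe u

variable {G : Type u} {Ω : Type u} [Group G] [MulAction G Ω]

theorem sq_mul_of_comm {a b : G} (h : Commute a b) (ha : a * a = 1) (hb : b * b = 1) :
    a * b * (a * b) = 1 := by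
  rw [mul_assoc, ← mul_assoc b, ← h.eq, mul_assoc, hb, mul_one, ha]

theorem normal_four [Finite G] {S V : Subgroup G} (hS : IsPGroup 2 S) (hV : V ⊴ S) {z y : G}
    (z2 : z * z = 1) (hc : z ∈ 𝐂(S)) (hy : y ∈ V) (h1 : y ≠ 1) (h2 : y ≠ z) :
    ∃ u ∈ V, u ≠ 1 ∧ u ≠ z ∧ ∀ g ∈ S, g * u * g⁻¹ = u ∨ g * u * g⁻¹ = z * u := by
  obtain ⟨u, hu, h3, h4⟩ := exists_central_mod' (N := zpowers z) hS.isNilpotent hV
    (fun g hg => centralizer_le_normalizer _ (mem_cent.2 fun a ha => by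
      obtain ⟨n, rfl⟩ := ha
      exact (Commute.zpow_left (mem_cent.1 hc g hg).symm n).eq))
    fun hle => by rcases (mem_zpowers_sq z2).1 (hle hy) with e | e <;> contradiction
  refine ⟨u, hu, fun e => h3 (e ▸ one_mem _), fun e => h3 (e ▸ mem_zpowers z), fun g hg => ?_⟩
  exact ((mem_zpowers_sq z2).1 (h4 g hg)).imp (fun e => mul_inv_eq_one.1 e) mul_inv_eq_iff_eq_mul.1

theorem cent_index [Finite G] {S : Subgroup G} {u u' : G}
    (h : ∀ g ∈ S, g * u * g⁻¹ = u ∨ g * u * g⁻¹ = u') :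
    𝐂[u] ⊓ S = S ∨ (𝐂[u] ⊓ S).relIndex S = 2 := by
  have h1 : 𝐂[u].relIndex S ≤ 2 := by
    rw [← ncard_class]
    refine (Set.ncard_le_ncard (t := {u, u'}) ?_).trans ?_
    · rintro _ ⟨g, hg, rfl⟩; exact h g hg
    · exact (Set.ncard_insert_le _ _).trans (by simp)
  have h2 : 𝐂[u].relIndex S ≠ 0 := index_ne_zero_of_finite
  rw [inf_relIndex_right]
  by_cases e : 𝐂[u].relIndex S = 1
  · exact Or.inl (inf_eq_right.2 (relIndex_eq_one.1 e))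
  · omega

theorem mul_mem_of_relIndex_two {M S : Subgroup G} (h : M.relIndex S = 2) {a b : G} (ha : a ∈ S)
    (hb : b ∈ S) : a * b ∈ M ↔ (a ∈ M ↔ b ∈ M) :=
  mul_mem_iff_of_index_two (H := M.subgroupOf S) h (a := ⟨a, ha⟩) (b := ⟨b, hb⟩)

theorem two_dich [Finite G] {S : Subgroup G} (hS : IsPGroup 2 S) {z : G} (hz : z ∈ S)
    (z2 : z * z = 1) (z1 : z ≠ 1) (hc : z ∈ 𝐂(S)) :
    (∃ u ∈ S, u * u = 1 ∧ u ≠ 1 ∧ u ≠ z ∧ ∀ g ∈ S, g * u * g⁻¹ = u ∨ g * u * g⁻¹ = z * u) ∨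
    ∃ M ≤ S, (M = S ∨ M.relIndex S = 2) ∧ ∀ y ∈ M, y * y = 1 → y = 1 ∨ y = z := by
  refine or_iff_not_imp_left.2 fun hn => ?_
  have hzc : ∀ g ∈ S, Commute g z := fun g hg => mem_cent.1 hc g hg
  obtain ⟨A, hA, hzA⟩ := exists_SCN (p := 2) (B := zpowers z) hS ⟨zpowers_le.2 hz, fun g hg =>
    centralizer_le_normalizer _ (mem_cent.2 fun a ha => by
      obtain ⟨n, rfl⟩ := ha
      exact ((hzc g hg).symm.zpow_left n).eq)⟩ inferInstance
  have hzA : z ∈ A := hzA (mem_zpowers z)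
  have hab := SCN_abelian hA
  have hcm : ∀ a ∈ A, ∀ b ∈ A, Commute a b := fun a ha b hb =>
    congrArg Subtype.val (hab.is_comm.comm (⟨a, ha⟩ : A) ⟨b, hb⟩)
  have hu : ∀ y ∈ A, y * y = 1 → y = 1 ∨ y = z := fun y hy y2 => by
    by_contra! hh
    obtain ⟨u, hu, h⟩ := normal_four hS (V := subgroupOfMulClosed {x | x ∈ A ∧ x * x = 1}
      ⟨A.one_mem, one_mul _⟩ fun a ha b hb => ⟨A.mul_mem ha.1 hb.1,
        sq_mul_of_comm (hcm a ha.1 b hb.1) ha.2 hb.2⟩) ⟨fun x hx => hA.le hx.1,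
      fun g hg => mem_normalizer_of_forall fun x hx =>
        ⟨conj_mem_of_mem_normalizer (hA.nz hg) hx.1, by
          rw [conj_mul, hx.2, mul_one, mul_inv_cancel]⟩⟩ z2 hc (y := y) ⟨hy, y2⟩ hh.1 hh.2
    exact hn ⟨u, hA.le hu.1, hu.2, h⟩
  have hcyc : IsCyclic A := by
    refine Fit.isCyclic_of_isMulCommutative_of_unique (p := 2) (hS.to_le hA.le) ?_
    have key : ∀ H : Subgroup A, Nat.card H = 2 → zpowers (⟨z, hzA⟩ : A) = H := fun H hH => by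
      have : Nontrivial H := Finite.one_lt_card_iff_nontrivial.1 (by omega)
      obtain ⟨x, hx⟩ := exists_ne (1 : H)
      have h2 : x ^ 2 = 1 := hH ▸ pow_card_eq_one'
      rcases hu x.1.1 x.1.2 (by rw [← pow_two]; exact congrArg (fun y : H => y.1.1) h2) with e | e
      · exact absurd (Subtype.ext (Subtype.ext e)) hx
      · refine eq_of_le_of_card_ge (zpowers_le.2 ?_) ?_
        · rw [show (⟨z, hzA⟩ : A) = x from Subtype.ext e.symm]; exact x.2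
        · rw [hH, Nat.card_zpowers, orderOf_eq_prime (p := 2) (Subtype.ext (by simpa [pow_two]))
            (fun e => z1 (congrArg Subtype.val e))]
    exact fun H K h1 h2 => (key H h1).symm.trans (key K h2)
  have key : ∀ y ∈ S, y * y = 1 → (∀ c ∈ A, c * c = z → Commute y c) → y = 1 ∨ y = z :=
    fun y hy y2 hP => by
    by_contra! hh
    refine hn ⟨y, hy, y2, hh.1, hh.2, fun g hg => ?_⟩
    have yi : y⁻¹ = y := inv_eq_of_mul_eq_one_right y2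
    have h1 : ∀ n : ℕ, ∀ a ∈ A, y * a * y = a⁻¹ → a ^ 2 ^ n = 1 → a * a = 1 := fun n => by
      induction n with
      | zero => intro a _ _ h; rw [show a = 1 by simpa using h, one_mul]
      | succ n ih =>
        intro a ha h1 h2
        rcases hu _ (A.mul_mem ha ha) (ih _ (A.mul_mem ha ha) (by
          rw [mul_inv_rev, ← h1]; simp only [mul_assoc]; rw [← mul_assoc y y, y2, one_mul])
          (by rw [← pow_two, ← pow_mul, ← pow_succ', h2])) with e | e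
        · exact e
        · rw [(hP a ha e).eq, mul_assoc, y2, mul_one] at h1
          exact mul_eq_one_iff_eq_inv.2 h1
    have ha : g * y * g⁻¹ * y ∈ A := by
      refine hA.mem_of (S.mul_mem (S.mul_mem (S.mul_mem hg hy) (S.inv_mem hg)) hy)
        (mem_cent.2 fun a ha => ?_)
      obtain ⟨k, hk⟩ := PF11aP.exists_pow_conj hcyc (hA.nz hy)
      have h2 := hk _ (conj_mem_of_mem_normalizer' (hA.nz hg) ha)
      have h3 := hk _ ha
      have h4 : (g⁻¹ * a * g) ^ k = g⁻¹ * a ^ k * g := by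
        simpa using conj_pow (a := g⁻¹) (b := a) (i := k)
      rw [h4, ← h3, yi] at h2
      calc a * (g * y * g⁻¹ * y) = g * y * (y * (g⁻¹ * a * g) * y) * g⁻¹ * y := by
            simp only [mul_assoc]; rw [← mul_assoc y y, y2]; simp
        _ = g * y * g⁻¹ * y * a * (y * y) := by rw [h2]; simp [mul_assoc]
        _ = _ := by rw [y2, mul_one]
    obtain ⟨n, hn⟩ := isPGroup_iff_forall_mem.1 hS _ (hA.le ha)
    have := hu _ ha (h1 n _ ha (by simp [mul_assoc, yi, y2]) hn)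
    exact this.imp (fun e => by rw [eq_inv_of_mul_eq_one_left e, yi])
      fun e => by rw [← e, mul_assoc _ y y, y2, mul_one]
  by_cases hb : ∃ b ∈ A, b * b = z
  · obtain ⟨b, hb, b2⟩ := hb
    have h1 : ∀ c ∈ A, c * c = z → c = b ∨ c = z * b := fun c hc c2 =>
      (hu (c * b⁻¹) (A.mul_mem hc (A.inv_mem hb)) (by
        rw [mul_assoc, ← mul_assoc b⁻¹, ← (hcm c hc _ (A.inv_mem hb)).eq, mul_assoc, ← mul_assoc c,
          ← mul_inv_rev, c2, b2, mul_inv_cancel])).imp mul_inv_eq_one.1 mul_inv_eq_iff_eq_mul.1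
    refine ⟨𝐂[b] ⊓ S, inf_le_right, cent_index (u' := z * b) fun g hg => h1 _
      (conj_mem_of_mem_normalizer (hA.nz hg) hb) (by
        rw [conj_mul, b2, (hzc g hg).eq, mul_inv_cancel_right]), fun y hy y2 =>
      key y hy.2 y2 fun c hc c2 => ?_⟩
    have h2 : Commute y b := mem_cent1.1 hy.1
    rcases h1 c hc c2 with rfl | rfl
    exacts [h2, (hzc y hy.2).mul_right h2]
  · exact ⟨S, le_rfl, Or.inl rfl, fun y hy y2 => key y hy y2 fun c hc c2 => (hb ⟨c, hc, c2⟩).elim⟩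

namespace Min
variable {D : Set G} (h : Min Ω D) [Finite G]
include h

theorem exists_conj_mem {S M : Subgroup G} (hS : SylowIn 2 S ⊤) (hM : M = S ∨ M.relIndex S = 2)
    {s : G} (hs : s * s = 1) : ∃ g : G, g * s * g⁻¹ ∈ M := by
  rcases hM with rfl | hM
  · obtain ⟨g, -, e⟩ := hS.exists_conj_mem (y := s) (k := 1) trivial (by rw [pow_one, pow_two, hs])
    exact ⟨g, e⟩
  · obtain ⟨g, e, -⟩ := thompson_transfer h.index_ne_two hS hM (u := s) (by rw [pow_two, hs])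
    exact ⟨g, e⟩

theorem cp_conj {s g : G} (hp : CP (D ∩ 𝐂[g * s * g⁻¹])) : CP (D ∩ 𝐂[s]) := by
  obtain ⟨d, hd, e, he, ne, hc⟩ := hp
  have key : ∀ x ∈ D ∩ 𝐂[g * s * g⁻¹], g⁻¹ * x * g⁻¹⁻¹ ∈ D ∩ 𝐂[s] := fun x hx =>
    ⟨h.conj hx.1 _, by
      have := hx.2; rw [centralizer_singleton_conj, SetLike.mem_coe, mem_cj] at this; simpa⟩
  exact ⟨_, key d hd, _, key e he, fun e1 => ne (by simpa using e1),
    hc.map (MulAut.conj g⁻¹).toMonoidHom⟩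

theorem exists_center {S : Subgroup G} (hS : SylowIn 2 S ⊤) : ∃ z ∈ D, z ∈ S ∧ z ∈ 𝐂(S) := by
  obtain ⟨z, hz, hzc⟩ := h.exists_cent hS.isPGroup
  exact ⟨z, hz, zpowers_le.1 (hS.le_of_le_normalizer' (isPGroup_zpowers_sq (h.zd.sq hz)) le_top
    (zpowers_le.2 (centralizer_le_normalizer _ hzc))), hzc⟩

/-- (B) -/
theorem q4 {s : G} (hs : TI Ω s) : CP (D ∩ 𝐂[s]) := by
  obtain ⟨S, hS⟩ := exists_sylowIn (p := 2) (⊤ : Subgroup G)
  obtain ⟨z, hz, hzS, hzc⟩ := h.exists_center hS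
  have z2 := h.zd.sq hz
  have hc : ∀ g ∈ S, Commute g z := fun g hg => mem_cent.1 hzc g hg
  have pure : ∀ u ∈ S, u ∈ D → u ≠ z → (∀ g ∈ S, g * u * g⁻¹ = u ∨ g * u * g⁻¹ = z * u) →
      CP (D ∩ 𝐂[s]) := fun u hu hD ne hn => by
    obtain ⟨g, hg⟩ := h.exists_conj_mem hS (cent_index hn) hs.sq
    exact h.cp_conj ⟨u, ⟨hD, mem_cent1.2 (mem_cent1.1 hg.1).symm⟩, z,
      ⟨hz, mem_cent1.2 (hc _ hg.2).symm⟩, ne, hc u hu⟩
  rcases two_dich hS.isPGroup hzS z2 (h.zd.ne_one hz) hzc with ⟨u, hu, u2, u1, uz, hn⟩ |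
    ⟨M, -, hM, hM'⟩
  swap
  · obtain ⟨g, hg⟩ := h.exists_conj_mem hS hM hs.sq
    rcases hM' _ hg (hs.conj g).sq with e | e
    · exact absurd e (hs.conj g).ne_one
    · exact absurd (e ▸ hz) (h.not_mem (hs.conj g))
  by_cases huD : u ∈ D
  · exact pure u hu huD uz hn
  have hut := h.ti_of_not_mem u2 u1 huD
  by_cases hR : ∃ e ∈ D, e ∈ 𝐂[u] ⊓ S ∧ e ≠ z
  · obtain ⟨e, he, heR, ne⟩ := hR
    obtain ⟨V, hV⟩ := h.exists_V (R := 𝐂[u] ⊓ S) fun _ h1 _ h2 => h.comm_of_cp hut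
      ⟨e, ⟨he, heR.1⟩, z, ⟨hz, mem_cent1.2 (hc u hu).symm⟩, ne, hc e heR.2⟩
      (hS.isPGroup.to_le inf_le_right) (inf_le_left.trans (cent1_le_Stab u)) h1 h2
    obtain ⟨u', h1, h2, h3, h4⟩ := normal_four hS.isPGroup (V := V) ⟨fun v hv => by
      rcases (hV v).1 hv with rfl | hv
      exacts [S.one_mem, hv.2.2], fun g hg => mem_normalizer_of_forall fun v hv => by
        rcases (hV v).1 hv with rfl | hv
        · simp
        refine (hV _).2 (Or.inr ⟨h.conj hv.1 g, mem_cent1.2 ?_,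
          S.mul_mem (S.mul_mem hg hv.2.2) (S.inv_mem hg)⟩)
        have h5 : Commute v (g⁻¹ * u * g⁻¹⁻¹) := by
          have h6 : Commute v u := mem_cent1.1 hv.2.1
          rcases hn _ (S.inv_mem hg) with e | e <;> rw [e]
          exacts [h6, (hc v hv.2.2).mul_right h6]
        simpa [mul_assoc] using (h5.map (MulAut.conj g).toMonoidHom).eq⟩ z2 hzc
      ((hV e).2 (Or.inr ⟨he, heR⟩)) (h.zd.ne_one he) ne
    rcases (hV u').1 h1 with e | e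
    · exact absurd e h2
    · exact pure u' e.2.2 e.1 h3 h4
  push Not at hR
  have hnR : ∀ e ∈ D, e ∈ S → e ≠ z → e ∉ 𝐂[u] ⊓ S ∧ e * u * e⁻¹ = z * u := fun e he heS ne =>
    ⟨fun hh => ne (hR e he hh), (hn e heS).resolve_left fun e1 =>
      ne (hR e he ⟨mem_cent1.2 (mul_inv_eq_iff_eq_mul.1 e1), heS⟩)⟩
  obtain ⟨e, he, heS, ne⟩ : ∃ e ∈ D, e ∈ S ∧ e ≠ z := by
    obtain ⟨d, hd, e, he, ne, -⟩ := h.cp_sylow hS (by simpa using h.cp)
    by_cases e1 : d = z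
    · exact ⟨e, he.1, he.2, fun e2 => ne (e1.trans e2.symm)⟩
    · exact ⟨d, hd.1, hd.2, e1⟩
  have hi : (𝐂[u] ⊓ S).relIndex S = 2 :=
    (cent_index hn).resolve_left fun e1 => (hnR e he heS ne).1 (e1.symm ▸ heS)
  set N := subgroupOfMulClosed {g | g ∈ S ∧ (g * e * g⁻¹ = e ∨ g * e * g⁻¹ = z * e)}
    ⟨S.one_mem, by simp⟩ fun a ha b hb => ⟨S.mul_mem ha.1 hb.1, by
      have h1 : a * b * e * (a * b)⁻¹ = a * (b * e * b⁻¹) * a⁻¹ := by group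
      have h2 : a * (z * e) * a⁻¹ = z * (a * e * a⁻¹) := by rw [← mul_assoc, (hc a ha.1).eq]; group
      rcases hb.2 with e1 | e1 <;> rw [h1, e1]
      · exact ha.2
      · rw [h2]; rcases ha.2 with e2 | e2 <;> rw [e2]
        · exact Or.inr rfl
        · exact Or.inl (h.zd.sq' hz e)⟩
  have hN : ∀ g, g ∈ N ↔ g ∈ S ∧ (g * e * g⁻¹ = e ∨ g * e * g⁻¹ = z * e) := fun _ => Iff.rfl
  by_cases hNS : S ≤ N
  · exact pure e heS he ne fun g hg => (hNS hg).2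
  exfalso
  obtain ⟨x, hx, hxn, hxN⟩ := exists_mem_normalizer_not_mem hS.isPGroup
    (lt_of_le_not_ge (fun g (hg : g ∈ N) => hg.1) hNS)
  have h1 := (hN _).1 (conj_mem_of_mem_normalizer hxn ((hN e).2 ⟨heS, Or.inl (by simp)⟩))
  have h2 := h.conj he x
  have h3 : x * e * x⁻¹ ≠ z := fun e1 => ne (by
    rw [mul_inv_eq_iff_eq_mul, ← (hc x hx).eq] at e1; exact mul_left_cancel e1)
  have h4 : x * e * x⁻¹ ≠ e := fun e1 => hxN ((hN x).2 ⟨hx, Or.inl e1⟩)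
  have h5 : x * e * x⁻¹ ≠ z * e := fun e1 => hxN ((hN x).2 ⟨hx, Or.inr e1⟩)
  generalize x * e * x⁻¹ = e' at *
  rcases h1.2 with e1 | e1
  · refine h5 ?_
    rw [← hR _ (h.mul_mem h2 he h4 (mul_inv_eq_iff_eq_mul.1 e1)) ((mul_mem_of_relIndex_two hi h1.1
      heS).2 (iff_of_false (hnR _ h2 h1.1 h3).1 (hnR _ he heS ne).1)), h.zd.sq'' he]
  have k1 := (hnR _ h2 h1.1 h3).2
  have k2 := (hnR _ he heS ne).2
  rw [h.zd.inv_eq h2] at k1 e1
  rw [h.zd.inv_eq he] at k2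
  have c2 : e' * u * (e' * u) = z := by rw [← mul_assoc, k1, mul_assoc, u2, mul_one]
  have ce : e' * u * e = e * (e' * u) := by
    have k3 : u * e = z * e * u := by
      rw [← (hc e heS).eq, mul_assoc, ← k2, mul_assoc e u, h.zd.sq' he]
    have k4 : e' * e = z * e * e' := by rw [← e1, h.zd.sq'' h2]
    rw [mul_assoc, k3, ← mul_assoc, ← mul_assoc, (hc e' h1.1).eq, mul_assoc z, k4, ← mul_assoc,
      h.zd.sq' hz, mul_assoc]
  obtain ⟨g, hg⟩ := h.isConj he hz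
  obtain ⟨n, hn⟩ := isPGroup_iff_forall_mem.1 hS.isPGroup _ (S.mul_mem h1.1 hu)
  generalize e' * u = c at *
  obtain ⟨y, hy, hyc⟩ := (hS.mono (K := 𝐂[z]) (fun g hg => mem_cent1.2 (hc g hg)) le_top).exists_conj_mem
    (y := g * c * g⁻¹) (k := n) (mem_cent1.2 (by rw [← hg, _root_.conj_mul, _root_.conj_mul, ce]))
    (by rw [conj_pow, hn]; simp)
  have k5 := (mul_mem_of_relIndex_two hi hyc hyc).2 Iff.rfl
  rw [_root_.conj_mul, _root_.conj_mul, c2] at k5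
  have k6 := hR _ (h.conj (h.conj hz g) y) k5
  rw [mul_inv_eq_iff_eq_mul, ← mem_cent1.1 hy, mul_right_inj] at k6
  exact ne (by simpa using hg.trans k6.symm)

theorem loc_t {t : G} (ht : TI Ω t) (a b : fixedBy Ω t) (ne : a ≠ b) :
    ∃ Q W j q, GoodX (DT Ω D t) a b Q W j q := h.loc_of_cp ht (h.q4 ht) a b ne

theorem conj_td {t d : G} (ht : TI Ω t) (hd : d ∈ D) (hc : Commute d t) :
    ∃ g : G, g * t * g⁻¹ = t * d := h.conj_mul ht (h.q4 ht) hd hc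

theorem comm_two {t : G} (ht : TI Ω t) {R : Subgroup G} (hR : IsPGroup 2 R)
    (hle : R ≤ Stab G (fixedBy Ω t)) {d e : G} (hd : d ∈ D) (he : e ∈ D) (hd' : d ∈ R)
    (he' : e ∈ R) : Commute d e := h.comm_of_cp ht (h.q4 ht) hR hle hd he hd' he'

theorem exists_fix_cent {t : G} (ht : t * t = 1) {R : Subgroup G} (hR : IsPGroup 2 R)
    (hle : R ≤ Stab G (fixedBy Ω t)) : ∃ a : fixedBy Ω t, ∀ x ∈ R, x • (a : Ω) = a := by
  obtain ⟨α, ha, hf⟩ := Solv.exists_fixed_of_pgroup hR (fixedBy Ω t)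
    (fun g hg => Stab_inv _ g (hle hg))
    (by rw [Nat.card_coe_set_eq]; exact (h.odd_fixedBy ht).not_two_dvd_nat)
  exact ⟨⟨α, ha⟩, hf⟩

theorem exists_sylow_fix {t : G} (ht : t * t = 1) {T : Subgroup G} (hT : IsPGroup 2 T)
    (hle : T ≤ 𝐂[t]) {a : Ω} (ha : t • a = a) (hf : ∀ x ∈ T, x • a = a) :
    ∃ R, SylowIn 2 R 𝐂[t] ∧ T ≤ R ∧ ∀ x ∈ R, x • a = a := by
  obtain ⟨R, hR, h1⟩ := exists_sylowIn_ge (H := 𝐂[t] ⊓ stabilizer G a) hT (le_inf hle hf)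
  obtain ⟨R', hR'⟩ := exists_sylowIn (p := 2) 𝐂[t]
  obtain ⟨a', ha'⟩ := h.exists_fix_cent ht hR'.isPGroup (hR'.le.trans (cent1_le_Stab t))
  obtain ⟨g, hg, e⟩ := (h.zh_cent1 ht).tr a'.2 ha
  have hg' := (h.zh_cent1 ht).closure_le hg
  refine ⟨R, hR'.of_card_le hR.isPGroup (hR.le.trans inf_le_left) ?_, h1, fun x hx => (hR.le hx).2⟩
  rw [← card_cj g]
  refine hR.card_le (isPGroup_cj g hR'.isPGroup) (le_inf (cj_le_of_mem hR'.le hg')
    (cj_le_iff.2 fun x hx => ?_))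
  rw [mem_stabilizer_iff, ← e]; exact BS.smul_conj_fixed (ha' x hx)

end Min

theorem exists_ne_pt {t : G} (ht : TI Ω t) (a : fixedBy Ω t) : ∃ b, a ≠ b := by
  obtain ⟨b, c, ne⟩ := ht.exists_ne
  by_cases e : a = b
  · exact ⟨c, e ▸ ne⟩
  · exact ⟨b, e⟩

/-- The local structure at `t ∈ 𝒯`. -/
structure LS (D : Set G) (t : G) (a b : fixedBy Ω t) (R V : Subgroup G) (Q W : Subgroup (XT Ω t))
    (i : XT Ω t) (q : ℕ) : Prop where
  min : Min Ω D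
  ti : TI Ω t
  good : GoodX (DT Ω D t) a b Q W i q
  sylR : SylowIn 2 R 𝐂[t]
  Ra : ∀ x ∈ R, x • (a : Ω) = a
  memV : ∀ v, v ∈ V ↔ v = 1 ∨ (v ∈ D ∧ v ∈ R)

theorem CS.ls {D : Set G} {t : G} {a b : fixedBy Ω t} {R V K P : Subgroup G} {j : G} {q : ℕ}
    {Q W : Subgroup (XT Ω t)} (h : CS D t a b R V K P j q Q W) : LS D t a b R V Q W (pT Ω t j) q :=
  ⟨h.min, h.ti, h.good, h.sylR, h.Ra, h.memV⟩

theorem Min.ls_of_good [Finite G] {D : Set G} (h : Min Ω D) {t : G} (ht : TI Ω t)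
    {a b : fixedBy Ω t} {R : Subgroup G} {Q W : Subgroup (XT Ω t)} {i : XT Ω t} {q : ℕ}
    (hg : GoodX (DT Ω D t) a b Q W i q) (hR : SylowIn 2 R 𝐂[t]) (ha : ∀ x ∈ R, x • (a : Ω) = a) :
    ∃ V, LS D t a b R V Q W i q := by
  obtain ⟨V, hV⟩ := h.exists_V (R := R) fun _ h1 _ h2 =>
    h.comm_two ht hR.isPGroup (hR.le.trans (cent1_le_Stab t)) h1 h2
  exact ⟨V, h, ht, hg, hR, ha, hV⟩

theorem Min.ls [Finite G] {D : Set G} (h : Min Ω D) {t : G} (ht : TI Ω t)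
    {a b : fixedBy Ω t} (ne : a ≠ b) {R : Subgroup G} (hR : SylowIn 2 R 𝐂[t])
    (ha : ∀ x ∈ R, x • (a : Ω) = a) : ∃ V Q W i q, LS D t a b R V Q W i q := by
  obtain ⟨Q, W, i, q, hg⟩ := h.loc_t ht a b ne
  obtain ⟨V, hV⟩ := h.ls_of_good ht hg hR ha
  exact ⟨V, Q, W, i, q, hV⟩

theorem Min.exists_ls [Finite G] {D : Set G} (h : Min Ω D) {t : G} (ht : TI Ω t)
    {R : Subgroup G} (hR : SylowIn 2 R 𝐂[t]) : ∃ a b V Q W i q, LS D t a b R V Q W i q (Ω := Ω) := by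
  obtain ⟨a, ha⟩ := h.exists_fix_cent ht.sq hR.isPGroup (hR.le.trans (cent1_le_Stab t))
  obtain ⟨b, ne⟩ := exists_ne_pt ht a
  exact ⟨a, b, h.ls ht ne hR ha⟩

namespace LS
variable {D : Set G} {t : G} {a b : fixedBy Ω t} {R V : Subgroup G} {Q W : Subgroup (XT Ω t)}
  {i : XT Ω t} {q : ℕ} (h : LS D t a b R V Q W i q) [Finite G]
include h

theorem ne : (a : Ω) ≠ b := fun e => h.good.ne (Subtype.ext e)

theorem RS : R ≤ Stab G (fixedBy Ω t) := h.sylR.le.trans (cent1_le_Stab t)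

theorem tR : t ∈ R := zpowers_le.1 (h.sylR.le_of_le_normalizer' (isPGroup_zpowers_sq h.ti.sq)
  (zpowers_le.2 (mem_cent1.2 rfl)) (zpowers_le.2 (centralizer_le_normalizer _
    (mem_cent.2 fun x hx => mem_cent1.1 (h.sylR.le hx)))))

theorem VR : V ≤ R := fun v hv => by
  rcases (h.memV v).1 hv with rfl | hv
  exacts [R.one_mem, hv.2]

theorem VS : V ≤ Stab G (fixedBy Ω t) := h.VR.trans h.RS

theorem memD {v : G} (hv : v ∈ V) (h1 : v ≠ 1) : v ∈ D := (((h.memV v).1 hv).resolve_left h1).1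

theorem sqV {v : G} (hv : v ∈ V) : v * v = 1 := by
  rcases (h.memV v).1 hv with rfl | hv
  exacts [one_mul _, h.min.zd.sq hv.1]

theorem invV {v : G} (hv : v ∈ V) : v⁻¹ = v := inv_eq_of_mul_eq_one_right (h.sqV hv)

theorem commV {v w : G} (hv : v ∈ V) (hw : w ∈ V) : Commute v w := by
  have := h.invV (V.mul_mem hv hw)
  rw [mul_inv_rev, h.invV hv, h.invV hw] at this
  exact this.symm

theorem VC : V ≤ 𝐂(V) := fun _ hv => mem_cent.2 fun _ hw => h.commV hw hv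

theorem commt {v : G} (hv : v ∈ V) : Commute v t := mem_cent1.1 (h.sylR.le (h.VR hv))

theorem tV : t ∈ 𝐂(V) := mem_cent.2 fun _ hv => h.commt hv

theorem p2V : IsPGroup 2 V := h.sylR.isPGroup.to_le h.VR

theorem ti_mul {v : G} (hv : v ∈ V) : TI Ω (t * v) := by
  rcases (h.memV v).1 hv with rfl | hv'
  · rw [mul_one]; exact h.ti
  · exact h.min.ti_mul h.ti hv'.1 (h.commt hv)

theorem eq_one_of_fr {v : G} (hv : v ∈ V) (hf : FR (Set.univ : Set Ω) v) : v = 1 := by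
  by_contra h1; exact h.min.zd.uniq v (h.memD hv h1) hf

theorem eq_one_of_Ker {v : G} (hv : v ∈ V) (hK : v ∈ Ker G (fixedBy Ω t)) : v = 1 :=
  h.eq_one_of_fr hv (fr_of_Ker a.2 b.2 h.ne hK)

theorem pi_inj {v w : G} (hv : v ∈ V) (hw : w ∈ V) (e : pT Ω t v = pT Ω t w) : v = w :=
  inv_mul_eq_one.1 (h.eq_one_of_Ker (V.mul_mem (V.inv_mem hv) hw)
    ((pr_eq_iff' (Stab_inv _) (h.VS hv) (h.VS hw)).1 e))

theorem RV : R ≤ 𝐍(V) := fun g hg => mem_normalizer_of_forall fun v hv => by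
  rcases (h.memV v).1 hv with rfl | hv
  · simp
  · exact (h.memV _).2 (Or.inr ⟨h.min.conj hv.1 g, R.mul_mem (R.mul_mem hg hv.2) (R.inv_mem hg)⟩)

theorem pi_memW {d : G} (hd : d ∈ D) (hs : d ∈ Stab G (fixedBy Ω t)) (ha : d • (a : Ω) = a) :
    pT Ω t d ∈ W :=
  (h.good.memV _).2 (Or.inr ⟨⟨d, ⟨hd, hs⟩, rfl⟩, (pr_smul_eq (Stab_inv _) hs).2 ha⟩)

theorem pi_mem {v : G} (hv : v ∈ V) : pT Ω t v ∈ W := by
  rcases (h.memV v).1 hv with rfl | hv'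
  · rw [show pT Ω t (1 : G) = 1 from pr_one (Stab_inv _)]; exact W.one_mem
  · exact h.pi_memW hv'.1 (h.VS hv) (h.Ra v hv'.2)

theorem lift {T : Subgroup G} (hT : IsPGroup 2 T) (hK : T ≤ Ker G (fixedBy Ω t)) {ξ : XT Ω t}
    (hξ : ξ ∈ closure (DT Ω D t)) :
    ∃ g ∈ 𝐂(T), g ∈ Stab G (fixedBy Ω t) ∧ pT Ω t g = ξ :=
  h.min.zd.lift_closure' a.2 b.2 h.ne hT hK hξ

theorem lift1 {ξ : XT Ω t} (hξ : ξ ∈ closure (DT Ω D t)) : ∃ g ∈ 𝐂[t], pT Ω t g = ξ := by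
  obtain ⟨g, h1, -, h2⟩ := h.lift (isPGroup_zpowers_sq h.ti.sq) (zpowers_le.2 (self_mem_Ker t)) hξ
  exact ⟨g, mem_cent1.2 (mem_cent.1 h1 t (mem_zpowers t)).symm, h2⟩

/-- `Q` lies in the image of any Sylow subgroup fixing `a` of a subgroup covering `Q`. -/
theorem Q_le {L S : Subgroup G} (hL : L ≤ Stab G (fixedBy Ω t)) (hS : SylowIn 2 S L)
    (ha : ∀ x ∈ S, x • (a : Ω) = a) (hQ : ∀ ξ ∈ Q, ∃ x ∈ L, pT Ω t x = ξ) {ξ : XT Ω t}
    (hξ : ξ ∈ Q) : ∃ x ∈ S, pT Ω t x = ξ := by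
  have := finite_XS (Stab_inv (G := G) (fixedBy Ω t))
  have h2 : IsPGroup 2 Q := isPGroup_iff_forall_mem.2 fun x hx => ⟨2, by
    have := (h.good.two _ (h.good.VQ (h.good.sq x hx))).2 (h.good.sq x hx)
    rw [show 2 ^ 2 = 2 + 2 from rfl, pow_add, pow_two, this]⟩
  obtain ⟨x, h3, -, h4⟩ := (mem_prS _).1 ((sylowIn_prS (Stab_inv _) hS hL).le_of_le_normalizer h2
    (fun ξ hξ => by
      obtain ⟨x, h1, rfl⟩ := hQ ξ hξ
      exact pr_mem_prS _ h1 (hL h1))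
    (fun ξ hξ => mem_normalizer_of_forall (h.good.Qn _ (by
      obtain ⟨x, h1, h2, rfl⟩ := (mem_prS _).1 hξ
      exact (pr_smul_eq (Stab_inv _) h2).2 (ha x h1)))) hξ)
  exact ⟨x, h3, h4⟩

theorem QR {ξ : XT Ω t} (hξ : ξ ∈ Q) : ∃ x ∈ R, pT Ω t x = ξ :=
  h.Q_le (cent1_le_Stab t) h.sylR h.Ra (fun _ hξ => h.lift1 (h.good.QD hξ)) hξ

theorem piV (ξ : XT Ω t) : ξ ∈ W ↔ ∃ v ∈ V, pT Ω t v = ξ := by
  refine ⟨fun hξ => ?_, by rintro ⟨v, hv, rfl⟩; exact h.pi_mem hv⟩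
  obtain ⟨r, hr, e⟩ := h.QR (h.good.VQ hξ)
  rcases (h.good.memV ξ).1 hξ with rfl | ⟨⟨d, hd, rfl⟩, -⟩
  · exact ⟨1, V.one_mem, pr_one (Stab_inv _)⟩
  obtain ⟨d', h1, h2, h3, h4⟩ := h.min.zd.lift a.2 b.2 h.ne (isPGroup_zpowers_sq h.ti.sq)
    (zpowers_le.2 (self_mem_Ker t)) hd.1 hd.2
  have e1 : pT Ω t d' = pT Ω t d := (pr_eq_iff (Stab_inv _) h3 hd.2).2 h4
  obtain ⟨g, -, h5, h6⟩ := exists_conj_mem_pr (Stab_inv _) (cent1_le_Stab t) h.sylR (x := d')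
    (mem_cent1.2 (mem_cent.1 h2 t (mem_zpowers t)).symm) (k := 1)
    (by rw [pow_one, pow_two, h.min.zd.sq h1]) hr (e.trans e1.symm)
  exact ⟨_, (h.memV _).2 (Or.inr ⟨h.min.conj h1 g, h5⟩), h6.trans e1⟩

theorem prS_V : prS (Stab_inv _) V = W := Subgroup.ext fun ξ => by
  rw [mem_prS, h.piV]
  exact ⟨fun ⟨v, h1, _, h2⟩ => ⟨v, h1, h2⟩, fun ⟨v, h1, h2⟩ => ⟨v, h1, h.VS h1, h2⟩⟩

theorem cardV : #|V| = q := by
  have := card_prS (Stab_inv _) h.VS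
  rw [h.prS_V, h.good.cardV, show V ⊓ Ker G (fixedBy Ω t) = ⊥ from
    eq_bot_iff.2 fun v hv => h.eq_one_of_Ker hv.1 hv.2, card_bot, one_mul] at this
  exact this.symm

theorem q4 : 4 ≤ q := by
  obtain ⟨n, h1, rfl⟩ := h.good.exq
  exact Nat.pow_le_pow_right (n := 2) two_pos h1

theorem exists_ne_one : ∃ v ∈ V, v ≠ 1 := by
  by_contra! hh
  have := h.cardV
  rw [show V = ⊥ from eq_bot_iff.2 hh, card_bot] at this
  have := h.q4; omega

theorem exists_ne_two (w : G) : ∃ v ∈ V, v ≠ 1 ∧ v ≠ w := by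
  by_contra! hh
  have h1 : (V : Set G).ncard ≤ ({1, w} : Set G).ncard :=
    Set.ncard_le_ncard fun v hv => (em _).imp id (hh v hv)
  have h2 : ({1, w} : Set G).ncard ≤ 2 := (Set.ncard_insert_le _ _).trans (by simp)
  have h3 : (V : Set G).ncard = q := h.cardV
  have := h.q4; omega

theorem fix_a {g : G} (hg : g ∈ 𝐍(V)) : g • (a : Ω) = a := by
  obtain ⟨v, hv, h1⟩ := h.exists_ne_one
  have h2 := conj_mem_of_mem_normalizer hg hv
  exact h.min.zd.smul_of_conj (h.memD h2 (by simpa using h1)) trivial trivial (h.Ra v (h.VR hv))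
    (h.Ra _ (h.VR h2)) trivial rfl

theorem mem_CV {g : G} (hg : g ∈ 𝐍(V)) (hs : g ∈ Stab G (fixedBy Ω t)) (hc : pT Ω t g ∈ 𝐂(W)) :
    g ∈ 𝐂(V) := mem_cent.2 fun v hv => by
  have := h.pi_inj (conj_mem_of_mem_normalizer hg hv) hv (by
    rw [show pT Ω t (g * v * g⁻¹) = _ from pr_conj (Stab_inv _) hs (h.VS hv),
      ← mem_cent.1 hc _ (h.pi_mem hv), mul_inv_cancel_right])
  exact (mul_inv_eq_iff_eq_mul.1 this).symm

theorem pi_CW {g : G} (hs : g ∈ Stab G (fixedBy Ω t)) (hc : g ∈ 𝐂(V)) : pT Ω t g ∈ 𝐂(W) :=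
  mem_cent.2 fun ξ hξ => by
    obtain ⟨v, hv, rfl⟩ := (h.piV ξ).1 hξ
    exact pr_commute (Stab_inv _) (h.VS hv) hs (mem_cent.1 hc v hv)

theorem Ker_CV {g : G} (hg : g ∈ 𝐍(V)) (hK : g ∈ Ker G (fixedBy Ω t)) : g ∈ 𝐂(V) :=
  h.mem_CV hg (Ker_le_Stab _ hK) (by
    rw [show pT Ω t g = 1 from (pr_eq_one (Stab_inv _) (Ker_le_Stab _ hK)).2 hK]; exact one_mem _)

theorem KV : R ⊓ Ker G (fixedBy Ω t) ≤ 𝐂(V) := fun _ hg => h.Ker_CV (h.RV hg.1) hg.2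

/-- A member of `D` stabilizing `F_t` and centralizing `V` lies in `V`. -/
theorem mem_of_cent {d : G} (hd : d ∈ D) (hs : d ∈ Stab G (fixedBy Ω t)) (hc : d ∈ 𝐂(V)) :
    d ∈ V := by
  obtain ⟨v, hv, e⟩ := (h.piV _).1 (h.pi_memW hd hs (h.fix_a (centralizer_le_normalizer _ hc)))
  have h1 := (pr_eq_iff' (Stab_inv _) (h.VS hv) hs).1 e
  rw [h.invV hv] at h1
  rcases (h.memV v).1 hv with rfl | hv'
  · exact absurd (fr_of_Ker a.2 b.2 h.ne (by simpa using h1)) (h.min.zd.uniq d hd)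
  by_contra hn
  exact h.min.zd.prod v hv'.1 d hd (fun e => hn (e ▸ hv)) (mem_cent.1 hc v hv)
    (fr_of_Ker a.2 b.2 h.ne h1)

theorem mem_of_two {T : Subgroup G} (hT : IsPGroup 2 T) (hs : T ≤ Stab G (fixedBy Ω t))
    (hV : V ≤ T) {d : G} (hd : d ∈ D) (hdT : d ∈ T) : d ∈ V :=
  h.mem_of_cent hd (hs hdT) (mem_cent.2 fun v hv => by
    rcases (h.memV v).1 hv with rfl | hv'
    · simp
    · exact h.min.comm_two h.ti hT hs hv'.1 hd (hV hv) hdT)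

/-- Frattini lift into `N(V)`. -/
theorem lift_N {L : Subgroup G} (hV : V ≤ L) (hL : L ≤ Stab G (fixedBy Ω t)) {g : G} (hg : g ∈ L)
    (ha : g • (a : Ω) = a) : ∃ n ∈ L, n ∈ Ker G (fixedBy Ω t) ∧ n * g ∈ 𝐍(V) := by
  obtain ⟨S, hS, h1⟩ := exists_sylowIn_ge (H := L ⊓ prC (Stab_inv _) W) h.p2V
    fun v hv => ⟨hV hv, (mem_prC _).2 ⟨h.VS hv, h.pi_mem hv⟩⟩
  obtain ⟨y, hy, h2⟩ := hS.exists_cj_le (isPGroup_cj g h.p2V) (cj_le_iff.2 fun v hv => by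
    have h3 := L.mul_mem (L.mul_mem hg (hV hv)) (L.inv_mem hg)
    refine ⟨h3, (mem_prC _).2 ⟨hL h3, ?_⟩⟩
    rcases (h.memV v).1 hv with rfl | hv'
    · simpa using h.pi_mem V.one_mem
    · refine h.pi_memW (h.min.conj hv'.1 g) (hL h3) ?_
      have := BS.smul_conj_fixed (g := g) (h.Ra v hv'.2)
      rwa [ha] at this)
  obtain ⟨v, hv, e⟩ := (h.piV _).1 ((mem_prC _).1 hy.2).2
  refine ⟨v⁻¹ * y, L.mul_mem (L.inv_mem (hV hv)) hy.1,
    (pr_eq_iff' (Stab_inv _) (h.VS hv) (hL hy.1)).1 e, ?_⟩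
  rw [mul_assoc]
  refine Subgroup.mul_mem _ (le_normalizer (V.inv_mem hv)) (mem_normalizer_of_forall fun w hw => ?_)
  rcases (h.memV w).1 hw with rfl | hw'
  · simp
  · rw [← cj_mul] at h2
    exact h.mem_of_two hS.isPGroup (hS.le.trans (inf_le_left.trans hL)) h1 (h.min.conj hw'.1 _)
      (cj_le_iff.1 h2 w hw)

theorem lift_NV {T : Subgroup G} (hT : IsPGroup 2 T) (hK : T ≤ Ker G (fixedBy Ω t))
    (hc : T ≤ 𝐂(V)) {ξ : XT Ω t} (hξ : ξ ∈ closure (DT Ω D t)) (ha : ξ • a = a) :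
    ∃ g ∈ 𝐂(T), g ∈ Stab G (fixedBy Ω t) ∧ g ∈ 𝐍(V) ∧ pT Ω t g = ξ := by
  obtain ⟨g, h1, h2, rfl⟩ := h.lift hT hK hξ
  obtain ⟨n, h3, h4, h5⟩ := h.lift_N (L := 𝐂(T) ⊓ Stab G (fixedBy Ω t))
    (le_inf (le_centralizer_iff.1 hc) h.VS) inf_le_right ⟨h1, h2⟩
    ((pr_smul_eq (Stab_inv _) h2).1 ha)
  refine ⟨n * g, Subgroup.mul_mem _ h3.1 h1, Subgroup.mul_mem _ h3.2 h2, h5, ?_⟩
  rw [show pT Ω t (n * g) = _ from pr_mul (Stab_inv _) h3.2 h2,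
    (pr_eq_one (Stab_inv _) h3.2).2 h4, one_mul]

theorem lift_NV1 {ξ : XT Ω t} (hξ : ξ ∈ closure (DT Ω D t)) (ha : ξ • a = a) :
    ∃ g ∈ 𝐂[t], g ∈ 𝐍(V) ∧ pT Ω t g = ξ := by
  obtain ⟨g, h1, -, h2⟩ := h.lift_NV (isPGroup_zpowers_sq h.ti.sq) (zpowers_le.2 (self_mem_Ker t))
    (zpowers_le.2 h.tV) hξ ha
  exact ⟨g, mem_cent1.2 (mem_cent.1 h1 t (mem_zpowers t)).symm, h2⟩

theorem i_mem : i ∈ closure (DT Ω D t) := by
  obtain ⟨s, hs, s', hs', -, -, rfl⟩ := h.good.jD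
  exact Subgroup.mul_mem _ (subset_closure hs) (subset_closure hs')

/-- A lift of the Singer cycle. -/
theorem sing {j : G} (hs : j ∈ Stab G (fixedBy Ω t)) (hj : j ∈ 𝐍(V)) (e : pT Ω t j = i) :
    Sing V j q := by
  refine ⟨fun v hv => h.sqV hv, h.cardV, h.q4, hj, fun v hv h1 w hw h2 => ?_⟩
  have p1 : pT Ω t (1 : G) = 1 := pr_one (Stab_inv _)
  obtain ⟨n, hn⟩ := h.good.trj _ (h.pi_mem hv) (fun e => h1 (h.pi_inj hv V.one_mem (e.trans p1.symm)))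
    _ (h.pi_mem hw) (fun e => h2 (h.pi_inj hw V.one_mem (e.trans p1.symm)))
  refine ⟨n, h.pi_inj (conj_mem_of_mem_normalizer (pow_mem hj n) hv) hw ?_⟩
  rw [← hn, ← e, show pT Ω t (j ^ n * v * (j ^ n)⁻¹) = _ from
    pr_conj (Stab_inv _) (pow_mem hs n) (h.VS hv), pr_pow (Stab_inv _) hs]

theorem conj_N {g : G} (hc : g * t * g⁻¹ ∈ 𝐂(V)) : ∃ n ∈ 𝐍(V), n * t * n⁻¹ = g * t * g⁻¹ := by
  obtain ⟨c, hc', h1⟩ := h.sylR.exists_cj_le (isPGroup_cj g⁻¹ h.p2V) (cj_le_iff.2 fun v hv =>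
    mem_cent1.2 (by
      have := (show Commute v _ from mem_cent.1 hc v hv).map (MulAut.conj g⁻¹).toMonoidHom
      simpa [mul_assoc] using this.eq))
  rw [← cj_mul] at h1
  have h2 : c * g⁻¹ ∈ 𝐍(V) := mem_normalizer_of_forall fun v hv => by
    rcases (h.memV v).1 hv with rfl | hv'
    · simp
    · exact (h.memV _).2 (Or.inr ⟨h.min.conj hv'.1 _, cj_le_iff.1 h1 v hv⟩)
  refine ⟨_, inv_mem h2, ?_⟩
  have : c⁻¹ * t * c = t := by rw [mul_assoc, ← mem_cent1.1 hc', inv_mul_cancel_left]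
  conv_rhs => rw [← this]
  group

/-- (FIN) -/
theorem fin {S L : Subgroup G} (hS : IsPGroup 2 S) (hV : V ≤ S) (ht : t ∈ S)
    (hmax : ∀ T : Subgroup G, IsPGroup 2 T → S ≤ T → T ≤ 𝐍(S) ⊓ 𝐍(V) → T = S)
    (hL : ∀ x ∈ S, ∀ y ∈ S, x * y * x⁻¹ * y⁻¹ ∈ L) (htL : t ∉ L)
    (hc : ∀ g : G, g * t * g⁻¹ ∈ S → g * t * g⁻¹ ∈ 𝐂(V) ∧ g * t * g⁻¹ * t ∈ L) : False := by
  have hN : 𝐍(S) ≤ 𝐍(V) := fun x hx => mem_normalizer_of_forall fun v hv => by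
    rcases (h.memV v).1 hv with rfl | hv'
    · simp
    refine h.mem_of_two (T := S ⊓ 𝐂[t]) (hS.to_le inf_le_left) (inf_le_right.trans (cent1_le_Stab t))
      (le_inf hV (h.VR.trans h.sylR.le)) (h.min.conj hv'.1 x)
      ⟨conj_mem_of_mem_normalizer hx (hV hv), mem_cent1.2 ?_⟩
    have h1 := (hc x⁻¹ (conj_mem_of_mem_normalizer (inv_mem hx) ht)).1
    have := (show Commute v _ from mem_cent.1 h1 v hv).map (MulAut.conj x).toMonoidHom
    simpa [mul_assoc] using this.eq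
  have hsyl : SylowIn 2 S ⊤ := sylowIn_of_maximal hS le_top fun T hT h1 _ => by
    by_contra hne
    have h2 := lt_normalizer_inf hT (lt_of_le_of_ne h1 (Ne.symm hne))
    exact h2.ne' (hmax _ (hT.to_le inf_le_right) h2.le (le_inf inf_le_left (inf_le_left.trans hN)))
  refine not_mem_commutator_of_control (p := 2) hL (by simpa using hsyl.not_dvd) ht htL (k := 1)
    (by rw [pow_one, pow_two, h.ti.sq]) (fun m g hg => ?_) (h.min.perfect ▸ mem_top t)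
  rcases (mem_zpowers_sq h.ti.sq).1 (pow_mem (mem_zpowers t) m) with e | e <;> rw [e] at hg ⊢
  · simp
  · rw [h.ti.inv_eq]; exact (hc g hg).2

end LS

end Cfsg.Agent.ZD
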