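import Cfsg.Agent.Lib.ZD.S2d
import Cfsg.Agent.Lib.ZD.A4

/-! Row S2. -/

namespace Cfsg.Agent.ZD

universe u

theorem s2 : S2Stmt.{u} := s2_of fun _ _ _ _ _ _ h _ hx => h.q4 hx

end Cfsg.Agent.ZD
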