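import Cfsg.Agent.Lib.ZD.Main1
import Cfsg.Agent.Lib.ZD.Crow
import Cfsg.Agent.Lib.ZD.M2Base
import Cfsg.Agent.Lib.ZD.E5
import Cfsg.Agent.Lib.ZD.S2

/-! Aschbacher's criterion for strong embedding. -/

namespace Cfsg.Agent.ZD

universe u

theorem mt : MTStmt.{u} := mt_of crow m2 erow s2

theorem s1175 : S1175Stmt.{u} := s1175_of mt

theorem s1174 : SF.S1174Stmt.{u} := s1174_of s1175

end Cfsg.Agent.ZD
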