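import Cfsg.Agent.Lib.ZD.Defs
import Cfsg.Agent.Lib.FT.Main

/-! The Brauer–Wielandt formula and the divisibility lemma (row BW of `docs/ZD_PLAN.md`). -/

open Subgroup MulAction
open scoped commutatorElement

namespace Cfsg.Agent.ZD

open FT Tr

universe u

namespace BW

section
variable {G : Type*} [Group G]

theorem cop {N : Subgroup G} {x : G} (hN : Odd #|N|) (hx : x * x = 1) :
    (#|N|).Coprime (orderOf x) := by
  have h : orderOf x ∣ 2 := orderOf_dvd_of_pow_eq_one (by rw [pow_two, hx])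
  exact ((Nat.coprime_two_right).2 hN).coprime_dvd_right h

theorem ord_dvd {N : Subgroup G} {x : G} (hx : x ∈ N) : orderOf x ∣ #|N| := by
  have := orderOf_dvd_natCard (⟨x, hx⟩ : N)
  rwa [Subgroup.orderOf_mk] at this

theorem eq_one {N : Subgroup G} (hN : Odd #|N|) {x : G} (hx : x ∈ N) (h : x * x = 1) :
    x = 1 :=
  orderOf_eq_one_iff.1 (Nat.Coprime.eq_one_of_dvd (cop hN h).symm (ord_dvd hx))

theorem mem_of_sq {N S : Subgroup G} (hN : Odd #|N|) {x : G} (hx : x ∈ N) (h : x * x ∈ S) :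
    x ∈ S := by
  obtain ⟨m, hm⟩ := hN
  have h1 : x ^ (2 * m + 1) = 1 := by
    rw [← hm]; exact orderOf_dvd_iff_pow_eq_one.1 (ord_dvd hx)
  have h2 : x = (x * x) ^ (m + 1) := by
    rw [← pow_two, ← pow_mul, show 2 * (m + 1) = 2 * m + 1 + 1 by ring, pow_succ, h1, one_mul]
  rw [h2]; exact S.pow_mem h _

theorem card_q [Finite G] {K N : Subgroup G} {x : G} (hK : K ≤ 𝐍(N)) (hxK : x ∈ 𝐍(K))
    (hx : x ∈ 𝐍(N)) (hN : Odd #|N|) (h2 : x * x = 1) :
    #|K ⊓ 𝐂[x]| = #|N ⊓ K ⊓ 𝐂[x]| * #|K /c N ⊓ 𝐂[cst N x]| := by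
  rw [← coprime_norm_quotient_cent1 hxK hx (cop hN h2),
    ← card_quotient_mul' (inf_le_left.trans hK), inf_assoc]

theorem norm_inf {K : Subgroup G} {a b : G} (hb : b ∈ 𝐍(K)) (hab : Commute a b) :
    b ∈ 𝐍(K ⊓ 𝐂[a]) :=
  zpowers_le.1 (normsI (zpowers_le.2 hb) (normsG (zpowers_le.2 (mem_cent1.2 hab.symm.eq))))

/-- The formula for a commutative group with two commuting involutory endomorphisms. -/
theorem comm_case {A : Type*} [CommGroup A] [Finite A] (hA : Odd (Nat.card A)) (α β : A →* A)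
    (hα : ∀ x, α (α x) = x) (hβ : ∀ x, β (β x) = x) (hc : ∀ x, α (β x) = β (α x))
    (X Y Z : Subgroup A) (hX : ∀ x, x ∈ X ↔ α x = x) (hY : ∀ x, x ∈ Y ↔ β x = x)
    (hZ : ∀ x, x ∈ Z ↔ α (β x) = x) :
    Nat.card A * #|X ⊓ Y| ^ 2 = #|X| * #|Y| * #|Z| := by
  have hT : Odd #|(⊤ : Subgroup A)| := by rwa [Subgroup.card_top]
  have n : ∀ H K : Subgroup A, H ≤ 𝐍(K) := fun H K => by
    rw [normalizer_eq_top]; exact le_top
  have h1 := card_join_norm (n Y X)
  have h2 := card_join_norm (n Z (X ⊔ Y))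
  have h3 : (X ⊔ Y) ⊓ Z = X ⊓ Y := by
    refine le_antisymm ?_ (le_inf (inf_le_left.trans le_sup_left) fun x hx => ?_)
    · rintro z ⟨hz, hz'⟩
      obtain ⟨x, hx, y, hy, rfl⟩ := (mem_join_norm (n Y X)).1 hz
      have ex := (hX x).1 hx
      have ey := (hY y).1 hy
      have ez := (hZ _).1 hz'
      rw [map_mul, map_mul, hc x, ex, ey] at ez
      have e1 : x⁻¹ * β x = y * (α y)⁻¹ := by
        rw [inv_mul_eq_iff_eq_mul, ← mul_assoc, ← ez, mul_inv_cancel_right]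
      have e2 : β (x⁻¹ * β x) = x⁻¹ * β x := by
        rw [e1, map_mul, map_inv, ← hc, ey]
      have e3 : x⁻¹ * β x = 1 := by
        refine eq_one hT (mem_top _) ?_
        nth_rewrite 1 [← e2]
        rw [map_mul, map_inv, hβ, mul_assoc, mul_inv_cancel_left, inv_mul_cancel]
      have e4 : α y = y := by
        rw [e1, mul_inv_eq_one] at e3; exact e3.symm
      have e5 : β x = x := (inv_mul_eq_one.1 e3).symm
      exact ⟨(hX _).2 (by rw [map_mul, ex, e4]), (hY _).2 (by rw [map_mul, ey, e5])⟩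
    · exact (hZ _).2 (by rw [(hY x).1 hx.2, (hX x).1 hx.1])
  have h4 : X ⊔ Y ⊔ Z = ⊤ := by
    refine eq_top_iff.2 fun x _ => mem_of_sq hT (mem_top x) ?_
    have a1 : x * α x ∈ X := (hX _).2 (by rw [map_mul, hα, mul_comm])
    have a2 : x * β x ∈ Y := (hY _).2 (by rw [map_mul, hβ, mul_comm])
    have a3 : x * α (β x) ∈ Z := (hZ _).2 (by
      rw [map_mul, map_mul, ← hc, hβ, hα, mul_comm])
    have a4 : x * α x * (β x * α (β x)) ∈ X := (hX _).2 (by
      rw [map_mul, map_mul, map_mul, hα, hα, mul_comm (α x), mul_comm (α (β x))])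
    have e : x * x = (x * α x) * (x * α x * (β x * α (β x)))⁻¹ * (x * β x) * (x * α (β x)) := by
      apply Additive.ofMul.injective
      simp only [ofMul_mul, ofMul_inv]
      abel
    rw [e]
    exact mul_mem (mem_sup_left (mul_mem (mem_sup_left (mul_mem a1 (inv_mem a4)))
      (mem_sup_right a2))) (mem_sup_right a3)
  rw [h3, h4, Subgroup.card_top] at h2
  rw [← h1, pow_two, ← mul_assoc, h2]; ring

theorem card_sub {N : Subgroup G} (H : Subgroup G) : #|H.subgroupOf N| = #|N ⊓ H| := by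
  rw [← inf_subgroupOf_left, Nat.card_congr (subgroupOfEquivOfLe inf_le_left).toEquiv]

/-- Conjugation by a normalizing element. -/
def cjN {N : Subgroup G} {a : G} (ha : a ∈ 𝐍(N)) : N →* N where
  toFun x := ⟨a * x * a⁻¹, (memJ_norm ha).2 x.2⟩
  map_one' := Subtype.ext (by simp)
  map_mul' x y := Subtype.ext (by simp only [coe_mul]; group)

theorem cjN_coe {N : Subgroup G} {a : G} (ha : a ∈ 𝐍(N)) (x : N) :
    (cjN ha x : G) = a * x * a⁻¹ := rfl

theorem inv_eq {a : G} (h : a * a = 1) : a⁻¹ = a := inv_eq_of_mul_eq_one_right h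

theorem bw_abelian [Finite G] {N : Subgroup G} {a b : G} (hN : Odd #|N|) (hab : IsMulCommutative N)
    (ha2 : a * a = 1) (hb2 : b * b = 1) (hc : Commute a b) (ha : a ∈ 𝐍(N)) (hb : b ∈ 𝐍(N)) :
    #|N| * #|N ⊓ 𝐂[a] ⊓ 𝐂[b]| ^ 2 = #|N ⊓ 𝐂[a]| * #|N ⊓ 𝐂[b]| * #|N ⊓ 𝐂[a * b]| := by
  letI : CommGroup N := { (inferInstance : Group N) with mul_comm := hab.is_comm.comm }
  have := comm_case hN (cjN ha) (cjN hb)
    (fun x => Subtype.ext (by
      simp only [cjN_coe]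
      rw [show a * (a * (x : G) * a⁻¹) * a⁻¹ = (a * a) * x * (a * a)⁻¹ by group, ha2]; simp))
    (fun x => Subtype.ext (by
      simp only [cjN_coe]
      rw [show b * (b * (x : G) * b⁻¹) * b⁻¹ = (b * b) * x * (b * b)⁻¹ by group, hb2]; simp))
    (fun x => Subtype.ext (by
      simp only [cjN_coe]
      rw [show a * (b * (x : G) * b⁻¹) * a⁻¹ = (a * b) * x * (a * b)⁻¹ by group, hc.eq]; group))
    ((𝐂[a]).subgroupOf N) ((𝐂[b]).subgroupOf N) ((𝐂[a * b]).subgroupOf N)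
    (fun x => by rw [mem_subgroupOf, cent1_conj', Subtype.ext_iff, cjN_coe])
    (fun x => by rw [mem_subgroupOf, cent1_conj', Subtype.ext_iff, cjN_coe])
    (fun x => by
      rw [mem_subgroupOf, cent1_conj', Subtype.ext_iff, cjN_coe, cjN_coe,
        show a * (b * (x : G) * b⁻¹) * a⁻¹ = (a * b) * x * (a * b)⁻¹ by group])
  rwa [show (𝐂[a]).subgroupOf N ⊓ (𝐂[b]).subgroupOf N = (𝐂[a] ⊓ 𝐂[b]).subgroupOf N from rfl,
    card_sub, card_sub, card_sub, card_sub, ← inf_assoc] at this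

theorem div_abelian [Finite G] {N M : Subgroup G} (C : Subgroup G) (hab : IsMulCommutative N)
    (hM : M ≤ N) : C.relIndex M ∣ C.relIndex N := by
  have h1 : M ≤ 𝐍(C ⊓ N) := hM.trans (sub_abelian_norm hab inf_le_right)
  have h2 : C.relIndex M = (C ⊓ N).relIndex M := by
    rw [← inf_relIndex_right C M, ← inf_relIndex_right (C ⊓ N) M, inf_assoc, inf_of_le_right hM]
  rw [h2, ← inf_relIndex_right C N, ← index_join_left h1]
  exact Dvd.intro _ (relIndex_mul_relIndex _ _ _ le_sup_left (sup_le inf_le_right hM))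

theorem card_mul_relIndex' [Finite G] (O C : Subgroup G) : #|O ⊓ C| * C.relIndex O = #|O| := by
  rw [← card_sub]; exact Subgroup.card_mul_index _

theorem relIndex_q [Finite G] {K N : Subgroup G} {x : G} (hK : K ≤ 𝐍(N)) (hxK : x ∈ 𝐍(K))
    (hx : x ∈ 𝐍(N)) (hN : Odd #|N|) (h2 : x * x = 1) :
    (𝐂[x]).relIndex K = (𝐂[x]).relIndex (N ⊓ K) * (𝐂[cst N x]).relIndex (K /c N) := by
  have h1 := card_mul_relIndex' K 𝐂[x]
  have h3 := card_mul_relIndex' (N ⊓ K) 𝐂[x]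
  have h4 := card_mul_relIndex' (K /c N) 𝐂[cst N x]
  have h5 := card_quotient_mul' hK
  rw [card_q hK hxK hx hN h2] at h1
  have hp : 0 < #|N ⊓ K ⊓ 𝐂[x]| * #|K /c N ⊓ 𝐂[cst N x]| := Nat.mul_pos Nat.card_pos Nat.card_pos
  apply Nat.eq_of_mul_eq_mul_left hp
  rw [h1, ← h5, ← h3, ← h4]; ring

theorem cst_sq {N : Subgroup G} {x : G} (hx : x ∈ 𝐍(N)) (h : x * x = 1) :
    cst N x * cst N x = 1 := by
  rw [← cst_mul hx hx, h]; exact coset_id (one_mem N)

end

theorem bw_aux (n : ℕ) : ∀ (G : Type u) [Group G] [Finite G] (O : Subgroup G) (a b : G),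
    #|O| = n → Odd #|O| → a * a = 1 → b * b = 1 → Commute a b → a ∈ 𝐍(O) → b ∈ 𝐍(O) →
    #|O| * #|O ⊓ 𝐂[a] ⊓ 𝐂[b]| ^ 2 = #|O ⊓ 𝐂[a]| * #|O ⊓ 𝐂[b]| * #|O ⊓ 𝐂[a * b]| := by
  induction n using Nat.strong_induction_on with
  | _ n ih =>
  intro G _ _ O a b hn ho ha2 hb2 hc ha hb
  rcases eq_or_ne O ⊥ with rfl | h1
  · simp
  obtain ⟨p, N, hp, hNO, hN, hN1, hab⟩ := solvable_norm_abelem (L := O ⊔ (zpowers a ⊔ zpowers b))
    (oddOrder O ho) (sup_le (normG O) (sup_le (zpowers_le.2 ha) (zpowers_le.2 hb))) h1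
  have hON : O ≤ 𝐍(N) := le_sup_left.trans hN
  have haN : a ∈ 𝐍(N) := hN (mem_sup_right (mem_sup_left (mem_zpowers a)))
  have hbN : b ∈ 𝐍(N) := hN (mem_sup_right (mem_sup_right (mem_zpowers b)))
  have hNo : Odd #|N| := ho.of_dvd_nat (card_dvd_of_le hNO)
  have hab2 : a * b * (a * b) = 1 := by
    rw [mul_assoc, ← mul_assoc b, ← hc.eq, mul_assoc, hb2, mul_one, ha2]
  have h2 := bw_abelian hNo hab.1 ha2 hb2 hc haN hbN
  have h3 := ih _ (hn ▸ ltn_quotient hN1 hNO) _ (O /c N) (cst N a) (cst N b) rfl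
    (quotient_odd N ho) (cst_sq haN ha2) (cst_sq hbN hb2)
    (show cst N a * cst N b = cst N b * cst N a by rw [← cst_mul haN hbN, ← cst_mul hbN haN, hc.eq])
    (cst_mem_norm ha) (cst_mem_norm hb)
  have e1 := card_q hON ha haN hNo ha2
  have e2 := card_q hON hb hbN hNo hb2
  have e3 := card_q hON (mul_mem ha hb) (mul_mem haN hbN) hNo hab2
  have e4 := card_q (inf_le_left.trans hON) (norm_inf hb hc) hbN hNo hb2
  rw [coprime_norm_quotient_cent1 ha haN (cop hNo ha2), ← inf_assoc] at e4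
  rw [cst_mul haN hbN] at e3
  rw [inf_of_le_left hNO] at e1 e2 e3 e4
  rw [e1, e2, e3, e4, ← card_quotient_mul ⟨hNO, hON⟩]
  calc _ = (#|N| * #|N ⊓ 𝐂[a] ⊓ 𝐂[b]| ^ 2) *
      (#|O /c N| * #|O /c N ⊓ 𝐂[cst N a] ⊓ 𝐂[cst N b]| ^ 2) := by ring
    _ = _ := by rw [h2, h3]; ring

theorem div_aux (n : ℕ) : ∀ (G : Type u) [Group G] [Finite G] (O O' : Subgroup G) (d : G),
    #|O| = n → Odd #|O| → O' ≤ O → d * d = 1 → d ∈ 𝐍(O) → d ∈ 𝐍(O') →
    (𝐂[d]).relIndex O' ∣ (𝐂[d]).relIndex O := by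
  induction n using Nat.strong_induction_on with
  | _ n ih =>
  intro G _ _ O O' d hn ho hle h2 hd hd'
  rcases eq_or_ne O ⊥ with rfl | h1
  · rw [le_bot_iff.1 hle]
  obtain ⟨p, N, hp, hNO, hN, hN1, hab⟩ := solvable_norm_abelem (L := O ⊔ zpowers d)
    (oddOrder O ho) (sup_le (normG O) (zpowers_le.2 hd)) h1
  have hON : O ≤ 𝐍(N) := le_sup_left.trans hN
  have hdN : d ∈ 𝐍(N) := hN (mem_sup_right (mem_zpowers d))
  have hNo : Odd #|N| := ho.of_dvd_nat (card_dvd_of_le hNO)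
  rw [relIndex_q hON hd hdN hNo h2, relIndex_q (hle.trans hON) hd' hdN hNo h2, inf_of_le_left hNO]
  exact Nat.mul_dvd_mul (div_abelian _ hab.1 inf_le_left)
    (ih _ (hn ▸ ltn_quotient hN1 hNO) _ _ _ _ rfl (quotient_odd N ho) (quotientS N hle)
      (cst_sq hdN h2) (cst_mem_norm hd) (cst_mem_norm hd'))

end BW

/-- Row BW: the Brauer–Wielandt formula. -/
theorem bw : BWStmt.{u} := fun G _ _ O a b => BW.bw_aux _ G O a b rfl

/-- Row BW, second part. -/
theorem div : DivStmt.{u} := fun G _ _ O O' d => BW.div_aux _ G O O' d rfl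

end Cfsg.Agent.ZD
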