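import Cfsg.Agent.Lib.ZD.A1
import Cfsg.Agent.Lib.ZD.BW

/-! Counting formulas for `ZH`, and the projection `pr`. -/

open Subgroup MulAction

set_option linter.unusedSectionVars false

namespace Cfsg.Agent.ZD

open FT Tr SF.GP

universe u

variable {G : Type u} {Ω : Type u} [Group G] [MulAction G Ω]

theorem dcount {A B : Type*} {S : Set A} {T : Set B} (hS : S.Finite) (hT : T.Finite)
    (r : A → B → Prop) {m n : ℕ} (hm : ∀ a ∈ S, {b | b ∈ T ∧ r a b}.ncard = m)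
    (hn : ∀ b ∈ T, {a | a ∈ S ∧ r a b}.ncard = n) : S.ncard * m = T.ncard * n := by
  classical
  rw [Set.ncard_eq_toFinset_card _ hS, Set.ncard_eq_toFinset_card _ hT]
  refine Finset.card_mul_eq_card_mul r (fun a ha => ?_) fun b hb => ?_
  · rw [← hm a (by simpa using ha), ← Set.ncard_coe_finset]
    congr 1; ext b; simp
  · rw [← hn b (by simpa using hb), ← Set.ncard_coe_finset]
    congr 1; ext a; simp

theorem ncard_class (x : G) (L : Subgroup G) :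
    {y | ∃ g ∈ L, g * x * g⁻¹ = y}.ncard = 𝐂[x].relIndex L := by
  let : MulAction G G := MulAction.compHom G (MulAut.conj : G →* MulAut G)
  have h := MulAction.index_stabilizer L x
  rw [show MulAction.stabilizer L x = 𝐂[x].subgroupOf L from Subgroup.ext fun g => by
    rw [mem_subgroupOf, mem_cent1, MulAction.mem_stabilizer_iff]
    exact mul_inv_eq_iff_eq_mul] at h
  rw [relIndex, h]
  congr 1
  ext y
  exact ⟨fun ⟨g, hg, e⟩ => ⟨⟨g, hg⟩, e⟩, fun ⟨g, e⟩ => ⟨g, g.2, e⟩⟩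

theorem ncard_fix_conj {F : Set Ω} {g : G} (hg : ∀ ω ∈ F, g • ω ∈ F) (hg' : ∀ ω ∈ F, g⁻¹ • ω ∈ F)
    (x : G) : (F ∩ fixedBy Ω (g * x * g⁻¹)).ncard = (F ∩ fixedBy Ω x).ncard := by
  symm
  refine Set.ncard_congr (fun ω _ => g • ω) (fun ω hω => ⟨hg ω hω.1, BS.smul_conj_fixed hω.2⟩)
    (fun _ _ _ _ e => smul_left_cancel g e) fun ω hω => ⟨g⁻¹ • ω, ⟨hg' ω hω.1, ?_⟩, by simp⟩
  have := BS.smul_conj_fixed (g := g⁻¹) hω.2
  simpa [mul_assoc] using this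

theorem fix_of_odd {g : G} {α β : Ω} (ho : Odd (orderOf g)) (hg : g ∈ Stab G ({α, β} : Set Ω)) :
    g • α = α ∧ g • β = β := by
  have key : ∀ {α β : Ω}, g ∈ Stab G ({α, β} : Set Ω) → g • α = α := fun {α β} hg => by
    rcases (hg α).2 (Or.inl rfl) with e | e
    · exact e
    · rcases (hg β).2 (Or.inr rfl) with e' | e'
      · exact mem_of_mul_self_mem_of_odd (H := stabilizer G α) ho
          (show (g * g) • α = α by rw [mul_smul, e, e'])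
      · rw [e, smul_left_cancel g (e.trans e'.symm)]
  exact ⟨key hg, key (by rwa [Set.pair_comm])⟩

theorem mem_Stab_pair {g : G} {α β : Ω}
    (hg : (g • α = α ∧ g • β = β) ∨ (g • α = β ∧ g • β = α)) : g ∈ Stab G ({α, β} : Set Ω) := by
  intro ω
  simp only [Set.mem_insert_iff, Set.mem_singleton_iff]
  rcases hg with ⟨e1, e2⟩ | ⟨e1, e2⟩
  · exact or_congr (by rw [← smul_left_cancel_iff g (x := ω), e1])
      (by rw [← smul_left_cancel_iff g (x := ω), e2])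
  · rw [or_comm]
    exact or_congr (by rw [← smul_left_cancel_iff g (x := ω), e1])
      (by rw [← smul_left_cancel_iff g (x := ω), e2])

namespace ZH

variable {H : Subgroup G} {F : Set Ω} {D : Set G} (h : ZH H F D) [Finite G]
include h

theorem finite_pts : F.Finite := by
  by_cases hF : F = ∅
  · simp [hF]
  · obtain ⟨α, ha⟩ := Set.nonempty_iff_ne_empty.2 hF
    refine (Set.finite_range fun g : G => g • α).subset fun β hb => ?_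
    obtain ⟨g, -, e⟩ := h.tr ha hb
    exact ⟨g, e⟩

theorem cent1' {s : G} (hs : s * s = 1) (hH : s ∈ H) {α β : Ω} (ha : α ∈ F)
    (hb : β ∈ F) (ne : α ≠ β) : ZH (H ⊓ 𝐂[s]) (F ∩ fixedBy Ω s) (D ∩ 𝐂[s]) := by
  have := h.cent1 hs hH ha hb ne
  convert this using 1
  ext d
  exact ⟨fun hd => ⟨hd.1, h.le d hd.1, hd.2⟩, fun hd => ⟨hd.1, hd.2.2⟩⟩

theorem ncard_DA_conj {g : G} (hg : g ∈ H) (x : G) (γ : Ω) :
    (DA (D ∩ 𝐂[g * x * g⁻¹]) (g • γ)).ncard = (DA (D ∩ 𝐂[x]) γ).ncard := by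
  symm
  refine Set.ncard_congr (fun d _ => g * d * g⁻¹) (fun d hd => ⟨⟨h.conj d hd.1.1 g hg,
    mem_cent1.2 (commute_conj_iff.2 (mem_cent1.1 hd.1.2))⟩, BS.smul_conj_fixed hd.2⟩)
    (fun _ _ _ _ e => by simpa using e) fun d hd => ⟨g⁻¹ * d * g⁻¹⁻¹,
      ⟨⟨h.conj d hd.1.1 _ (H.inv_mem hg), mem_cent1.2 ?_⟩, ?_⟩, by group⟩
  · have := (commute_conj_iff (g := g⁻¹)).2 (mem_cent1.1 hd.1.2)
    simpa [mul_assoc] using this.eq
  · simpa using BS.smul_conj_fixed (g := g⁻¹) hd.2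

theorem ncard_DS_eq {α β : Ω} (ha : α ∈ F) (hb : β ∈ F) (ne : α ≠ β) {d : G} (hd : d ∈ D)
    (e : d • α = β) {C : Subgroup G} (hC : d ∈ C) :
    (DS (D ∩ C) α β).ncard = 𝐂[d].relIndex (𝐎(H ⊓ Stab G ({α, β} : Set Ω)) ⊓ C) := by
  rw [← ncard_class]
  congr 1
  ext s
  constructor
  · rintro ⟨⟨hs, hs'⟩, e'⟩
    obtain ⟨k, hk, e2⟩ := exists_conj_of_odd (h.sq hs) (h.sq hd)
      (h.odd_of_fr hs hd (h.fr_swap hs hd ha hb ne e' e))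
    exact ⟨k, zpowers_le.2 (mem_inf.2 ⟨h.swap_mem_core hs hd ha hb ne e' e, C.mul_mem hs' hC⟩) hk,
      e2⟩
  · rintro ⟨g, ⟨hg, hg'⟩, rfl⟩
    have h1 := pcore_sub _ _ hg
    obtain ⟨e1, e2⟩ := fix_of_odd (odd_orderOf_of_odd_card (odd_core _) hg) h1.2
    exact ⟨⟨h.conj d hd g h1.1, C.mul_mem (C.mul_mem hg' hC) (C.inv_mem hg')⟩, by
      rw [mul_smul, mul_smul, BS.inv_smul_fixed e1, e, e2]⟩

theorem card_DS_mul {α β : Ω} (ha : α ∈ F) (hb : β ∈ F) (ne : α ≠ β) {d : G} (hd : d ∈ D)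
    (e : d • α = β) {C : Subgroup G} (hC : d ∈ C) :
    #|𝐎(H ⊓ Stab G ({α, β} : Set Ω)) ⊓ C ⊓ 𝐂[d]| * (DS (D ∩ C) α β).ncard =
      #|𝐎(H ⊓ Stab G ({α, β} : Set Ω)) ⊓ C| := by
  rw [h.ncard_DS_eq ha hb ne hd e hC, BW.card_mul_relIndex']

theorem ck {α β : Ω} (ha : α ∈ F) (hb : β ∈ F) (ne : α ≠ β) {d t : G} (hd : d ∈ D)
    (e : d • α = β) (ht : t * t = 1) (hH : t ∈ H) (h1 : t • α = α) (h2 : t • β = β)
    (hc : Commute d t) :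
    (DS D α β).ncard = (DS (D ∩ 𝐂[t]) α β).ncard * (DS (D ∩ 𝐂[t * d]) α β).ncard := by
  set O := 𝐎(H ⊓ Stab G ({α, β} : Set Ω)) with hO
  have e0 := h.card_DS_mul ha hb ne hd e (C := ⊤) trivial
  have e1 := h.card_DS_mul ha hb ne hd e (C := 𝐂[t]) (mem_cent1.2 hc)
  have e2 := h.card_DS_mul ha hb ne hd e (C := 𝐂[t * d])
    (mem_cent1.2 (hc.mul_right (Commute.refl d)))
  have e3 := bw G O t d (odd_core _) ht (h.sq hd) hc.symm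
    (pcore_norm _ _ ⟨hH, mem_Stab_pair (Or.inl ⟨h1, h2⟩)⟩)
    (pcore_norm _ _ ⟨h.le d hd, mem_Stab_pair (Or.inr ⟨e, h.swap hd e⟩)⟩)
  rw [← hO] at e0 e1 e2
  simp only [inf_top_eq, coe_top, Set.inter_univ] at e0
  have e4 : O ⊓ 𝐂[t * d] ⊓ 𝐂[d] = O ⊓ 𝐂[t] ⊓ 𝐂[d] := by
    ext x
    simp only [mem_inf, mem_cent1]
    constructor
    · rintro ⟨⟨a, b⟩, c⟩
      refine ⟨⟨a, ?_⟩, c⟩
      apply mul_right_cancel (b := d)
      rw [mul_assoc, b, mul_assoc, mul_assoc, c]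
    · rintro ⟨⟨a, b⟩, c⟩
      exact ⟨⟨a, by rw [← mul_assoc, b, mul_assoc, c, mul_assoc]⟩, c⟩
  rw [e4] at e2
  rw [← e0, ← e1, ← e2] at e3
  have p1 : 0 < #|O ⊓ 𝐂[t] ⊓ 𝐂[d]| := Nat.card_pos
  have p2 : 0 < #|O ⊓ 𝐂[d]| := Nat.card_pos
  refine Nat.eq_of_mul_eq_mul_left (Nat.mul_pos p2 (Nat.mul_pos p1 p1)) ?_
  rw [pow_two] at e3
  linarith

theorem bw4 {α β : Ω} (ha : α ∈ F) (hb : β ∈ F) (ne : α ≠ β) {a b : G} (a2 : a * a = 1)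
    (b2 : b * b = 1) (hab : Commute a b) (haH : a ∈ H) (hbH : b ∈ H) (a1 : a • α = α)
    (a1' : a • β = β) (b1 : b • α = α) (b1' : b • β = β) :
    (DA D β).ncard * (DA (D ∩ 𝐂[a] ∩ 𝐂[b]) β).ncard ^ 2 = (DA (D ∩ 𝐂[a]) β).ncard *
      (DA (D ∩ 𝐂[b]) β).ncard * (DA (D ∩ 𝐂[a * b]) β).ncard := by
  have ab2 : a * b * (a * b) = 1 := by
    rw [mul_assoc, ← mul_assoc b, ← hab.eq, mul_assoc, b2, mul_one, a2]
  have ha' := h.cent1' a2 haH ha hb ne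
  have hb' := h.cent1' b2 hbH ha hb ne
  have hc' := h.cent1' ab2 (H.mul_mem haH hbH) ha hb ne
  have h0 := ha'.cent1' b2 ⟨hbH, mem_cent1.2 hab.symm⟩ (α := α) (β := β) ⟨ha, a1⟩ ⟨hb, a1'⟩ ne
  rw [← h.ncard_DS ha hb ne, ← ha'.ncard_DS ⟨ha, a1⟩ ⟨hb, a1'⟩ ne,
    ← hb'.ncard_DS ⟨ha, b1⟩ ⟨hb, b1'⟩ ne,
    ← hc'.ncard_DS (α := α) ⟨ha, by rw [mem_fixedBy, mul_smul, b1, a1]⟩
      ⟨hb, by rw [mem_fixedBy, mul_smul, b1', a1']⟩ ne,
    ← h0.ncard_DS (α := α) ⟨⟨ha, a1⟩, b1⟩ ⟨⟨hb, a1'⟩, b1'⟩ ne]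
  obtain ⟨d, hd, e⟩ := h0.exists_DS (α := α) ⟨⟨ha, a1⟩, b1⟩ ⟨⟨hb, a1'⟩, b1'⟩ ne
  set O := 𝐎(H ⊓ Stab G ({α, β} : Set Ω)) with hO
  have da : Commute d a := mem_cent1.1 hd.1.2
  have db : Commute d b := mem_cent1.1 hd.2
  have e0 := h.card_DS_mul ha hb ne hd.1.1 e (C := ⊤) trivial
  have e1 := h.card_DS_mul ha hb ne hd.1.1 e (C := 𝐂[a]) hd.1.2
  have e2 := h.card_DS_mul ha hb ne hd.1.1 e (C := 𝐂[b]) hd.2
  have e3 := h.card_DS_mul ha hb ne hd.1.1 e (C := 𝐂[a * b]) (mem_cent1.2 (da.mul_right db))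
  have e4 := h.card_DS_mul ha hb ne hd.1.1 e (C := 𝐂[a] ⊓ 𝐂[b]) ⟨hd.1.2, hd.2⟩
  have na : a ∈ 𝐍(O) := pcore_norm _ _ ⟨haH, mem_Stab_pair (Or.inl ⟨a1, a1'⟩)⟩
  have nb : b ∈ 𝐍(O) := pcore_norm _ _ ⟨hbH, mem_Stab_pair (Or.inl ⟨b1, b1'⟩)⟩
  have e5 := bw G O a b (odd_core _) a2 b2 hab na nb
  have e6 := bw G (O ⊓ 𝐂[d]) a b ((odd_core _).of_dvd_nat (card_dvd_of_le inf_le_left)) a2 b2 hab
    (BW.norm_inf na da) (BW.norm_inf nb db)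
  rw [← hO] at e0 e1 e2 e3 e4
  simp only [inf_top_eq, coe_top, Set.inter_univ] at e0
  rw [coe_inf, ← Set.inter_assoc, ← inf_assoc] at e4
  rw [inf_right_comm O 𝐂[d] 𝐂[a], inf_right_comm O 𝐂[d] 𝐂[b], inf_right_comm O 𝐂[d] 𝐂[a * b],
    inf_right_comm (O ⊓ 𝐂[a]) 𝐂[d] 𝐂[b]] at e6
  rw [← e0, ← e1, ← e2, ← e3, ← e4] at e5
  have p1 : 0 < #|O ⊓ 𝐂[a] ⊓ 𝐂[b] ⊓ 𝐂[d]| := Nat.card_pos
  have p2 : 0 < #|O ⊓ 𝐂[d]| := Nat.card_pos
  refine Nat.eq_of_mul_eq_mul_left (Nat.mul_pos p2 (pow_pos p1 2)) ?_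
  conv_rhs => rw [e6]
  linarith

/-- `c · k_{sd} = k` -/
theorem cnt_c {s d : G} (hs : s * s = 1) (hH : s ∈ H) (hf : FR F s) (hd : d ∈ D)
    (hc : Commute d s) {δ : Ω} (hδ : δ ∈ F) (e : d • δ = δ) {ε : Ω} (hε : ε ∈ F)
    (ne : s • ε ≠ ε) :
    (DS (D ∩ 𝐂[s]) ε (s • ε)).ncard * (DA (D ∩ 𝐂[s * d]) δ).ncard = (DA D δ).ncard := by
  obtain ⟨d', hd', hc', e'⟩ := h.exists_comm hs hH hε ne
  obtain ⟨g, hg, g1, g2⟩ := h.conj_cent1 hs hH hf hd hd' hc hc'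
  have hε' := h.inv s hH ε hε
  have t2 : s * d' * (s * d') = 1 := by rw [mul_assoc, ← mul_assoc d', hc'.eq, h.sq'' hd', hs]
  have tH := H.mul_mem hH (h.le d' hd')
  have t1 : (s * d') • ε = ε := by rw [mul_smul, e', ← mul_smul, hs, one_smul]
  have t1' : (s * d') • s • ε = s • ε := by rw [mul_smul, h.swap hd' e']
  have := h.ck hε hε' ne.symm hd' e' t2 tH t1 t1' (hc'.mul_right (Commute.refl d'))
  have h' := h.cent1' t2 tH hε hε' ne.symm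
  have e1 : s * d' = g * (s * d) * g⁻¹ := by rw [← g2, ← mul_assoc, ← mul_assoc, ← g1.eq]; group
  rw [h.sq'' hd', h.ncard_DS hε hε' ne.symm, h'.ncard_DS ⟨hε, t1⟩ ⟨hε', t1'⟩ ne.symm,
    h'.ncard_DA (β := g • δ) ⟨hε', t1'⟩ ⟨h.inv g hg δ hδ, by
      rw [e1]; exact BS.smul_conj_fixed (by
        rw [mul_smul, e, h.fix_of_comm hd hδ e hH hc.symm])⟩, e1, h.ncard_DA_conj hg] at this
  rw [mul_comm, ← this, h.ncard_DA hε' hδ]

theorem ncard_cent {s : G} (hs : s * s = 1) (hH : s ∈ H) (hf : FR F s) {δ : Ω} (hδ : δ ∈ F)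
    (e : s • δ = δ) :
    (D ∩ 𝐂[s]).ncard = (F ∩ fixedBy Ω s).ncard * (DA (D ∩ 𝐂[s]) δ).ncard := by
  obtain ⟨α, ha, β, hb, ne, -, -⟩ := hf
  have h' := h.cent1' hs hH ha hb ne
  rw [dcount h'.finite_pts (Set.toFinite (D ∩ 𝐂[s])) (fun ω d => d • ω = ω) (n := 1)
    (fun ω hω => h'.ncard_DA hω ⟨hδ, e⟩) fun d hd => ?_, mul_one]
  obtain ⟨ω, hω, e'⟩ := h'.ex d hd
  rw [Set.ncard_eq_one]
  exact ⟨ω, Set.eq_singleton_iff_unique_mem.2 ⟨⟨hω, e'⟩, fun x hx => h'.eq_pt hd hx.1 hω hx.2 e'⟩⟩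

/-- CNT -/
theorem cnt {s d : G} (hs : s * s = 1) (hH : s ∈ H) (hf : FR F s) (hd : d ∈ D)
    (hc : Commute d s) {δ : Ω} (hδ : δ ∈ F) (e : d • δ = δ) :
    (F \ fixedBy Ω s).ncard * (DA D δ).ncard = (F ∩ fixedBy Ω s).ncard *
      (DA (D ∩ 𝐂[s]) δ).ncard * ((F ∩ fixedBy Ω (s * d)).ncard - 1) *
        (DA (D ∩ 𝐂[s * d]) δ).ncard := by
  have sδ := h.fix_of_comm hd hδ e hH hc.symm
  have kp : 0 < (DA (D ∩ 𝐂[s * d]) δ).ncard := (Set.ncard_pos (Set.toFinite _)).2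
    ⟨d, ⟨hd, mem_cent1.2 (hc.mul_right (Commute.refl d))⟩, e⟩
  have := dcount (h.finite_pts.subset (Set.sdiff_subset (t := fixedBy Ω s)))
    (Set.toFinite (D ∩ 𝐂[s])) (fun ε d => d • ε = s • ε)
    (m := (DA D δ).ncard / (DA (D ∩ 𝐂[s * d]) δ).ncard) (n := (F ∩ fixedBy Ω (s * d)).ncard - 1)
    (fun ε hε => by rw [← h.cnt_c hs hH hf hd hc hδ e hε.1 hε.2, Nat.mul_div_cancel _ kp]; rfl)
    fun d' hd' => ?_
  · rw [← h.ncard_cent hs hH hf hδ sδ, ← this]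
    rcases (F \ fixedBy Ω s).eq_empty_or_nonempty with e0 | ⟨ε, hε⟩
    · simp [e0]
    · rw [mul_assoc, Nat.div_mul_cancel ⟨_, by
        rw [mul_comm]; exact (h.cnt_c hs hH hf hd hc hδ e hε.1 hε.2).symm⟩]
  · obtain ⟨g, hg, g1, g2⟩ := h.conj_cent1 hs hH hf hd hd'.1 hc (mem_cent1.1 hd'.2)
    have e1 : s * d' = g * (s * d) * g⁻¹ := by
      rw [← g2, ← mul_assoc, ← mul_assoc, ← g1.eq]; group
    have hγ := h.inv g hg δ hδ
    have e2 : d' • g • δ = g • δ := g2 ▸ BS.smul_conj_fixed e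
    have e3 : s • g • δ = g • δ := BS.smul_fixed_of_commute sδ g1
    rw [← ncard_fix_conj (h.inv g hg) (h.inv _ (H.inv_mem hg)), ← e1,
      ← Set.ncard_sdiff_singleton_of_mem (s := F ∩ fixedBy Ω (s * d')) (a := g • δ)
        ⟨hγ, by rw [mem_fixedBy, mul_smul, e2, e3]⟩]
    congr 1
    ext ε
    constructor
    · rintro ⟨⟨h1, h2⟩, h3⟩
      refine ⟨⟨h1, by rw [mem_fixedBy, mul_smul, h3, ← mul_smul, hs, one_smul]⟩, fun e4 => h2 ?_⟩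
      rw [Set.mem_singleton_iff.1 e4]; exact e3
    · rintro ⟨⟨h1, h2⟩, h3⟩
      have h4 : d' • ε = s • ε := by
        rw [mem_fixedBy, mul_smul] at h2
        rw [← h2, ← mul_smul s s, hs, one_smul, h2]
      exact ⟨⟨h1, fun h5 => h3 (h.eq_pt hd'.1 h1 hγ (h4.trans h5) e2)⟩, h4⟩

end ZH

/-! ### The projection `pr` -/

section pr

variable {H : Subgroup G} {F : Set Ω} (hI : ∀ g ∈ H, ∀ ω ∈ F, g • ω ∈ F)

theorem XS_faith (ξ : XS H F) (h : ∀ ω : F, ξ • ω = ω) : ξ = 1 :=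
  Subtype.ext (Equiv.ext h)

theorem Stab_inv (F : Set Ω) : ∀ g ∈ Stab G F, ∀ ω ∈ F, g • ω ∈ F := fun _ hg ω hω => (hg ω).2 hω

include hI

theorem pr_smul {g : G} (hg : g ∈ H) (ω : F) : ((pr H F g • ω : F) : Ω) = g • (ω : Ω) := by
  have : ∃ σ : XS H F, ∀ ω : F, ((σ : Equiv.Perm F) ω : Ω) = g • (ω : Ω) :=
    ⟨⟨⟨fun ω => ⟨g • ω, hI g hg _ ω.2⟩, fun ω => ⟨g⁻¹ • ω, hI _ (H.inv_mem hg) _ ω.2⟩,
      fun ω => by simp, fun ω => by simp⟩, g, hg, fun _ => rfl⟩, fun _ => rfl⟩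
  unfold pr
  rw [dif_pos this]
  exact this.choose_spec ω

theorem pr_smul_eq {g : G} (hg : g ∈ H) {ω ω' : F} : pr H F g • ω = ω' ↔ g • (ω : Ω) = ω' := by
  rw [← pr_smul hI hg, Subtype.ext_iff]

theorem pr_eq_iff {g g' : G} (hg : g ∈ H) (hg' : g' ∈ H) :
    pr H F g = pr H F g' ↔ ∀ ω ∈ F, g • ω = g' • ω := by
  constructor
  · intro e ω hω
    rw [← pr_smul hI hg ⟨ω, hω⟩, e, pr_smul hI hg']
  · intro e
    refine Subtype.ext (Equiv.ext fun ω => Subtype.ext ?_)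
    exact (pr_smul hI hg ω).trans ((e ω ω.2).trans (pr_smul hI hg' ω).symm)

theorem pr_mul {g g' : G} (hg : g ∈ H) (hg' : g' ∈ H) :
    pr H F (g * g') = pr H F g * pr H F g' := by
  refine Subtype.ext (Equiv.ext fun ω => Subtype.ext ?_)
  change ((pr H F (g * g') • ω : F) : Ω) = ((pr H F g * pr H F g') • ω : F)
  rw [pr_smul hI (H.mul_mem hg hg'), mul_smul, mul_smul, pr_smul hI hg, pr_smul hI hg']

/-- `pr` as a homomorphism. -/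
noncomputable def prHom : H →* XS H F :=
  MonoidHom.mk' (fun g => pr H F g) fun g g' => pr_mul hI g.2 g'.2

theorem prHom_apply (g : H) : prHom hI g = pr H F g := rfl

theorem pr_one : pr H F (1 : G) = 1 := (prHom hI).map_one

theorem pr_inv {g : G} (hg : g ∈ H) : pr H F g⁻¹ = (pr H F g)⁻¹ := (prHom hI).map_inv ⟨g, hg⟩

theorem pr_pow {g : G} (hg : g ∈ H) (n : ℕ) : pr H F (g ^ n) = pr H F g ^ n :=
  (prHom hI).map_pow ⟨g, hg⟩ n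

theorem pr_conj {g x : G} (hg : g ∈ H) (hx : x ∈ H) :
    pr H F (g * x * g⁻¹) = pr H F g * pr H F x * (pr H F g)⁻¹ := by
  rw [pr_mul hI (H.mul_mem hg hx) (H.inv_mem hg), pr_mul hI hg hx, pr_inv hI hg]

theorem pr_commute {g x : G} (hg : g ∈ H) (hx : x ∈ H) (hc : Commute g x) :
    Commute (pr H F g) (pr H F x) := by
  change _ * _ = _ * _
  rw [← pr_mul hI hg hx, hc.eq, pr_mul hI hx hg]

theorem pr_eq_one {g : G} (hg : g ∈ H) : pr H F g = 1 ↔ g ∈ Ker G F := by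
  rw [← pr_one hI, pr_eq_iff hI hg H.one_mem]
  simp only [one_smul]; rfl

theorem pr_eq_iff' {g g' : G} (hg : g ∈ H) (hg' : g' ∈ H) :
    pr H F g = pr H F g' ↔ g⁻¹ * g' ∈ Ker G F := by
  rw [← pr_eq_one hI (H.mul_mem (H.inv_mem hg) hg'), pr_mul hI (H.inv_mem hg) hg', pr_inv hI hg,
    inv_mul_eq_one]

theorem pr_surj (ξ : XS H F) : ∃ g ∈ H, pr H F g = ξ := by
  obtain ⟨g, hg, e⟩ := ξ.2
  exact ⟨g, hg, Subtype.ext (Equiv.ext fun ω => Subtype.ext ((pr_smul hI hg ω).trans (e ω).symm))⟩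

theorem orderOf_pr_dvd {g : G} (hg : g ∈ H) : orderOf (pr H F g) ∣ orderOf g := by
  rw [orderOf_dvd_iff_pow_eq_one, ← pr_pow hI hg, pow_orderOf_eq_one, pr_one hI]

theorem fr_pr {g : G} (hg : g ∈ H) : FR (Set.univ : Set F) (pr H F g) ↔ FR F g := by
  constructor
  · rintro ⟨α, -, β, -, ne, h1, h2⟩
    exact ⟨α, α.2, β, β.2, fun e => ne (Subtype.ext e), (pr_smul_eq hI hg).1 h1,
      (pr_smul_eq hI hg).1 h2⟩
  · rintro ⟨α, ha, β, hb, ne, h1, h2⟩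
    exact ⟨⟨α, ha⟩, trivial, ⟨β, hb⟩, trivial, fun e => ne (congrArg Subtype.val e),
      (pr_smul_eq hI hg).2 h1, (pr_smul_eq hI hg).2 h2⟩

theorem ncard_fixedBy_pr {g : G} (hg : g ∈ H) :
    (fixedBy F (pr H F g)).ncard = (F ∩ fixedBy Ω g).ncard := by
  refine Set.ncard_congr (fun ω _ => (ω : Ω)) (fun ω hω => ⟨ω.2, (pr_smul_eq hI hg).1 hω⟩)
    (fun _ _ _ _ e => Subtype.ext e) fun ω hω => ⟨⟨ω, hω.1⟩, (pr_smul_eq hI hg).2 hω.2, rfl⟩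

/-- The image of a subgroup under `pr`. -/
noncomputable def prS (L : Subgroup G) : Subgroup (XS H F) := (L.subgroupOf H).map (prHom hI)

theorem mem_prS {L : Subgroup G} {ξ : XS H F} : ξ ∈ prS hI L ↔ ∃ g ∈ L, g ∈ H ∧ pr H F g = ξ :=
  ⟨fun ⟨g, hg, e⟩ => ⟨g, hg, g.2, e⟩, fun ⟨g, hg, hg', e⟩ => ⟨⟨g, hg'⟩, hg, e⟩⟩

theorem pr_mem_prS {L : Subgroup G} {g : G} (hg : g ∈ L) (hg' : g ∈ H) : pr H F g ∈ prS hI L :=
  (mem_prS hI).2 ⟨g, hg, hg', rfl⟩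

theorem isPGroup_prS {p : ℕ} {L : Subgroup G} (hL : IsPGroup p L) : IsPGroup p (prS hI L) :=
  (isPGroup_subgroupOf hL H).map _

theorem card_prS {L : Subgroup G} (hL : L ≤ H) : #|L ⊓ Ker G F| * #|prS hI L| = #|L| := by
  have e : (prHom hI).ker = (Ker G F).subgroupOf H := by
    ext g; exact pr_eq_one hI g.2
  rw [← card_inf_mul_relIndex (Ker G F) L, inf_comm, prS, ← relIndex_ker, e,
    relIndex_subgroupOf hL]

theorem sylowIn_prS [Finite G] {p : ℕ} [Fact p.Prime] {P L : Subgroup G} (h : SylowIn p P L)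
    (hL : L ≤ H) : SylowIn p (prS hI P) (prS hI L) := (h.subgroupOf hL).map _

theorem finite_XS [Finite G] : Finite (XS H F) :=
  Finite.of_surjective (prHom hI) fun ξ => by
    obtain ⟨g, hg, e⟩ := pr_surj hI ξ
    exact ⟨⟨g, hg⟩, e⟩

theorem card_XS_le [Finite G] : Nat.card (XS H F) ≤ Nat.card H :=
  Nat.card_le_card_of_surjective (prHom hI) fun ξ => by
    obtain ⟨g, hg, e⟩ := pr_surj hI ξ
    exact ⟨⟨g, hg⟩, e⟩

end pr

theorem ZH.pr [Finite G] {H : Subgroup G} {F : Set Ω} {D : Set G} (h : ZH H F D) {α β : Ω}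
    (ha : α ∈ F) (hb : β ∈ F) (ne : α ≠ β) : ZH ⊤ (Set.univ : Set F) (pr H F '' D) where
  le := fun _ _ => trivial
  inv := fun _ _ _ _ => trivial
  conj := by
    rintro _ ⟨d, hd, rfl⟩ ξ -
    obtain ⟨g, hg, rfl⟩ := pr_surj h.inv ξ
    exact ⟨_, h.conj d hd g hg, pr_conj h.inv hg (h.le d hd)⟩
  two := by
    rintro _ ⟨d, hd, rfl⟩
    refine orderOf_eq_two ?_ fun e => ?_
    · rw [← pr_mul h.inv (h.le d hd) (h.le d hd), h.sq hd, pr_one h.inv]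
    · have := (pr_eq_one h.inv (h.le d hd)).1 e
      exact ne (h.eq_pt hd ha hb (this α ha) (this β hb))
  ex := by
    rintro _ ⟨d, hd, rfl⟩
    obtain ⟨ω, hω, e⟩ := h.ex d hd
    exact ⟨⟨ω, hω⟩, trivial, (pr_smul_eq h.inv (h.le d hd)).2 e⟩
  surj := fun ω _ => by
    obtain ⟨d, hd, e⟩ := h.surj ω ω.2
    exact ⟨_, ⟨d, hd, rfl⟩, (pr_smul_eq h.inv (h.le d hd)).2 e⟩
  uniq := by
    rintro _ ⟨d, hd, rfl⟩ hf
    exact h.uniq d hd ((fr_pr h.inv (h.le d hd)).1 hf)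
  prod := by
    rintro _ ⟨d, hd, rfl⟩ _ ⟨e, he, rfl⟩ hne hc hf
    have hm := H.mul_mem (h.le d hd) (h.le e he)
    rw [← pr_mul h.inv (h.le d hd) (h.le e he)] at hf
    have ho := (h.odd_of_fr hd he ((fr_pr h.inv hm).1 hf)).of_dvd_nat (orderOf_pr_dvd h.inv hm)
    have d2 : ZD.pr H F d * ZD.pr H F d = 1 := by
      rw [← pr_mul h.inv (h.le d hd) (h.le d hd), h.sq hd, pr_one h.inv]
    have e2 : ZD.pr H F e * ZD.pr H F e = 1 := by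
      rw [← pr_mul h.inv (h.le e he) (h.le e he), h.sq he, pr_one h.inv]
    rw [pr_mul h.inv (h.le d hd) (h.le e he)] at ho
    have := eq_one_of_odd_of_mul_self (by
      rw [mul_assoc, ← mul_assoc (ZD.pr H F e), ← hc.eq, mul_assoc, e2, mul_one, d2]) ho
    exact hne (by rw [eq_inv_of_mul_eq_one_left this, inv_eq_of_mul_self e2])

end Cfsg.Agent.ZD
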