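import Cfsg.Agent.Lib.ZD.A2

/-! Basic properties of a minimal counterexample: lifting, `n2c`. -/

open Subgroup MulAction
open scoped commutatorElement

set_option linter.unusedSectionVars false

namespace Cfsg.Agent.ZD

open FT Tr SF.GP

universe u

variable {G : Type u} {Ω : Type u} [Group G] [MulAction G Ω]

theorem four_le' {a b : G} {ha : a * a = 1} {hb : b * b = 1} {h : a * b = b * a} {X : Subgroup G}
    (h1 : a ∈ X) (h2 : b ∈ X) : TwoGrp.four a b ha hb h ≤ X := by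
  rintro x (rfl | rfl | rfl | rfl)
  exacts [X.one_mem, h1, h2, X.mul_mem h1 h2]

theorem TI.sq {s : G} (h : TI Ω s) : s * s = 1 := by
  rw [← pow_two, ← h.two, pow_orderOf_eq_one]

theorem TI.ne_one {s : G} (h : TI Ω s) : s ≠ 1 := fun e => by
  have := h.two; rw [e, orderOf_one] at this; omega

theorem TI.inv_eq {s : G} (h : TI Ω s) : s⁻¹ = s := inv_eq_of_mul_eq_one_right h.sq

theorem TI.conj {s : G} (h : TI Ω s) (g : G) : TI Ω (g * s * g⁻¹) :=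
  ⟨by rw [Tr.orderOf_conj, h.two], h.fr.conj fun _ _ => trivial⟩

theorem TI.of_sq {s : G} (h1 : s * s = 1) (h2 : s ≠ 1) (h3 : FR (Set.univ : Set Ω) s) : TI Ω s :=
  ⟨orderOf_eq_prime (by rw [pow_two, h1]) h2, h3⟩

theorem TI.exists_ne {s : G} (h : TI Ω s) : ∃ a b : fixedBy Ω s, a ≠ b := by
  obtain ⟨α, -, β, -, ne, h1, h2⟩ := h.fr
  exact ⟨⟨α, h1⟩, ⟨β, h2⟩, fun e => ne (congrArg Subtype.val e)⟩

theorem fr_of_Ker {F : Set Ω} {a b : Ω} (ha : a ∈ F) (hb : b ∈ F) (ne : a ≠ b) {g : G}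
    (hg : g ∈ Ker G F) : FR (Set.univ : Set Ω) g := ⟨a, trivial, b, trivial, ne, hg a ha, hg b hb⟩

theorem Ker_le_Stab (F : Set Ω) : Ker G F ≤ Stab G F := fun g hg ω =>
  ⟨fun h => by
    have := (Ker G F).inv_mem hg _ h
    rw [inv_smul_smul] at this; rwa [this], fun h => by rwa [hg ω h]⟩

theorem conj_mem_Ker {F : Set Ω} {g x : G} (hg : g ∈ Stab G F) (hx : x ∈ Ker G F) :
    g * x * g⁻¹ ∈ Ker G F := fun ω hω => by
  rw [mul_smul, mul_smul, hx _ (Stab_inv F _ (inv_mem hg) ω hω), smul_inv_smul]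

theorem Stab_le_normalizer_Ker [Finite G] (F : Set Ω) : Stab G F ≤ 𝐍(Ker G F) := fun _ hg =>
  mem_normalizer_of_forall fun _ hx => conj_mem_Ker hg hx

theorem mem_Stab_of [Finite G] {F : Set Ω} {g : G} (h : ∀ ω ∈ F, g • ω ∈ F) : g ∈ Stab G F := by
  have hp : ∀ n : ℕ, ∀ ω ∈ F, g ^ n • ω ∈ F := fun n => by
    induction n with
    | zero => simp
    | succ n ih => intro ω hω; rw [pow_succ, mul_smul]; exact ih _ (h ω hω)
  refine fun ω => ⟨fun h1 => ?_, h ω⟩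
  have := hp (orderOf g - 1) _ h1
  rwa [← mul_smul, ← pow_succ, Nat.sub_add_cancel (orderOf_pos g), pow_orderOf_eq_one,
    one_smul] at this

theorem norm_le_Stab [Finite G] (T : Subgroup G) : 𝐍(T) ≤ Stab G (Fix Ω T) := fun g hg =>
  mem_Stab_of fun ω hω x hx => by
    have := hω _ (conj_mem_of_mem_normalizer' hg hx)
    rw [mul_smul, mul_smul, inv_smul_eq_iff] at this; exact this

theorem cent1_le_Stab [Finite G] (t : G) : 𝐂[t] ≤ Stab G (fixedBy Ω t) := fun g hg =>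
  mem_Stab_of fun ω hω => by
    show t • g • ω = g • ω
    rw [← mul_smul, ← mem_cent1.1 hg, mul_smul, hω]

theorem self_mem_Ker (t : G) : t ∈ Ker G (fixedBy Ω t) := fun _ h => h

theorem le_Ker_Fix (T : Subgroup G) : T ≤ Ker G (Fix Ω T) := fun g hg _ h => h g hg

theorem fixedBy_conj (g x : G) (ω : Ω) :
    ω ∈ fixedBy Ω (g * x * g⁻¹) ↔ g⁻¹ • ω ∈ fixedBy Ω x := by
  simp only [mem_fixedBy, mul_smul, smul_eq_iff_eq_inv_smul g]

theorem cj_Ker_fixedBy (g x : G) :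
    cj g (Ker G (fixedBy Ω x)) = Ker G (fixedBy Ω (g * x * g⁻¹)) := by
  ext y
  rw [mem_cj, mem_Ker, mem_Ker]
  refine ⟨fun h ω hω => ?_, fun h ω hω => ?_⟩
  · have := h _ ((fixedBy_conj g x ω).1 hω)
    rwa [mul_smul, mul_smul, smul_inv_smul, smul_left_cancel_iff] at this
  · rw [mul_smul, mul_smul, h _ (BS.smul_conj_fixed hω), inv_smul_smul]

section pr
variable {H : Subgroup G} {F : Set Ω} (hI : ∀ g ∈ H, ∀ ω ∈ F, g • ω ∈ F)

/-- The preimage under `pr`. -/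
noncomputable def prC (Y : Subgroup (XS H F)) : Subgroup G := (Y.comap (prHom hI)).map H.subtype

theorem mem_prC {Y : Subgroup (XS H F)} {g : G} : g ∈ prC hI Y ↔ g ∈ H ∧ pr H F g ∈ Y :=
  ⟨by rintro ⟨x, hx, rfl⟩; exact ⟨x.2, hx⟩, fun h => ⟨⟨g, h.1⟩, h.2, rfl⟩⟩

include hI in
/-- A `p`-element whose image lies in the image of a Sylow subgroup can be conjugated into it
without changing its image. -/
theorem exists_conj_mem_pr [Finite G] {p : ℕ} [Fact p.Prime] {L R : Subgroup G} (hL : L ≤ H)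
    (hR : SylowIn p R L) {x r : G} (hx : x ∈ L) {k : ℕ} (hk : x ^ p ^ k = 1) (hr : r ∈ R)
    (e : pr H F r = pr H F x) :
    ∃ g ∈ L, g * x * g⁻¹ ∈ R ∧ pr H F (g * x * g⁻¹) = pr H F x := by
  have hN : R ≤ 𝐍(L ⊓ Ker G F) := fun y hy => mem_normalizer_of_forall fun z hz =>
    ⟨L.mul_mem (L.mul_mem (hR.le hy) hz.1) (L.inv_mem (hR.le hy)),
      conj_mem_Ker (mem_Stab_of (hI y (hL (hR.le hy)))) hz.2⟩
  have hK := hR.inf_of_le_normalizer inf_le_left hN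
  set L' := L ⊓ prC hI (zpowers (pr H F x))
  have hrn : zpowers r ≤ 𝐍(R ⊓ (L ⊓ Ker G F)) := zpowers_le.2 (mem_normalizer_of_forall
    fun z hz => ⟨R.mul_mem (R.mul_mem hr hz.1) (R.inv_mem hr),
      conj_mem_of_mem_normalizer (hN hr) hz.2⟩)
  obtain ⟨S, hS, hle⟩ := exists_sylowIn_ge (H := L') (isPGroup_sup_of_le_normalizer
    (hR.isPGroup.to_le (zpowers_le.2 hr)) (hK.isPGroup) hrn) (sup_le (zpowers_le.2
      ⟨hR.le hr, (mem_prC hI).2 ⟨hL (hR.le hr), e ▸ mem_zpowers _⟩⟩) fun z hz =>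
      ⟨hz.2.1, (mem_prC hI).2 ⟨hL hz.2.1, by rw [(pr_eq_one hI (hL hz.2.1)).2 hz.2.2]; exact one_mem _⟩⟩)
  obtain ⟨g, hg, hgx⟩ := hS.exists_conj_mem (y := x)
    ⟨hx, (mem_prC hI).2 ⟨hL hx, mem_zpowers _⟩⟩ hk
  have e1 : pr H F (g * x * g⁻¹) = pr H F x := by
    rw [pr_conj hI (hL hg.1) (hL hx)]
    obtain ⟨n, hn⟩ := ((mem_prC hI).1 hg.2).2
    rw [← hn]; group
  refine ⟨g, hg.1, ?_, e1⟩
  have hrS : r ∈ S := hle (le_sup_left (a := zpowers r) (mem_zpowers r))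
  have h2 := hK.eq_of_le (Q := S ⊓ (L ⊓ Ker G F)) (hS.isPGroup.to_le inf_le_left)
    (le_inf (le_sup_right.trans hle) inf_le_right) inf_le_right
  have hy : g * x * g⁻¹ ∈ L := (hS.le hgx).1
  have h3 : r⁻¹ * (g * x * g⁻¹) ∈ S ⊓ (L ⊓ Ker G F) :=
    ⟨S.mul_mem (S.inv_mem hrS) hgx, L.mul_mem (L.inv_mem (hR.le hr)) hy,
      (pr_eq_iff' hI (hL (hR.le hr)) (hL hy)).1 (e.trans e1.symm)⟩
  rw [h2] at h3
  simpa using R.mul_mem hr h3.1

end pr

namespace ZH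
variable {H : Subgroup G} {F : Set Ω} {D : Set G} (h : ZH H F D) [Finite G]
include h

theorem odd_ncard {d : G} (hd : d ∈ D) : Odd F.ncard := by
  obtain ⟨α, ha, e⟩ := h.ex d hd
  by_contra hev
  have h1 : (F \ {α}).ncard + 1 = F.ncard := Set.ncard_sdiff_singleton_add_one ha h.finite_pts
  obtain ⟨y, hy, hf⟩ := Solv.exists_fixed_of_pgroup (isPGroup_zpowers_sq (h.sq hd)) (F \ {α})
    (fun g hg y hy => by
      rcases (mem_zpowers_sq (h.sq hd)).1 hg with rfl | rfl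
      · simpa using hy
      · exact ⟨h.inv _ (h.le _ hd) _ hy.1, fun e' => hy.2 (smul_left_cancel g (e'.trans e.symm))⟩)
    (by rw [Nat.card_coe_set_eq]; rw [Nat.not_odd_iff_even, Nat.even_iff] at hev; omega)
  exact hy.2 (h.eq_pt hd hy.1 ha (hf d (mem_zpowers d)) e)

theorem exists_fix {d : G} (hd : d ∈ D) {T : Subgroup G} (hT : IsPGroup 2 T)
    (hI : ∀ g ∈ T, ∀ ω ∈ F, g • ω ∈ F) : ∃ ω ∈ F, ∀ g ∈ T, g • ω = ω :=
  Solv.exists_fixed_of_pgroup hT F hI (by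
    rw [Nat.card_coe_set_eq]; exact (h.odd_ncard hd).not_two_dvd_nat)

end ZH

namespace ZH
variable {D : Set G} (h : ZH ⊤ (Set.univ : Set Ω) D) [Finite G]
include h

/-- (lift) -/
theorem lift {F : Set Ω} {a b : Ω} (ha : a ∈ F) (hb : b ∈ F) (ne : a ≠ b) {T : Subgroup G}
    (hT : IsPGroup 2 T) (hK : T ≤ Ker G F) {d : G} (hd : d ∈ D) (hs : d ∈ Stab G F) :
    ∃ d' ∈ D, d' ∈ 𝐂(T) ∧ d' ∈ Stab G F ∧ ∀ ω ∈ F, d' • ω = d • ω := by
  obtain ⟨T', hT', hle⟩ := exists_sylowIn_ge hT hK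
  have hn : zpowers d ≤ 𝐍(Ker G F) := zpowers_le.2 (Stab_le_normalizer_Ker F hs)
  obtain ⟨S, hS, hle'⟩ := exists_sylowIn_ge (H := zpowers d ⊔ Ker G F) hT'.isPGroup
    (hT'.le.trans le_sup_right)
  obtain ⟨g, hg, hgd⟩ := hS.exists_conj_mem (y := d) (k := 1)
    (le_sup_left (a := zpowers d) (mem_zpowers d)) (by rw [pow_one, pow_two, h.sq hd])
  have hSt : zpowers d ⊔ Ker G F ≤ Stab G F := sup_le (zpowers_le.2 hs) (Ker_le_Stab F)
  have hd' : g * d * g⁻¹ ∈ D := h.conj d hd g trivial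
  have hs' : g * d * g⁻¹ ∈ Stab G F := hSt (hS.le hgd)
  have e1 : ∀ ω ∈ F, (g * d * g⁻¹) • ω = d • ω := fun ω hω => by
    obtain ⟨x, hx, y, hy, rfl⟩ := (mem_sup_of_le_normalizer hn).1 hg
    have hc : Commute x d := by obtain ⟨n, rfl⟩ := hx; exact (Commute.refl d).zpow_left n
    have hxs : x ∈ Stab G F := zpowers_le.2 hs hx
    have h1 := Stab_inv F _ (inv_mem hxs) ω hω
    rw [mul_inv_rev, mul_smul, mul_smul, mul_smul, mul_smul, (Ker G F).inv_mem hy _ h1,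
      hy _ (Stab_inv F _ hs _ h1), ← mul_smul, hc.eq, mul_smul, smul_inv_smul]
  refine ⟨_, hd', ?_, hs', e1⟩
  have hT2 : S ⊓ Ker G F = T' := hT'.eq_of_le (hS.isPGroup.to_le inf_le_left)
    (le_inf hle' hT'.le) inf_le_right
  generalize g * d * g⁻¹ = d' at *
  have key : ∀ α ∈ F, d' • α ≠ α → d' ∈ 𝐂(T) := fun α hα hne => by
    have hβ := Stab_inv F _ hs' α hα
    obtain ⟨e, he, hc, hea⟩ := h.exists_cent_swap (T := zpowers d' ⊔ T') (α := α) (β := d' • α)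
      (hS.isPGroup.to_le (sup_le (zpowers_le.2 hgd) hle')) le_top trivial trivial hne.symm
      fun x hx => by
        obtain ⟨y, hy, z, hz, rfl⟩ := (mem_sup_of_le_normalizer (zpowers_le.2
          (mem_normalizer_of_forall fun z hz => by
            rw [← hT2] at hz ⊢
            exact ⟨S.mul_mem (S.mul_mem hgd hz.1) (S.inv_mem hgd), conj_mem_Ker hs' hz.2⟩))).1 hx
        rw [mul_smul, mul_smul, hT'.le hz α hα, hT'.le hz _ hβ]
        rcases (mem_zpowers_sq (h.sq hd')).1 hy with rfl | rfl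
        · simp
        · exact Or.inr ⟨rfl, h.smul_smul hd' α⟩
    have hed : e = d' := by
      by_contra hne'
      exact h.prod e he d' hd' hne'
        (mem_cent.1 hc d' (le_sup_left (a := zpowers d') (mem_zpowers d'))).symm
        (h.fr_swap he hd' trivial trivial hne.symm hea rfl)
    rw [← hed]
    exact centralizer_le (SetLike.coe_subset_coe.2 (hle.trans le_sup_right)) hc
  by_cases h1 : d' • a = a
  · exact key b hb fun h2 => ne (h.eq_pt hd' trivial trivial h1 h2)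
  · exact key a ha h1

/-- Lifting elements of the closure of the image of `D`. -/
theorem lift_closure {F : Set Ω} {a b : Ω} (ha : a ∈ F) (hb : b ∈ F) (ne : a ≠ b)
    {T : Subgroup G} (hT : IsPGroup 2 T) (hK : T ≤ Ker G F) {ξ : XS (Stab G F) F}
    (hξ : ξ ∈ closure (ZD.pr (Stab G F) F '' (D ∩ Stab G F))) :
    ∃ g ∈ closure (D ∩ 𝐂(T) ∩ Stab G F), ZD.pr (Stab G F) F g = ξ := by
  have hle : closure (D ∩ 𝐂(T) ∩ Stab G F) ≤ Stab G F :=
    (Subgroup.closure_le _).2 fun _ hx => hx.2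
  suffices ξ ∈ prS (Stab_inv F) (closure (D ∩ 𝐂(T) ∩ Stab G F)) by
    obtain ⟨g, h1, -, h2⟩ := (mem_prS _).1 this
    exact ⟨g, h1, h2⟩
  refine (Subgroup.closure_le _).2 ?_ hξ
  rintro _ ⟨d, hd, rfl⟩
  obtain ⟨d', h1, h2, h3, h4⟩ := h.lift ha hb ne hT hK hd.1 hd.2
  exact (mem_prS _).2 ⟨d', subset_closure ⟨⟨h1, h2⟩, h3⟩, h3,
    (pr_eq_iff (Stab_inv F) h3 hd.2).2 h4⟩

theorem lift_closure' {F : Set Ω} {a b : Ω} (ha : a ∈ F) (hb : b ∈ F) (ne : a ≠ b)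
    {T : Subgroup G} (hT : IsPGroup 2 T) (hK : T ≤ Ker G F) {ξ : XS (Stab G F) F}
    (hξ : ξ ∈ closure (ZD.pr (Stab G F) F '' (D ∩ Stab G F))) :
    ∃ g ∈ 𝐂(T), g ∈ Stab G F ∧ ZD.pr (Stab G F) F g = ξ := by
  obtain ⟨g, h1, h2⟩ := h.lift_closure ha hb ne hT hK hξ
  exact ⟨g, (Subgroup.closure_le _).2 (fun _ hx => hx.1.2) h1,
    (Subgroup.closure_le _).2 (fun _ hx => hx.2) h1, h2⟩

end ZH

namespace Min
variable {D : Set G} (h : Min Ω D) [Finite G]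
include h

theorem hf : ∀ g ∈ (⊤ : Subgroup G), (∀ ω ∈ (Set.univ : Set Ω), g • ω = ω) → g = 1 :=
  fun g _ e => h.faith g fun ω => e ω trivial

theorem mul_mem {d e : G} (hd : d ∈ D) (he : e ∈ D) (ne : d ≠ e) (hc : Commute d e) :
    d * e ∈ D := h.zd.mul_mem h.hf hd he ne hc

theorem conj {d : G} (hd : d ∈ D) (g : G) : g * d * g⁻¹ ∈ D := h.zd.conj d hd g trivial

theorem moves {g : G} (hg : g ≠ 1) : ∃ ε : Ω, g • ε ≠ ε := by
  by_contra! hh; exact hg (h.faith g hh)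

theorem nt : ∃ α β : Ω, α ≠ β := by
  obtain ⟨d, hd, -⟩ := h.cp
  obtain ⟨ε, e⟩ := h.moves (h.zd.ne_one hd)
  exact ⟨_, _, e⟩

theorem finite : Finite Ω := Set.finite_univ_iff.1 h.zd.finite_pts

theorem isConj {d e : G} (hd : d ∈ D) (he : e ∈ D) : ∃ g : G, g * d * g⁻¹ = e := by
  obtain ⟨α, β, ne⟩ := h.nt
  obtain ⟨g, -, e⟩ := h.zd.isConj hd he trivial trivial ne
  exact ⟨g, e⟩

theorem ti_of_not_mem {s : G} (h1 : s * s = 1) (h2 : s ≠ 1) (hs : s ∉ D) : TI Ω s :=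
  have := orderOf_eq_prime (by rw [pow_two, h1]) h2
  ⟨this, h.zd.fr_of_not_mem h.hf trivial this hs⟩

theorem not_mem {s : G} (hs : TI Ω s) : s ∉ D := fun hd => h.zd.uniq s hd hs.fr

theorem mem_of_not_fr {s : G} (h1 : s * s = 1) (h2 : s ≠ 1) (hs : ¬ FR (Set.univ : Set Ω) s) :
    s ∈ D := by
  by_contra hh; exact hs (h.ti_of_not_mem h1 h2 hh).fr

theorem ti_mul {t d : G} (ht : TI Ω t) (hd : d ∈ D) (hc : Commute d t) : TI Ω (t * d) := by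
  obtain ⟨ε, e⟩ := h.moves ht.ne_one
  refine TI.of_sq ?_ (fun e1 => h.not_mem ht ?_) (h.zd.fr_mul ht.sq trivial ht.fr trivial e hd hc)
  · rw [mul_assoc, ← mul_assoc d, hc.eq, mul_assoc, h.zd.sq hd, mul_one, ht.sq]
  · rwa [eq_inv_of_mul_eq_one_left e1, h.zd.inv_eq hd]

theorem odd_card : Odd (Nat.card Ω) := by
  obtain ⟨d, hd, -⟩ := h.cp
  simpa using h.zd.odd_ncard hd

theorem exists_fix {T : Subgroup G} (hT : IsPGroup 2 T) : ∃ ω : Ω, ∀ g ∈ T, g • ω = ω := by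
  obtain ⟨d, hd, -⟩ := h.cp
  obtain ⟨ω, -, e⟩ := h.zd.exists_fix hd hT fun _ _ _ _ => trivial
  exact ⟨ω, e⟩

theorem exists_cent_fix {T : Subgroup G} (hT : IsPGroup 2 T) {α : Ω} (ha : ∀ g ∈ T, g • α = α) :
    ∃ d ∈ D, d ∈ 𝐂(T) ∧ d • α = α := by
  obtain ⟨β, γ, ne⟩ := h.nt
  by_cases e : α = β
  · exact h.zd.exists_cent_fix hT le_top trivial trivial (e ▸ ne) ha
  · exact h.zd.exists_cent_fix hT le_top trivial trivial e ha

theorem exists_cent {T : Subgroup G} (hT : IsPGroup 2 T) : ∃ d ∈ D, d ∈ 𝐂(T) := by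
  obtain ⟨α, ha⟩ := h.exists_fix hT
  obtain ⟨d, h1, h2, -⟩ := h.exists_cent_fix hT ha
  exact ⟨d, h1, h2⟩

theorem zh_cent {T : Subgroup G} (hT : IsPGroup 2 T) : ZH 𝐂(T) (Fix Ω T) (D ∩ 𝐂(T)) := by
  obtain ⟨β, γ, ne⟩ := h.nt
  simpa using h.zd.cent hT le_top trivial trivial ne

theorem zh_cent1 {s : G} (hs : s * s = 1) : ZH 𝐂[s] (fixedBy Ω s) (D ∩ 𝐂[s]) := by
  obtain ⟨β, γ, ne⟩ := h.nt
  simpa using h.zd.cent1' hs trivial trivial trivial ne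

theorem odd_Fix {T : Subgroup G} (hT : IsPGroup 2 T) : Odd (Fix Ω T).ncard := by
  obtain ⟨d, h1, h2⟩ := h.exists_cent hT
  exact (h.zh_cent hT).odd_ncard ⟨h1, h2⟩

theorem odd_fixedBy {s : G} (hs : s * s = 1) : Odd (fixedBy Ω s).ncard := by
  rw [← Fix_zpowers]; exact h.odd_Fix (isPGroup_zpowers_sq hs)

/-- `ZH` for any subgroup between `C(T)` and the stabilizer of `Fix T`. -/
theorem zh_of_le {T H : Subgroup G} {F : Set Ω} (hT : IsPGroup 2 T) (hF : Fix Ω T = F)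
    (h1 : 𝐂(T) ≤ H) (h2 : H ≤ Stab G F) : ZH H F (D ∩ H) := by
  subst hF
  refine h.zd.sub le_top (Set.subset_univ _) (fun g hg => Stab_inv _ g (h2 hg)) (fun d hd hH => ?_)
    fun ω hω => ?_
  · obtain ⟨e, he⟩ := h.exists_cent hT
    obtain ⟨ω, h3, h4⟩ := (h.zh_cent hT).exists_fix he (isPGroup_zpowers_sq (h.zd.sq hd))
      fun g hg => Stab_inv _ g (zpowers_le.2 (h2 hH) hg)
    exact ⟨ω, h3, h4 d (mem_zpowers d)⟩
  · obtain ⟨d, h3, h4, h5⟩ := h.exists_cent_fix hT hω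
    exact ⟨d, h3, h1 h4, h5⟩

theorem zh_stab {T : Subgroup G} {F : Set Ω} (hT : IsPGroup 2 T) (hF : Fix Ω T = F) :
    ZH (Stab G F) F (D ∩ Stab G F) :=
  h.zh_of_le hT hF (hF ▸ (centralizer_le_normalizer _).trans (norm_le_Stab T)) le_rfl

theorem zh_stab1 {s : G} (hs : s * s = 1) :
    ZH (Stab G (fixedBy Ω s)) (fixedBy Ω s) (D ∩ Stab G (fixedBy Ω s)) :=
  h.zh_stab (isPGroup_zpowers_sq hs) (Fix_zpowers s)

theorem stab_ne_top {F : Set Ω} {a : Ω} (ha : a ∈ F) {g : G} (hg : g ∈ Ker G F) (h1 : g ≠ 1) :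
    Stab G F ≠ ⊤ := fun e => h1 <| h.faith g fun ω => by
  obtain ⟨x, -, rfl⟩ := h.zd.tr (α := a) (β := ω) trivial trivial
  exact hg _ (Stab_inv F x (e ▸ trivial) a ha)

theorem index_ne_two (H : Subgroup G) : H.index ≠ 2 := fun e => by
  obtain ⟨d, hd, d', hd', ne, -⟩ := h.cp
  rcases h.simple.eq_bot_or_eq_top_of_normal H (normal_of_index_eq_two e) with rfl | rfl
  · have := mul_mem_iff_of_index_two e (a := d) (b := d')
    simp only [mem_bot, h.zd.ne_one hd, h.zd.ne_one hd', iff_true] at this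
    exact ne (by rw [eq_inv_of_mul_eq_one_left this, h.zd.inv_eq hd'])
  · simp at e

theorem perfect : commutator G = ⊤ := by
  rcases h.simple.eq_bot_or_eq_top_of_normal (commutator G) inferInstance with e | e
  · exfalso
    obtain ⟨d, hd, d', hd', ne, -⟩ := h.cp
    obtain ⟨g, rfl⟩ := h.isConj hd hd'
    have : ⁅g, d⁆ ∈ commutator G := commutator_mem_commutator (mem_top g) (mem_top d)
    rw [e, mem_bot, commutatorElement_eq_one_iff_mul_comm] at this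
    exact ne (by rw [this, mul_inv_cancel_right])
  · exact e

/-- Every Sylow `2`-subgroup of `H` contains a commuting pair if `D ∩ H` does. -/
theorem cp_sylow {H S : Subgroup G} (hS : SylowIn 2 S H) (hp : CP (D ∩ H)) : CP (D ∩ S) := by
  obtain ⟨d, hd, e, he, ne, hc⟩ := hp
  obtain ⟨g, -, hg⟩ := hS.exists_cj_le (Q := TwoGrp.four d e (h.zd.sq hd.1) (h.zd.sq he.1) hc)
    (TwoGrp.kleinFour_isPGroup (TwoGrp.isKleinFour_four _ _ _ (h.zd.ne_one hd.1) (h.zd.ne_one he.1) ne))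
    (four_le' hd.2 he.2)
  refine ⟨_, ⟨h.conj hd.1 g, cj_le_iff.1 hg d (Or.inr (Or.inl rfl))⟩, _,
    ⟨h.conj he.1 g, cj_le_iff.1 hg e (Or.inr (Or.inr (Or.inl rfl)))⟩, fun e1 => ne (by simpa using e1), ?_⟩
  exact (hc.map (MulAut.conj g).toMonoidHom)

theorem conj_mul {t d : G} (ht : TI Ω t) (hp : CP (D ∩ 𝐂[t])) (hd : d ∈ D) (hc : Commute d t) :
    ∃ g : G, g * t * g⁻¹ = t * d := by
  obtain ⟨ε, e⟩ := h.moves ht.ne_one
  obtain ⟨g, -, e⟩ := h.zd.conj_mul (fun _ h1 _ h2 => h.mul_mem h1 h2) ht.sq trivial ht.fr trivial e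
    hp hd hc
  exact ⟨g, e⟩

theorem loc_of_cp {t : G} (ht : TI Ω t) (hp : CP (D ∩ 𝐂[t])) (a b : fixedBy Ω t) (ne : a ≠ b) :
    ∃ Q W j q, GoodX (DT Ω D t) a b Q W j q := by
  refine h.loc _ (h.stab_ne_top a.2 (self_mem_Ker t) ht.ne_one) _ (h.zh_stab1 ht.sq) ?_ a b ne
  obtain ⟨d, hd, e, he, h1⟩ := hp
  exact ⟨d, ⟨hd.1, cent1_le_Stab t hd.2⟩, e, ⟨he.1, cent1_le_Stab t he.2⟩, h1⟩

/-- Members of `D` in the stabilizer of `F` fixing the same point of `F` and generating a `2`-group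
commute. -/
theorem comm_of_good {H : Subgroup G} {F : Set Ω} (hI : ∀ g ∈ H, ∀ ω ∈ F, g • ω ∈ F) {a b : F}
    {Q W : Subgroup (XS H F)} {j : XS H F} {q : ℕ} (hg : Good (pr H F '' (D ∩ H)) a b Q W j q)
    {d e : G} (hd : d ∈ D) (he : e ∈ D) (hd' : d ∈ H) (he' : e ∈ H) (h1 : d • (a : Ω) = a)
    (h2 : e • (a : Ω) = a) {n : ℕ} (hn : (d * e) ^ 2 ^ n = 1) : Commute d e := by
  have w1 := (hg.memV _).2 (Or.inr ⟨⟨d, ⟨hd, hd'⟩, rfl⟩, (pr_smul_eq hI hd').2 h1⟩)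
  have w2 := (hg.memV _).2 (Or.inr ⟨⟨e, ⟨he, he'⟩, rfl⟩, (pr_smul_eq hI he').2 h2⟩)
  have w3 := (hg.two _ (hg.VQ (W.mul_mem w1 w2))).2 (W.mul_mem w1 w2)
  have hde := H.mul_mem hd' he'
  rw [← pr_mul hI hd' he', ← pr_mul hI hde hde, pr_eq_one hI (H.mul_mem hde hde)] at w3
  exact h.zd.comm_of_fr hd he (fr_of_Ker a.2 b.2 (fun e => hg.ne (Subtype.ext e)) w3) hn

theorem comm_of_cp {t : G} (ht : TI Ω t) (hp : CP (D ∩ 𝐂[t])) {R : Subgroup G} (hR : IsPGroup 2 R)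
    (hle : R ≤ Stab G (fixedBy Ω t)) {d e : G} (hd : d ∈ D) (he : e ∈ D) (hd' : d ∈ R)
    (he' : e ∈ R) : Commute d e := by
  obtain ⟨z, hz⟩ := h.exists_cent (isPGroup_zpowers_sq ht.sq)
  obtain ⟨α, ha, hf⟩ := (h.zh_stab1 ht.sq).exists_fix (d := z)
    ⟨hz.1, cent1_le_Stab t (mem_cent1.2 (mem_cent.1 hz.2 t (mem_zpowers t)).symm)⟩ hR
    fun g hg => Stab_inv _ g (hle hg)
  obtain ⟨a, b, ne⟩ := ht.exists_ne
  obtain ⟨c, hc⟩ : ∃ c : fixedBy Ω t, (⟨α, ha⟩ : fixedBy Ω t) ≠ c := by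
    by_cases e : (⟨α, ha⟩ : fixedBy Ω t) = a
    · exact ⟨b, e ▸ ne⟩
    · exact ⟨a, e⟩
  obtain ⟨Q, W, j, q, hg⟩ := h.loc_of_cp ht hp _ c hc
  obtain ⟨n, hn⟩ := isPGroup_iff_forall_mem.1 hR _ (R.mul_mem hd' he')
  exact h.comm_of_good (Stab_inv _) hg.toGood hd he (hle hd') (hle he') (hf d hd') (hf e he') hn

/-- The subgroup `1 ∪ (D ∩ R)`. -/
theorem exists_V {R : Subgroup G} (hc : ∀ d ∈ D, ∀ e ∈ D, d ∈ R → e ∈ R → Commute d e) :
    ∃ V : Subgroup G, ∀ v, v ∈ V ↔ v = 1 ∨ (v ∈ D ∧ v ∈ R) := by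
  refine ⟨subgroupOfMulClosed {v | v = 1 ∨ (v ∈ D ∧ v ∈ R)} (Or.inl rfl) ?_, fun _ => Iff.rfl⟩
  rintro a (rfl | ha) b (rfl | hb)
  · simp
  · simpa using Or.inr hb
  · simpa using Or.inr ha
  · by_cases e : a = b
    · subst e; exact Or.inl (h.zd.sq ha.1)
    · exact Or.inr ⟨h.mul_mem ha.1 hb.1 e (hc a ha.1 b hb.1 ha.2 hb.2), R.mul_mem ha.2 hb.2⟩

/-- (n2c) no member of `𝒯` is `2`-central. -/
theorem n2c {t : G} (ht : TI Ω t) {S : Subgroup G} (hS : SylowIn 2 S ⊤) : ¬ S ≤ 𝐂[t] := by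
  intro hle
  have hp : CP (D ∩ 𝐂[t]) := by
    obtain ⟨d, hd, e, he, h1⟩ := h.cp_sylow hS (by simpa using h.cp)
    exact ⟨d, ⟨hd.1, hle hd.2⟩, e, ⟨he.1, hle he.2⟩, h1⟩
  obtain ⟨z, hz, hzc⟩ := h.exists_cent hS.isPGroup
  have htc : t ∈ 𝐂(S) := mem_cent.2 fun a ha => mem_cent1.1 (hle ha)
  have hin : ∀ x ∈ 𝐂(S), x * x = 1 → x ∈ S := fun x hx h2 =>
    zpowers_le.1 (hS.le_of_le_normalizer' (isPGroup_zpowers_sq h2) le_top
      (zpowers_le.2 (centralizer_le_normalizer _ hx)))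
  have hzS := hin z hzc (h.zd.sq hz)
  have hodd : ¬ 2 ∣ 𝐂[t].relIndex 𝐍(S) := fun hd => hS.not_dvd <| by
    refine (hd.trans (relIndex_dvd_of_le_left _ hle)).trans ?_
    exact Dvd.intro _ (relIndex_mul_relIndex S _ ⊤ le_normalizer le_top)
  rw [← ncard_class] at hodd
  obtain ⟨y, -, hy⟩ := Solv.exists_fixed_of_pgroup (X := G) (isPGroup_zpowers_sq (h.zd.sq hz))
    {y | ∃ g ∈ 𝐍(S), g * t * g⁻¹ = y} (fun x hx y hy => by
      rcases (mem_zpowers_sq (h.zd.sq hz)).1 hx with rfl | rfl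
      · simpa using hy
      obtain ⟨g, hg, rfl⟩ := hy
      have hc : g * t * g⁻¹ ∈ 𝐂(S) :=
        conj_mem_of_mem_normalizer (normalizer_le_normalizer_centralizer S hg) htc
      have hxt : Commute x (g * t * g⁻¹) := mem_cent.1 hc x hzS
      obtain ⟨g', e⟩ := h.conj_mul (ht.conj g) (by
        obtain ⟨d, hd, e, he, h1⟩ := h.cp_sylow hS (by simpa using h.cp)
        exact ⟨d, ⟨hd.1, mem_cent1.2 (mem_cent.1 hc d hd.2)⟩, e,
          ⟨he.1, mem_cent1.2 (mem_cent.1 hc e he.2)⟩, h1⟩) hz hxt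
      have e2 : g' * g * t * (g' * g)⁻¹ = x * (g * t * g⁻¹) := by rw [hxt.eq, ← e]; group
      obtain ⟨n, -, h1, h2⟩ := hS.exists_normalizer_conj (g := g' * g) trivial htc
        (by rw [e2]; exact Subgroup.mul_mem _ hzc hc)
      exact ⟨n, h1, h2.trans e2⟩) hodd
  exact h.zd.ne_one hz (by simpa using hy z (mem_zpowers z))

end Min

end Cfsg.Agent.ZD
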