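import Cfsg.Agent.Lib.ZD.A5

/-! Row C: the intermediate configuration (`P` is the preimage of `Q` in `R`). -/

open Subgroup MulAction
open scoped commutatorElement

namespace Cfsg.Agent.ZD

open FT Tr SF.GP

universe u

variable {G : Type u} {Ω : Type u} [Group G] [MulAction G Ω]

/-- `CS` before `four`, `trT`, `piP` are known; here `P = R ∩ π⁻¹(Q)`. -/
structure C0 (D : Set G) (t : G) (a b : fixedBy Ω t) (R V K P : Subgroup G) (j : G) (q : ℕ)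
    (Q W : Subgroup (XT Ω t)) : Prop extends LS D t a b R V Q W (pT Ω t j) q where
  max : ∀ s : G, TI Ω s → ∀ T ≤ 𝐂[s], IsPGroup 2 T → #|T| ≤ #|R|
  eqK : K = R ⊓ Ker G (fixedBy Ω t)
  memP : ∀ x, x ∈ P ↔ x ∈ R ∧ pT Ω t x ∈ Q
  twoK : ∀ k ∈ K, k * k = 1
  cenK : K ≤ 𝐂((R ⊓ 𝐂(V) : Subgroup G))
  sqP : ∀ x ∈ P, x * x ∈ V
  jodd : Odd (orderOf j)
  jK : j ∈ 𝐂(K)
  jP : j ∈ 𝐍(P)
  jV : j ∈ 𝐍(V)
  cover : ∀ k ∈ K, k ≠ 1 → ∀ v ∈ V, ∃ w ∈ V, k * v ∈ Ker G (fixedBy Ω (t * w))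
  tr2 : ∀ w ∈ V, ∃ h ∈ 𝐍(P) ⊓ 𝐍(V), h * t * h⁻¹ = t * w
  exg : ∃ g ∈ 𝐍(R) ⊓ 𝐍(P), ∃ z ∈ V, z ≠ 1 ∧ g * t * g⁻¹ = t * z

/-- Row CT: translations. -/
def CTStmt : Prop :=
  ∀ (G Ω : Type u) [Group G] [Finite G] [MulAction G Ω] (D : Set G) (t : G) (a b : fixedBy Ω t)
    (R V K P : Subgroup G) (j : G) (q : ℕ) (Q W : Subgroup (XT Ω t)),
    C0 D t a b R V K P j q Q W → Q ≠ W → ∀ w ∈ V, ∃ h ∈ 𝐍(P) ⊓ 𝐂(V), h * t * h⁻¹ = t * w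

/-- Row CF: no `UUU` four-group contains `t`. -/
def CFStmt : Prop :=
  ∀ (G Ω : Type u) [Group G] [Finite G] [MulAction G Ω] (D : Set G) (t : G) (a b : fixedBy Ω t)
    (R V K P : Subgroup G) (j : G) (q : ℕ) (Q W : Subgroup (XT Ω t)),
    C0 D t a b R V K P j q Q W → (Q ≠ W → ∀ w ∈ V, ∃ h ∈ 𝐍(P) ⊓ 𝐂(V), h * t * h⁻¹ = t * w) →
    ∀ s : G, s * s = 1 → Commute s t → FR (fixedBy Ω t) s → s ∈ Ker G (fixedBy Ω t)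

end Cfsg.Agent.ZD
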