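import Cfsg.Agent.Lib.ZD.Defs

/-! Row GOOD: the structure of a faithful `ZH` action in which `⟨D⟩` is a Bender group. -/

open Subgroup MulAction
open scoped commutatorElement

set_option linter.unusedSectionVars false

namespace Cfsg.Agent.ZD

open FT Tr BS

universe u

variable {G : Type u} {Ω : Type u} [Group G] [MulAction G Ω] [Finite G]

theorem gd_bl {α β : Ω} {t s : G} {Q Q0 K : Subgroup G} (h : Rich α β t s s Q Q0 K)
    (h4 : ∀ x ∈ Q, x ^ 4 = 1) (hU : UData α β t Q Q0 K) {k : G} (hk : k ∈ K) {a b : G}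
    (ha : a ∈ Q) (hb : b ∈ Q) : ⁅k * a * k⁻¹, b⁆ = ⁅a, k * b * k⁻¹⁆ := by
  classical
  obtain ⟨E, _, _, φ, χ, co, hE⟩ := C1P.exists_coordE h h4 hU
  obtain ⟨σ, hσ⟩ := TwoGrp.exists_frob hE
  have hσσ : ∀ a, σ (σ a) = a := fun a => by rw [hσ, hσ, TwoGrp.pow_pow_eq hE]
  let c : E ≃+* E := RingEquiv.ofRingHom σ σ (RingHom.ext hσσ) (RingHom.ext hσσ)
  let p : G → E := fun u => if hu : ∃ k ∈ K, u = k * s * k⁻¹ then χ hu.choose ^ 2 else 0
  have x : C1P.Ctx α β t s Q Q0 K c φ χ p := ⟨h, h4, hU, co, hσ, hσσ,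
    dif_neg fun ⟨k, _, e⟩ => h.ks_ne k e.symm, fun k hk => by
      have hu : ∃ l ∈ K, k * s * k⁻¹ = l * s * l⁻¹ := ⟨k, hk, rfl⟩
      simp only [p, dif_pos hu]
      rw [← h.K_inj hk hu.choose_spec.1 h.sQ h.s_ne hu.choose_spec.2]⟩
  obtain ⟨δ, ψ, -, -, -, h2, h3, -, -⟩ := x.exists_psi
  have hm : ∀ a ∈ Q, ∀ b ∈ Q, ⁅a, b⁆ ∈ Q0 := fun a ha b hb =>
    h.comm_mem_of_pow_four ha hb (h4 a ha) (h4 b hb) (h4 _ (mul_mem ha hb))
  have key : ∀ a ∈ Q, ∀ b ∈ Q, p ⁅a, b⁆ = δ * (c (φ a) * φ b) - δ * (c (φ b) * φ a) :=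
    fun a ha b hb => by
      have e1 := h2 _ (h.Q0_le (hm a ha b hb)) _ (mul_mem hb ha)
      rw [show ⁅a, b⁆ * (b * a) = a * b by rw [commutatorElement_def]; group, h2 a ha b hb,
        h2 b hb a ha, h3 _ (hm a ha b hb), (co.ker _ (h.Q0_le (hm a ha b hb))).2 (hm a ha b hb),
        map_zero] at e1
      linear_combination -e1
  have ka := h.toHyp.QD (h.K_le hk) ha
  have kb := h.toHyp.QD (h.K_le hk) hb
  refine x.p_inj (hm _ ka b hb) (hm a ha _ kb) ?_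
  rw [key _ ka b hb, key a ha _ kb, co.conj k (mem_sup_left hk) a ha,
    co.conj k (mem_sup_left hk) b hb, map_mul, map_mul, x.cK hk]
  ring

theorem gd_normal {D : Set G} (z : ZH ⊤ (Set.univ : Set Ω) D) : (closure D).Normal :=
  ⟨fun x hx g => by
    have : closure D ≤ (closure D).comap (MulAut.conj g).toMonoidHom :=
      (closure_le _).2 fun d hd => subset_closure (z.conj d hd g trivial)
    exact this hx⟩

theorem good : GoodStmt.{u} := by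
  intro G Ω _ _ _ D z hf h2 hcp α β hne
  have nB := gd_normal z
  set B := closure D with hB
  have DB : ∀ d ∈ D, d ∈ B := fun d hd => subset_closure hd
  have oB : ∀ x : B, orderOf (x : G) = orderOf x := fun x => Subgroup.orderOf_coe x
  have uq : ∀ s ∈ B, orderOf s = 2 → ∀ γ δ : Ω, s • γ = γ → s • δ = δ → γ = δ :=
    fun s hs s2 γ δ h1 h3 => by
      by_contra hn; exact h2 s hs s2 ⟨γ, trivial, δ, trivial, hn, h1, h3⟩
  have se : SE B Ω := ⟨fun γ δ => ?tr, ⟨α, β, hne⟩, fun γ => ?ex, fun u u2 =>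
    uq u u.2 ((oB u).trans u2)⟩
  case ex =>
    obtain ⟨d, hd, e⟩ := z.surj γ trivial
    exact ⟨⟨d, DB d hd⟩, (oB _).symm.trans (z.two d hd), e⟩
  case tr =>
    by_cases hγ : γ = δ
    · exact ⟨1, by rw [one_smul, hγ]⟩
    obtain ⟨d, hd, e⟩ := z.surj δ trivial
    obtain ⟨d', hd', e'⟩ := z.surj γ trivial
    have dd := mul_self_of_orderOf_two (z.two d hd)
    have dd' := mul_self_of_orderOf_two (z.two d' hd')
    have hm := mul_mem (DB d hd) (DB d' hd')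
    rcases Nat.even_or_odd (orderOf (d * d')) with ho | ho
    · obtain ⟨m, -, m2, c1, c2⟩ := exists_central_of_even dd dd' ho
      exact absurd (uq _ (pow_mem hm m) m2 γ δ
        (uq d' (DB d' hd') (z.two d' hd') _ _ (smul_fixed_of_commute e' c2) e')
        (uq d (DB d hd) (z.two d hd) _ _ (smul_fixed_of_commute e c1) e)) hγ
    · obtain ⟨k, hk, ek⟩ := exists_conj_of_odd dd dd' ho
      exact ⟨⟨k, zpowers_le.2 hm hk⟩,
        uq d (DB d hd) (z.two d hd) _ _ (ek ▸ smul_conj_fixed (g := k) e') e⟩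
  have fB : FaithfulSMul B Ω := ⟨fun {x y} hxy => by
    rw [← inv_mul_eq_one]
    exact Subtype.ext (hf _ fun ω => by
      change ((x⁻¹ * y : B)) • ω = ω
      rw [mul_smul, ← hxy, inv_smul_smul])⟩
  obtain ⟨d₀, hd₀, e₀, he₀, hde, cde⟩ := hcp
  have h4 : Four (⊤ : Subgroup B) := ⟨⟨d₀, DB _ hd₀⟩, trivial, ⟨e₀, DB _ he₀⟩, trivial,
    (oB _).symm.trans (z.two _ hd₀), (oB _).symm.trans (z.two _ he₀),
    fun e => hde (congrArg Subtype.val e), Subtype.ext cde⟩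
  obtain ⟨t, w⟩ := se.exists_sw hne
  obtain ⟨Q, hQ⟩ := benderAll B Ω se fB h4 α β t w
  have rk : Rk2 Q := by
    obtain ⟨a, b, ha, hb, a2, b2, hab, -⟩ := se.four_fix h4 α
    exact ⟨a, hQ.mem_Q_of_sq ha (mul_self_of_orderOf_two a2), b,
      hQ.mem_Q_of_sq hb (mul_self_of_orderOf_two b2), a2, b2, hab⟩
  obtain ⟨s, r, Q0, K, h⟩ := hQ.rich rk
  obtain ⟨c1, c2⟩ := hQ.concl rk
  have inD : ∀ u : B, orderOf u = 2 → (u : G) ∈ D := fun u u2 => by
    obtain ⟨g, hg⟩ := isConj_iff.1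
      (hQ.isConj (a := ⟨d₀, DB _ hd₀⟩) ((oB _).symm.trans (z.two _ hd₀)) u2)
    rw [← hg]; exact z.conj _ hd₀ g trivial
  have mm : ∀ (L : Subgroup B) (x : B), (x : G) ∈ L.map B.subtype ↔ x ∈ L := fun L x =>
    mem_map_iff_mem B.subtype_injective
  obtain ⟨j, hj⟩ := h.cyc.exists_generator
  have mK : ∀ k, k ∈ K ↔ k ∈ zpowers (j : B) := fun k => ⟨fun hk => by
    obtain ⟨n, e⟩ := hj ⟨k, hk⟩
    exact ⟨n, congrArg Subtype.val e⟩, fun hk => zpowers_le.2 j.2 hk⟩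
  have mK' : ∀ k ∈ K, (k : G) ∈ zpowers ((j : B) : G) := fun k hk => by
    obtain ⟨n, rfl⟩ := (mK k).1 hk
    exact ⟨n, rfl⟩
  have jD := h.K_le j.2
  have ex4 : Q0 = Q ∨ ((∃ x ∈ Q, ∃ y ∈ Q, ¬ Commute x y) ∧ (∀ x ∈ Q, x ^ 4 = 1) ∧
      (Nat.card Q = (Nat.card K + 1) ^ 2 ∨ Nat.card Q = (Nat.card K + 1) ^ 3)) := by
    by_cases hc : ∃ x ∈ Q, ∃ y ∈ Q, ¬ Commute x y
    · exact Or.inr ⟨hc, h.higman higman le_rfl (isPGroup_of_forall c1)
        (fun k hk x hx => hQ.QD (h.K_le hk) hx) hc⟩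
    · push Not at hc
      exact Or.inl (le_antisymm h.Q0_le fun x hx => (h.memQ0 x).2 ⟨hx, c2 hc x hx⟩)
  have sw : ∀ s ∈ D, ∀ s' ∈ D, s • α = β → s' • α = β → s * s' ∈ zpowers ((j : B) : G) :=
    fun a ha b hb e1 e2 => by
      obtain ⟨k, hk, ek⟩ := h.swapper (t' := ⟨a, DB a ha⟩) e1
        (Subtype.ext (mul_self_of_orderOf_two (z.two a ha)))
      obtain ⟨l, hl, el⟩ := h.swapper (t' := ⟨b, DB b hb⟩) e2
        (Subtype.ext (mul_self_of_orderOf_two (z.two b hb)))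
      have : (⟨a, DB a ha⟩ * ⟨b, DB b hb⟩ : B) ∈ K := by
        have e3 := h.tkt (mul_mem (mul_mem (inv_mem hk) hl) hl)
        have e4 : k * t * k⁻¹ * (l * t * l⁻¹) = k * (t * (k⁻¹ * l * l) * t) := by
          rw [mul_assoc l t, ← h.kt hl]; group
        rw [ek, el, e4, e3]
        exact mul_mem hk (inv_mem (mul_mem (mul_mem (inv_mem hk) hl) hl))
      exact mK' _ this
  have jt : ((j : B) : G) * t ∈ D := inD _ (w.sw_mul (h.inv j.2)).t2
  have jta : (((j : B) : G) * t) • α = β := (w.sw_mul (h.inv j.2)).ta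
  have ej : ((j : B) : G) = (j : B) * t * t := congrArg Subtype.val (w.tt'' j).symm
  have cQ : #|Q.map B.subtype| = #|Q| := card_map_of_injective B.subtype_injective
  have nab : (∃ x ∈ Q, ∃ y ∈ Q, ¬ Commute x y) →
      ∃ x ∈ Q.map B.subtype, ∃ y ∈ Q.map B.subtype, ¬ Commute x y := fun ⟨x, hx, y, hy, hc⟩ =>
    ⟨x, (mm Q x).2 hx, y, (mm Q y).2 hy, fun e => hc (Subtype.ext e)⟩
  refine ⟨Q.map B.subtype, Q0.map B.subtype, (j : B), Nat.card K + 1, z, hf, hne, fun v => ?_, ?_,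
    ?_, fun γ hγ => ?_, ?_, map_mono h.Q0_le, map_subtype_le _, ?_, ?_, ?_, ?_, h.exists_q, jD.1,
    jD.2, ⟨_, jt, t, inD t w.t2, jta, w.ta, ej⟩, sw, ?_, ?_, ?_, fun g ga gb => ?_, ?_⟩
  · constructor
    · rintro ⟨v, hv, rfl⟩
      by_cases v1 : v = 1
      · exact Or.inl (by rw [v1]; rfl)
      · exact Or.inr ⟨inD v (Tr.orderOf_eq_two (h.sq_Q0 hv) v1), hQ.Qa v (h.Q0_le hv)⟩
    · rintro (rfl | ⟨hv, e⟩)
      · exact one_mem _
      · exact (mm Q0 ⟨v, DB v hv⟩).2 (h.mem_Q0_of_sq e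
          (Subtype.ext (mul_self_of_orderOf_two (z.two v hv))))
  · rintro _ ⟨x, hx, rfl⟩; exact hQ.Qa x hx
  · rintro g hg _ ⟨x, hx, rfl⟩
    obtain ⟨n, hn⟩ := c1 x hx
    refine (mm Q ⟨_, nB.conj_mem _ x.2 g⟩).2 (hQ.mem_Q_of_two_pow (n := n) ?_ (Subtype.ext ?_))
    · exact hg ▸ smul_conj_fixed (g := g) (x := (x : G)) (hQ.Qa x hx)
    · change (g * x * g⁻¹) ^ 2 ^ n = 1
      rw [conj_pow, show (x : G) ^ 2 ^ n = 1 from congrArg Subtype.val hn]; simp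
  · obtain ⟨x, hx, e⟩ := hQ.tr γ hγ
    exact ⟨x, (mm Q x).2 hx, e⟩
  · rintro _ ⟨x, hx, rfl⟩ e
    exact congrArg Subtype.val (hQ.reg x hx e)
  · rintro _ ⟨x, hx, rfl⟩
    refine (mm Q0 (x * x)).2 ((h.memQ0 _).2 ⟨mul_mem hx hx, ?_⟩)
    rcases ex4 with e | ⟨-, e, -⟩
    · rw [h.sq_Q0 (e.ge hx), one_mul]
    · rw [← e x hx]; simp only [pow_succ, pow_zero, one_mul, mul_assoc]
  · rintro _ ⟨v, hv, rfl⟩ _ ⟨x, hx, rfl⟩
    exact congrArg Subtype.val (h.cent v hv x hx).eq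
  · rintro _ ⟨x, hx, rfl⟩
    exact ⟨fun e => (mm Q0 x).2 ((h.memQ0 x).2 ⟨hx, Subtype.ext e⟩),
      fun e => congrArg Subtype.val (h.sq_Q0 ((mm Q0 x).1 e))⟩
  · rw [← h.card_Q0]; exact card_map_of_injective B.subtype_injective
  · rw [oB, Subgroup.orderOf_coe, orderOf_eq_card_of_forall_mem_zpowers hj]; rfl
  · rintro _ ⟨v, hv, rfl⟩ v1 _ ⟨v', hv', rfl⟩ v1'
    obtain ⟨k, hk, rfl⟩ := h.trK hv fun e => v1 (by rw [e]; rfl)
    obtain ⟨l, hl, rfl⟩ := h.trK hv' fun e => v1' (by rw [e]; rfl)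
    obtain ⟨n, hn⟩ := mem_powers_iff_mem_zpowers.2 (mK' _ (mul_mem hl (inv_mem hk)))
    refine ⟨n, ?_⟩
    simp only at hn
    rw [hn]; simp [mul_assoc]
  · rintro n hn _ ⟨x, hx, rfl⟩ hc
    exact congrArg Subtype.val (h.K_fpf (pow_mem j.2 n) (fun e => hn (congrArg Subtype.val e)) hx
      (Subtype.ext hc))
  · have := sw _ (z.conj _ jt g trivial) _ (z.conj _ (inD t w.t2) g trivial)
      (by rw [mul_smul, mul_smul, inv_smul_fixed ga, jta, gb])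
      (by rw [mul_smul, mul_smul, inv_smul_fixed ga]; exact (congrArg (g • ·) w.ta).trans gb)
    rw [ej]; convert this using 1
    · rw [← ej]
    · group
  · rcases ex4 with e | ⟨hc, e4, hcard⟩
    · exact Or.inl (by rw [e])
    have hQ0 : Q0 ≠ Q := fun e => by
      obtain ⟨x, hx, y, hy, hn⟩ := hc
      exact hn (h.cent x (e ▸ hx) y hy)
    by_cases hr : r ∈ Q0
    · obtain rfl := h.r_eq_s hr
      have hU := typeC0 FT.oddOrder B Ω α β t r Q Q0 K h e4 hQ0 hcard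
      obtain ⟨⟨ζ, hζ⟩, h1⟩ := ne_bot_iff_exists_ne_one.1 hU.Wne
      refine Or.inr (Or.inr ⟨cQ.trans hU.card3, nab hc, ?_, ζ, ζ.2, fun e => h1 (Subtype.ext
        (Subtype.ext e)), (oB ζ).symm ▸ hQ.odd_D hζ.1, hζ.1.1, hζ.1.2, ?_⟩)
      · rintro _ ⟨x, hx, rfl⟩ _ ⟨y, hy, rfl⟩
        exact congrArg Subtype.val (gd_bl h e4 hU j.2 hx hy)
      · rintro _ ⟨v, hv, rfl⟩
        exact congrArg Subtype.val (hζ.2 v hv)
    · obtain ⟨hm, hN, hgf⟩ := typeB B Ω α β t s r Q Q0 K h e4 hr hcard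
      refine Or.inr (Or.inl ⟨cQ.trans hN, hm, nab hc, fun g hg ga gb => ?_⟩)
      obtain ⟨L, hL⟩ := hQ.exists_closure (Q' := Q) (D' := K)
        (fun d hd x hx => hQ.QD (h.K_le hd) hx) (fun d hd => (h.tkt hd).symm ▸ inv_mem hd) hgf
      have QL : ∀ x ∈ Q, x ∈ L := fun x hx => (hL x).2 (Or.inl ⟨x, hx, 1, one_mem _, by simp⟩)
      have tL : t ∈ L := (hL t).2 (Or.inr ⟨1, one_mem _, 1, one_mem _, 1, one_mem _, by simp⟩)
      have BL : B ≤ L.map B.subtype := (closure_le _).2 fun d hd => by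
        refine (mm L ⟨d, DB d hd⟩).2 ?_
        have dd : (⟨d, DB d hd⟩ : B) * ⟨d, DB d hd⟩ = 1 :=
          Subtype.ext (mul_self_of_orderOf_two (z.two d hd))
        obtain ⟨γ, -, e⟩ := z.ex d hd
        by_cases hγ : γ = α
        · exact QL _ (hQ.mem_Q_of_sq (hγ ▸ e) dd)
        obtain ⟨x, hx, rfl⟩ := hQ.tr γ hγ
        have := QL ((x * t)⁻¹ * ⟨d, DB d hd⟩ * (x * t)⁻¹⁻¹) (hQ.mem_Q_of_sq (by
          rw [inv_inv, mul_smul, mul_smul, mul_smul, inv_smul_eq_iff, mul_smul, w.ta]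
          exact e) (conj_mul_self dd _))
        have xt := mul_mem (QL x hx) tL
        simpa [mul_assoc] using mul_mem (mul_mem xt this) (inv_mem xt)
      rcases (hL _).1 ((mm L ⟨g, hg⟩).1 (BL hg)) with ⟨x, hx, k, hk, e⟩ | ⟨x, hx, k, hk, y, hy, e⟩
      · have gb' : (⟨g, hg⟩ : B) • β = β := gb
        rw [e, mul_smul, (h.K_le hk).2] at gb'
        rw [hQ.reg x hx gb', one_mul] at e
        have := mK' k hk
        rw [← e] at this; exact this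
      · have ga' : (⟨g, hg⟩ : B) • α = α := ga
        rw [e, hQ.dec_smul (h.K_le hk) hy] at ga'
        exact absurd ga' (hQ.smul_b_ne (hQ.Qa x hx))

end Cfsg.Agent.ZD
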