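import Cfsg.Agent.Lib.ZD.A4
import Cfsg.Agent.Lib.ZD.Good
import Cfsg.Agent.Lib.ZD.Good2
import Cfsg.Agent.Lib.SF.Defs

/-! Aschbacher's criterion: the reduction to the rows C, M2, E and S2. -/

open Subgroup MulAction

set_option linter.unusedSectionVars false

namespace Cfsg.Agent.ZD

open FT Tr SF.GP

universe u

/-- Row C. -/
def CStmt : Prop :=
  ∀ (G Ω : Type u) [Group G] [Finite G] [MulAction G Ω] (D : Set G), Min Ω D → ∀ s : G, TI Ω s →
    ∀ T₀ ≤ 𝐂[s], IsPGroup 2 T₀ →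
    (∀ s' : G, TI Ω s' → ∀ T ≤ 𝐂[s'], IsPGroup 2 T → #|T| ≤ #|T₀|) →
    ∃ t a b R V K P j q Q W, CS (Ω := Ω) D t a b R V K P j q Q W ∧ (K = zpowers t → t = s)

/-- The main theorem. -/
def MTStmt : Prop :=
  ∀ (G Ω : Type u) [Group G] [Finite G] [MulAction G Ω] (D : Set G),
    ZH ⊤ (Set.univ : Set Ω) D → (∀ g : G, (∀ ω : Ω, g • ω = ω) → g = 1) →
    ∀ s ∈ closure D, orderOf s = 2 → ¬ FR (Set.univ : Set Ω) s

variable {G : Type u} {Ω : Type u} [Group G] [MulAction G Ω] [Finite G] {D : Set G}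

theorem CS.eq_zpowers {t : G} {a b : fixedBy Ω t} {R V K P : Subgroup G} {j : G} {q : ℕ}
    {Q W : Subgroup (XT Ω t)} (c : CS D t a b R V K P j q Q W) (h : #|K| ≤ 2) : K = zpowers t := by
  have : zpowers t ≤ K := zpowers_le.2 (c.eqK ▸ ⟨c.ls.tR, self_mem_Ker t⟩)
  exact (eq_of_le_of_card_ge this (by rw [Nat.card_zpowers, c.ti.two]; exact h)).symm

theorem Min.false_of (hC : CStmt.{u}) (hM : M2Stmt.{u}) (hE : EStmt.{u}) (hS : S2Stmt.{u})
    (h : Min Ω D) {s : G} (hs : TI Ω s) : False := by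
  obtain ⟨⟨s₀, T₀⟩, ⟨h1, h2, h3⟩, hm⟩ := Set.exists_max_image
    {p : G × Subgroup G | TI Ω p.1 ∧ p.2 ≤ 𝐂[p.1] ∧ IsPGroup 2 p.2} (fun p => #|p.2|)
    (Set.toFinite _) ⟨(s, ⊥), hs, bot_le, IsPGroup.of_bot⟩
  obtain ⟨t, a, b, R, V, K, P, j, q, Q, W, c, -⟩ :=
    hC G Ω D h s₀ h1 T₀ h2 h3 fun s' h4 T h5 h6 => hm (s', T) ⟨h4, h5, h6⟩
  have hK := c.eq_zpowers (hM G Ω D t a b R V K P j q Q W c)
  refine hS G Ω D t a b R V K P j q Q W c hK ?_ (hE G Ω D t a b R V K P j q Q W c hK)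
  intro s' h4 T h5 h6 h7 u u2 hu hf
  obtain ⟨t', a', b', R', V', K', P', j', q', Q', W', c', e⟩ :=
    hC G Ω D h s' h4 T h5 h6 fun s'' h8 T' h9 h10 => (c.max s'' h8 T' h9 h10).trans h7
  have hK' := c'.eq_zpowers (hM G Ω D _ _ _ _ _ _ _ _ _ _ _ c')
  obtain rfl := e hK'
  have hk := c'.four u u2 hu hf
  obtain ⟨x, hx, hR⟩ := c'.sylR.exists_conj_mem (mem_cent1.2 hu.eq) (k := 1) (by simpa [sq] using u2)
  have : x * u * x⁻¹ ∈ zpowers t' := by
    rw [← hK', c'.eqK]; exact ⟨hR, conj_mem_Ker (cent1_le_Stab t' hx) hk⟩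
  rcases (mem_zpowers_sq h4.sq).1 this with e | e
  · exact Or.inl (by simpa using e)
  · refine Or.inr ?_
    calc u = x⁻¹ * (x * u * x⁻¹) * x := by group
      _ = t' := by rw [e, mul_assoc, ← mem_cent1.1 hx]; group

theorem pr_mem_closure {H : Subgroup G} {F : Set Ω} (hI : ∀ g ∈ H, ∀ ω ∈ F, g • ω ∈ F)
    (hD : ∀ d ∈ D, d ∈ H) {s : G} (hs : s ∈ closure D) : pr H F s ∈ closure (pr H F '' D) := by
  have hl : closure D ≤ H := (closure_le _).2 hD
  induction hs using closure_induction with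
  | mem x hx => exact subset_closure ⟨x, hx, rfl⟩
  | one => rw [pr_one hI]; exact one_mem _
  | mul x y hx hy h1 h2 => rw [pr_mul hI (hl hx) (hl hy)]; exact mul_mem h1 h2
  | inv x hx h1 => rw [pr_inv hI (hl hx)]; exact inv_mem h1

theorem ZH.cp_pr {H : Subgroup G} {F : Set Ω} (h : ZH H F D) (hp : CP D) {a b : Ω} (ha : a ∈ F)
    (hb : b ∈ F) (ne : a ≠ b) : CP (ZD.pr H F '' D) := by
  obtain ⟨d, hd, e, he, n, hc⟩ := hp
  refine ⟨_, ⟨d, hd, rfl⟩, _, ⟨e, he, rfl⟩, fun e1 => ?_,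
    pr_commute h.inv (h.le d hd) (h.le e he) hc⟩
  have := (pr_eq_iff' h.inv (h.le d hd) (h.le e he)).1 e1
  rw [h.inv_eq hd] at this
  exact h.prod d hd e he n hc ⟨a, ha, b, hb, ne, this a ha, this b hb⟩

theorem ZH.cp_of_fr (h : ZH ⊤ (Set.univ : Set Ω) D) {s : G} (hs : s ∈ closure D)
    (s2 : orderOf s = 2) (hf : FR (Set.univ : Set Ω) s) : CP D := by
  by_contra hp
  obtain ⟨α, -, β, -, ne, -⟩ := id hf
  obtain ⟨d, hd, -⟩ := h.surj α trivial
  have dB : d ∈ closure D := subset_closure hd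
  have hN : ∀ g ∈ closure D, ∀ x ∈ 𝐎(closure D), g * x * g⁻¹ ∈ 𝐎(closure D) := fun g hg x hx =>
    conj_mem_of_mem_normalizer (pcore_norm _ _ hg) hx
  have key : ∀ x ∈ closure D, x ∈ 𝐎(closure D) ∨ x * d ∈ 𝐎(closure D) := by
    intro x hx
    induction hx using closure_induction with
    | mem e he =>
      obtain ⟨g, hg, rfl⟩ := h.isConj hd he trivial trivial ne
      have := zstar_in dB (h.two d hd) (fun g _ hc => by
        by_contra n
        exact hp ⟨d, hd, _, h.conj d hd g trivial, fun e => n e.symm, hc⟩) hg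
      right
      convert inv_mem this using 1
      rw [mul_inv_rev, mul_inv_rev, mul_inv_rev, inv_inv, inv_inv, h.inv_eq hd]; group
    | one => exact Or.inl (one_mem _)
    | mul x y hx hy h1 h2 =>
      have e : ∀ z, d * z * d⁻¹ = d * z * d := fun z => by rw [h.inv_eq hd]
      rcases h1 with h1 | h1 <;> rcases h2 with h2 | h2
      · exact Or.inl (Subgroup.mul_mem _ h1 h2)
      · exact Or.inr (by rw [mul_assoc]; exact Subgroup.mul_mem _ h1 h2)
      · right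
        convert Subgroup.mul_mem _ h1 (hN d dB y h2) using 1
        rw [e]; simp only [mul_assoc, h.sq' hd]
      · left
        convert Subgroup.mul_mem _ h1 (hN d dB _ h2) using 1
        rw [e]; simp only [mul_assoc, h.sq' hd, h.sq hd, mul_one]
    | inv x hx h1 =>
      rcases h1 with h1 | h1
      · exact Or.inl (inv_mem h1)
      · right
        convert hN d dB _ (inv_mem h1) using 1
        rw [mul_inv_rev, h.inv_eq hd]; simp only [← mul_assoc, h.sq hd, one_mul]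
  have ss : s * s = 1 := by rw [← pow_two, ← s2, pow_orderOf_eq_one]
  rcases key s hs with h1 | h1
  · have := eq_one_of_odd_sq (odd_core _) h1 ss
    rw [this, orderOf_one] at s2; omega
  · obtain ⟨k, -, e⟩ := exists_conj_of_odd ss (h.sq hd) (odd_orderOf_of_odd_card (odd_core _) h1)
    exact h.uniq s (e ▸ h.conj d hd k trivial) hf

theorem ZH.simple (h : ZH ⊤ (Set.univ : Set Ω) D) (hf : ∀ g : G, (∀ ω : Ω, g • ω = ω) → g = 1)
    (hp : CP D) (hB : closure D = ⊤) {α β : Ω} (ne : α ≠ β) : IsSimpleGroup G := by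
  have hm : ∀ d ∈ D, ∀ e ∈ D, d ≠ e → Commute d e → d * e ∈ D := fun d hd e he =>
    h.mul_mem (fun g _ hg => hf g fun ω => hg ω trivial) hd he
  obtain ⟨d, hd, e, he, n, hc⟩ := hp
  haveI : Nontrivial G := ⟨d, e, n⟩
  refine ⟨fun N hN => ?_⟩
  by_cases hD : ∃ c ∈ D, c ∈ N
  · obtain ⟨c, hc1, hc2⟩ := hD
    refine Or.inr (top_le_iff.1 (hB ▸ (Subgroup.closure_le _).2 fun x hx => ?_))
    obtain ⟨g, -, rfl⟩ := h.isConj hc1 hx trivial trivial ne
    exact hN.conj_mem c hc2 g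
  left
  have nN : ∀ g : G, g ∈ 𝐍(𝐎(N)) := fun g => pcore_char _ _ (by rw [normalizer_eq_top]; trivial)
  have hO : 𝐎(N) = ⊥ := by
    obtain ⟨γ, -, hγ⟩ := h.ex d hd
    have eγ : e • γ = γ := h.fix_of_comm hd trivial hγ trivial hc.symm
    have : 𝐎(N) ≤ stabilizer G γ := by
      refine gen4 (TwoGrp.isKleinFour_four (h.sq hd) (h.sq he) hc.eq (h.ne_one hd) (h.ne_one he) n)
        (odd_core N) (fun g _ => nN g) fun x hx x1 y hy => ?_
      have hy' : Commute y x := mem_cent1.1 hy.2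
      rcases TwoGrp.mem_four.1 hx with rfl | rfl | rfl | rfl
      · exact absurd rfl x1
      · exact h.fix_of_comm hd trivial hγ trivial hy'
      · exact h.fix_of_comm he trivial eγ trivial hy'
      · exact h.fix_of_comm (hm d hd e he n hc) trivial (by rw [mul_smul, eγ, hγ]) trivial hy'
    refine eq_bot_iff.2 fun x hx => hf x fun ω => ?_
    obtain ⟨g, -, rfl⟩ := h.tr (α := γ) (β := ω) trivial trivial
    have h1 : (g⁻¹ * x * g) • γ = γ := this (conj_mem_of_mem_normalizer' (nN g) hx)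
    rw [mul_smul, mul_smul, inv_smul_eq_iff] at h1
    exact h1
  refine eq_bot_iff.2 fun x hx => hf x fun ω => ?_
  obtain ⟨c, hc1, hc2⟩ := h.surj ω trivial
  set L := (zpowers (QuotientGroup.mk' N c)).comap (QuotientGroup.mk' N)
  have hL : ∀ g ∈ L, c * g * c⁻¹ * g⁻¹ ∈ N := fun g hg => by
    rw [← QuotientGroup.eq_one_iff (N := N)]
    obtain ⟨k, hk⟩ := mem_zpowers_iff.1 (mem_comap.1 hg)
    change QuotientGroup.mk' N _ = 1
    simp only [map_mul, map_inv, ← hk]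
    group
  have NL : N ≤ L := fun y hy => mem_comap.2 (by
    rw [show QuotientGroup.mk' N y = 1 from (QuotientGroup.eq_one_iff y).2 hy]; exact one_mem _)
  have := zstar_in (L := L) (mem_comap.2 (mem_zpowers _)) (h.two c hc1) (fun g hg h1 => by
    by_contra n
    refine hD ⟨_, hm c hc1 _ (h.conj c hc1 g trivial) (fun e => n e.symm) h1, ?_⟩
    have := hL g hg
    rw [h.inv_eq hc1] at this
    simpa only [mul_assoc] using this) (NL hx)
  have h2 : c * x * c⁻¹ * x⁻¹ = 1 := by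
    rw [← mem_bot, ← hO]; exact inf_core_le NL ⟨this, hL x (NL hx)⟩
  refine h.fix_of_comm hc1 trivial hc2 trivial ?_
  rw [mul_inv_eq_one, mul_inv_eq_iff_eq_mul] at h2
  exact h2.symm

theorem mt_of (hC : CStmt.{u}) (hM : M2Stmt.{u}) (hE : EStmt.{u}) (hS : S2Stmt.{u}) :
    MTStmt.{u} := by
  intro G Ω _ _ _ D
  induction hn : Nat.card G using Nat.strong_induction_on generalizing G Ω with
  | _ n ih =>
  intro h hf s hs s2 hfr
  have IH : ∀ H : Subgroup G, H ≠ ⊤ → ∀ (F : Set Ω) (D' : Set G), ZH H F D' → ∀ a ∈ F, ∀ b ∈ F,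
      a ≠ b → ∀ σ ∈ closure (pr H F '' D'), orderOf σ = 2 → ¬ FR (Set.univ : Set F) σ := by
    intro H hH F D' z a ha b hb ne
    haveI := finite_XS z.inv
    exact ih _ (hn ▸ (card_XS_le z.inv).trans_lt (by
      simpa using Solv.card_lt_of_lt (lt_top_iff_ne_top.2 hH))) _ _ _ rfl
      (z.pr ha hb ne) XS_faith
  obtain ⟨α, -, β, -, ne, -⟩ := id hfr
  have hp := h.cp_of_fr hs s2 hfr
  have hB : closure D = ⊤ := by
    by_contra hB
    have z : ZH (closure D) (Set.univ : Set Ω) D :=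
      ⟨fun d hd => subset_closure hd, fun _ _ _ _ => trivial, fun d hd g _ => h.conj d hd g trivial,
        h.two, h.ex, h.surj, h.uniq, h.prod⟩
    refine IH _ hB _ _ z α trivial β trivial ne _ (pr_mem_closure z.inv z.le hs) ?_
      ((fr_pr z.inv hs).2 hfr)
    refine orderOf_eq_prime (by rw [← pr_pow z.inv hs, ← s2, pow_orderOf_eq_one, pr_one z.inv])
      fun e => ?_
    have := hf s fun ω => (pr_eq_one z.inv hs).1 e ω trivial
    rw [this, orderOf_one] at s2; omega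
  refine Min.false_of hC hM hE hS (D := D) ⟨h, hf, h.simple hf hp hB ne, hp, ?_⟩ ⟨s2, hfr⟩
  intro H hH F z cp a b ne
  haveI := finite_XS z.inv
  have n' : (a : Ω) ≠ b := fun e => ne (Subtype.ext e)
  obtain ⟨Q, W, j, q, hg⟩ := good _ _ _ (z.pr a.2 b.2 n') XS_faith
    (IH H hH F _ z a a.2 b b.2 n') (z.cp_pr cp a.2 b.2 n') a b ne
  exact ⟨Q, W, j, q, good2 _ _ _ _ _ _ _ _ _ hg⟩

omit [Finite G] in
theorem conj_mem_cent1 {x y : G} (c : G) (h : y ∈ 𝐂[x]) : c * y * c⁻¹ ∈ 𝐂[c * x * c⁻¹] :=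
  mem_cent1.2 (by
    rw [show c * y * c⁻¹ * (c * x * c⁻¹) = c * (y * x) * c⁻¹ by group, mem_cent1.1 h]; group)

/-- The statement S1175. -/
def S1175Stmt : Prop :=
  ∀ (G : Type u) [Group G] [Finite G] [IsSimpleGroup G] (M : Subgroup G), M ≠ ⊤ → ∀ z : G,
    orderOf z = 2 → z ∈ M → (∃ S : Sylow 2 G, z ∈ S ∧ ∀ s ∈ S, Commute s z) →
    (∀ g : G, g * z * g⁻¹ ∈ M → g ∈ M) →
    (∀ g : G, Commute z (g * z * g⁻¹) → g * z * g⁻¹ ≠ z → 𝐂[z * (g * z * g⁻¹)] ≤ M) →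
    IsStronglyEmbedded M

theorem smul_mk_iff {M : Subgroup G} (x g : G) :
    x • (g : G ⧸ M) = (g : G ⧸ M) ↔ g⁻¹ * x * g ∈ M := by
  rw [MulAction.Quotient.smul_coe, eq_comm, QuotientGroup.eq, smul_eq_mul, mul_assoc]

theorem s1175_of (hT : MTStmt.{u}) : S1175Stmt.{u} := by
  intro G _ _ _ M hM z hz hzM ⟨S, hzS, hS⟩ h2 h3
  have zz : z * z = 1 := by rw [← pow_two, ← hz, pow_orderOf_eq_one]
  have fx : ∀ c g : G, (c * z * c⁻¹) • (g : G ⧸ M) = g ↔ (g : G ⧸ M) = c := fun c g => by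
    rw [smul_mk_iff, QuotientGroup.eq]
    refine ⟨fun h => h2 _ (by convert h using 1; group), fun h => ?_⟩
    convert M.mul_mem (M.mul_mem h hzM) (M.inv_mem h) using 1; group
  have SM : SylowIn 2 (S : Subgroup G) M := SylowIn.of_sylow_le S fun s hs =>
    h2 s (by rw [(hS s hs).eq, mul_inv_cancel_right]; exact hzM)
  -- a product of two commuting conjugates fixes one point
  have key : ∀ g : G, Commute z (g * z * g⁻¹) → g * z * g⁻¹ ≠ z → ∀ c : G,
      (z * (g * z * g⁻¹)) • (c : G ⧸ M) = c → (c : G ⧸ M) = (1 : G) := by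
    intro g hc n c h
    rw [smul_mk_iff] at h
    have u2 : z * (g * z * g⁻¹) * (z * (g * z * g⁻¹)) = 1 :=
      sq_mul_of_comm hc zz (by rw [show g * z * g⁻¹ * (g * z * g⁻¹) = g * (z * z) * g⁻¹ by group, zz]; group)
    have h3 := h3 g hc n
    generalize z * (g * z * g⁻¹) = u at *
    obtain ⟨x, hx, h4⟩ := SM.exists_conj_mem h (k := 1) (by
      rw [pow_one, pow_two, show c⁻¹ * u * c * (c⁻¹ * u * c) = c⁻¹ * (u * u) * c by group, u2]; group)
    have h5 : c * x⁻¹ * z * (c * x⁻¹)⁻¹ ∈ M := h3 (mem_cent1.2 (by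
      have := (hS _ h4).eq
      calc c * x⁻¹ * z * (c * x⁻¹)⁻¹ * u
          = c * x⁻¹ * (z * (x * (c⁻¹ * u * c) * x⁻¹)) * (c * x⁻¹)⁻¹ := by group
        _ = u * (c * x⁻¹ * z * (c * x⁻¹)⁻¹) := by rw [← this]; group))
    rw [QuotientGroup.eq, mul_one, inv_mem_iff]
    simpa using M.mul_mem (h2 _ h5) hx
  have zh : ZH ⊤ (Set.univ : Set (G ⧸ M)) {d | ∃ g : G, g * z * g⁻¹ = d} := by
    refine ⟨fun _ _ => trivial, fun _ _ _ _ => trivial, ?_, ?_, ?_, ?_, ?_, ?_⟩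
    · rintro _ ⟨g, rfl⟩ c -; exact ⟨c * g, by group⟩
    · rintro _ ⟨g, rfl⟩; rw [← hz]; exact (MulAut.conj g).orderOf_eq z
    · rintro _ ⟨g, rfl⟩; exact ⟨g, trivial, (fx g g).2 rfl⟩
    · intro ω _
      obtain ⟨g, rfl⟩ := QuotientGroup.mk_surjective ω
      exact ⟨_, ⟨g, rfl⟩, (fx g g).2 rfl⟩
    · rintro _ ⟨g, rfl⟩ ⟨α, -, β, -, ne, h4, h5⟩
      obtain ⟨a, rfl⟩ := QuotientGroup.mk_surjective α
      obtain ⟨b, rfl⟩ := QuotientGroup.mk_surjective β
      exact ne (((fx g a).1 h4).trans ((fx g b).1 h5).symm)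
    · rintro _ ⟨g, rfl⟩ _ ⟨k, rfl⟩ n hc hf
      obtain ⟨α, -, β, -, ne, h4, h5⟩ := hf.conj (g := g⁻¹) fun _ _ => trivial
      obtain ⟨a, rfl⟩ := QuotientGroup.mk_surjective α
      obtain ⟨b, rfl⟩ := QuotientGroup.mk_surjective β
      have e : g⁻¹ * (g * z * g⁻¹ * (k * z * k⁻¹)) * g⁻¹⁻¹ =
          z * (g⁻¹ * k * z * (g⁻¹ * k)⁻¹) := by group
      rw [e] at h4 h5
      have c1 : Commute z (g⁻¹ * k * z * (g⁻¹ * k)⁻¹) := by
        have := hc.map (MulAut.conj g⁻¹)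
        simp only [MulAut.conj_apply] at this
        convert this using 1 <;> group
      have n1 : g⁻¹ * k * z * (g⁻¹ * k)⁻¹ ≠ z := fun e => n (by
        conv_lhs => rw [← e]
        group)
      exact ne ((key _ c1 n1 a h4).trans (key _ c1 n1 b h5).symm)
  have z1 : z ≠ 1 := by rintro rfl; rw [orderOf_one] at hz; omega
  have hf : ∀ g : G, (∀ ω : G ⧸ M, g • ω = ω) → g = 1 := by
    intro g hg
    rcases (normalCore_normal M).eq_bot_or_eq_top with e | e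
    · rw [← mem_bot, ← e]
      intro b
      simpa using (smul_mk_iff g b⁻¹).1 (hg _)
    · exact absurd (top_le_iff.1 (e ▸ normalCore_le M)) hM
  have hB : closure {d | ∃ g : G, g * z * g⁻¹ = d} = ⊤ :=
    (gd_normal zh).eq_bot_or_eq_top.resolve_left fun e =>
      z1 (by rw [← mem_bot, ← e]; exact subset_closure ⟨1, by group⟩)
  refine ⟨hM, ?_, fun g hg => ?_⟩
  · exact even_iff_two_dvd.2 (hz ▸ M.orderOf_dvd_natCard hzM)
  · rw [← Nat.not_even_iff_odd, even_iff_two_dvd]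
    intro hd
    obtain ⟨⟨s, h4, m, h5, e⟩, s2⟩ := exists_prime_orderOf_dvd_card' 2 hd
    refine hT G (G ⧸ M) _ zh hf s (hB ▸ trivial) ((Subgroup.orderOf_coe _).trans s2)
      ⟨(1 : G), trivial, (g : G), trivial, fun e => hg (by simpa using QuotientGroup.eq.1 e), ?_, ?_⟩
    · rw [smul_mk_iff]; simpa using h4
    · rw [smul_mk_iff, ← e]; simpa [mul_assoc] using h5

theorem s1174_of (h5 : S1175Stmt.{u}) : SF.S1174Stmt.{u} := by
  intro X _ _ _ S T hT1 hT hp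
  set M := ⨆ t : {t : X // t ∈ T ∧ orderOf t = 2}, 𝐂[(t : X)] with hM
  have CM : ∀ t ∈ T, orderOf t = 2 → 𝐂[t] ≤ M := fun t h1 h2 =>
    le_iSup (fun t : {t : X // t ∈ T ∧ orderOf t = 2} => 𝐂[(t : X)]) ⟨t, h1, h2⟩
  have NT : 𝐍((S : Subgroup X)) ≤ 𝐍(M) := fun g hg => by
    refine mem_normalizer_of_forall fun x hx => ?_
    have : M ≤ M.comap (MulAut.conj g).toMonoidHom := iSup_le fun t y hy =>
      CM (g * t * g⁻¹) (hT.2 t t.2.1 g (conj_mem_of_mem_normalizer hg (hT.1 t.2.1)))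
        (((MulAut.conj g).orderOf_eq _).trans t.2.2) (conj_mem_cent1 g hy)
    exact this hx
  obtain ⟨z, hzT, hz, hzS⟩ : ∃ z ∈ T, orderOf z = 2 ∧ z ∈ 𝐂((S : Subgroup X)) := by
    have n : T ⊴ (S : Subgroup X) := ⟨hT.1, fun g hg => mem_normalizer_of_forall fun x hx =>
      hT.2 x hx g (S.1.mul_mem (S.1.mul_mem hg (hT.1 hx)) (S.1.inv_mem hg))⟩
    have h1 := meet_center_nil (pgroup_nil S.2) n hT1
    have h2 : IsPGroup 2 (T ⊓ 𝐙((S : Subgroup X)) : Subgroup X) := S.2.to_le (inf_le_left.trans hT.1)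
    obtain ⟨⟨z, hz⟩, z2⟩ := exists_prime_orderOf_dvd_card' (G := (T ⊓ 𝐙((S : Subgroup X)) : Subgroup X))
      2 (pgroup_pdiv h2 h1)
    exact ⟨z, hz.1, (Subgroup.orderOf_coe _).trans z2, hz.2.2⟩
  have zz : z * z = 1 := by rw [← pow_two, ← hz, pow_orderOf_eq_one]
  have SC : (S : Subgroup X) ≤ 𝐂[z] := fun s hs => mem_cent1.2 (hzS s hs)
  have zM : z ∈ M := CM z hzT hz (mem_cent1.2 rfl)
  have c2 : ∀ g : X, (g * z * g⁻¹) ^ 2 ^ 1 = 1 := fun g => by
    rw [pow_one, conj_pow, ← hz, pow_orderOf_eq_one]; group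
  have MN : M ≤ 𝐍(M) := le_normalizer
  refine ⟨_, h5 X 𝐍(M) (fun e => ?_) z hz (MN zM) ⟨S, hT.1 hzT, fun s hs => hzS s hs⟩
    (fun g hg => ?_) fun g hc n => ?_⟩
  · rcases (normalizer_eq_top_iff.1 e).eq_bot_or_eq_top with e | e
    · rw [e, mem_bot] at zM; rw [zM, orderOf_one] at hz; omega
    · exact hp e
  · have SM : SylowIn 2 (S : Subgroup X) 𝐍(M) := SylowIn.of_sylow_le S (le_normalizer.trans NT)
    obtain ⟨m, hm, h1⟩ := SM.exists_conj_mem hg (c2 g)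
    rw [show m * (g * z * g⁻¹) * m⁻¹ = (m * g) * z * (m * g)⁻¹ by group] at h1
    have h2 := CM _ (hT.2 z hzT _ h1) (((MulAut.conj (m * g)).orderOf_eq _).trans hz)
    have h3 : cj (m * g) (S : Subgroup X) ≤ 𝐍(M) := by
      rintro _ ⟨y, hy, rfl⟩
      exact MN (h2 (conj_mem_cent1 _ (SC hy)))
    obtain ⟨x, hx, e⟩ := SM.exists_cj_eq (((SylowIn.top S).cj_of_mem (g := m * g) trivial).mono h3 le_top)
    rw [← cj_mul] at e
    have := NT (cj_eq_iff.1 e)
    exact (mul_mem_cancel_left hm).1 ((mul_mem_cancel_left hx).1 this)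
  · obtain ⟨c, hc1, h1⟩ := (SylowIn.of_sylow_le S SC).exists_conj_mem (mem_cent1.2 hc.symm.eq) (c2 g)
    rw [show c * (g * z * g⁻¹) * c⁻¹ = (c * g) * z * (c * g)⁻¹ by group] at h1
    have e : c * (z * (g * z * g⁻¹)) * c⁻¹ = z * ((c * g) * z * (c * g)⁻¹) := by
      rw [← mul_assoc, mem_cent1.1 hc1]; group
    have u2 : orderOf (z * (g * z * g⁻¹)) = 2 := orderOf_eq_prime
      (by rw [hc.mul_pow, ← pow_one 2, c2, pow_one, pow_two, zz, one_mul]) fun e => n (by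
        rw [mul_eq_one_iff_inv_eq] at e; rw [← e, inv_eq_iff_mul_eq_one, zz])
    have h2 := CM (c * (z * (g * z * g⁻¹)) * c⁻¹) (e ▸ T.mul_mem hzT (hT.2 z hzT _ h1)) (((MulAut.conj c).orderOf_eq _).trans u2)
    intro y hy
    have h3 : c * y * c⁻¹ ∈ M := h2 (conj_mem_cent1 c hy)
    have cM := CM z hzT hz hc1
    exact MN ((mul_mem_cancel_left cM).1 ((mul_mem_cancel_right (inv_mem cM)).1 h3))

end Cfsg.Agent.ZD
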