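import Cfsg.Agent.Lib.ZD.C0
import Cfsg.Agent.Lib.ZD.Main1

/-! Row C: construction of `C0` and assembly. -/

open Subgroup MulAction
open scoped commutatorElement

set_option linter.unusedSectionVars false

namespace Cfsg.Agent.ZD

open FT Tr SF.GP

universe u

variable {G : Type u} {Ω : Type u} [Group G] [MulAction G Ω]

theorem exists_sq_mem {R : Subgroup G} {x : G} (hx : x ∉ R) {n : ℕ} (hn : x ^ 2 ^ n ∈ R) :
    ∃ g ∈ zpowers x, g ∉ R ∧ g * g ∈ R := by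
  induction n with
  | zero => exact absurd (by simpa using hn) hx
  | succ n ih =>
    by_cases h : x ^ 2 ^ n ∈ R
    · exact ih h
    · exact ⟨_, pow_mem (mem_zpowers x) _, h, by rwa [← pow_two, ← pow_mul, ← pow_succ]⟩

theorem rel_surj {α : Type*} {S : Set α} (hS : S.Finite) (r : α → α → Prop)
    (h1 : ∀ x ∈ S, ∃ y ∈ S, r x y) (h2 : ∀ x ∈ S, ∀ x' ∈ S, ∀ y ∈ S, r x y → r x' y → x = x') :
    ∀ y ∈ S, ∃ x ∈ S, r x y := by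
  choose! f hf hr using h1
  intro y hy
  obtain ⟨x, hx, rfl⟩ := ((hS.injOn_iff_bijOn_of_mapsTo hf).1 fun x hx x' hx' e =>
    h2 x hx x' hx' _ (hf x hx) (hr x hx) (e ▸ hr x' hx')).surjOn hy
  exact ⟨x, hx, hr x hx⟩

namespace LS
variable {D : Set G} {t : G} {a b : fixedBy Ω t} {R V : Subgroup G} {Q W : Subgroup (XT Ω t)}
  {i : XT Ω t} {q : ℕ} (h : LS D t a b R V Q W i q) [Finite G]
include h

theorem eq_of_Ker {u w w' : G} (u2 : u * u = 1) (u1 : u ≠ 1) (hu : u ∈ 𝐂[t] ⊓ 𝐂(V)) (hw : w ∈ V)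
    (hw' : w' ∈ V) (h1 : u ∈ Ker G (fixedBy Ω (t * w))) (h2 : u ∈ Ker G (fixedBy Ω (t * w'))) :
    w = w' := by
  have key : ∀ w ∈ V, u ∈ Ker G (fixedBy Ω (t * w)) → fixedBy Ω u = fixedBy Ω (t * w) :=
    fun w hw hK => h.min.d1_eq (h.ti_mul hw) u2 u1
      (Commute.mul_left (mem_cent1.1 hu.1).symm (mem_cent.1 hu.2 w hw)) hK
  have k3 := mul_mem (inv_mem (self_mem_Ker (Ω := Ω) (t * w'))) (show t * w ∈ Ker G
    (fixedBy Ω (t * w')) by rw [← key w' hw' h2, key w hw h1]; exact self_mem_Ker _)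
  obtain ⟨α, β, hne⟩ := (h.ti_mul hw').exists_ne
  exact (inv_mul_eq_one.1 (h.eq_one_of_fr (V.mul_mem (V.inv_mem hw') hw)
    (fr_of_Ker α.2 β.2 (fun e => hne (Subtype.ext e)) (by simpa [mul_assoc] using k3)))).symm

theorem mem_E1 {x : G} (hx : x ∈ R) (hW : pT Ω t x ∈ W) :
    ∃ k ∈ R ⊓ Ker G (fixedBy Ω t), ∃ v ∈ V, x = k * v := by
  obtain ⟨v, hv, e⟩ := (h.piV _).1 hW
  refine ⟨x * v⁻¹, ⟨R.mul_mem hx (R.inv_mem (h.VR hv)), (pT_eq_one (mul_mem (h.RS hx)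
    (inv_mem (h.VS hv)))).1 ?_⟩, v, hv, by simp⟩
  rw [pT_mul (h.RS hx) (inv_mem (h.VS hv)), pT_inv (h.VS hv), e, mul_inv_cancel]

theorem c1' {w y : G} (hw : w ∈ V) (h1 : y ∈ 𝐂[t] ⊓ 𝐂(V)) (h3 : y ∈ Ker G (fixedBy Ω (t * w))) :
    pT Ω t y ∈ W := by
  by_cases e : w = 1
  · rw [e, mul_one] at h3; rw [pT_Ker h3]; exact W.one_mem
  · exact h.c1 hw e h1.1 h1.2 h3

theorem nCE {g w : G} (hg : g ∈ 𝐍(V)) (hw : w ∈ V) (e : g * t * g⁻¹ = t * w) :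
    g ∈ 𝐍((𝐂[t] ⊓ 𝐂(V) : Subgroup G)) := mem_normalizer_of_forall fun x hx => by
  have h1 := conj_mem_of_mem_normalizer (normalizer_le_normalizer_centralizer V hg) hx.2
  refine ⟨mem_cent1.2 ?_, h1⟩
  have h2 : Commute (g * x * g⁻¹) (t * w) :=
    e ▸ (show Commute x t from mem_cent1.1 hx.1).map (MulAut.conj g).toMonoidHom
  simpa using (h2.mul_right (Commute.inv_right (mem_cent.1 h1 w hw).symm)).eq

theorem conj_Ker {g w y : G} (e : g * t * g⁻¹ = t * w) :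
    g * y * g⁻¹ ∈ Ker G (fixedBy Ω (t * w)) ↔ y ∈ Ker G (fixedBy Ω t) := by
  rw [← e, ← cj_Ker_fixedBy, conj_mem_cj]

theorem lift_CE {ξ : XT Ω t} (hξ : ξ ∈ closure (DT Ω D t)) (hc : ξ ∈ 𝐂(W)) :
    ∃ g ∈ 𝐂[t] ⊓ 𝐂(V), pT Ω t g = ξ := by
  obtain ⟨g, k3, k4, rfl⟩ := h.lift_NV1 hξ (h.good.toGood.Ca hc)
  exact ⟨g, ⟨k3, h.mem_CV k4 (cent1_le_Stab t k3) hc⟩, rfl⟩

/-- The preimage of `Q` in `C(E)` is invariant under `N(E) ∩ N(V)`. -/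
theorem nQ {g w y : G} (hg : g ∈ 𝐍(V)) (hw : w ∈ V) (e : g * t * g⁻¹ = t * w)
    (hy : y ∈ 𝐂[t] ⊓ 𝐂(V)) (hQ : pT Ω t y ∈ Q) : pT Ω t (g * y * g⁻¹) ∈ Q := by
  have hS := cent1_le_Stab (Ω := Ω) t
  have hn := h.nCE hg hw e
  have key : ∀ ξ ∈ prS (Stab_inv _) (cj g (𝐂[t] ⊓ 𝐂(V) ⊓ prC (Stab_inv _) Q)),
      ∃ x ∈ 𝐂[t] ⊓ 𝐂(V), pT Ω t x ∈ Q ∧ pT Ω t (g * x * g⁻¹) = ξ := fun ξ hξ => by
    obtain ⟨_, h1, -, rfl⟩ := (mem_prS _).1 hξ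
    obtain ⟨x, h2, rfl⟩ := mem_cj'.1 h1
    exact ⟨x, h2.1, ((mem_prC _).1 h2.2).2, rfl⟩
  refine h.good.o2 (prS (Stab_inv _) (cj g (𝐂[t] ⊓ 𝐂(V) ⊓ prC (Stab_inv _) Q))) (fun ξ hξ => ?_) (fun ξ hξ hc => mem_normalizer_of_forall fun η hη => ?_)
    (isPGroup_iff_forall_mem.2 fun ξ hξ => ?_) (pr_mem_prS _ (conj_mem_cj.2 ⟨hy, (mem_prC _).2
      ⟨hS hy.1, hQ⟩⟩) (hS (conj_mem_of_mem_normalizer hn hy).1))
  · obtain ⟨x, h1, -, rfl⟩ := key ξ hξ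
    have := conj_mem_of_mem_normalizer hn h1
    exact h.pi_CW (hS this.1) this.2
  · obtain ⟨x, h1, h2, rfl⟩ := key η hη
    obtain ⟨c, hc', rfl⟩ := h.lift_CE hξ hc
    have h3 := conj_mem_of_mem_normalizer hn h1
    have h4 := conj_mem_of_mem_normalizer' hn hc'
    rw [← pT_conj (hS hc'.1) (hS h3.1)]
    refine pr_mem_prS _ (mem_cj.2 ?_) (hS (mul_mem (mul_mem hc' h3) (inv_mem hc')).1)
    rw [show g⁻¹ * (c * (g * x * g⁻¹) * c⁻¹) * g = g⁻¹ * c * g * x * (g⁻¹ * c * g)⁻¹ by group]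
    have h5 := mul_mem (mul_mem h4 h1) (inv_mem h4)
    refine ⟨h5, (mem_prC _).2 ⟨hS h5.1, ?_⟩⟩
    rw [pr_conj (Stab_inv _) (hS h4.1) (hS h1.1)]
    exact h.good.Qn _ (h.good.toGood.Ca (h.pi_CW (hS h4.1) h4.2)) _ h2
  · obtain ⟨x, h1, h2, rfl⟩ := key ξ hξ
    have h3 := conj_mem_of_mem_normalizer hn h1
    have h4 : x ^ 4 ∈ Ker G (fixedBy Ω t) := (pT_eq_one (hS (pow_mem h1.1 4))).1 (by
      rw [pT_pow (hS h1.1), show 4 = 2 + 2 from rfl, pow_add, pow_two]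
      exact h.good.toGood.Vsq (h.good.sq _ h2))
    have h5 := h.c1' hw (pow_mem h3 4) (by rw [conj_pow]; exact (h.conj_Ker e).2 h4)
    refine ⟨3, ?_⟩
    rw [show 2 ^ 3 = 4 + 4 from rfl, pow_add, ← pT_pow (hS h3.1)]
    exact h.good.toGood.Vsq h5

theorem sylP : SylowIn 2 (R ⊓ 𝐂(V)) (𝐂[t] ⊓ 𝐂(V)) := by
  have := h.sylR.inf_of_le_normalizer (N := 𝐂[t] ⊓ 𝐂(V)) inf_le_left fun g hg =>
    h.nCE (h.RV hg) V.one_mem (by rw [mem_cent1.1 (h.sylR.le hg)]; simp)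
  rwa [← inf_assoc, inf_eq_left.2 h.sylR.le] at this

end LS

section max
variable [Finite G] {R : Subgroup G} {g : G}
  (hm : ∀ s : G, TI Ω s → ∀ T ≤ 𝐂[s], IsPGroup 2 T → #|T| ≤ #|R|) (hR : IsPGroup 2 R)
  (gN : g ∈ 𝐍(R)) (gR : g ∉ R) (g2 : g * g ∈ R)

include hR gN g2 in
theorem p2_sup : IsPGroup 2 (zpowers g ⊔ R : Subgroup G) := by
  obtain ⟨n, hn⟩ := isPGroup_iff_forall_mem.1 hR _ g2
  exact isPGroup_sup_of_le_normalizer (isPGroup_zpowers (k := n + 1)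
    (by rw [pow_succ', pow_mul, pow_two, hn])) hR (zpowers_le.2 gN)

include hm hR gN gR g2 in
theorem not_fix {u : G} (hu : TI Ω u) (h1 : R ≤ 𝐂[u]) : g ∉ 𝐂[u] := fun hg =>
  gR (eq_of_le_of_card_ge le_sup_right (hm u hu _ (sup_le (zpowers_le.2 hg) h1) (p2_sup hR gN g2)) ▸
    le_sup_left (a := zpowers g) (mem_zpowers g))

include hm hR gN gR g2 in
theorem Ker_inf {F : Set Ω} {a b : Ω} (ha : a ∈ F) (hb : b ∈ F) (ne : a ≠ b) (hS : R ≤ Stab G F)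
    {y : G} (hy : y ∈ R ⊓ Ker G F) (hy' : g * y * g⁻¹ ∈ Ker G F) : y = 1 := by
  have hn : R ≤ 𝐍((R ⊓ Ker G F : Subgroup G)) := fun r hr => mem_normalizer_of_forall fun x hx =>
    ⟨R.mul_mem (R.mul_mem hr hx.1) (R.inv_mem hr), conj_mem_Ker (hS hr) hx.2⟩
  by_contra y1
  obtain ⟨x, hx, x1, hc⟩ := exists_central_mod' (N := ⊥) (p2_sup hR gN g2).isNilpotent
    (M := R ⊓ Ker G F ⊓ cj g⁻¹ (R ⊓ Ker G F)) ⟨fun x hx => le_sup_right (b := R) hx.1.1,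
      sup_le (zpowers_le.2 (mem_normalizer_of_forall fun x hx => ⟨mem_cj_inv.1 hx.2, mem_cj_inv.2 (by
        have := conj_mem_of_mem_normalizer (hn g2) hx.1
        simpa [mul_assoc] using this)⟩)) fun r hr => mem_normalizer_of_forall fun x hx =>
      ⟨conj_mem_of_mem_normalizer (hn hr) hx.1, mem_cj_inv.2 (by
        have := conj_mem_of_mem_normalizer (hn (conj_mem_of_mem_normalizer gN hr)) (mem_cj_inv.1 hx.2)
        simpa [mul_assoc] using this)⟩⟩ (le_normalizer_of_normal)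
    fun hle => y1 (hle ⟨hy, mem_cj_inv.2 ⟨conj_mem_of_mem_normalizer gN hy.1, hy'⟩⟩)
  obtain ⟨n, hn⟩ := isPGroup_iff_forall_mem.1 hR x hx.1.1
  obtain ⟨u, hu, u1, u2⟩ := exists_sq_mem x1 (n := n) hn
  have hc' : ∀ y ∈ zpowers g ⊔ R, y ∈ 𝐂[u] := fun y hy => mem_cent1.2 (by
    obtain ⟨m, rfl⟩ := hu
    exact (Commute.zpow_right (show y * x = x * y by
      simpa [mul_inv_eq_iff_eq_mul] using hc y hy) m).eq)
  exact not_fix hm hR gN gR g2 (TI.of_sq u2 u1 (fr_of_Ker ha hb ne (zpowers_le.2 hx.1.2 hu)))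
    (fun y hy => hc' y (le_sup_right (b := R) hy)) (hc' g (le_sup_left (a := zpowers g)
      (mem_zpowers g)))

end max

theorem Min.exists_t [Finite G] {D : Set G} (h : Min Ω D) {s : G} (hs : TI Ω s) {R : Subgroup G}
    (hR : SylowIn 2 R 𝐂[s]) (hm : ∀ s : G, TI Ω s → ∀ T ≤ 𝐂[s], IsPGroup 2 T → #|T| ≤ #|R|) :
    ∃ t g z, TI Ω t ∧ R ≤ 𝐂[t] ∧ s ∈ Ker G (fixedBy Ω t) ∧ g ∈ 𝐍(R) ∧ g ∉ R ∧ g * g ∈ R ∧
      z ∈ D ∧ z ∈ R ∧ g * t * g⁻¹ = t * z := by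
  obtain ⟨S, hS, hle⟩ := exists_sylowIn_ge hR.isPGroup (le_top (a := R))
  obtain ⟨x, hx, xN, xR⟩ := exists_mem_normalizer_not_mem hS.isPGroup
    (lt_of_le_of_ne hle fun e => h.n2c hs hS (e ▸ hR.le))
  obtain ⟨n, hn⟩ := isPGroup_iff_forall_mem.1 hS.isPGroup x hx
  obtain ⟨g, hg, gR, g2⟩ := exists_sq_mem xR (n := n) (hn ▸ R.one_mem)
  have gN : g ∈ 𝐍(R) := zpowers_le.2 xN hg
  obtain ⟨a, b, V, Q, W, i, q, l⟩ := h.exists_ls hs hR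
  have gV : g ∈ 𝐍(V) := mem_normalizer_of_forall fun v hv => by
    rcases (l.memV v).1 hv with rfl | hv
    · simp
    · exact (l.memV _).2 (Or.inr ⟨h.conj hv.1 g, conj_mem_of_mem_normalizer gN hv.2⟩)
  have sC : s ∈ 𝐂(R) := mem_cent.2 fun x hx => mem_cent1.1 (hR.le hx)
  have nC := normalizer_le_normalizer_centralizer R gN
  have h1 := conj_mem_of_mem_normalizer gN l.tR
  have h2 := conj_mem_of_mem_normalizer nC sC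
  obtain ⟨k, hk, z, hz, e⟩ := l.mem_E1 h1 (l.good.cenQ _ (mem_cent.2 fun ξ hξ => by
    obtain ⟨x, hx, rfl⟩ := l.QR hξ
    exact pT_commute (l.RS hx) (l.RS h1) (mem_cent.1 h2 x hx)))
  have z1 : z ≠ 1 := fun e1 => hs.ne_one (Ker_inf hm hR.isPGroup gN gR g2 a.2 b.2 l.ne l.RS
    ⟨l.tR, self_mem_Ker s⟩ (by rw [e, e1, mul_one]; exact hk.2))
  by_cases ks : k = s
  · exact ⟨s, g, z, hs, hR.le, self_mem_Ker s, gN, gR, g2, l.memD hz z1, l.VR hz, ks ▸ e⟩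
  have zC : z ∈ 𝐂(R) := mem_cent.2 fun x hx => mul_inv_eq_iff_eq_mul.1 (l.pi_inj
    (conj_mem_of_mem_normalizer (l.RV hx) hz) hz (by
      have e1 : pT Ω s z = pT Ω s (g * s * g⁻¹) := by
        rw [e, pT_mul (l.RS hk.1) (l.VS hz), pT_Ker hk.2, one_mul]
      rw [pT_conj (l.RS hx) (l.VS hz), e1,
        (pT_commute (l.RS hx) (l.RS h1) (mem_cent.1 h2 x hx)).eq, mul_inv_cancel_right]))
  have e2 : k = g * s * g⁻¹ * z := by rw [e, mul_assoc, l.sqV hz, mul_one]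
  have kC : k ∈ 𝐂(R) := e2 ▸ Subgroup.mul_mem _ h2 zC
  have k2 : k * k = 1 := e2 ▸ sq_mul_of_comm (mem_cent.1 zC _ h1) (hs.conj g).sq (l.sqV hz)
  have sk : Commute s k := mem_cent.1 kC s l.tR
  have tK : s * k ∈ Ker G (fixedBy Ω s) := Subgroup.mul_mem _ (self_mem_Ker s) hk.2
  have t1 : s * k ≠ 1 := fun e1 => ks (by rw [eq_inv_of_mul_eq_one_right e1, hs.inv_eq])
  have t2 := sq_mul_of_comm sk hs.sq k2
  have ht : TI Ω (s * k) := TI.of_sq t2 t1 (fr_of_Ker a.2 b.2 l.ne tK)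
  have tC : R ≤ 𝐂[s * k] := fun x hx => mem_cent1.2 (mem_cent.1 (Subgroup.mul_mem _ sC kC) x hx)
  have hz' := conj_mem_of_mem_normalizer gV hz
  have e3 : g * (s * k) * g⁻¹ = s * k * (z * (g * z * g⁻¹)) := by
    have e4 : g * k * g⁻¹ = s * (g * z * g⁻¹) := by
      rw [e2, ← _root_.conj_mul, show g * (g * s * g⁻¹) * g⁻¹ = g * g * s * (g * g)⁻¹ by group,
        mem_cent.1 sC _ g2, mul_inv_cancel_right]
    rw [← _root_.conj_mul, e4, e, ← mul_assoc, mul_assoc k, (l.commt hz).eq, ← mul_assoc k, ← sk.eq]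
    group
  refine ⟨_, g, _, ht, tC, h.d1 hs t2 t1 ((Commute.refl s).mul_right sk) tK, gN, gR, g2,
    l.memD (V.mul_mem hz hz') fun e1 => ?_, l.VR (V.mul_mem hz hz'), e3⟩
  rw [e1, mul_one] at e3
  exact not_fix hm hR.isPGroup gN gR g2 ht tC (mem_cent1.2 (mul_inv_eq_iff_eq_mul.1 e3))

theorem LS.c0 [Finite G] {D : Set G} {t : G} {a b : fixedBy Ω t} {R V : Subgroup G}
    {Q W : Subgroup (XT Ω t)} {i : XT Ω t} {q : ℕ} (h : LS D t a b R V Q W i q)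
    (hm : ∀ s : G, TI Ω s → ∀ T ≤ 𝐂[s], IsPGroup 2 T → #|T| ≤ #|R|) {g z : G} (gN : g ∈ 𝐍(R))
    (gR : g ∉ R) (g2 : g * g ∈ R) (zD : z ∈ D) (zR : z ∈ R) (e : g * t * g⁻¹ = t * z) :
    ∃ K P j, C0 D t a b R V K P j q Q W := by
  have hS := cent1_le_Stab (Ω := Ω) t
  have hz : z ∈ V := (h.memV z).2 (Or.inr ⟨zD, zR⟩)
  have z1 := h.min.zd.ne_one zD
  have gV : g ∈ 𝐍(V) := mem_normalizer_of_forall fun v hv => by
    rcases (h.memV v).1 hv with rfl | hv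
    · simp
    · exact (h.memV _).2 (Or.inr ⟨h.min.conj hv.1 g, conj_mem_of_mem_normalizer gN hv.2⟩)
  obtain ⟨K, hK⟩ : ∃ K, K = R ⊓ Ker G (fixedBy Ω t) := ⟨_, rfl⟩
  obtain ⟨P, hP⟩ : ∃ P : Subgroup G, ∀ x, x ∈ P ↔ x ∈ R ∧ pT Ω t x ∈ Q :=
    ⟨R ⊓ prC (Stab_inv _) Q, fun x => ⟨fun hx => ⟨hx.1, ((mem_prC _).1 hx.2).2⟩,
      fun hx => ⟨hx.1, (mem_prC _).2 ⟨h.RS hx.1, hx.2⟩⟩⟩⟩
  have PC : ∀ x ∈ P, x ∈ 𝐂[t] ⊓ 𝐂(V) := fun x hx => ⟨h.sylR.le ((hP x).1 hx).1,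
    h.mem_CV (h.RV ((hP x).1 hx).1) (h.RS ((hP x).1 hx).1) (h.good.toGood.QC ((hP x).1 hx).2)⟩
  have KR : ∀ k ∈ K, k ∈ R ⊓ Ker G (fixedBy Ω t) := fun k hk => hK ▸ hk
  have KP : K ≤ P := fun k hk => (hP k).2 ⟨(KR k hk).1, by rw [pT_Ker (KR k hk).2]; exact Q.one_mem⟩
  have nE := h.nCE gV hz e
  have KW : ∀ k ∈ K, pT Ω t (g * k * g⁻¹) ∈ W := fun k hk => h.c1' hz
    (conj_mem_of_mem_normalizer nE (PC k (KP hk))) ((h.conj_Ker e).2 (KR k hk).2)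
  have KK : ∀ k ∈ K, pT Ω t (g * k * g⁻¹) = 1 → k = 1 := fun k hk e1 =>
    Ker_inf hm h.sylR.isPGroup gN gR g2 a.2 b.2 h.ne h.RS (KR k hk)
      ((pT_eq_one (h.RS (conj_mem_of_mem_normalizer gN (KR k hk).1))).1 e1)
  have gS : ∀ x ∈ R, g * x * g⁻¹ ∈ Stab G (fixedBy Ω t) := fun x hx =>
    h.RS (conj_mem_of_mem_normalizer gN hx)
  have twoK : ∀ k ∈ K, k * k = 1 := fun k hk => KK _ (K.mul_mem hk hk) (by
    rw [← conj_mul, pT_mul (gS k (KR k hk).1) (gS k (KR k hk).1)]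
    exact h.good.toGood.Vsq (KW k hk))
  have cenK : K ≤ 𝐂((R ⊓ 𝐂(V) : Subgroup G)) := fun k hk => mem_cent.2 fun x hx =>
    commutatorElement_eq_one_iff_mul_comm.1 (KK _ (by
      rw [hK]
      exact mul_mem ⟨R.mul_mem (R.mul_mem hx.1 (KR k hk).1) (R.inv_mem hx.1),
        conj_mem_Ker (h.RS hx.1) (KR k hk).2⟩ (inv_mem (KR k hk))) (by
      rw [show g * ⁅x, k⁆ * g⁻¹ = ⁅g * x * g⁻¹, g * k * g⁻¹⁆ from
        map_commutatorElement (MulAut.conj g) x k, pT_comm (gS x hx.1) (gS k (KR k hk).1),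
        commutatorElement_eq_one_iff_mul_comm]
      exact (mem_cent.1 (h.pi_CW (gS x hx.1) (conj_mem_of_mem_normalizer nE
        ⟨h.sylR.le hx.1, hx.2⟩).2) _ (KW k hk)).symm))
  have gP : g ∈ 𝐍(P) := mem_normalizer_of_forall fun x hx => (hP _).2
    ⟨conj_mem_of_mem_normalizer gN ((hP x).1 hx).1, h.nQ gV hz e (PC x hx) ((hP x).1 hx).2⟩
  have tK : t ∈ K := hK ▸ ⟨h.tR, self_mem_Ker t⟩
  have CK : 𝐂(K) ≤ 𝐂[t] := fun x hx => mem_cent1.2 (mem_cent.1 hx t tK).symm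
  have PK : P ≤ 𝐂(K) := fun x hx => mem_cent.2 fun k hk =>
    (mem_cent.1 (cenK hk) x ⟨((hP x).1 hx).1, (PC x hx).2⟩).symm
  obtain ⟨j, jK, jP, jV, jo, rfl⟩ : ∃ j ∈ 𝐂(K), j ∈ 𝐍(P) ∧ j ∈ 𝐍(V) ∧ Odd (orderOf j) ∧
      pT Ω t j = i := by
    obtain ⟨j₀, j1, j2, j3, rfl⟩ := h.lift_NV (T := K) (h.sylR.isPGroup.to_le fun k hk => (KR k hk).1)
      (fun k hk => (KR k hk).2) (fun k hk => (PC k (KP hk)).2) h.i_mem h.good.ja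
    have nY : ∀ x ∈ 𝐂(K), x ∈ 𝐍(V) → x ∈ 𝐍((𝐂(K) ⊓ 𝐂(V) ⊓ prC (Stab_inv _) Q : Subgroup G)) :=
      fun x h1 h2 => mem_normalizer_of_forall fun y hy => by
        have h3 := 𝐂(K).mul_mem (𝐂(K).mul_mem h1 hy.1.1) (𝐂(K).inv_mem h1)
        exact ⟨⟨h3, conj_mem_of_mem_normalizer (normalizer_le_normalizer_centralizer V h2) hy.1.2⟩,
          (mem_prC _).2 ⟨hS (CK h3), h.nQ h2 V.one_mem (by rw [mem_cent1.1 (CK h1)]; simp)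
            ⟨CK hy.1.1, hy.1.2⟩ ((mem_prC _).1 hy.2).2⟩⟩
    have hY := h.sylP.inf_of_le_normalizer (N := 𝐂(K) ⊓ 𝐂(V) ⊓ prC (Stab_inv _) Q)
      (fun y hy => ⟨CK hy.1.1, hy.1.2⟩) fun x hx =>
        nY x (le_centralizer_iff.1 cenK hx) (h.RV hx.1)
    rw [show R ⊓ 𝐂(V) ⊓ (𝐂(K) ⊓ 𝐂(V) ⊓ prC (Stab_inv _) Q) = P from Subgroup.ext fun x =>
      ⟨fun hx => (hP x).2 ⟨hx.1.1, ((mem_prC _).1 hx.2.2).2⟩, fun hx =>
        ⟨⟨((hP x).1 hx).1, (PC x hx).2⟩, ⟨PK hx, (PC x hx).2⟩,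
          (mem_prC _).2 ⟨h.RS ((hP x).1 hx).1, ((hP x).1 hx).2⟩⟩⟩] at hY
    obtain ⟨n, hn, y, hy, e1⟩ := hY.frattini (nY j₀ j1 j3)
    obtain ⟨x, hx, e2⟩ := h.QR ((mem_prC _).1 hn.2).2
    have hxP : x ∈ P := (hP x).2 ⟨hx, e2 ▸ ((mem_prC _).1 hn.2).2⟩
    have y1 : y ∈ 𝐂(K) ⊓ 𝐍(V) := by
      rw [show y = n⁻¹ * j₀ by rw [e1]; group]
      exact mul_mem (inv_mem ⟨hn.1.1, centralizer_le_normalizer _ hn.1.2⟩) ⟨j1, j3⟩
    have y2 : x * y ∈ 𝐂(K) ⊓ 𝐍(V) ⊓ 𝐍(P) :=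
      mul_mem ⟨⟨PK hxP, h.RV hx⟩, le_normalizer hxP⟩ ⟨y1, hy⟩
    have y3 : pT Ω t (x * y) = pT Ω t j₀ := by
      rw [e1, pT_mul (h.RS hx) (hS (CK y1.1)), pT_mul (hS (CK hn.1.1)) (hS (CK y1.1)), e2]
    obtain ⟨u, hu, v, hv, ⟨m, u2⟩, vo, e3⟩ := exists_p_part (p := 2) (x * y)
    have hu' := zpowers_le.2 y2 hu
    have hv' := zpowers_le.2 y2 hv
    refine ⟨v, hv'.1.1, hv'.2, hv'.1.2, Nat.coprime_two_right.1 vo, ?_⟩
    have u1 : pT Ω t u = 1 := by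
      obtain ⟨r, rfl⟩ := mem_powers_iff_mem_zpowers.2 hu
      refine eq_one_of_pow_pow_of_coprime (p := 2) (k := m)
        (by rw [← pT_pow (hS (CK hu'.1.1)), u2, pT_one]) ?_
      rw [pT_pow (hS (CK y2.1.1)), y3]
      exact Nat.coprime_two_right.2 (h.good.toGood.jodd.of_dvd_nat (orderOf_pow_dvd r))
    rw [← y3, e3, pT_mul (hS (CK hu'.1.1)) (hS (CK hv'.1.1)), u1, one_mul]
  have tr2 : ∀ w ∈ V, ∃ x ∈ 𝐍(P) ⊓ 𝐍(V), x * t * x⁻¹ = t * w := fun w hw => by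
    by_cases w1 : w = 1
    · exact ⟨1, one_mem _, by simp [w1]⟩
    obtain ⟨n, rfl⟩ := (h.sing (hS (CK jK)) jV rfl).tr z hz z1 w hw w1
    refine ⟨j ^ n * g, mul_mem (pow_mem (mem_inf.2 ⟨jP, jV⟩) n) ⟨gP, gV⟩, ?_⟩
    rw [show j ^ n * g * t * (j ^ n * g)⁻¹ = j ^ n * (g * t * g⁻¹) * (j ^ n)⁻¹ by group, e,
      ← mul_assoc, mem_cent1.1 (pow_mem (CK jK) n)]; group
  have cover : ∀ k ∈ K, k ≠ 1 → ∀ v ∈ V, ∃ w ∈ V, k * v ∈ Ker G (fixedBy Ω (t * w)) :=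
    fun k hk k1 => rel_surj (Set.toFinite (V : Set G)) _ (fun w hw => by
      obtain ⟨x, hx, e1⟩ := tr2 w hw
      obtain ⟨k', hk', v, hv, e2⟩ := rel_surj (Set.toFinite (K : Set G))
        (fun k' k => ∃ v ∈ V, x * k' * x⁻¹ = k * v) (fun k' hk' => by
          have h1 := conj_mem_of_mem_normalizer hx.1 (KP hk')
          rw [hK]
          exact h.mem_E1 ((hP _).1 h1).1 (h.c1' hw (PC _ h1) ((h.conj_Ker e1).2 (KR _ hk').2)))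
        (by
          rintro k₁ h1 k₂ h2 k - ⟨v, hv, e1⟩ ⟨v', hv', e2⟩
          refine inv_mul_eq_one.1 (h.eq_one_of_Ker ?_ (KR _ (K.mul_mem (K.inv_mem h1) h2)).2)
          have := conj_mem_of_mem_normalizer' hx.2 (V.mul_mem (V.inv_mem hv) hv')
          rwa [show v⁻¹ * v' = (k * v)⁻¹ * (k * v') by group, ← e1, ← e2,
            show x⁻¹ * ((x * k₁ * x⁻¹)⁻¹ * (x * k₂ * x⁻¹)) * x = k₁⁻¹ * k₂ by group] at this) k hk
      exact ⟨v, hv, e2 ▸ (h.conj_Ker e1).2 (KR _ hk').2⟩)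
      fun w hw w' hw' v hv h1 h2 => h.eq_of_Ker (sq_mul_of_comm
        (mem_cent.1 (PC k (KP hk)).2 v hv).symm (twoK k hk) (h.sqV hv)) (fun e1 => k1
          (h.eq_one_of_Ker (by rw [eq_inv_of_mul_eq_one_left e1]; exact V.inv_mem hv) (KR k hk).2))
        (mul_mem (PC k (KP hk)) ⟨h.sylR.le (h.VR hv), h.VC hv⟩) hw hw' h1 h2
  refine ⟨K, P, j, h, hm, hK, hP, twoK, cenK, fun x hx => ?_, jo, jK, jP, jV, cover, tr2,
    g, ⟨gN, gP⟩, z, hz, z1, e⟩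
  have x1 := (hP x).1 hx
  obtain ⟨k, hk, v, hv, e1⟩ := h.mem_E1 (R.mul_mem x1.1 x1.1) (by
    rw [pT_mul (h.RS x1.1) (h.RS x1.1)]; exact h.good.sq _ x1.2)
  by_cases k1 : k = 1
  · rwa [e1, k1, one_mul]
  obtain ⟨w, hw, h1⟩ := cover k (hK ▸ hk) k1 v hv
  obtain ⟨y, hy, e2⟩ := tr2 w hw
  have x2 := (hP _).1 (conj_mem_of_mem_normalizer' hy.1 hx)
  have h2 : y⁻¹ * x * y * (y⁻¹ * x * y) ∈ Ker G (fixedBy Ω t) := (h.conj_Ker e2).1 (by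
    rw [← e1] at h1; simpa [mul_assoc] using h1)
  obtain ⟨k', hk', v', hv', e3⟩ := h.mem_E1 x2.1 ((h.good.two _ x2.2).1 (by
    rw [← pT_mul (h.RS x2.1) (h.RS x2.1), pT_Ker h2]))
  have h3 := sq_mul_of_comm (mem_cent.1 (h.KV hk') v' hv').symm (twoK k' (hK ▸ hk')) (h.sqV hv')
  rw [← e3] at h3
  rw [show x * x = y * (y⁻¹ * x * y * (y⁻¹ * x * y)) * y⁻¹ by group, h3, mul_one, mul_inv_cancel]
  exact V.one_mem

theorem C0.cs [Finite G] {D : Set G} {t : G} {a b : fixedBy Ω t} {R V K P : Subgroup G} {j : G}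
    {q : ℕ} {Q W : Subgroup (XT Ω t)} (h : C0 D t a b R V K P j q Q W)
    (hT : Q ≠ W → ∀ w ∈ V, ∃ h ∈ 𝐍(P) ⊓ 𝐂(V), h * t * h⁻¹ = t * w)
    (hF : ∀ s : G, s * s = 1 → Commute s t → FR (fixedBy Ω t) s → s ∈ Ker G (fixedBy Ω t)) :
    CS D t a b R V K P j q Q W := by
  have l := h.toLS
  have tK : t ∈ K := h.eqK ▸ ⟨l.tR, self_mem_Ker t⟩
  have jS : j ∈ Stab G (fixedBy Ω t) := cent1_le_Stab t (mem_cent1.2 (mem_cent.1 h.jK t tK).symm)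
  have PC : P ≤ R ⊓ 𝐂(V) := fun x hx => ⟨((h.memP x).1 hx).1, l.mem_CV (l.RV ((h.memP x).1 hx).1)
    (l.RS ((h.memP x).1 hx).1) (h.good.toGood.QC ((h.memP x).1 hx).2)⟩
  have eP : P = R ⊓ 𝐂(V) := le_antisymm PC fun x hx => by
    by_contra hn
    obtain ⟨ξ, hξ, e⟩ := h.good.dec _ ((pT_smul (l.RS hx.1)).2 (l.Ra x hx.1))
    obtain ⟨y, hy, rfl⟩ := l.QR hξ
    have yP : y ∈ P := (h.memP y).2 ⟨hy, hξ⟩
    have h1 := mul_mem (inv_mem (PC yP)) hx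
    have h2 : y⁻¹ * x ∉ P := fun hh => hn (by simpa using P.mul_mem yP hh)
    rw [← pT_inv (l.RS hy), ← pT_mul (inv_mem (l.RS hy)) (l.RS hx.1)] at e
    generalize y⁻¹ * x = τ at *
    have h3 : pT Ω t τ ∉ Q := fun hh => h2 ((h.memP τ).2 ⟨h1.1, hh⟩)
    have h4 := pr_mem_prS (Stab_inv _) h1 (l.RS h1.1)
    have h5 := h.good.reg _ (h.good.syl _ (isPGroup_prS _ l.sylP.isPGroup) (fun ξ hξ => by
      obtain ⟨x, k1, k2, rfl⟩ := (mem_prS _).1 hξ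
      exact l.pi_CW k2 k1.2) _ h4 _ h4 h3 h3) (by rw [mul_smul]; exact (congrArg _ e).trans e)
    rw [← pr_mul (Stab_inv _) (l.RS h1.1) (l.RS h1.1),
      pr_eq_one (Stab_inv _) (l.RS (R.mul_mem h1.1 h1.1))] at h5
    obtain ⟨g, hg, z, hz, z1, e1⟩ := h.exg
    have gV : g ∈ 𝐍(V) := mem_normalizer_of_forall fun v hv => by
      rcases (h.memV v).1 hv with rfl | hv
      · simp
      · exact (h.memV _).2 (Or.inr ⟨h.min.conj hv.1 g, conj_mem_of_mem_normalizer hg.1 hv.2⟩)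
    have k1 := conj_mem_of_mem_normalizer hg.1 h1.1
    have k2 := conj_mem_of_mem_normalizer (l.nCE gV hz e1) ⟨l.sylR.le h1.1, h1.2⟩
    have k3 := (l.conj_Ker e1).2 h5
    rw [← conj_mul] at k3
    have k4 := l.c1' hz (mul_mem k2 k2) k3
    rw [pT_mul (l.RS k1) (l.RS k1)] at k4
    rcases h.good.sqV _ (l.pi_CW (l.RS k1) k2.2) k4 with k5 | k5
    · exact h2 (by simpa [mul_assoc] using
        conj_mem_of_mem_normalizer' hg.2 ((h.memP _).2 ⟨k1, k5⟩))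
    rw [← pT_mul (l.RS k1) (l.RS k1), pT_eq_one (l.RS (R.mul_mem k1 k1))] at k5
    have k6 : τ * τ = 1 := by
      by_contra hne
      exact z1 (l.eq_of_Ker (h.twoK _ (h.eqK ▸ ⟨R.mul_mem k1 k1, k5⟩))
        (by rw [conj_mul]; simpa using hne) (mul_mem k2 k2) hz V.one_mem k3 (by rwa [mul_one]))
    refine h3 ?_
    rw [pT_Ker (hF τ k6 (mem_cent1.1 (l.sylR.le h1.1))
      ⟨a, a.2, b, b.2, l.ne, l.Ra τ h1.1, (pT_smul (l.RS h1.1)).1 e⟩)]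
    exact Q.one_mem
  exact ⟨h.min, h.ti, h.good, h.sylR, h.max, h.Ra, h.memV, l.piV, l.sing jS h.jV rfl, h.eqK, eP,
    eP ▸ l.sylP, fun ξ => ⟨fun hξ => by
      obtain ⟨x, hx, rfl⟩ := l.QR hξ
      exact ⟨x, (h.memP x).2 ⟨hx, hξ⟩, rfl⟩, by rintro ⟨x, hx, rfl⟩; exact ((h.memP x).1 hx).2⟩,
    h.twoK, fun k hk => eP ▸ ⟨(h.eqK ▸ hk).1, l.KV (h.eqK ▸ hk)⟩, eP ▸ h.cenK, h.sqP, h.jodd,
    (pT_smul jS).1 h.good.ja, (pT_smul jS).1 h.good.jb, h.jK, h.jP, h.cover, h.tr2, hT, hF⟩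

theorem c_of (hT : CTStmt.{u}) (hF : CFStmt.{u}) : CStmt.{u} := by
  intro G Ω _ _ _ D h s hs T₀ h1 h2 h3
  obtain ⟨R, hR, hle⟩ := exists_sylowIn_ge h2 h1
  have hm : ∀ s : G, TI Ω s → ∀ T ≤ 𝐂[s], IsPGroup 2 T → #|T| ≤ #|R| := fun s' k1 T k2 k3 =>
    (h3 s' k1 T k2 k3).trans (card_le_of_le hle)
  obtain ⟨t, g, z, ht, k1, k2, gN, gR, g2, zD, zR, e⟩ := h.exists_t hs hR hm
  obtain ⟨R', hR', k3⟩ := exists_sylowIn_ge hR.isPGroup k1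
  obtain rfl := eq_of_le_of_card_ge k3 (hm t ht R' hR'.le hR'.isPGroup)
  obtain ⟨a, b, V, Q, W, i, q, l⟩ := h.exists_ls ht hR'
  obtain ⟨K, P, j, c⟩ := l.c0 hm gN gR g2 zD zR e
  have c1 := hT G Ω D t a b R V K P j q Q W c
  refine ⟨t, a, b, R, V, K, P, j, q, Q, W, c.cs c1 (hF G Ω D t a b R V K P j q Q W c c1),
    fun hK => ?_⟩
  have : s ∈ zpowers t := by
    rw [← hK, c.eqK]
    exact ⟨zpowers_le.1 (hR.le_of_le_normalizer' (isPGroup_zpowers_sq hs.sq)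
      (zpowers_le.2 (mem_cent1.2 rfl)) (zpowers_le.2 (centralizer_le_normalizer _
        (mem_cent.2 fun x hx => mem_cent1.1 (hR.le hx))))), k2⟩
  exact (((mem_zpowers_sq ht.sq).1 this).resolve_left hs.ne_one).symm

end Cfsg.Agent.ZD
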