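import Cfsg.Agent.Lib.ZD.Good2a

/-! Row GOOD2, part b: the centre of `Q`, lines, and odd order elements of `C(V)`. -/

open Subgroup MulAction
open scoped commutatorElement

set_option linter.unusedSectionVars false

namespace Cfsg.Agent.ZD

open FT Tr

universe u

variable {G : Type u} {Ω : Type u} [Group G] [MulAction G Ω] [Finite G]

namespace Good

variable {D : Set G} {α β : Ω} {Q V : Subgroup G} {j : G} {q : ℕ} (h : Good D α β Q V j q)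
include h

theorem t3 (hq : #|Q| = q ^ 3) : T3 D α β Q V j q := by
  have := h.q4
  rcases h.typ with e | t | t
  · have := h.cardV; rw [← e, hq] at this
    nlinarith [Nat.pow_lt_pow_right (a := q) (by omega) (show 1 < 3 by omega)]
  · exact absurd (t.card.symm.trans hq) (Nat.pow_lt_pow_right (by omega) (by omega)).ne
  · exact t

theorem card_le : #|Q| ≤ q ^ 3 := by
  have := h.q4
  rcases h.typ with e | t | t
  · rw [e, h.cardV]; exact Nat.le_self_pow (by omega) q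
  · exact t.card.le.trans (Nat.pow_le_pow_right (by omega) (by omega))
  · exact t.card.le

theorem comm_mul {x y z : G} (hx : x ∈ Q) (hy : y ∈ Q) (hz : z ∈ Q) :
    ⁅y * z, x⁆ = ⁅y, x⁆ * ⁅z, x⁆ := by
  rw [← (h.cent _ (h.comm hz hx) _ (h.VQ (h.comm hy hx))).eq]
  calc ⁅y * z, x⁆ = y * ⁅z, x⁆ * y⁻¹ * ⁅y, x⁆ := by simp only [commutatorElement_def]; group
    _ = _ := by rw [← (h.cent _ (h.comm hz hx) y hy).eq, mul_inv_cancel_right]

theorem comm_V {x y v : G} (hx : x ∈ Q) (hy : y ∈ Q) (hv : v ∈ V) : ⁅y * v, x⁆ = ⁅y, x⁆ := by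
  rw [h.comm_mul hx hy (h.VQ hv), (h.cent v hv x hx).commutator_eq, mul_one]

theorem exsq {ρ : G} (hρ : ρ ∈ zpowers j) : ∃ σ ∈ zpowers j, ρ = σ * σ := by
  obtain ⟨m, hm⟩ := h.jodd
  obtain ⟨n, rfl⟩ := g2_pw hρ
  refine ⟨(j ^ n) ^ (m + 1), pow_mem hρ _, ?_⟩
  rw [← pow_add, show m + 1 + (m + 1) = orderOf j + 1 by omega, pow_succ, ← pow_mul, mul_comm n,
    pow_mul, pow_orderOf_eq_one, one_pow, one_mul]

theorem trJ {v w : G} (hv : v ∈ V) (v1 : v ≠ 1) (hw : w ∈ V) (w1 : w ≠ 1) :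
    ∃ ρ ∈ zpowers j, ρ * v * ρ⁻¹ = w :=
  let ⟨n, e⟩ := h.trj v hv v1 w hw w1; ⟨_, npow_mem_zpowers j n, e⟩

section T3
variable (t : T3 D α β Q V j q)
include t

theorem bl2 {ρ x y : G} (hρ : ρ ∈ zpowers j) (hx : x ∈ Q) (hy : y ∈ Q) :
    ⁅ρ * ρ * x * (ρ * ρ)⁻¹, y⁆ = ρ * ⁅x, y⁆ * ρ⁻¹ := by
  have : ∀ n : ℕ, ∀ x ∈ Q, ∀ y ∈ Q, ⁅j ^ n * x * (j ^ n)⁻¹, y⁆ = ⁅x, j ^ n * y * (j ^ n)⁻¹⁆ := by
    intro n
    induction n with
    | zero => simp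
    | succ n ih =>
      intro x hx y hy
      rw [show j ^ (n + 1) * x * (j ^ (n + 1))⁻¹ = j * (j ^ n * x * (j ^ n)⁻¹) * j⁻¹ by group,
        t.bl _ (h.JQ (npow_mem_zpowers j n) hx) y hy, ih x hx _ (h.JQ (mem_zpowers j) hy)]
      congr 1; group
  obtain ⟨n, rfl⟩ := g2_pw hρ
  rw [show j ^ n * j ^ n * x * (j ^ n * j ^ n)⁻¹ = j ^ n * (j ^ n * x * (j ^ n)⁻¹) * (j ^ n)⁻¹ by
    group, this n _ (h.JQ hρ hx) y hy]
  simp only [commutatorElement_def]; group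

theorem comm_J {ρ x y : G} (hρ : ρ ∈ zpowers j) (hx : x ∈ Q) (hy : y ∈ Q) (c : Commute x y) :
    Commute (ρ * x * ρ⁻¹) y := by
  obtain ⟨σ, hσ, rfl⟩ := h.exsq hρ
  rw [← commutatorElement_eq_one_iff_commute, h.bl2 t hσ hx hy, c.commutator_eq]; group

theorem onto {x y v : G} (hx : x ∈ Q) (hy : y ∈ Q) (c : ¬ Commute y x) (hv : v ∈ V) (v1 : v ≠ 1) :
    ∃ ρ ∈ zpowers j, ⁅ρ * y * ρ⁻¹, x⁆ = v := by
  obtain ⟨σ, hσ, rfl⟩ := h.trJ (h.comm hy hx) (mt commutatorElement_eq_one_iff_commute.1 c) hv v1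
  exact ⟨_, mul_mem hσ hσ, h.bl2 t hσ hy hx⟩

theorem line0 {x y : G} (hx : x ∈ Q) (hy : y ∈ Q) (c : ¬ Commute y x) {z : G} (hz : z ∈ Q)
    (cz : Commute z x) : z ∈ V ∨ ∃ ρ ∈ zpowers j, (ρ * x * ρ⁻¹)⁻¹ * z ∈ V := by
  obtain ⟨R, hR, e⟩ := g2_card_hom Q 𝐂[x] (fun y => ⁅y, x⁆) (fun y hy z hz => h.comm_mul hx hy hz)
    fun y _ => commutatorElement_eq_one_iff_commute.trans mem_cent1.symm
  obtain rfl : V = R := by
    ext v
    refine ⟨fun hv => (hR v).2 ?_, fun hv => by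
      obtain ⟨y, hy, rfl⟩ := (hR v).1 hv; exact h.comm hy hx⟩
    by_cases v1 : v = 1
    · exact ⟨1, one_mem _, by simp [v1]⟩
    · obtain ⟨ρ, hρ, e⟩ := h.onto t hx hy c hv v1
      exact ⟨_, h.JQ hρ hy, e⟩
  have := h.q4
  rw [t.card, h.cardV, pow_succ] at e
  exact (h.cover (C := Q ⊓ 𝐂[x]) (fun v hv => ⟨h.VQ hv, mem_cent1.2 (h.cent v hv x hx)⟩) hx
    (fun xV => c (h.cent x xV y hy).symm) fun ρ hρ => ⟨h.JQ hρ hx, mem_cent1.2
      (h.comm_J t hρ hx hx rfl)⟩).2 (Nat.eq_of_mul_eq_mul_right (by omega) e).le z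
      ⟨hz, mem_cent1.2 cz⟩

end T3

theorem cenV {z : G} (hz : z ∈ Q) (c : ∀ y ∈ Q, Commute z y) : z ∈ V := by
  by_contra zV
  have cJ : ∀ ρ ∈ zpowers j, ∀ y ∈ Q, Commute (ρ * z * ρ⁻¹) y := fun ρ hρ y hy => by
    simpa [mul_assoc] using (c _ (h.JQ (inv_mem hρ) hy)).map (MulAut.conj ρ)
  rcases h.typ with e | t | t
  · exact zV (e ▸ hz)
  · obtain ⟨x, hx, y, hy, n⟩ := t.nab
    obtain ⟨ρ, hρ, m⟩ := h.trU t.card hz zV hx fun xV => n (h.cent x xV y hy)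
    exact n (by simpa only [mul_inv_cancel_left] using (cJ ρ hρ y hy).mul_left (h.cent _ m y hy))
  · obtain ⟨y, hy, x, hx, n⟩ := t.nab
    obtain ⟨ρ, hρ, m⟩ := (h.line0 t hx hy n hz (c x hx)).resolve_left zV
    have := ((c _ (h.JQ hρ hy)).mul_left (h.cent _ m _ (h.JQ hρ hy)).inv_left).map (MulAut.conj ρ⁻¹)
    exact n (by simpa [mul_assoc] using this.symm)

theorem exnc {x : G} (hx : x ∈ Q) (xV : x ∉ V) : ∃ y ∈ Q, ¬ Commute y x := by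
  by_contra! c
  exact xV (h.cenV hx fun y hy => (c y hy).symm)

theorem rk {r w : G} (hr : r ∈ Q) (hw : ∀ x ∈ Q, ⁅x, r⁆ = 1 ∨ ⁅x, r⁆ = w) : r ∈ V := by
  by_contra rV
  obtain ⟨y, hy, c⟩ := h.exnc hr rV
  have c1 := mt commutatorElement_eq_one_iff_commute.1 c
  obtain rfl := (hw y hy).resolve_left c1
  have wV := h.comm hy hr
  rcases h.typ with e | t | t
  · exact rV (e ▸ hr)
  · obtain ⟨ρ, hρ, m⟩ := h.trU t.card hr rV hy fun yV => c (h.cent y yV r hr)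
    have e := h.comm_V hr (h.JQ hρ hr) m
    rw [mul_inv_cancel_left] at e
    have e2 : ρ * ⁅ρ⁻¹ * r * ρ⁻¹⁻¹, r⁆ * ρ⁻¹ = ⁅y, r⁆ := by
      rw [← h.Vinv wV, e]; simp only [commutatorElement_def]; group
    rcases hw _ (h.JQ (inv_mem hρ) hr) with e3 | e3 <;> rw [e3] at e2
    · exact c1 (by rw [← e2]; group)
    · rw [h.fpf' hρ (h.VQ wV) c1 e2] at e
      exact c1 (by simpa using e)
  · have e := h.bl2 t (mem_zpowers j) hy hr
    rcases hw _ (h.JQ (mul_mem (mem_zpowers j) (mem_zpowers j)) hy) with e3 | e3 <;> rw [e3] at e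
    · exact c1 (by simpa [eq_mul_inv_iff_mul_eq] using e)
    · exact h.j_ne (h.fpf' (mem_zpowers j) (h.VQ wV) c1 e.symm)

section T3
variable (t : T3 D α β Q V j q)
include t

theorem line {x y : G} (hx : x ∈ Q) (xV : x ∉ V) (hy : y ∈ Q) :
    Commute x y ↔ y ∈ V ∨ ∃ ρ ∈ zpowers j, (ρ * x * ρ⁻¹)⁻¹ * y ∈ V := by
  obtain ⟨z, hz, c⟩ := h.exnc hx xV
  refine ⟨fun c' => h.line0 t hx hz c hy c'.symm, ?_⟩
  rintro (m | ⟨ρ, hρ, m⟩)
  · exact (h.cent y m x hx).symm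
  · simpa only [mul_inv_cancel_left] using
      ((h.comm_J t hρ hx hx rfl).mul_left (h.cent _ m x hx)).symm

theorem gen {x y : G} (hx : x ∈ Q) (hy : y ∈ Q) (c : ¬ Commute y x) {L : Subgroup G} (hV : V ≤ L)
    (h1 : ∀ ρ ∈ zpowers j, ρ * x * ρ⁻¹ ∈ L) (h2 : ∀ ρ ∈ zpowers j, ρ * y * ρ⁻¹ ∈ L) : Q ≤ L := by
  have key : ∀ z ∈ Q, ⁅z, x⁆ = 1 → z ∈ L := fun z hz e => by
    rcases h.line0 t hx hy c hz (commutatorElement_eq_one_iff_commute.1 e) with m | ⟨ρ, hρ, m⟩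
    · exact hV m
    · simpa only [mul_inv_cancel_left] using mul_mem (h1 ρ hρ) (hV m)
  intro z hz
  by_cases e : ⁅z, x⁆ = 1
  · exact key z hz e
  obtain ⟨ρ, hρ, e'⟩ := h.onto t hx hy c (h.comm hz hx) e
  have := key _ (mul_mem (h.JQ hρ hy) hz) (by
    rw [h.comm_mul hx (h.JQ hρ hy) hz, e', h.Vsq (h.comm hz hx)])
  exact (L.mul_mem_cancel_left (h2 ρ hρ)).1 this

end T3

/-- An element of `C(V)` fixing `β` and trivial on `Q / V` has order at most two. -/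
theorem sq_eq_one {g : G} (hg : g ∈ 𝐂(V)) (hb : g • β = β) (hU : ∀ x ∈ Q, g * x * g⁻¹ * x⁻¹ ∈ V) :
    g * g = 1 := by
  refine h.eq_one (by rw [mul_smul, h.Ca hg, h.Ca hg]) (by rw [mul_smul, hb, hb]) fun x hx => ?_
  have e := hg _ (hU x hx)
  have e2 := h.Vsq (hU x hx)
  refine (mul_inv_eq_iff_eq_mul.1 ?_).symm
  calc g * g * x * (g * g)⁻¹ = g * (g * x * g⁻¹ * x⁻¹) * (x * g⁻¹) := by group
    _ = (g * x * g⁻¹ * x⁻¹) * (g * x * g⁻¹ * x⁻¹) * x := by rw [← e]; group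
    _ = x := by rw [e2, one_mul]

/-- An odd order element of `C(V)` fixing `β` and a nontrivial coset of `V` is trivial. -/
theorem semi (t : T3 D α β Q V j q) {g x : G} (hg : g ∈ 𝐂(V)) (hb : g • β = β)
    (ho : Odd (orderOf g)) (hx : x ∈ Q) (xV : x ∉ V) (e : x⁻¹ * (g * x * g⁻¹) ∈ V) : g = 1 := by
  have ga := h.Ca hg
  have gV : ∀ v ∈ V, g * v * g⁻¹ = v := fun v hv => mul_inv_eq_iff_eq_mul.2 (hg v hv).symm
  have l : ∀ c ∈ Q, Commute x c → c⁻¹ * (g * c * g⁻¹) ∈ V := fun c hc cc => by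
    rcases (h.line t hx xV hc).1 cc with m | ⟨ρ, hρ, m⟩
    · rw [gV c m]; simp
    · have e1 : g * c * g⁻¹ = ρ * x * (x⁻¹ * (g * x * g⁻¹)) * ρ⁻¹ * ((ρ * x * ρ⁻¹)⁻¹ * c) := by
        rw [← gV _ m]
        calc g * c * g⁻¹ = (g * ρ) * x * (g * ρ)⁻¹ * (g * ((ρ * x * ρ⁻¹)⁻¹ * c) * g⁻¹) := by group
          _ = _ := by rw [(h.Wj hg hb hρ).eq]; group
      have e2 : c⁻¹ * (g * c * g⁻¹) = ((ρ * x * ρ⁻¹)⁻¹ * c)⁻¹ *
          (ρ * (x⁻¹ * (g * x * g⁻¹)) * ρ⁻¹) * ((ρ * x * ρ⁻¹)⁻¹ * c) := by rw [e1]; group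
      rw [e2]; exact mul_mem (mul_mem (inv_mem m) (h.JV hρ e)) m
  have k : g * g * (g * g) = 1 := by
    refine h.sq_eq_one (mul_mem hg hg) (by rw [mul_smul, hb, hb]) fun y hy => ?_
    have gy := h.Qn g ga y hy
    have c : Commute x (y⁻¹ * (g * y * g⁻¹)) := by
      have e1 : ⁅g * y * g⁻¹, x⁆ = ⁅y, x⁆ := by
        rw [← gV _ (h.comm hy hx), conjugate_commutatorElement, ← commutatorElement_inv,
          ← commutatorElement_inv (g * x * g⁻¹), ← h.comm_V gy hx e, mul_inv_cancel_left]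
      have e2 := h.comm_mul hx hy (mul_mem (inv_mem hy) gy)
      rw [mul_inv_cancel_left, e1] at e2
      exact (commutatorElement_eq_one_iff_commute.1 (left_eq_mul.1 e2)).symm
    have m := l _ (mul_mem (inv_mem hy) gy) c
    have e2 : g * g * y * (g * g)⁻¹ * y⁻¹ = y * ((y⁻¹ * (g * y * g⁻¹)) * (y⁻¹ * (g * y * g⁻¹)) *
        ((y⁻¹ * (g * y * g⁻¹))⁻¹ * (g * (y⁻¹ * (g * y * g⁻¹)) * g⁻¹))) * y⁻¹ := by group
    rw [e2]
    exact h.Vn (h.Qa y hy) (mul_mem (h.sq _ (mul_mem (inv_mem hy) gy)) m)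
  have : orderOf g ∣ 2 ^ 2 := orderOf_dvd_of_pow_eq_one (by
    rw [← k]; simp only [pow_succ, pow_zero, one_mul, mul_assoc, Nat.reduceMul])
  exact orderOf_eq_one_iff.1 (Nat.Coprime.eq_one_of_dvd
    ((Nat.coprime_two_right.2 ho).pow_right 2) this)

theorem oddW0 (t : T3 D α β Q V j q) {g : G} (hg : g ∈ 𝐂(V)) (hb : g • β = β)
    (ho : Odd (orderOf g)) : g ^ (q + 1) = 1 := by
  have hn : zpowers j ≤ 𝐍(zpowers g) := cents_norm fun ρ hρ x ⟨n, e⟩ =>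
    e ▸ ((h.Wj hg hb hρ).zpow_left n).eq
  have gC : zpowers g ≤ 𝐂(V) := zpowers_le.2 hg
  have gb : zpowers g ≤ stabilizer G β := zpowers_le.2 hb
  have d := BS.CB.card_dvd_of_free_conj (zpowers g ⊔ zpowers j) ((Q : Set G) \ V) (fun k hk y hy => by
    have ka : k • α = α := (sup_le (zpowers_le.2 (show g ∈ stabilizer G α from h.Ca hg))
      (zpowers_le.2 (show j ∈ stabilizer G α from h.ja))) hk
    exact ⟨h.Qn k ka y hy.1, fun m => hy.2 (by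
      simpa [mul_assoc] using h.Vn (inv_smul_eq_iff.2 ka.symm) m)⟩) fun k hk y hy e => by
    obtain ⟨a, ha, ρ, hρ, rfl⟩ := (Tr.mem_sup_of_le_normalizer' hn).1 hk
    have y2 := h.sq y hy.1
    obtain rfl : ρ = 1 := h.fpf' hρ (h.VQ y2) (fun e => hy.2 ((h.two y hy.1).1 e)) (by
      have e1 := gC (inv_mem ha) _ y2
      calc ρ * (y * y) * ρ⁻¹ = a⁻¹ * ((a * ρ * y * (a * ρ)⁻¹) * (a * ρ * y * (a * ρ)⁻¹)) * a := by
            group
        _ = y * y := by rw [e, ← e1]; group)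
    rw [mul_one] at e ⊢
    exact h.semi t (gC ha) (gb ha) (ho.of_dvd_nat (orderOf_dvd_of_mem_zpowers ha)) hy.1 hy.2
      (by simp [e])
  have := h.q4
  rw [TI_cardMg hn (eq_bot_iff.2 fun ρ hρ => h.JC hρ.2 (gC hρ.1)), card_cycle, card_cycle, h.ord,
    Set.ncard_sdiff (fun x hx => h.VQ hx), show (Q : Set G).ncard = q ^ 3 from t.card,
    show (V : Set G).ncard = q from h.cardV, show q ^ 3 - q = q * (q + 1) * (q - 1) by
      obtain ⟨m, rfl⟩ : ∃ m, q = m + 1 := ⟨q - 1, by omega⟩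
      exact Nat.sub_eq_of_eq_add (by simp only [Nat.add_sub_cancel]; ring)] at d
  obtain ⟨a, -, e⟩ := h.exq
  exact orderOf_dvd_iff_pow_eq_one.1 (Nat.Coprime.dvd_of_dvd_mul_left
    (e ▸ (Nat.coprime_two_right.2 ho).pow_right a) (Nat.dvd_of_mul_dvd_mul_right (by omega) d))

end Good

end Cfsg.Agent.ZD
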