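import Cfsg.Agent.Lib.ZD.A1
import Cfsg.Agent.Lib.ST.Act
import Cfsg.Agent.Lib.ZD.BW
import Cfsg.Agent.Lib.FT.P.BG2c

/-!
Row S2, part a: abstract lemmas.
-/

set_option autoImplicit false
set_option linter.unusedVariables false
set_option linter.unusedSectionVars false
set_option linter.style.haveILetI false

open Subgroup MulAction
open scoped commutatorElement

namespace Cfsg.Agent.ZD.S2

open FT Tr
open Cfsg.Agent.ST (fixA act_mul act_inv act_inv' eq_one_of_odd_of_two_pow odd_map odd_iff_coprime)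

universe u

/-- A group whose `2`-subgroups have order at most two has a normal `2`-complement. -/
theorem exists_odd_normal {X : Type*} [Group X] [Finite X]
    (h : ∀ T : Subgroup X, IsPGroup 2 T → #|T| ≤ 2) :
    ∃ O : Subgroup X, O.Normal ∧ Odd #|O| ∧ ∀ x, Odd (orderOf x) → x ∈ O := by
  obtain ⟨P⟩ : Nonempty (Sylow 2 X) := inferInstance
  have hP : 𝐍((P : Subgroup X)) ≤ 𝐂((P : Subgroup X)) := fun g hg x hx => by
    by_contra hne
    have h1 : x ≠ 1 := fun e => hne (by simp [e])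
    have h2 : g * x * g⁻¹ ∈ (P : Subgroup X) := (hg x).1 hx
    have h3 : ({1, x, g * x * g⁻¹} : Set X).ncard ≤ #|(P : Subgroup X)| :=
      Set.ncard_le_ncard (t := ((P : Subgroup X) : Set X)) (by
        rintro _ (rfl | rfl | rfl)
        exacts [one_mem (P : Subgroup X), hx, h2]) (Set.toFinite _)
    rw [Set.ncard_eq_three.2 ⟨_, _, _, h1.symm, fun e => h1 (by simpa using e.symm),
      fun e => hne (by rw [eq_mul_inv_iff_mul_eq] at e; exact e), rfl⟩] at h3
    have := h _ P.isPGroup'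
    omega
  refine ⟨(MonoidHom.transferSylow P hP).ker, inferInstance, ?_, fun x hx => ?_⟩
  · exact Nat.not_even_iff_odd.1 fun e =>
      MonoidHom.not_dvd_card_ker_transferSylow P hP (even_iff_two_dvd.1 e)
  · obtain ⟨k, hk⟩ := P.isPGroup' (MonoidHom.transferSylow P hP x)
    exact eq_one_of_odd_of_two_pow (odd_map _ hx) hk

/-- The same inside an ambient group. -/
theorem exists_odd_normal_in {G : Type*} [Group G] [Finite G] (H : Subgroup G)
    (h : ∀ T ≤ H, IsPGroup 2 T → #|T| ≤ 2) :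
    ∃ O : Subgroup G, Odd #|O| ∧ ∀ x, x ∈ O ↔ x ∈ H ∧ Odd (orderOf x) := by
  obtain ⟨O, -, h1, h2⟩ := exists_odd_normal (X := H) fun T hT => by
    rw [← card_map_of_injective H.subtype_injective]
    exact h _ (map_subtype_le T) (hT.map _)
  have h3 : Odd #|O.map H.subtype| := by rwa [card_map_of_injective H.subtype_injective]
  refine ⟨_, h3, fun x => ⟨fun hx => ⟨map_subtype_le O hx, h3.of_dvd_nat (BW.ord_dvd hx)⟩,
    fun hx => ⟨⟨x, hx.1⟩, h2 _ (by rw [← orderOf_coe]; exact hx.2), rfl⟩⟩⟩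

/-- Wielandt's formula for an external action. -/
theorem wielandt_ext {X W : Type u} [Group X] [Group W] [Finite X] [Finite W] (ψ : X →* MulAut W)
    {L K R : Subgroup X} (h : Frob L K R) (hW : IsPGroup 2 W) (hL : Odd #|L|) :
    #|fixA ψ L| ^ #|R| * Nat.card W = #|fixA ψ R| ^ #|R| * #|fixA ψ K| := by
  have : Finite (W ⋊[ψ] X) := Finite.of_equiv _ SemidirectProduct.equivProd.symm
  have e : ∀ (g : X) (w : W), (SemidirectProduct.inr g * SemidirectProduct.inl w : W ⋊[ψ] X) =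
      SemidirectProduct.inl w * SemidirectProduct.inr g ↔ ψ g w = w := fun g w => by
    rw [← SemidirectProduct.inl_inj (φ := ψ), SemidirectProduct.inl_aut, map_inv,
      mul_inv_eq_iff_eq_mul]
  set M := (SemidirectProduct.inl : W →* W ⋊[ψ] X).range
  have hn : ∀ A : Subgroup (W ⋊[ψ] X), A ≤ 𝐍(M) := by
    simp only [M]
    rw [SemidirectProduct.range_inl_eq_ker_rightHom]
    exact fun A => norms_of_normal A
  have hi := SemidirectProduct.inr_injective (φ := ψ)
  have hc : ∀ A : Subgroup X, #|M ⊓ 𝐂(A.map SemidirectProduct.inr)| = #|fixA ψ A| := fun A => by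
    rw [← card_map_of_injective (K := fixA ψ A) (SemidirectProduct.inl_injective (φ := ψ))]
    congr 2
    ext z
    constructor
    · rintro ⟨⟨w, rfl⟩, hw⟩
      exact ⟨w, fun a ha => (e a w).1 (hw _ (mem_map_of_mem _ ha)), rfl⟩
    · rintro ⟨w, hw, rfl⟩
      refine ⟨⟨w, rfl⟩, ?_⟩
      rintro _ ⟨a, ha, rfl⟩
      exact (e a w).2 (hw a ha)
  have hM : #|M| = Nat.card W := (Nat.card_congr (MonoidHom.ofInjective
    SemidirectProduct.inl_injective).toEquiv).symm
  have hM2 : IsPGroup 2 M := hW.of_equiv (MonoidHom.ofInjective SemidirectProduct.inl_injective)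
  have hF : Frob (L.map SemidirectProduct.inr : Subgroup (W ⋊[ψ] X)) (K.map SemidirectProduct.inr)
      (R.map SemidirectProduct.inr) := by
    refine ⟨⟨by rw [← Subgroup.map_sup, h.sd.sup], ?_, by rw [← map_inf _ _ _ hi, h.sd.disj, Subgroup.map_bot]⟩,
      fun e => h.ker_ne ((map_eq_bot_iff_of_injective _ hi).1 e),
      fun e => h.compl_ne ((map_eq_bot_iff_of_injective _ hi).1 e), ?_⟩
    · exact (map_mono h.sd.nz).trans (le_normalizer_map _)
    · rintro _ ⟨x, hx, rfl⟩ h1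
      rw [eq_bot_iff]
      rintro _ ⟨⟨k, hk, rfl⟩, hc⟩
      have : k ∈ K ⊓ 𝐂[x] := ⟨hk, mem_cent1.2 (hi (by simpa using mem_cent1.1 hc))⟩
      rw [h.reg x hx fun e => h1 (by simp [e]), mem_bot] at this
      simp [this]
  have := BG2P.wielandt _ rfl hF (hn _) (by
    obtain ⟨k, hk⟩ := IsPGroup.iff_card.1 hM2
    rw [hk, card_map_of_injective hi]
    exact (odd_iff_coprime.1 hL).symm.pow_left _) (have := hM2.isNilpotent; inferInstance)
  rwa [hc, hc, hc, hM, card_map_of_injective hi] at this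

theorem num_w {a f : ℕ} (ha : 3 ≤ a) (hf : 0 < f) (h : 2 * (2 ^ a) ^ 2 = 2 ^ (2 ^ a - 1) * f) :
    a = 3 ∧ f = 1 := by
  have h1 : 2 ^ (2 ^ a - 1) ≤ 2 ^ (2 * a + 1) := by
    calc _ ≤ 2 ^ (2 ^ a - 1) * f := Nat.le_mul_of_pos_right _ hf
      _ = _ := by rw [← h]; ring
  have h2 := (Nat.pow_le_pow_iff_right one_lt_two).1 h1
  have h3 : ∀ n, 2 * (n + 4) + 2 < 2 ^ (n + 4) := fun n => by
    induction n with
    | zero => norm_num
    | succ n ih => rw [show n + 1 + 4 = n + 4 + 1 by ring, pow_succ]; omega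
  obtain rfl : a = 3 := by
    by_contra hne
    have := h3 (a - 4)
    rw [show a - 4 + 4 = a by omega] at this
    omega
  refine ⟨rfl, ?_⟩
  norm_num at h
  omega

/-- Step 4 of the row, faithful case. -/
theorem fix_of_faithful {X W : Type u} [Group X] [Group W] [Finite X] [Finite W]
    (ψ : X →* MulAut W) (hW : IsPGroup 2 W) {a : ℕ} (ha : 3 ≤ a)
    (hc : Nat.card W = 2 * (2 ^ a) ^ 2) {σ : X} {τ u : W} (hτ : τ ≠ 1) (ho : orderOf σ = 2 ^ a - 1)
    (h1 : ψ σ τ = τ) (h2 : ∀ y ∈ zpowers σ, y ≠ 1 → ∀ w, ψ y w = w → w = 1 ∨ w = τ)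
    (h3 : ∀ T : Subgroup X, IsPGroup 2 T → #|T| ≤ 2)
    (h4 : ∀ n, ψ n τ = τ → n * σ * n⁻¹ ∈ zpowers σ ∧ (Commute n σ → n ∈ zpowers σ))
    (hu : u ≠ 1) (h5 : ∀ x, ψ x τ ≠ u) (x : X) : ψ x τ = τ := by
  by_contra hx
  obtain ⟨O, hO, hodd, hO'⟩ := exists_odd_normal h3
  have h8 : 8 ≤ 2 ^ a := Nat.pow_le_pow_right (n := 2) two_pos ha
  have hσ : σ ∈ O := hO' σ (ho ▸ Nat.Even.sub_odd (by omega) (by
    simp [Nat.even_pow]; omega) odd_one)
  have hσ1 : σ ≠ 1 := fun e => by rw [e, orderOf_one] at ho; omega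
  obtain ⟨p, N, hp, hNO, hN, hN1, hab⟩ := solvable_norm_abelem (L := ⊤) (oddOrder O hodd)
    (norms_of_normal _) fun e => hσ1 (by rwa [e, mem_bot] at hσ)
  have := Fact.mk hp
  have key : ∀ y ∈ zpowers σ, y ≠ 1 → ∀ n, Commute n y → ψ n τ = τ := fun y hy hy1 n hc =>
    (h2 y hy hy1 _ (by
      obtain ⟨k, rfl⟩ := hy
      have : ∀ g ∈ zpowers σ, ψ g τ = τ := fun g hg =>
        (zpowers_le (H := stabilizer (MulAut W) τ |>.comap ψ).2 h1 hg)
      rw [← act_mul, ← hc.eq, act_mul, this _ ⟨k, rfl⟩])).resolve_left (by simpa using hτ)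
  have hNJ : N ⊓ zpowers σ = ⊥ := by
    rw [eq_bot_iff]
    rintro y ⟨hy, hy'⟩
    by_contra hy1
    have h6 := key y hy' hy1 _ (abelem_comm hab ((hN (mem_top x⁻¹) y).1 hy) hy)
    rw [act_mul, act_mul, inv_inv] at h6
    rcases h2 y hy' hy1 (ψ x τ) (by rw [← act_inv' x (ψ y _), h6]) with e | e
    · exact hτ (by simpa using e)
    · exact hx e
  have hNτ : ∀ n ∈ N, ψ n τ = τ → n = 1 := fun n hn e => by
    obtain ⟨h6, h7⟩ := h4 n e
    have h8 : n * σ * n⁻¹ * σ⁻¹ ∈ N ⊓ zpowers σ := ⟨by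
      simpa [mul_assoc] using mul_mem hn ((hN (mem_top σ) _).1 (N.inv_mem hn)),
      (zpowers σ).mul_mem h6 (inv_mem (mem_zpowers σ))⟩
    rw [hNJ, mem_bot] at h8
    exact mem_bot.1 (hNJ ▸ (⟨hn, h7 (commutatorElement_eq_one_iff_commute.1 h8)⟩ :
      n ∈ N ⊓ zpowers σ))
  have hF : Frob (N ⊔ zpowers σ) N (zpowers σ) := ⟨⟨rfl, le_top.trans hN, hNJ⟩, hN1,
    fun e => hσ1 (zpowers_eq_bot.1 e), fun y hy hy1 => eq_bot_iff.2 fun n hn =>
      hNτ n hn.1 (key y hy hy1 n (mem_cent1.1 hn.2))⟩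
  have h6 := wielandt_ext ψ hF hW (hodd.of_dvd_nat (card_dvd_of_le (sup_le hNO (zpowers_le.2 hσ))))
  have h7 : fixA ψ (N ⊔ zpowers σ) = ⊥ := eq_bot_iff.2 fun w hw => by
    rcases h2 σ (mem_zpowers σ) hσ1 w (hw σ (mem_sup_right (mem_zpowers σ))) with e | rfl
    · exact e
    · exact absurd (eq_bot_iff.2 fun n hn => hNτ n hn (hw n (mem_sup_left hn))) hN1
  have h9 : #|fixA ψ (zpowers σ)| = 2 := by
    rw [← Set.ncard_pair hτ.symm]
    congr 2
    ext w
    refine ⟨fun hw => h2 σ (mem_zpowers σ) hσ1 w (hw σ (mem_zpowers σ)), ?_⟩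
    rintro (rfl | rfl)
    · exact one_mem _
    · exact fun g hg => (zpowers_le (H := stabilizer (MulAut W) w |>.comap ψ).2 h1 hg)
  rw [h7, h9, card_bot, one_pow, one_mul, hc, Nat.card_zpowers, ho] at h6
  obtain ⟨rfl, h10⟩ := num_w ha Nat.card_pos h6
  obtain ⟨n, hn, hn1⟩ := (N.bot_or_exists_ne_one).resolve_left hN1
  have hon : orderOf n = p := orderOf_eq_prime (abelem_pow hab hn) hn1
  letI : MulAction N W := MulAction.compHom W (ψ.comp N.subtype)
  have h11 := (abelem_pgroup hab).card_modEq_card_fixedPoints W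
  have h12 : Nat.card (fixedPoints N W) = 1 := h10 ▸ Nat.card_congr (Equiv.setCongr (by
    ext w
    exact ⟨fun hw g hg => hw ⟨g, hg⟩, fun hw g => hw g g.2⟩))
  rw [h12, hc] at h11
  have h13 : p = 127 := (Nat.prime_dvd_prime_iff_eq hp (by norm_num)).1
    ((Nat.modEq_iff_dvd' (by norm_num)).1 h11.symm)
  have h14 : Set.InjOn (fun g : X => ψ g τ) (zpowers n) := fun g hg g' hg' e => by
    have := hNτ (g'⁻¹ * g) (zpowers_le.2 hn (mul_mem (inv_mem hg') hg)) (by
      simp only at e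
      rw [act_mul, e, act_inv])
    exact (inv_mul_eq_one.1 this).symm
  have h15 := Set.ncard_le_ncard_of_injOn _ (t := ({1, u}ᶜ : Set W)) (fun g _ => by
    rintro (e | e)
    exacts [hτ (by simpa using e), h5 g e]) h14
  have h16 := Set.ncard_add_ncard_compl ({1, u} : Set W)
  have h17 : (zpowers n : Set X).ncard = 127 := by rw [← h13, ← hon, ← Nat.card_zpowers]; rfl
  rw [Set.ncard_pair hu.symm, hc] at h16
  omega

end Cfsg.Agent.ZD.S2
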