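import Cfsg.Agent.Lib.ZD.A2
import Cfsg.Agent.Lib.ZD.S2a

/-!
Row S2, part b: the configuration `C2` and the subgroup `P₁`.
-/

set_option autoImplicit false
set_option linter.unusedVariables false
set_option linter.unusedSectionVars false

open Subgroup MulAction
open scoped commutatorElement

namespace Cfsg.Agent.ZD.S2

open FT Tr
open Cfsg.Agent.ST (eq_one_of_odd_of_two_pow commute_of_odd mem_cent_of_odd)

universe u

variable {G : Type u} {Ω : Type u} [Group G] [Finite G] [MulAction G Ω]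

theorem dec2 (y : G) : ∃ r ∈ zpowers y, ∃ o ∈ zpowers y, (∃ k : ℕ, r ^ 2 ^ k = 1) ∧
    Odd (orderOf o) ∧ y = r * o := by
  obtain ⟨k, m, hm, e⟩ := Nat.exists_eq_two_pow_mul_odd (orderOf_pos y).ne'
  obtain ⟨c, d, h⟩ : IsCoprime (m : ℤ) ((2 ^ k : ℕ) : ℤ) :=
    Nat.isCoprime_iff_coprime.2 ((ST.odd_iff_coprime.1 hm).pow_right k)
  refine ⟨y ^ (c * m), zpow_mem_zpowers _ _, y ^ (d * (2 ^ k : ℕ)), zpow_mem_zpowers _ _, ⟨k, ?_⟩,
    ST.odd_of_pow hm ?_, by rw [← zpow_add, h, zpow_one]⟩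
  · rw [← zpow_natCast, ← zpow_mul, mul_assoc, mul_comm c, zpow_mul, ← Nat.cast_mul, mul_comm m,
      ← e, zpow_natCast, pow_orderOf_eq_one, one_zpow]
  · rw [← zpow_natCast, ← zpow_mul, mul_assoc, mul_comm d, zpow_mul, ← Nat.cast_mul,
      ← e, zpow_natCast, pow_orderOf_eq_one, one_zpow]

theorem exists_inv_pow {X : Type*} [Group X] {y : X} (h1 : y ≠ 1) {k : ℕ} (hk : y ^ 2 ^ k = 1) :
    ∃ n : ℕ, y ^ n * y ^ n = 1 ∧ y ^ n ≠ 1 := by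
  induction k with
  | zero => exact absurd (by simpa using hk) h1
  | succ k ih =>
    by_cases e : y ^ 2 ^ k = 1
    · exact ih e
    · exact ⟨_, by rw [← pow_add, ← two_mul, ← pow_succ', hk], e⟩

set_option hygiene false in
local notation "π" => pT Ω t

section pi

variable {t x y : G}

theorem st (hx : x ∈ 𝐂[t]) : x ∈ Stab G (fixedBy Ω t) := fun ω => by
  rw [mem_fixedBy, mem_fixedBy, ← mul_smul, ← mem_cent1.1 hx, mul_smul, smul_left_cancel_iff]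

theorem pmul (hx : x ∈ 𝐂[t]) (hy : y ∈ 𝐂[t]) : π (x * y) = π x * π y :=
  pr_mul (Stab_inv _) (st hx) (st hy)

theorem pinv (hx : x ∈ 𝐂[t]) : π x⁻¹ = (π x)⁻¹ := pr_inv (Stab_inv _) (st hx)

theorem ppow (hx : x ∈ 𝐂[t]) (n : ℕ) : π (x ^ n) = π x ^ n := pr_pow (Stab_inv _) (st hx) n

theorem pconj (hx : x ∈ 𝐂[t]) (hy : y ∈ 𝐂[t]) : π (x * y * x⁻¹) = π x * π y * (π x)⁻¹ :=
  pr_conj (Stab_inv _) (st hx) (st hy)

theorem pone : π (1 : G) = 1 := pr_one (Stab_inv _)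

theorem pone_iff (hx : x ∈ 𝐂[t]) : π x = 1 ↔ x ∈ Ker G (fixedBy Ω t) :=
  pr_eq_one (Stab_inv _) (st hx)

theorem peq_iff (hx : x ∈ 𝐂[t]) (hy : y ∈ 𝐂[t]) : π x = π y ↔ x⁻¹ * y ∈ Ker G (fixedBy Ω t) :=
  pr_eq_iff' (Stab_inv _) (st hx) (st hy)

theorem psmul (hx : x ∈ 𝐂[t]) {ω ω' : fixedBy Ω t} : π x • ω = ω' ↔ x • (ω : Ω) = ω' :=
  pr_smul_eq (Stab_inv _) (st hx)

theorem t_cent : t ∈ 𝐂[t] := mem_cent1.2 rfl

theorem pt : π t = 1 := (pone_iff t_cent).2 fun _ h => h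

end pi

/-- The configuration of row S2. -/
structure C2 (D : Set G) (t : G) (a b : fixedBy Ω t) (R V : Subgroup G) (j : G) (q : ℕ)
    (Q W : Subgroup (XT Ω t)) : Prop extends CS D t a b R V (zpowers t) R j q Q W where
  card : #|Q| = q ^ 2
  hyp : ∀ s : G, TI Ω s → ∀ T ≤ 𝐂[s], IsPGroup 2 T → #|R| ≤ #|T| → ∀ u : G, u * u = 1 →
      Commute u s → FR (fixedBy Ω s) u → u = 1 ∨ u = s

variable {D : Set G} {t : G} {a b : fixedBy Ω t} {R V K P : Subgroup G} {j : G} {q : ℕ}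
  {Q W : Subgroup (XT Ω t)}

theorem eq_P (c : CS D t a b R V K P j q Q W) (hQ : #|Q| = q ^ 2) : P = R := by
  have hq := c.sing.q4
  have hPR : P ≤ R := c.eqP ▸ inf_le_left
  refine le_antisymm hPR fun x hx => ?_
  have hR := c.sylR.le
  obtain ⟨ξ, hξ, e⟩ := c.good.dec (π x) ((psmul (hR hx)).2 (c.Ra x hx))
  obtain ⟨p, hp, rfl⟩ := (c.piP ξ).1 hξ
  have hz : p⁻¹ * x ∈ R := mul_mem (inv_mem (hPR hp)) hx
  rw [← pinv (hR (hPR hp)), ← pmul (inv_mem (hR (hPR hp))) (hR hx)] at e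
  by_cases h1 : π (p⁻¹ * x) = 1
  · simpa using mul_mem hp (c.KP (c.eqK.ge ⟨hz, (pone_iff (hR hz)).1 h1⟩))
  obtain ⟨k, hk⟩ := isPGroup_iff_forall_mem.1 c.sylR.isPGroup _ hz
  obtain ⟨n, h2, h3⟩ := exists_inv_pow h1 (k := k) (by rw [← ppow (hR hz), hk, pone])
  rcases c.good.fr _ h2 h3 ((stabilizer _ a).pow_mem ((psmul (hR hz)).2 (c.Ra _ hz)) n)
    ((stabilizer _ b).pow_mem e n) with ⟨-, h4, -⟩ | ⟨h4, -⟩
  · rw [hQ] at h4
    nlinarith [Nat.pow_le_pow_left hq 2]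
  · rw [h4, c.good.cardV] at hQ
    nlinarith

namespace C2

variable (c : C2 D t a b R V j q Q W)
include c

theorem zd : ZH ⊤ (Set.univ : Set Ω) D := c.min.zd

theorem tt : t * t = 1 := by rw [← sq, ← c.ti.two, pow_orderOf_eq_one]

theorem t_inv : t⁻¹ = t := inv_eq_of_mul_eq_one_right c.tt

theorem t_ne : t ≠ 1 := fun e => by simpa [e] using c.ti.two

theorem RC : R ≤ 𝐂[t] := c.sylR.le

theorem tR : t ∈ R := c.KP (mem_zpowers t)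

theorem VR : V ≤ R := fun v hv => by
  rcases (c.memV v).1 hv with rfl | h
  exacts [one_mem _, h.2]

theorem RV : R ≤ 𝐂(V) := c.eqP.le.trans inf_le_right

theorem VC : V ≤ 𝐂[t] := c.VR.trans c.RC

theorem t_not : t ∉ V := fun h => by
  rcases (c.memV t).1 h with e | h
  exacts [c.t_ne e, c.zd.uniq t h.1 c.ti.fr]

theorem V2 : IsPGroup 2 V := c.sylR.isPGroup.to_le c.VR

theorem ker {x : G} (hx : x ∈ R) (h : π x = 1) : x = 1 ∨ x = t :=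
  (mem_zpowers_sq c.tt).1 (c.eqK.ge ⟨hx, (pone_iff (c.RC hx)).1 h⟩)

theorem pQ {x : G} (hx : x ∈ R) : π x ∈ Q := (c.piP _).2 ⟨x, hx, rfl⟩

theorem pW {x : G} (hx : x ∈ V) : π x ∈ W := (c.piV _).2 ⟨x, hx, rfl⟩

theorem memE {x : G} (hx : x ∈ R) (h : π x ∈ W) : x ∈ V ∨ t * x ∈ V := by
  obtain ⟨v, hv, e⟩ := (c.piV _).1 h
  rcases (mem_zpowers_sq c.tt).1 (c.eqK.ge ⟨R.mul_mem (R.inv_mem (c.VR hv)) hx,
    (peq_iff (c.VC hv) (c.RC hx)).1 e⟩) with e | e <;> rw [inv_mul_eq_iff_eq_mul] at e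
  · exact Or.inl (by rwa [e, mul_one])
  · exact Or.inr (by rwa [e, mem_cent1.1 (c.VC hv), ← mul_assoc, c.tt, one_mul])

theorem memE' {x : G} (hx : x ∈ R) (h : x * x = 1) : x ∈ V ∨ t * x ∈ V :=
  c.memE hx ((c.good.two _ (c.pQ hx)).1 (by rw [← pmul (c.RC hx) (c.RC hx), h, pone]))

theorem prS_R : prS (Stab_inv _) R = Q := by
  ext ξ
  rw [mem_prS, c.piP]
  exact ⟨fun ⟨g, h1, _, h3⟩ => ⟨g, h1, h3⟩, fun ⟨g, h1, h3⟩ => ⟨g, h1, st (c.RC h1), h3⟩⟩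

theorem card_R : #|R| = 2 * q ^ 2 := by
  rw [← card_prS (Stab_inv (fixedBy Ω t)) fun x hx => st (c.RC hx), c.prS_R, ← c.eqK, c.card,
    Nat.card_zpowers, c.ti.two]

theorem QW : Q ≠ W := fun e => by
  have := c.card
  rw [e, c.good.cardV] at this
  nlinarith [c.sing.q4]

theorem Q3 : #|Q| ≠ q ^ 3 := fun e => by
  rw [c.card] at e
  nlinarith [Nat.pow_le_pow_left c.sing.q4 2, c.sing.q4]

theorem exq : ∃ m : ℕ, 3 ≤ m ∧ q = 2 ^ m := by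
  rcases c.good.typ with e | h | h
  · exact absurd e c.QW
  · obtain ⟨m, hm⟩ := h.odd
    refine ⟨_, ?_, hm⟩
    have := c.sing.q4
    rcases m with _ | m
    · omega
    · omega
  · exact absurd h.card c.Q3

theorem fixV {v : G} (hv : v ∈ V) {ε : Ω} (hε : ε ≠ a) (h : v • ε = ε) : v = 1 := by
  rcases (c.memV v).1 hv with e | h'
  · exact e
  · exact absurd (c.zd.eq_pt h'.1 trivial trivial h (c.Ra v h'.2)) hε

theorem exV : ∃ v ∈ V, v ∈ D := by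
  obtain ⟨v, hv, h1⟩ := V.bot_or_exists_ne_one.resolve_left fun e => by
    have := c.sing.card
    rw [e, card_bot] at this
    have := c.sing.q4
    omega
  exact ⟨v, hv, (((c.memV v).1 hv).resolve_left h1).1⟩

theorem fix_a {x : G} (hx : x ∈ 𝐂(V)) : x • (a : Ω) = a := by
  obtain ⟨v, hv, hD⟩ := c.exV
  exact c.zd.fix_of_comm hD trivial (c.Ra v (c.VR hv)) trivial (hx v hv).symm

/-- A `2`-element of `C(t)` fixing two points of `F` lies in `⟨t⟩`. -/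
theorem fr_two {x : G} (hx : x ∈ 𝐂[t]) {k : ℕ} (hk : x ^ 2 ^ k = 1) (h : FR (fixedBy Ω t) x) :
    x = 1 ∨ x = t := by
  obtain ⟨g, hg, hx'⟩ := c.sylR.exists_conj_mem hx hk
  have h1 : π (g * x * g⁻¹) = 1 := by
    obtain ⟨γ, -, δ, -, ne, e1, e2⟩ := (fr_pr (Stab_inv _) (st (c.RC hx'))).2
      (h.conj (Stab_inv _ g (st hg)))
    obtain ⟨ε, hε, e⟩ : ∃ ε ≠ a, π (g * x * g⁻¹) • ε = ε := by
      by_cases e : γ = a
      exacts [⟨δ, fun e' => ne (e.trans e'.symm), e2⟩, ⟨γ, e, e1⟩]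
    obtain ⟨y, hy, rfl⟩ := c.good.tr ε hε
    have := c.good.reg (y⁻¹ * π (g * x * g⁻¹) * y) (mul_mem (mul_mem (inv_mem hy) (c.pQ hx')) hy)
      (by rw [mul_smul, mul_smul, e, inv_smul_smul])
    rwa [mul_assoc, inv_mul_eq_one, eq_comm, mul_eq_right] at this
  refine (c.ker hx' h1).imp (by simp) fun e => ?_
  rw [mul_inv_eq_iff_eq_mul, ← mem_cent1.1 hg] at e
  exact mul_left_cancel e

theorem two_mem {x : G} (hx : x ∈ 𝐂[t]) (hn : x ∈ 𝐍(R)) {k : ℕ} (hk : x ^ 2 ^ k = 1) : x ∈ R :=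
  c.sylR.le_of_le_normalizer' (isPGroup_zpowers hk) (zpowers_le.2 hx) (zpowers_le.2 hn)
    (mem_zpowers x)

theorem pCV {y : G} (hy : y ∈ 𝐂[t]) (hV : y ∈ 𝐂(V)) : π y ∈ Q :=
  c.good.CV c.Q3 _ fun ξ hξ => by
    obtain ⟨v, hv, rfl⟩ := (c.piV _).1 hξ
    rw [← pmul (c.VC hv) hy, hV v hv, pmul hy (c.VC hv)]

theorem comm_of_ker {y x : G} (hy : y ∈ 𝐂[t]) (hn : y ∈ 𝐍(R)) (h : π y = 1) (hx : x ∈ R) :
    y * x * y⁻¹ * x⁻¹ ∈ zpowers t :=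
  (mem_zpowers_sq c.tt).2 (c.ker (mul_mem ((hn x).1 hx) (inv_mem hx)) (by
    rw [pmul (c.RC ((hn x).1 hx)) (inv_mem (c.RC hx)), pconj hy (c.RC hx), h, pinv (c.RC hx)]
    simp))

theorem odd_cent {y : G} (hy : y ∈ 𝐂[t]) (hV : y ∈ 𝐂(V)) (hn : y ∈ 𝐍(R))
    (ho : Odd (orderOf y)) : y ∈ 𝐂(R) := by
  have h1 : π y = 1 := by
    obtain ⟨k, hk⟩ := isPGroup_iff_forall_mem.1 (c.prS_R ▸ isPGroup_prS _ c.sylR.isPGroup) _
      (c.pCV hy hV)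
    exact eq_one_of_odd_of_two_pow (ho.of_dvd_nat (orderOf_pr_dvd (Stab_inv _) (st hy))) hk
  exact mem_cent_of_odd ho (isPGroup_zpowers_sq c.tt) (fun x hx => c.comm_of_ker hy hn h1 hx)
    (by rwa [cent_cycle])

theorem cent_of_ker {y : G} (hy : y ∈ 𝐂[t]) (hn : y ∈ 𝐍(R)) (hn' : y ∈ 𝐍(V)) (h : π y = 1) :
    y ∈ 𝐂(V) := fun v hv => by
  have h1 : y * v * y⁻¹ * v⁻¹ ∈ V := mul_mem ((hn' v).1 hv) (inv_mem hv)
  rcases (mem_zpowers_sq c.tt).1 (c.comm_of_ker hy hn h (c.VR hv)) with e | e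
  · exact (commutatorElement_eq_one_iff_commute.1 e).symm
  · exact absurd (e ▸ h1) c.t_not

theorem del {h : G} (hn : h ∈ 𝐍(R)) (hn' : h ∈ 𝐍(V)) : t * (h * t * h⁻¹) ∈ V :=
  (c.memE' ((hn t).1 c.tR) (by rw [conj_mul, c.tt]; simp)).resolve_left
    fun e => c.t_not ((hn' t).2 e)

theorem del' {h : G} (hn : h ∈ 𝐍(R)) (hn' : h ∈ 𝐍(V)) : ∃ w ∈ V, h * t * h⁻¹ = t * w :=
  ⟨_, c.del hn hn', by rw [← mul_assoc, c.tt, one_mul]⟩

variable {P₁ : Subgroup G} (s : SylowIn 2 P₁ (𝐂(V) ⊓ 𝐍(R)))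
include s

theorem PV : P₁ ≤ 𝐂(V) := s.le.trans inf_le_left

theorem PN : P₁ ≤ 𝐍(R) := s.le.trans inf_le_right

theorem RP : R ≤ P₁ := s.le_of_le_normalizer c.sylR.isPGroup (le_inf c.RV (normG R)) (c.PN s)

theorem VP : V ≤ P₁ := c.VR.trans (c.RP s)

theorem memR {x : G} (hx : x ∈ P₁) (h : x ∈ 𝐂[t]) : x ∈ R := by
  obtain ⟨k, hk⟩ := isPGroup_iff_forall_mem.1 s.isPGroup x hx
  exact c.two_mem h (c.PN s hx) hk

theorem onto {w : G} (hw : w ∈ V) : ∃ x ∈ P₁, x * t * x⁻¹ = t * w := by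
  obtain ⟨h, hh, e⟩ := c.trT c.QW w hw
  obtain ⟨r, hr, o, ho, ⟨k, hk⟩, ho', rfl⟩ := dec2 h
  have hH : ∀ y ∈ zpowers (r * o), y ∈ 𝐂(V) ⊓ 𝐍(R) := fun y hy =>
    zpowers_le.2 (mem_inf.2 ⟨hh.2, hh.1⟩) hy
  obtain ⟨v, hv, e1⟩ := c.del' (hH o ho).2 (cent_sub V (hH o ho).1)
  have e2 : o * t * o⁻¹ * t⁻¹ = v := by rw [e1, ← mem_cent1.1 (c.VC hv), mul_inv_cancel_right]
  have h1 : t * o = o * t := commute_of_odd ho' c.V2 (e2 ▸ hv) (e2 ▸ ((hH o ho).1 v hv).symm)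
  obtain ⟨g, hg, hr'⟩ := s.exists_conj_mem (hH r hr) hk
  obtain ⟨u, hu, e3⟩ := c.del' (inv_mem hg.2) (cent_sub V (inv_mem hg.1))
  refine ⟨_, hr', ?_⟩
  calc _ = g * (r * (g⁻¹ * t * g⁻¹⁻¹) * r⁻¹) * g⁻¹ := by group
    _ = g * (r * o * t * (r * o)⁻¹ * u) * g⁻¹ := by
      rw [e3, ← mul_assoc r, mul_assoc _ u, (𝐂(V).inv_mem (hH r hr).1) u hu, mul_assoc r o, ← h1]; group
    _ = g * (t * u) * g⁻¹ * w := by
      rw [e, mul_assoc t, c.RV (c.VR hu) w hw, mul_assoc (g * _), ← (𝐂(V).inv_mem hg.1) w hw]; group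
    _ = t * w := by rw [← e3]; group

theorem card_P : #|P₁| = 2 * q ^ 3 := by
  have h1 : 𝐂[t] ⊓ P₁ = R := le_antisymm (fun x hx => c.memR s hx.2 hx.1) (le_inf c.RC (c.RP s))
  have h2 : {y | ∃ g ∈ P₁, g * t * g⁻¹ = y} = (fun v => t * v) '' V := by
    ext y
    constructor
    · rintro ⟨g, hg, rfl⟩
      obtain ⟨w, hw, e⟩ := c.del' (c.PN s hg) (cent_sub V (c.PV s hg))
      exact ⟨w, hw, e.symm⟩
    · rintro ⟨w, hw, rfl⟩
      exact c.onto s hw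
  rw [← card_inf_mul_relIndex 𝐂[t], h1, ← ncard_class, h2,
    Set.ncard_image_of_injective _ (mul_right_injective t), c.card_R]
  change _ * #|V| = _
  rw [c.sing.card]; ring

theorem conj_R {x r : G} (hx : x ∈ P₁) (hr : r ∈ R) :
    ∃ v ∈ V, x * r * x⁻¹ = r * v ∨ x * r * x⁻¹ = r * (t * v) := by
  have h1 : x * r * x⁻¹ ∈ R := (c.PN s hx r).1 hr
  have h2 := c.good.sqinj c.card _ (c.pQ hr) _ (c.pQ h1) (by
    rw [← pmul (c.RC hr) (c.RC hr), ← pmul (c.RC h1) (c.RC h1), conj_mul,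
      ← c.PV s hx _ (c.sqP r hr), mul_inv_cancel_right])
  rw [← pinv (c.RC hr), ← pmul (inv_mem (c.RC hr)) (c.RC h1)] at h2
  rcases c.memE (mul_mem (inv_mem hr) h1) h2 with e | e
  · exact ⟨_, e, Or.inl (by group)⟩
  · exact ⟨_, e, Or.inr (by rw [← mul_assoc t, c.tt]; group)⟩

theorem sq_mem {x : G} (hx : x ∈ P₁) : x * x ∈ V := by
  by_cases hR : x ∈ R
  · exact c.sqP x hR
  obtain ⟨w, hw, e⟩ := c.del' (c.PN s hx) (cent_sub V (c.PV s hx))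
  have cv : ∀ v ∈ V, x * v * x⁻¹ = v := fun v hv => by rw [← c.PV s hx v hv, mul_inv_cancel_right]
  have h1 : x * x ∈ R := c.memR s (mul_mem hx hx) (mem_cent1.2 (mul_inv_eq_iff_eq_mul.1 (by
    calc _ = x * (x * t * x⁻¹) * x⁻¹ := by group
      _ = t := by rw [e, ← conj_mul, e, cv w hw, mul_assoc, c.sing.two w hw, mul_one])))
  have h2 : π (x * x) ∈ W := c.good.rk _ (c.pQ h1) (π w) fun ξ hξ => by
    obtain ⟨r, hr, rfl⟩ := (c.piP _).1 hξ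
    have h3 : x * x * r⁻¹ * (x * x)⁻¹ = r⁻¹ ∨ x * x * r⁻¹ * (x * x)⁻¹ = r⁻¹ * w := by
      obtain ⟨v, hv, e1 | e1⟩ := c.conj_R s hx (inv_mem hr)
      · left
        calc _ = x * (x * r⁻¹ * x⁻¹) * x⁻¹ := by group
          _ = _ := by rw [e1, ← conj_mul, e1, cv v hv, mul_assoc, c.sing.two v hv, mul_one]
      · right
        calc _ = x * (x * r⁻¹ * x⁻¹) * x⁻¹ := by group
          _ = r⁻¹ * (t * (v * t) * (w * v)) := by
            rw [e1, ← conj_mul, ← conj_mul, e1, e, cv v hv]; group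
          _ = _ := by
            rw [mem_cent1.1 (c.VC hv), ← mul_assoc t, c.tt, one_mul, ← c.RV (c.VR hw) v hv,
              ← mul_assoc v, c.sing.two v hv, one_mul]
    have h4 : ⁅π r, π (x * x)⁆ = π (r * (x * x * r⁻¹ * (x * x)⁻¹)) := by
      rw [pmul (c.RC hr) (c.RC (mul_mem (mul_mem h1 (inv_mem hr)) (inv_mem h1))),
        pconj (c.RC h1) (inv_mem (c.RC hr)), pinv (c.RC hr), commutatorElement_def]
      group
    rw [h4]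
    exact h3.imp (fun e => by rw [e, mul_inv_cancel, pone]) fun e => by rw [e, mul_inv_cancel_left]
  refine (c.memE h1 h2).resolve_right fun h3 => hR (c.memR s hx (mem_cent1.2 ?_))
  have := c.PV s hx _ h3
  rw [mul_assoc, mul_assoc, ← mul_assoc, ← mul_assoc x t] at this
  exact (mul_right_cancel this).symm

theorem comm_mem {x y : G} (hx : x ∈ P₁) (hy : y ∈ P₁) : x * y * x⁻¹ * y⁻¹ ∈ V := by
  convert mul_mem (mul_mem (c.sq_mem s hx) (c.sq_mem s (mul_mem (inv_mem hx) hy)))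
    (inv_mem (c.sq_mem s hy)) using 1
  group

theorem mem_V {z : G} (hz : z ∈ P₁) (h : z ∈ 𝐂(P₁)) : z ∈ V := by
  have h1 : z ∈ R := c.memR s hz (mem_cent1.2 (h t (c.RP s c.tR)).symm)
  refine (c.memE h1 (c.good.cenQ _ fun ξ hξ => ?_)).resolve_right fun h2 => ?_
  · obtain ⟨r, hr, rfl⟩ := (c.piP _).1 hξ
    rw [← pmul (c.RC hr) (c.RC h1), h r (c.RP s hr), pmul (c.RC h1) (c.RC hr)]
  · obtain ⟨v, hv, hD⟩ := c.exV
    obtain ⟨x, hx, e⟩ := c.onto s hv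
    have h3 := c.PV s hx _ h2
    rw [mul_assoc, ← h x hx, ← mul_assoc, ← mul_assoc] at h3
    rw [← mul_right_cancel h3, mul_inv_cancel_right, left_eq_mul] at e
    exact c.zd.ne_one hD e

theorem NV : 𝐍(P₁) ≤ 𝐍(V) := fun g hg => mem_normalizer_of_forall fun v hv =>
  c.mem_V s ((hg v).1 (c.VP s hv)) fun x hx => by
    have := c.PV s (conj_mem_of_mem_normalizer' hg hx) v hv
    calc _ = g * (g⁻¹ * x * g * v) * g⁻¹ := by group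
      _ = _ := by rw [← this]; group

theorem NR {y : G} (hy : y ∈ 𝐂[t]) (hn : y ∈ 𝐍(P₁)) : y ∈ 𝐍(R) :=
  mem_normalizer_of_forall fun r hr => c.memR s ((hn r).1 (c.RP s hr))
    (mul_mem (mul_mem hy (c.RC hr)) (inv_mem hy))

theorem triv {y : G} (hy : y ∈ 𝐂[t]) (hV : y ∈ 𝐂(V)) (hn : y ∈ 𝐍(P₁)) {x : G} (hx : x ∈ P₁) :
    y * x * y⁻¹ * x⁻¹ ∈ V := by
  obtain ⟨r, hr, o, ho, ⟨k, hk⟩, ho', e⟩ := dec2 y
  have h1 := zpowers_le.2 hy ho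
  have h2 := zpowers_le.2 hV ho
  have h3 := zpowers_le.2 hn ho
  have h4 : o ∈ 𝐂(P₁) := mem_cent_of_odd ho' c.sylR.isPGroup (fun z hz => by
    obtain ⟨w, hw, e1⟩ := c.del' (c.PN s (inv_mem hz)) (cent_sub V (c.PV s (inv_mem hz)))
    refine c.memR s (mul_mem ((h3 z).1 hz) (inv_mem hz)) (mem_cent1.2 (mul_inv_eq_iff_eq_mul.1 ?_))
    calc _ = o * z * (o⁻¹ * (z⁻¹ * t * z⁻¹⁻¹) * o) * z⁻¹ * o⁻¹ := by group
      _ = o * (z * (z⁻¹ * t * z⁻¹⁻¹) * z⁻¹) * o⁻¹ := by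
        rw [e1, mul_assoc o⁻¹, mul_assoc t, h2 w hw, ← mul_assoc t, ← mem_cent1.1 h1]; group
      _ = t := by rw [← mul_inv_eq_iff_eq_mul.2 (mem_cent1.1 h1)]; simp [mem_cent1.1 h1, mul_assoc]) (c.odd_cent h1 h2 (c.NR s h1 h3) ho')
  have h5 := c.comm_mem s (c.RP s (c.two_mem (zpowers_le.2 hy hr)
    (zpowers_le.2 (c.NR s hy hn) hr) hk)) hx
  rw [e, mul_assoc r, ← h4 x hx]
  convert h5 using 1
  group

theorem back {y : G} (h : ∀ x ∈ P₁, y * x * y⁻¹ * x⁻¹ ∈ V) : y ∈ 𝐂(V) := fun w hw => by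
  obtain ⟨x, hx, e⟩ := c.onto s hw
  have ht := c.RP s c.tR
  rw [← inv_mul_eq_iff_eq_mul] at e
  have h1 := c.PV s hx _ (h t ht)
  have h2 := c.PV s ht _ (h t ht)
  have h3 := c.PV s (mul_mem ht (inv_mem hx)) _ (inv_mem (h x hx))
  refine (mul_inv_eq_iff_eq_mul.1 ?_).symm
  generalize hu : y * t * y⁻¹ * t⁻¹ = u at h1 h2
  have h4 := h x hx
  generalize hv : y * x * y⁻¹ * x⁻¹ = v at h3 h4
  calc _ = (y * t * y⁻¹)⁻¹ * (y * x * y⁻¹ * (y * t * y⁻¹) * (y * x * y⁻¹)⁻¹) := by rw [← e]; group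
    _ = t⁻¹ * u⁻¹ * (v * (x * u) * (t * x⁻¹ * v⁻¹)) := by
      rw [mul_inv_eq_iff_eq_mul.1 hu, mul_inv_eq_iff_eq_mul.1 hv]; group
    _ = t⁻¹ * u⁻¹ * (v * u * (x * v⁻¹) * (t * x⁻¹)) := by rw [← h1, ← h3]; group
    _ = w := by
      rw [← c.PV s hx _ (inv_mem h4), ← e, c.RV (c.VR (hu ▸ h t ht)) v h4]; group

theorem exists_i : ∃ i ∈ 𝐍(P₁), i ∈ 𝐂[t] ∧ π i = π j := by
  have hj : j ∈ 𝐂[t] := by simpa [cent_cycle] using c.jK
  obtain ⟨n, hn, y, hy, e⟩ := s.frattini (x := j) (by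
    rw [← cj_eq_iff, cj_inf, ← centralizer_cj, ← normalizer_cj, cj_eq_iff.2 c.jP,
      cj_eq_iff.2 c.sing.nj])
  obtain ⟨w, hw, e1⟩ := c.del' (inv_mem hn.2) (cent_sub V (inv_mem hn.1))
  obtain ⟨x, hx, e2⟩ := c.onto s hw
  have h1 : x⁻¹ * n⁻¹ ∈ 𝐂[t] := mem_cent1.2 (mul_inv_eq_iff_eq_mul.1 (by
    calc _ = x⁻¹ * (n⁻¹ * t * n⁻¹⁻¹) * x := by group
      _ = t := by rw [e1, ← e2]; group))
  obtain ⟨r, hr, e3⟩ := (c.piP _).1 (c.pCV h1 (mul_mem (inv_mem (c.PV s hx)) (inv_mem hn.1)))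
  refine ⟨r⁻¹ * (x⁻¹ * n⁻¹) * j, ?_, mul_mem (mul_mem (inv_mem (c.RC hr)) h1) hj, ?_⟩
  · convert mul_mem (normG P₁ (inv_mem (mul_mem hx (c.RP s hr)))) hy using 1
    rw [e]; group
  · rw [pmul (mul_mem (inv_mem (c.RC hr)) h1) hj, pmul (inv_mem (c.RC hr)) h1, pinv (c.RC hr), e3]
    simp

end C2

end Cfsg.Agent.ZD.S2
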