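import Cfsg.Agent.Lib.ZD.C0
import Cfsg.Agent.Lib.ZD.Good2b
import Cfsg.Agent.Lib.ZD.S2b

/-! Row CF, part 1: local lemmas. -/

open Subgroup MulAction
open scoped commutatorElement

set_option linter.unusedSectionVars false

namespace Cfsg.Agent.ZD

open FT Tr SF.GP

universe u

variable {G : Type u} {Ω : Type u} [Group G] [MulAction G Ω] [Finite G]

set_option hygiene false in
local notation "π" => pT Ω t

namespace LS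

variable {D : Set G} {t : G} {a b : fixedBy Ω t} {R V : Subgroup G} {Q W : Subgroup (XT Ω t)}
  {i : XT Ω t} {q : ℕ} (h : LS D t a b R V Q W i q)
include h

theorem cf_syl {T : Subgroup G} (hT : IsPGroup 2 T) (h1 : T ≤ 𝐂[t]) (h2 : T ≤ 𝐂(V)) {x y : G}
    (hx : x ∈ T) (hy : y ∈ T) (x1 : π x ∉ Q) (y1 : π y ∉ Q) : π (x * y) ∈ Q := by
  have hS := h1.trans (cent1_le_Stab (Ω := Ω) t)
  rw [pT_mul (hS hx) (hS hy)]
  refine h.good.syl (prS (Stab_inv _) T) (isPGroup_prS _ hT) (fun ξ hξ => ?_) _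
    (pr_mem_prS _ hx (hS hx)) _ (pr_mem_prS _ hy (hS hy)) x1 y1
  obtain ⟨z, k1, k2, rfl⟩ := (mem_prS _).1 hξ
  exact h.pi_CW k2 (h2 k1)

theorem cf_ker {σ : G} (hs : σ ∈ 𝐂[t]) (hb : σ • (b : Ω) = b) (hQ : π σ ∈ Q) :
    σ ∈ Ker G (fixedBy Ω t) :=
  (pT_eq_one (cent1_le_Stab t hs)).1 (h.good.reg _ hQ ((pT_smul (cent1_le_Stab t hs)).2 hb))

theorem cf_sq {σ x w : G} (s2 : σ * σ = 1) (hs : σ ∈ 𝐂[t]) (hV : σ ∈ 𝐂(V))
    (hb : σ • (b : Ω) = b) (hK : σ ∉ Ker G (fixedBy Ω t)) (hx : x ∈ 𝐂[t]) (hQ : π x ∈ Q)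
    (hw : w ∈ V) (e : x * σ * x⁻¹ = σ * w) (x2 : x * x ∈ V) : x * x = w := by
  have hS := cent1_le_Stab (Ω := Ω) t
  have e1 : x * σ * x⁻¹ * σ = w := by rw [e, mem_cent.1 hV w hw |>.symm, mul_assoc, s2, mul_one]
  have e2 : σ * x * σ = w * x := by
    rw [mul_assoc, mul_inv_eq_iff_eq_mul.1 e, ← mul_assoc, ← mul_assoc, s2, one_mul]
  have := h.good.invY _ (pT_sq (hS hs) s2) (fun e => hK ((pT_eq_one (hS hs)).1 e))
    ((pT_smul (hS hs)).2 hb) (h.pi_CW (hS hs) hV) _ hQ (by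
      rw [← pT_conj (hS hx) (hS hs), ← pT_mul (hS (mul_mem (mul_mem hx hs) (inv_mem hx))) (hS hs), e1]
      exact h.pi_mem hw)
  rw [← pT_mul (hS hs) (hS hx), ← pT_mul (hS (mul_mem hs hx)) (hS hs), e2,
    pT_mul (h.VS hw) (hS hx)] at this
  refine h.pi_inj x2 hw ?_
  rw [pT_mul (hS hx) (hS hx), ← h.invV hw, pT_inv (h.VS hw), eq_mul_inv_of_mul_eq this,
    mul_inv_rev, inv_inv]

theorem cf_fix {y : G} (hf : FR (fixedBy Ω t) y) :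
    ∃ p ∈ R, π p ∈ Q ∧ (p * y * p⁻¹) • (b : Ω) = b := by
  obtain ⟨γ, h1, h2, h3⟩ : ∃ γ ∈ fixedBy Ω t, γ ≠ a ∧ y • γ = γ := by
    obtain ⟨α, k1, β, k2, ne, k3, k4⟩ := hf
    by_cases e : α = a
    exacts [⟨β, k2, fun e' => ne (e.trans e'.symm), k4⟩, ⟨α, k1, e, k3⟩]
  obtain ⟨ξ, k1, k2⟩ := h.good.tr ⟨γ, h1⟩ fun e => h2 (congrArg Subtype.val e)
  obtain ⟨p, hp, rfl⟩ := h.QR k1
  have k3 : p • (b : Ω) = γ := (pT_smul (h.RS hp)).1 k2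
  refine ⟨p⁻¹, inv_mem hp, by rw [pT_inv (h.RS hp)]; exact inv_mem k1, ?_⟩
  rw [inv_inv, mul_smul, mul_smul, k3, h3, ← k3, inv_smul_smul]

/-- The local structure at another member of a `UUU` four-group. -/
theorem cf_at {u : G} (u2 : u * u = 1) (hu : u ∈ 𝐂[t]) (hV : u ∈ 𝐂(V)) (hb : u • (b : Ω) = b)
    (hK : u ∉ Ker G (fixedBy Ω t)) : ∃ (ha : u • (a : Ω) = a) (R' : Subgroup G)
      (Q' W' : Subgroup (XT Ω u)) (i' : XT Ω u),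
      LS D u ⟨(a : Ω), ha⟩ ⟨(b : Ω), hb⟩ R' V Q' W' i' q ∧ t ∉ Ker G (fixedBy Ω u) := by
  have ha := h.fix_a (cent_sub V hV)
  have hu' : TI Ω u := TI.of_sq u2 (fun e => hK (e ▸ one_mem _)) ⟨a, trivial, b, trivial, h.ne, ha, hb⟩
  obtain ⟨R', hR, h1, h2⟩ := h.min.exists_sylow_fix u2 h.p2V
    (fun v hv => mem_cent1.2 (mem_cent.1 hV v hv)) ha fun v hv => h.Ra v (h.VR hv)
  obtain ⟨V', Q', W', i', q', l⟩ := h.min.ls (a := ⟨a, ha⟩) (b := ⟨b, hb⟩) hu'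
    (fun e => h.ne (Subtype.mk.inj e)) hR h2
  obtain ⟨⟨-, k1, -⟩, k2, k3⟩ := h.min.uuu h.ti u2 (mem_cent1.1 hu) hK ha hb h.good
  obtain ⟨⟨-, k4, -⟩, -⟩ := h.min.uuu hu' h.ti.sq (mem_cent1.1 hu).symm k3 (α := ⟨a, ha⟩)
    (β := ⟨b, hb⟩) a.2 b.2 l.good
  rw [h.min.card_fix h.good, h.min.card_fix l.good, k1, k4, add_left_inj] at k2
  obtain rfl : q' = q := Nat.pow_left_injective three_ne_zero k2
  obtain rfl : V = V' := eq_of_le_of_card_ge (fun v hv => by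
    rcases (h.memV v).1 hv with rfl | hv'
    exacts [one_mem _, (l.memV v).2 (Or.inr ⟨hv'.1, h1 hv⟩)]) (by rw [h.cardV, l.cardV])
  exact ⟨ha, R', Q', W', i', l, k3⟩

theorem cf_sylP : SylowIn 2 (R ⊓ 𝐂(V)) (𝐂[t] ⊓ 𝐂(V)) := by
  have := h.sylR.inf_of_le_normalizer (N := 𝐂[t] ⊓ 𝐂(V)) inf_le_left
    (normsI (normsG h.sylR.le) (norms_cent h.RV))
  rwa [← inf_assoc, inf_eq_left.2 h.sylR.le] at this

end LS

/-- The elements of `N(P) ∩ C(V)` acting trivially on `P / Z(P)`. -/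
def cfG (P V : Subgroup G) : Subgroup G :=
  subgroupOfMulClosed {y | y ∈ 𝐍(P) ⊓ 𝐂(V) ∧ ∀ x ∈ P, x⁻¹ * (y * x * y⁻¹) ∈ 𝐂(P)}
    ⟨one_mem _, fun x _ => by simp⟩ fun y hy z hz => ⟨mul_mem hy.1 hz.1, fun x hx => by
      convert mul_mem (hy.2 x hx) (conj_mem_of_mem_normalizer (cent_norm P hy.1.1) (hz.2 x hx))
        using 1
      group⟩

theorem mem_cfG {P V : Subgroup G} {y : G} :
    y ∈ cfG P V ↔ y ∈ 𝐍(P) ⊓ 𝐂(V) ∧ ∀ x ∈ P, x⁻¹ * (y * x * y⁻¹) ∈ 𝐂(P) := Iff.rfl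

theorem cfG_norm {P V : Subgroup G} : 𝐍(P) ⊓ 𝐍(V) ≤ 𝐍(cfG P V) := fun n hn =>
  mem_normalizer_of_forall fun y hy => ⟨⟨𝐍(P).mul_mem (mul_mem hn.1 hy.1.1) (inv_mem hn.1),
    conj_mem_of_mem_normalizer (cent_norm V hn.2) hy.1.2⟩, fun x hx => by
      convert conj_mem_of_mem_normalizer (cent_norm P hn.1)
        (hy.2 _ (conj_mem_of_mem_normalizer' hn.1 hx)) using 1
      group⟩

/-- A `UUU` four-group `⟨t, τ⟩` in standard position. -/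
structure CU (D : Set G) (t : G) (a b : fixedBy Ω t) (R V K P : Subgroup G) (j : G) (q : ℕ)
    (Q W : Subgroup (XT Ω t)) (τ : G) : Prop extends C0 D t a b R V K P j q Q W where
  tt : τ * τ = 1
  τR : τ ∈ R
  τb : τ • (b : Ω) = b
  τK : τ ∉ Ker G (fixedBy Ω t)

namespace CU

variable {D : Set G} {t : G} {a b : fixedBy Ω t} {R V K P : Subgroup G} {j τ : G} {q : ℕ}
  {Q W : Subgroup (XT Ω t)} (c : CU D t a b R V K P j q Q W τ)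
include c

theorem τt : τ ∈ 𝐂[t] := c.sylR.le c.τR

theorem uu : π τ ∈ 𝐂(W) ∧ #|Q| = q ^ 3 ∧ ∀ x ∈ Q, Commute x (π τ) → x ∈ W :=
  (c.min.uuu c.ti c.tt (mem_cent1.1 c.τt) c.τK (c.Ra _ c.τR) c.τb c.good).1

theorem τV : τ ∈ 𝐂(V) := c.mem_CV (c.RV c.τR) (c.RS c.τR) c.uu.1

theorem τQ : π τ ∉ Q := fun h => c.τK (c.cf_ker c.τt c.τb h)

theorem PR : P ≤ R := fun x hx => ((c.memP x).1 hx).1

theorem PS : P ≤ Stab G (fixedBy Ω t) := c.PR.trans c.RS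

theorem Pt : P ≤ 𝐂[t] := c.PR.trans c.sylR.le

theorem pQ {x : G} (hx : x ∈ P) : π x ∈ Q := ((c.memP x).1 hx).2

theorem onto {ξ : XT Ω t} (h : ξ ∈ Q) : ∃ x ∈ P, π x = ξ := by
  obtain ⟨x, hx, rfl⟩ := c.QR h
  exact ⟨x, (c.memP x).2 ⟨hx, h⟩, rfl⟩

theorem PV : P ≤ 𝐂(V) := fun _ hx =>
  have := finite_XT (Ω := Ω) (t := t)
  c.mem_CV (c.RV (c.PR hx)) (c.PS hx) (c.good.toGood.QC (c.pQ hx))

theorem VP : V ≤ P := fun v hv => (c.memP v).2 ⟨c.VR hv, c.good.VQ (c.pi_mem hv)⟩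

theorem tP : t ∈ P := (c.memP t).2 ⟨c.tR, by rw [pT_self]; exact one_mem _⟩

theorem RP : R ≤ 𝐍(P) := fun g hg => mem_normalizer_of_forall fun x hx => (c.memP _).2
  ⟨mul_mem (mul_mem hg (c.PR hx)) (inv_mem hg), by
    rw [pT_conj (c.RS hg) (c.PS hx)]
    exact c.good.Qn _ ((pT_smul (c.RS hg)).2 (c.Ra g hg)) _ (c.pQ hx)⟩

theorem jt : j ∈ 𝐂[t] := mem_cent1.2 (c.jK t (c.eqK.ge ⟨c.tR, self_mem_Ker t⟩)).symm

theorem K2 {x : G} (hx : x ∈ R) (hK : x ∈ Ker G (fixedBy Ω t)) : x = 1 ∨ x = t := by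
  obtain ⟨ha, R', Q', W', i', l, h1⟩ := c.cf_at c.tt c.τt c.τV c.τb c.τK
  have hC : K ≤ 𝐂[τ] := fun k hk => mem_cent1.2 (c.cenK hk τ ⟨c.τR, c.τV⟩).symm
  have key : ∀ k ∈ K, pT Ω τ k ∈ Q' → k = 1 := fun k hk hQ => by
    by_contra k1
    have h2 := (c.eqK.le hk).2
    have h3 := c.min.d1 l.ti (c.twoK k hk) k1 (mem_cent1.1 (hC hk)).symm
      (l.cf_ker (hC hk) (h2 _ b.2) hQ)
    rw [c.min.d1_eq c.ti (c.twoK k hk) k1 (mem_cent1.1 (c.sylR.le (c.eqK.le hk).1)).symm h2] at h3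
    exact c.τK h3
  have h2 : x ∈ K := c.eqK.ge ⟨hx, hK⟩
  have h3 : t ∈ K := c.eqK.ge ⟨c.tR, self_mem_Ker t⟩
  refine or_iff_not_imp_left.2 fun x1 => ?_
  have := key _ (mul_mem h2 h3) (l.cf_syl (c.sylR.isPGroup.to_le (c.eqK.le.trans inf_le_left)) hC
    (c.eqK.le.trans c.KV) h2 h3 (fun h => x1 (key _ h2 h)) fun h => c.ti.ne_one (key _ h3 h))
  rw [eq_inv_of_mul_eq_one_left this, c.ti.inv_eq]

theorem memE {x : G} (hx : x ∈ R) (h : π x ∈ W) : x ∈ V ∨ ∃ v ∈ V, x = t * v := by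
  obtain ⟨v, hv, e⟩ := (c.piV _).1 h
  rcases c.K2 (mul_mem (inv_mem (c.VR hv)) hx) ((pT_eq_iff (c.VS hv) (c.RS hx)).1 e) with e | e
  · exact Or.inl (inv_mul_eq_one.1 e ▸ hv)
  · exact Or.inr ⟨v, hv, by rw [inv_mul_eq_iff_eq_mul.1 e, (c.commt hv).eq]⟩

theorem cenW {z : G} (hz : z ∈ P) (hc : z ∈ 𝐂(P)) : π z ∈ W := by
  have := finite_XT (Ω := Ω) (t := t)
  refine c.good.toGood.cenV (c.pQ hz) fun ξ hξ => ?_
  obtain ⟨x, hx, rfl⟩ := c.onto hξ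
  exact pT_commute (c.PS hz) (c.PS hx) (hc x hx).symm

theorem cenE {z : G} (hz : z ∈ P) (hc : z ∈ 𝐂(P)) : z ∈ V ∨ ∃ v ∈ V, z = t * v :=
  c.memE (c.PR hz) (c.cenW hz hc)

theorem commP {x y : G} (hx : x ∈ P) (hy : y ∈ P) : ⁅x, y⁆ ∈ V := by
  convert mul_mem (mul_mem (c.sqP _ (mul_mem hx hy)) (conj_mem_of_mem_normalizer'
    (c.RV (c.PR hy)) (inv_mem (c.sqP x hx)))) (inv_mem (c.sqP y hy)) using 1
  group

theorem P_le : P ≤ cfG P V := fun y hy => ⟨⟨normG P hy, c.PV hy⟩, fun x hx => by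
  have := c.commP (inv_mem hx) hy
  rw [commutatorElement_def, inv_inv, mul_assoc, mul_assoc, ← mul_assoc y] at this
  exact le_centralizer_iff.1 c.PV this⟩

theorem del {h : G} (hh : h ∈ 𝐍(P) ⊓ 𝐂(V)) : ∃ w ∈ V, h * t * h⁻¹ = t * w := by
  refine (c.cenE (conj_mem_of_mem_normalizer hh.1 c.tP) (conj_mem_of_mem_normalizer
    (cent_norm P hh.1) fun x hx => mem_cent1.1 (c.Pt hx))).resolve_left fun e => ?_
  have := c.eq_one_of_fr e (c.ti.conj h).fr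
  exact (c.ti.conj h).ne_one this

theorem bl {x y : G} (hx : x ∈ P) (hy : y ∈ P) :
    ⁅j * j * x * (j * j)⁻¹, y⁆ = j * ⁅x, y⁆ * j⁻¹ := by
  have := finite_XT (Ω := Ω) (t := t)
  have hj := cent1_le_Stab (Ω := Ω) t c.jt
  have h1 := conj_mem_of_mem_normalizer (mul_mem c.jP c.jP) hx
  refine c.pi_inj (c.commP h1 hy) (conj_mem_of_mem_normalizer c.jV (c.commP hx hy)) ?_
  rw [pT_comm (c.PS h1) (c.PS hy), pT_conj (mul_mem hj hj) (c.PS hx), pT_mul hj hj,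
    pT_conj hj (c.VS (c.commP hx hy)), pT_comm (c.PS hx) (c.PS hy)]
  exact c.good.toGood.bl2 (c.good.toGood.t3 c.uu.2.1) (mem_zpowers _) (c.pQ hx) (c.pQ hy)

theorem centroid {h : G} (hh : h ∈ 𝐍(P) ⊓ 𝐂(V)) :
    h * (j * j) * h⁻¹ * (j * j)⁻¹ ∈ cfG P V := by
  have hP := mul_mem c.jP c.jP
  refine ⟨⟨𝐍(P).mul_mem (mul_mem (mul_mem hh.1 hP) (inv_mem hh.1)) (inv_mem hP), ?_⟩,
    fun x hx y hy => ?_⟩
  · rw [mul_assoc, mul_assoc, ← mul_assoc (j * j)]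
    exact mul_mem hh.2 (conj_mem_of_mem_normalizer (cent_norm V (mul_mem c.jV c.jV)) (inv_mem hh.2))
  have h1 := conj_mem_of_mem_normalizer' hP hx
  have h2 := c.bl (conj_mem_of_mem_normalizer' hh.1 h1) (conj_mem_of_mem_normalizer' hh.1 hy)
  have h3 := c.bl h1 hy
  have h4 : ⁅h⁻¹ * ((j * j)⁻¹ * x * (j * j)) * h, h⁻¹ * y * h⁆ = ⁅(j * j)⁻¹ * x * (j * j), y⁆ := by
    calc _ = h⁻¹ * (⁅(j * j)⁻¹ * x * (j * j), y⁆ * h) := by simp only [commutatorElement_def]; group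
      _ = _ := by rw [hh.2 _ (c.commP h1 hy), inv_mul_cancel_left]
  rw [h4, ← h3, show j * j * ((j * j)⁻¹ * x * (j * j)) * (j * j)⁻¹ = x by group] at h2
  generalize j * j = ρ at *
  have h5 : ⁅h * ρ * h⁻¹ * ρ⁻¹ * x * (h * ρ * h⁻¹ * ρ⁻¹)⁻¹, y⁆ = ⁅x, y⁆ := by
    calc _ = h * ⁅ρ * (h⁻¹ * (ρ⁻¹ * x * ρ) * h) * ρ⁻¹, h⁻¹ * y * h⁆ * h⁻¹ := by
          simp only [commutatorElement_def]; group
      _ = _ := by rw [h2, ← hh.2 _ (c.commP hx hy), mul_inv_cancel_right]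
  generalize h * ρ * h⁻¹ * ρ⁻¹ * x * (h * ρ * h⁻¹ * ρ⁻¹)⁻¹ = x' at *
  calc _ = x⁻¹ * (⁅x, y⁆ * y) * x' := by simp only [commutatorElement_def]; group
    _ = _ := by rw [← h5]; simp only [commutatorElement_def]; group

end CU

end Cfsg.Agent.ZD
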