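import Cfsg.Agent.Lib.BS.Bender

/-!
# Aschbacher's criterion (S1175, S1174): definitions and module statements

See `docs/ZD_PLAN.md`.
-/

open Subgroup MulAction
open scoped commutatorElement

namespace Cfsg.Agent.ZD

open FT Tr

universe u

variable {G : Type u} {Ω : Type u} [Group G] [MulAction G Ω]

/-- `x` fixes two points of `F`. -/
def FR (F : Set Ω) (x : G) : Prop := ∃ α ∈ F, ∃ β ∈ F, α ≠ β ∧ x • α = α ∧ x • β = β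

/-- `H` acts on `F`, `D` is an `H`-invariant set of involutions of `H`, each fixing exactly one point
of `F`, every point is fixed by a member of `D`, and a product of two distinct commuting members of
`D` fixes only one point. -/
structure ZH (H : Subgroup G) (F : Set Ω) (D : Set G) : Prop where
  le : ∀ d ∈ D, d ∈ H
  inv : ∀ h ∈ H, ∀ ω ∈ F, h • ω ∈ F
  conj : ∀ d ∈ D, ∀ h ∈ H, h * d * h⁻¹ ∈ D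
  two : ∀ d ∈ D, orderOf d = 2
  ex : ∀ d ∈ D, ∃ ω ∈ F, d • ω = ω
  surj : ∀ ω ∈ F, ∃ d ∈ D, d • ω = ω
  uniq : ∀ d ∈ D, ¬ FR F d
  prod : ∀ d ∈ D, ∀ e ∈ D, d ≠ e → Commute d e → ¬ FR F (d * e)

/-- A commuting pair in `D`. -/
def CP (D : Set G) : Prop := ∃ d ∈ D, ∃ e ∈ D, d ≠ e ∧ Commute d e

/-- The Suzuki type. -/
structure T2 (D : Set G) (α β : Ω) (Q : Subgroup G) (j : G) (q : ℕ) : Prop where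
  card : #|Q| = q ^ 2
  odd : ∃ m : ℕ, q = 2 ^ (2 * m + 1)
  nab : ∃ x ∈ Q, ∃ y ∈ Q, ¬ Commute x y
  DK : ∀ h ∈ closure D, h • α = α → h • β = β → h ∈ zpowers j

/-- The unitary type. -/
structure T3 (D : Set G) (α β : Ω) (Q V : Subgroup G) (j : G) (q : ℕ) : Prop where
  card : #|Q| = q ^ 3
  nab : ∃ x ∈ Q, ∃ y ∈ Q, ¬ Commute x y
  bl : ∀ x ∈ Q, ∀ y ∈ Q, ⁅j * x * j⁻¹, y⁆ = ⁅x, j * y * j⁻¹⁆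
  zeta : ∃ ζ ∈ closure D, ζ ≠ 1 ∧ Odd (orderOf ζ) ∧ ζ • α = α ∧ ζ • β = β ∧ ζ ∈ 𝐂(V)

/-- The structure of a faithful `ZH` action in which `⟨D⟩` is a Bender group. -/
structure Good (D : Set G) (α β : Ω) (Q V : Subgroup G) (j : G) (q : ℕ) : Prop where
  zd : ZH ⊤ (Set.univ : Set Ω) D
  faith : ∀ g : G, (∀ ω : Ω, g • ω = ω) → g = 1
  ne : α ≠ β
  memV : ∀ v, v ∈ V ↔ v = 1 ∨ (v ∈ D ∧ v • α = α)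
  Qa : ∀ x ∈ Q, x • α = α
  Qn : ∀ h : G, h • α = α → ∀ x ∈ Q, h * x * h⁻¹ ∈ Q
  tr : ∀ γ : Ω, γ ≠ α → ∃ x ∈ Q, x • β = γ
  reg : ∀ x ∈ Q, x • β = β → x = 1
  VQ : V ≤ Q
  QD : Q ≤ closure D
  sq : ∀ x ∈ Q, x * x ∈ V
  cent : ∀ v ∈ V, ∀ x ∈ Q, Commute v x
  two : ∀ x ∈ Q, x * x = 1 ↔ x ∈ V
  cardV : #|V| = q
  exq : ∃ a : ℕ, 2 ≤ a ∧ q = 2 ^ a
  ja : j • α = α
  jb : j • β = β
  jD : ∃ s ∈ D, ∃ s' ∈ D, s • α = β ∧ s' • α = β ∧ j = s * s'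
  sw : ∀ s ∈ D, ∀ s' ∈ D, s • α = β → s' • α = β → s * s' ∈ zpowers j
  ord : orderOf j = q - 1
  trj : ∀ v ∈ V, v ≠ 1 → ∀ w ∈ V, w ≠ 1 → ∃ n : ℕ, j ^ n * v * (j ^ n)⁻¹ = w
  fpf : ∀ n : ℕ, j ^ n ≠ 1 → ∀ x ∈ Q, Commute (j ^ n) x → x = 1
  nj : ∀ h : G, h • α = α → h • β = β → h * j * h⁻¹ ∈ zpowers j
  typ : Q = V ∨ T2 D α β Q j q ∨ T3 D α β Q V j q

/-- Row GOOD. -/
def GoodStmt : Prop :=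
  ∀ (G Ω : Type u) [Group G] [Finite G] [MulAction G Ω] (D : Set G),
    ZH ⊤ (Set.univ : Set Ω) D → (∀ g : G, (∀ ω : Ω, g • ω = ω) → g = 1) →
    (∀ s ∈ closure D, orderOf s = 2 → ¬ FR (Set.univ : Set Ω) s) → CP D →
    ∀ α β : Ω, α ≠ β → ∃ Q V j q, Good D α β Q V j q

/-- Consequences of `Good`. -/
structure GoodX (D : Set G) (α β : Ω) (Q V : Subgroup G) (j : G) (q : ℕ) : Prop
    extends Good D α β Q V j q where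
  cardΩ : Nat.card Ω = #|Q| + 1
  cardFix : ∀ h : G, h • α = α → h • β = β → (fixedBy Ω h).ncard = #|Q ⊓ 𝐂[h]| + 1
  dec : ∀ h : G, h • α = α → ∃ x ∈ Q, (x⁻¹ * h) • β = β
  comm : ∀ x ∈ Q, ∀ y ∈ Q, ⁅x, y⁆ ∈ V
  /-- `⟨j⟩` is fixed point free on `Q / V` -/
  fpfU : ∀ n : ℕ, j ^ n ≠ 1 → ∀ x ∈ Q, j ^ n * x * (j ^ n)⁻¹ * x⁻¹ ∈ V → x ∈ V
  jfix : ∀ n : ℕ, j ^ n ≠ 1 → ∀ γ : Ω, j ^ n • γ = γ → γ = α ∨ γ = β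
  /-- (g1) -/
  fr : ∀ τ : G, τ * τ = 1 → τ ≠ 1 → τ • α = α → τ • β = β →
    (τ ∈ 𝐂(V) ∧ #|Q| = q ^ 3 ∧ ∀ x ∈ Q, Commute x τ → x ∈ V) ∨
    (Q = V ∧ #|V ⊓ 𝐂[τ]| ^ 2 = q ∧ ∀ v ∈ V, Commute v τ → ∃ u ∈ V, v = u * τ * u * τ)
  /-- (g2) -/
  invY : ∀ τ : G, τ * τ = 1 → τ ≠ 1 → τ • β = β → τ ∈ 𝐂(V) → ∀ x ∈ Q, x * τ * x⁻¹ * τ ∈ V →
    τ * x * τ = x⁻¹
  sqY : ∀ τ : G, τ * τ = 1 → τ ≠ 1 → τ • β = β → τ ∈ 𝐂(V) → ∀ w ∈ V, ∃ x ∈ Q,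
    (x * τ * x⁻¹ * τ) * (x * τ * x⁻¹ * τ) = w
  /-- (g3) -/
  syl : ∀ T : Subgroup G, IsPGroup 2 T → T ≤ 𝐂(V) → ∀ x ∈ T, ∀ y ∈ T, x ∉ Q → y ∉ Q → x * y ∈ Q
  /-- (g4) -/
  g6 : ∀ h ∈ 𝐂(V), (∀ x ∈ Q, h * x * h⁻¹ * x⁻¹ ∈ V) → h ∈ Q
  /-- (g5) -/
  oddW : ∀ h ∈ 𝐂(V), Odd (orderOf h) → h ^ (q + 1) = 1
  /-- (g6) -/
  sqV : ∀ y ∈ 𝐂(V), y * y ∈ V → y ∈ Q ∨ y * y = 1
  /-- (g7) -/
  gL : ∀ L : Subgroup G, L ≤ 𝐂(V) → (∀ g ∈ closure D, g ∈ 𝐂(V) → g ∈ 𝐍(L)) →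
    (∀ n : ℕ, j ^ n ≠ 1 → ∀ x ∈ L ⊓ Q, ∀ y ∈ L ⊓ Q, Commute x (j ^ n * y * (j ^ n)⁻¹)) → L ≤ V
  /-- (g8) -/
  o2 : ∀ L : Subgroup G, L ≤ 𝐂(V) → (∀ g ∈ closure D, g ∈ 𝐂(V) → g ∈ 𝐍(L)) → IsPGroup 2 L → L ≤ Q
  /-- (g12) -/
  cenQ : ∀ x ∈ 𝐂(Q), x ∈ V
  /-- (g10) -/
  CV : #|Q| ≠ q ^ 3 → ∀ h ∈ 𝐂(V), h ∈ Q
  sqinj : #|Q| = q ^ 2 → ∀ x ∈ Q, ∀ y ∈ Q, x * x = y * y → x⁻¹ * y ∈ V
  trU : #|Q| = q ^ 2 → ∀ x ∈ Q, x ∉ V → ∀ y ∈ Q, y ∉ V →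
    ∃ n : ℕ, (j ^ n * x * (j ^ n)⁻¹)⁻¹ * y ∈ V
  /-- (g14) -/
  rk : ∀ r ∈ Q, ∀ w : G, (∀ x ∈ Q, ⁅x, r⁆ = 1 ∨ ⁅x, r⁆ = w) → r ∈ V
  /-- (g13) -/
  line : #|Q| = q ^ 3 → ∀ x ∈ Q, x ∉ V → ∀ y ∈ Q,
    (Commute x y ↔ y ∈ V ∨ ∃ n : ℕ, (j ^ n * x * (j ^ n)⁻¹)⁻¹ * y ∈ V)
  gen2 : #|Q| = q ^ 3 → ∃ u₁ ∈ Q, ∃ u₂ ∈ Q, ∀ L : Subgroup G, V ≤ L →
    (∀ n : ℕ, j ^ n * u₁ * (j ^ n)⁻¹ ∈ L) → (∀ n : ℕ, j ^ n * u₂ * (j ^ n)⁻¹ ∈ L) → Q ≤ L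

/-- Row GOOD2. -/
def Good2Stmt : Prop :=
  ∀ (G Ω : Type u) [Group G] [Finite G] [MulAction G Ω] (D : Set G) (α β : Ω) (Q V : Subgroup G)
    (j : G) (q : ℕ), Good D α β Q V j q → GoodX D α β Q V j q

/-- Row G11: odd order subgroups normalized by a member of `D` in the Suzuki type. -/
def G11Stmt : Prop :=
  ∀ (G Ω : Type u) [Group G] [Finite G] [MulAction G Ω] (D : Set G),
    (∀ α β : Ω, α ≠ β → ∃ Q V j q, GoodX D α β Q V j q) → ∀ (α β : Ω) (Q V : Subgroup G)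
    (j : G) (q : ℕ), GoodX D α β Q V j q → #|Q| = q ^ 2 → ∀ d ∈ D, ∀ Y : Subgroup G, Odd #|Y| →
    d ∈ 𝐍(Y) → (𝐂[d]).relIndex Y < q ∨
      ((𝐂[d]).relIndex Y ∣ q ^ 2 + 1 ∧ (𝐂[d]).relIndex Y ≤ 2 * q + 1)

/-- Row BW: the Brauer-Wielandt formula. -/
def BWStmt : Prop :=
  ∀ (G : Type u) [Group G] [Finite G] (O : Subgroup G) (a b : G), Odd #|O| → a * a = 1 → b * b = 1 →
    Commute a b → a ∈ 𝐍(O) → b ∈ 𝐍(O) →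
    #|O| * #|O ⊓ 𝐂[a] ⊓ 𝐂[b]| ^ 2 = #|O ⊓ 𝐂[a]| * #|O ⊓ 𝐂[b]| * #|O ⊓ 𝐂[a * b]|

/-- Row BW, second part. -/
def DivStmt : Prop :=
  ∀ (G : Type u) [Group G] [Finite G] (O O' : Subgroup G) (d : G), Odd #|O| → O' ≤ O → d * d = 1 →
    d ∈ 𝐍(O) → d ∈ 𝐍(O') → (𝐂[d]).relIndex O' ∣ (𝐂[d]).relIndex O

/-- `j` induces a Singer cycle on the elementary abelian group `V`. -/
structure Sing (V : Subgroup G) (j : G) (q : ℕ) : Prop where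
  two : ∀ v ∈ V, v * v = 1
  card : #|V| = q
  q4 : 4 ≤ q
  nj : j ∈ 𝐍(V)
  tr : ∀ v ∈ V, v ≠ 1 → ∀ w ∈ V, w ≠ 1 → ∃ n : ℕ, j ^ n * v * (j ^ n)⁻¹ = w

/-- `h` acts on `V` as a power of `j`. -/
def Sc (V : Subgroup G) (j h : G) : Prop :=
  ∃ n : ℕ, ∀ v ∈ V, h * v * h⁻¹ = j ^ n * v * (j ^ n)⁻¹

/-- Row SING: the normalizer of a Singer cycle. -/
def GalStmt : Prop :=
  ∀ (G : Type u) [Group G] [Finite G] (V H : Subgroup G) (j : G) (a : ℕ), Sing V j (2 ^ a) →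
    H ≤ 𝐍(V) → (∀ h ∈ H, Sc V j (h * j * h⁻¹)) →
    ∃ (Γ : Type) (_ : CommGroup Γ) (_ : Finite Γ) (_ : IsCyclic Γ) (ρ : H →* Γ), Nat.card Γ = a ∧
      (∀ h : H, ρ h = 1 ↔ Sc V j h) ∧
      ∀ h : H, ∀ v ∈ V, v ≠ 1 → Commute v h → #|V ⊓ 𝐂[(h : G)]| ^ orderOf (ρ h) = 2 ^ a

/-- Row SING: a scalar which is Galois conjugate to its inverse. -/
def InvStmt : Prop :=
  ∀ (G : Type u) [Group G] [Finite G] (V K : Subgroup G) (j n : G) (a i : ℕ) (ψ ψ' : G → G),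
    Sing V j (2 ^ a) → Odd a → K ≠ ⊥ → n ∈ 𝐍(K) → (∀ k ∈ K, ψ k ∈ V) → (∀ k ∈ K, ψ' k ∈ V) →
    (∀ k ∈ K, ∀ l ∈ K, ψ (k * l) = ψ k * ψ l) → (∀ k ∈ K, ∀ l ∈ K, ψ' (k * l) = ψ' k * ψ' l) →
    (∀ k ∈ K, ψ k = 1 → k = 1) → (∀ k ∈ K, ψ' k = 1 → k = 1) →
    (∀ k ∈ K, ψ (n * k * n⁻¹) = j ^ i * ψ k * (j ^ i)⁻¹) →
    (∀ k ∈ K, ψ' (n * k * n⁻¹) = (j ^ i)⁻¹ * ψ' k * j ^ i) → j ^ i ∈ 𝐂(V)

/-- Row Z: a doubly transitive affine group without translations. -/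
def ZStmt : Prop :=
  ∀ (G : Type u) [Group G] [Finite G] (V H : Subgroup G) (j : G) (q : ℕ) (δ : G → G),
    Sing V j q → H ≤ 𝐍(V) → j ∈ H → δ j = 1 → (∀ h ∈ H, δ h ∈ V) →
    (∀ h ∈ H, ∀ h' ∈ H, δ (h * h') = δ h * (h * δ h' * h⁻¹)) → (∀ v ∈ V, ∃ h ∈ H, δ h = v) →
    (∀ h ∈ H, h ∈ 𝐂(V) → δ h = 1) → (∀ h ∈ H, δ h = 1 → Sc V j (h * j * h⁻¹)) →
    q = 8 ∧ (∀ h ∈ H, δ h = 1 → h * h ∈ 𝐂(V) → h ∈ 𝐂(V)) ∧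
    (∀ y ∈ H, y ∉ 𝐂(V) → y * y ∈ 𝐂(V) →
      (∀ v ∈ V, δ y * (y * v * y⁻¹) ≠ v) ∧ #|V ⊓ 𝐂[y]| = 4 ∧
      (∃ c ∈ V, ∀ v ∈ V, y * v * y⁻¹ = v ∨ y * v * y⁻¹ = c * v) ∧
      ∃ P, H ⊓ 𝐂(V) ≤ P ∧ P ≤ H ∧ (𝐂(V)).relIndex P = 8 ∧ y ∈ P ∧ ∀ x ∈ P, ⁅x, y⁆ ∈ 𝐂(V)) ∧
    ∀ S, SylowIn 2 S H → (𝐂(V)).relIndex S = 8 ∧ ∃ O, S ⊓ 𝐂(V) ≤ O ∧ O ≤ S ∧ O.relIndex S = 2 ∧
      (∀ x ∈ O, x * x ∈ 𝐂(V)) ∧ ∃ y ∈ S, y ∉ O ∧ y * y ∈ 𝐂(V)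

/-- The map `x ↦ x · x^j · x^(j^m)`. -/
def Phi (j : G) (m : ℕ) (x : G) : G := x * (j * x * j⁻¹) * (j ^ m * x * (j ^ m)⁻¹)

/-- `A` is a `2`-group on which `j` acts with odd order and `Phi j m` is nilpotent. -/
structure NilP (A : Subgroup G) (j : G) (m : ℕ) : Prop where
  p2 : IsPGroup 2 A
  nj : j ∈ 𝐍(A)
  odd : ∃ N : ℕ, Odd N ∧ j ^ N ∈ 𝐂(A)
  nil : ∀ x ∈ A, ∃ k : ℕ, (Phi j m)^[k] x = 1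

/-- Row VT. -/
def VTStmt : Prop :=
  ∀ (G : Type u) [Group G] [Finite G] (A : Subgroup G) (j : G) (m : ℕ),
    (∀ t : G, t * t = 1 → Commute t j → t ∈ 𝐍(A) → IsPGroup 2 A → j ∈ 𝐍(A) →
      (∃ N : ℕ, Odd N ∧ j ^ N ∈ 𝐂(A)) → NilP (A ⊓ 𝐂[t]) j m → NilP A j m) ∧
    (NilP A j m → (∀ x ∈ A, ∀ i : ℕ, Commute x (j ^ i * x * (j ^ i)⁻¹)) ∧
      (∀ x ∈ A, ∀ y ∈ A, ∀ z ∈ A, Commute ⁅x, y⁆ z) ∧
      ∀ u ∈ A, (∀ y ∈ A, ⁅y, u⁆ * ⁅y, u⁆ = 1) →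
        ∀ x ∈ A, ⁅j * x * j⁻¹, u⁆ = ⁅x, j * u * j⁻¹⁆)

/-! ### The faithful quotient of a subgroup acting on an invariant set -/

/-- The permutations of `F` induced by elements of `H`. -/
def XS (H : Subgroup G) (F : Set Ω) : Subgroup (Equiv.Perm F) where
  carrier := {σ | ∃ h ∈ H, ∀ ω : F, (σ ω : Ω) = h • (ω : Ω)}
  mul_mem' := by
    rintro σ τ ⟨h, hh, e⟩ ⟨k, hk, e'⟩
    exact ⟨h * k, H.mul_mem hh hk, fun ω => by rw [Equiv.Perm.mul_apply, e, e', mul_smul]⟩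
  one_mem' := ⟨1, H.one_mem, fun ω => by simp⟩
  inv_mem' := by
    rintro σ ⟨h, hh, e⟩
    refine ⟨h⁻¹, H.inv_mem hh, fun ω => ?_⟩
    rw [eq_inv_smul_iff, ← e]; simp

open Classical in
/-- The permutation of `F` induced by `g` (junk value `1` outside `H`). -/
noncomputable def pr (H : Subgroup G) (F : Set Ω) (g : G) : XS H F :=
  if h : ∃ σ : XS H F, ∀ ω : F, ((σ : Equiv.Perm F) ω : Ω) = g • (ω : Ω) then h.choose else 1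

/-- The setwise stabilizer. -/
def Stab (G : Type u) [Group G] [MulAction G Ω] (F : Set Ω) : Subgroup G where
  carrier := {g | ∀ ω, g • ω ∈ F ↔ ω ∈ F}
  mul_mem' := fun {a b} ha hb ω => by rw [mul_smul, ha, hb]
  one_mem' := fun ω => by rw [one_smul]
  inv_mem' := fun {a} ha ω => by rw [← ha, smul_inv_smul]

/-- The pointwise stabilizer. -/
def Ker (G : Type u) [Group G] [MulAction G Ω] (F : Set Ω) : Subgroup G where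
  carrier := {g | ∀ ω ∈ F, g • ω = ω}
  mul_mem' := fun {a b} ha hb ω h => by rw [mul_smul, hb ω h, ha ω h]
  one_mem' := fun ω _ => one_smul _ _
  inv_mem' := fun {a} ha ω h => by rw [inv_smul_eq_iff, ha ω h]

/-- The permutation group induced on the fixed points of `t` by their setwise stabilizer. -/
abbrev XT (Ω : Type u) [MulAction G Ω] (t : G) : Subgroup (Equiv.Perm (fixedBy Ω t)) :=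
  XS (Stab G (fixedBy Ω t)) (fixedBy Ω t)

/-- The projection to `XT`. -/
noncomputable abbrev pT (Ω : Type u) [MulAction G Ω] (t : G) : G → XT Ω t :=
  pr (Stab G (fixedBy Ω t)) (fixedBy Ω t)

/-- The image of `D` in `XT`. -/
abbrev DT (Ω : Type u) [MulAction G Ω] (D : Set G) (t : G) : Set (XT Ω t) :=
  pT Ω t '' (D ∩ Stab G (fixedBy Ω t))

/-- An involution fixing at least two points. -/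
structure TI (Ω : Type u) [MulAction G Ω] (s : G) : Prop where
  two : orderOf s = 2
  fr : FR (Set.univ : Set Ω) s

/-- A minimal counterexample. -/
structure Min (Ω : Type u) [MulAction G Ω] (D : Set G) : Prop where
  zd : ZH ⊤ (Set.univ : Set Ω) D
  faith : ∀ g : G, (∀ ω : Ω, g • ω = ω) → g = 1
  simple : IsSimpleGroup G
  cp : CP D
  loc : ∀ H : Subgroup G, H ≠ ⊤ → ∀ F : Set Ω, ZH H F (D ∩ H) → CP (D ∩ H) → ∀ a b : F, a ≠ b →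
    ∃ Q W j q, GoodX (pr H F '' (D ∩ H)) a b Q W j q

/-- The configuration around an involution `t` fixing two points with `|C(t)|₂` maximal
(`E = ⟨t⟩ V`, `E₁ = K V`). -/
structure CS (D : Set G) (t : G) (a b : fixedBy Ω t) (R V K P : Subgroup G) (j : G) (q : ℕ)
    (Q W : Subgroup (XT Ω t)) : Prop where
  min : Min Ω D
  ti : TI Ω t
  good : GoodX (DT Ω D t) a b Q W (pT Ω t j) q
  sylR : SylowIn 2 R 𝐂[t]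
  max : ∀ s : G, TI Ω s → ∀ T ≤ 𝐂[s], IsPGroup 2 T → #|T| ≤ #|R|
  Ra : ∀ x ∈ R, x • (a : Ω) = a
  memV : ∀ v, v ∈ V ↔ v = 1 ∨ (v ∈ D ∧ v ∈ R)
  piV : ∀ ξ, ξ ∈ W ↔ ∃ v ∈ V, pT Ω t v = ξ
  sing : Sing V j q
  eqK : K = R ⊓ Ker G (fixedBy Ω t)
  eqP : P = R ⊓ 𝐂(V)
  sylP : SylowIn 2 P (𝐂[t] ⊓ 𝐂(V))
  piP : ∀ ξ, ξ ∈ Q ↔ ∃ x ∈ P, pT Ω t x = ξ
  twoK : ∀ k ∈ K, k * k = 1
  KP : K ≤ P
  cenK : K ≤ 𝐂(P)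
  sqP : ∀ x ∈ P, x * x ∈ V
  jodd : Odd (orderOf j)
  ja : j • (a : Ω) = a
  jb : j • (b : Ω) = b
  jK : j ∈ 𝐂(K)
  jP : j ∈ 𝐍(P)
  /-- every coset `kV` consists of one element of each `K_w` -/
  cover : ∀ k ∈ K, k ≠ 1 → ∀ v ∈ V, ∃ w ∈ V, k * v ∈ Ker G (fixedBy Ω (t * w))
  tr2 : ∀ w ∈ V, ∃ h ∈ 𝐍(P) ⊓ 𝐍(V), h * t * h⁻¹ = t * w
  trT : Q ≠ W → ∀ w ∈ V, ∃ h ∈ 𝐍(P) ⊓ 𝐂(V), h * t * h⁻¹ = t * w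
  four : ∀ s : G, s * s = 1 → Commute s t → FR (fixedBy Ω t) s → s ∈ Ker G (fixedBy Ω t)

/-- Row M2. -/
def M2Stmt : Prop :=
  ∀ (G Ω : Type u) [Group G] [Finite G] [MulAction G Ω] (D : Set G) (t : G) (a b : fixedBy Ω t)
    (R V K P : Subgroup G) (j : G) (q : ℕ) (Q W : Subgroup (XT Ω t)),
    CS D t a b R V K P j q Q W → #|K| ≤ 2

/-- Row E. -/
def EStmt : Prop :=
  ∀ (G Ω : Type u) [Group G] [Finite G] [MulAction G Ω] (D : Set G) (t : G) (a b : fixedBy Ω t)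
    (R V K P : Subgroup G) (j : G) (q : ℕ) (Q W : Subgroup (XT Ω t)),
    CS D t a b R V K P j q Q W → K = zpowers t → #|Q| = q ^ 2

/-- Row S2. -/
def S2Stmt : Prop :=
  ∀ (G Ω : Type u) [Group G] [Finite G] [MulAction G Ω] (D : Set G) (t : G) (a b : fixedBy Ω t)
    (R V K P : Subgroup G) (j : G) (q : ℕ) (Q W : Subgroup (XT Ω t)),
    CS D t a b R V K P j q Q W → K = zpowers t →
    (∀ s : G, TI Ω s → ∀ T ≤ 𝐂[s], IsPGroup 2 T → #|R| ≤ #|T| → ∀ u : G, u * u = 1 →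
      Commute u s → FR (fixedBy Ω s) u → u = 1 ∨ u = s) → #|Q| ≠ q ^ 2

end Cfsg.Agent.ZD
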