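import Cfsg.Agent.Lib.ZD.VT1

/-! Row VT of `docs/ZD_PLAN.md`. -/

open Subgroup MulAction
open scoped commutatorElement

namespace Cfsg.Agent.ZD

open FT Tr

universe u

namespace VT

section
variable {G : Type*} [Group G] {A B C X Y M S : Subgroup G} {j x y z : G} {m : ℕ}

theorem bl_shift (h : NilP A j m) (hX : X ≤ A) (hY : Y ≤ A) (hjX : j ∈ 𝐍(X))
    (hjY : j ∈ 𝐍(Y)) (hz : ∀ x ∈ X, ∀ y ∈ Y, ⁅x, y⁆ ∈ Z1 A) (n : ℕ) :
    ∀ x ∈ X, ∀ y ∈ Y, ⁅j ^ n * x * (j ^ n)⁻¹, y⁆ = ⁅x, j ^ n * y * (j ^ n)⁻¹⁆ := by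
  induction n with
  | zero => simp
  | succ n ih =>
    intro x hx y hy
    rw [show j ^ (n + 1) * x * (j ^ (n + 1))⁻¹ = j * (j ^ n * x * (j ^ n)⁻¹) * j⁻¹ by
      rw [pow_succ']; group, bl h hX hY hjX hjY hz ((memJ_norm (pow_mem hjX n)).2 hx) hy,
      ih x hx _ ((memJ_norm hjY).2 hy), pow_succ]
    congr 1; group

theorem bl_left (h : NilP A j m) (hX : X ≤ A) (hY : Y ≤ A) (hjX : j ∈ 𝐍(X))
    (hjY : j ∈ 𝐍(Y)) (hz : ∀ x ∈ X, ∀ y ∈ Y, ⁅x, y⁆ ∈ Z1 A) (n : ℕ) (hx : x ∈ X) (hy : y ∈ Y) :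
    ⁅j ^ (2 * n) * x * (j ^ (2 * n))⁻¹, y⁆ = j ^ n * ⁅x, y⁆ * (j ^ n)⁻¹ := by
  rw [conjugate_commutatorElement, ← bl_shift h hX hY hjX hjY hz n _
    ((memJ_norm (pow_mem hjX n)).2 hx) y hy, two_mul, pow_add]
  congr 1; group

theorem bl_right (h : NilP A j m) (hX : X ≤ A) (hY : Y ≤ A) (hjX : j ∈ 𝐍(X))
    (hjY : j ∈ 𝐍(Y)) (hz : ∀ x ∈ X, ∀ y ∈ Y, ⁅x, y⁆ ∈ Z1 A) (n : ℕ) (hx : x ∈ X) (hy : y ∈ Y) :
    ⁅x, j ^ (2 * n) * y * (j ^ (2 * n))⁻¹⁆ = j ^ n * ⁅x, y⁆ * (j ^ n)⁻¹ := by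
  rw [← bl_shift h hX hY hjX hjY hz _ x hx y hy, bl_left h hX hY hjX hjY hz n hx hy]

theorem orb_comm (h : NilP A j m) (hz : ∀ x ∈ A, ∀ y ∈ A, ⁅x, y⁆ ∈ Z1 A) (hx : x ∈ A) (a b : ℕ) :
    ⁅j ^ a * x * (j ^ a)⁻¹, j ^ b * x * (j ^ b)⁻¹⁆ = 1 := by
  have key : ∀ n, Even n → ⁅j ^ n * x * (j ^ n)⁻¹, x⁆ = 1 := by
    rintro _ ⟨n, rfl⟩
    rw [← two_mul, bl_left h le_rfl le_rfl h.nj h.nj hz n hx hx]; simp
  rw [← bl_shift h le_rfl le_rfl h.nj h.nj hz b _ ((memJ_norm (pow_mem h.nj a)).2 hx) x hx,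
    show j ^ b * (j ^ a * x * (j ^ a)⁻¹) * (j ^ b)⁻¹ = j ^ (b + a) * x * (j ^ (b + a))⁻¹ by
      rw [pow_add]; group]
  rcases Nat.even_or_odd (b + a) with he | ho
  · exact key _ he
  · obtain ⟨N, hN, hc⟩ := h.odd
    have := key _ (ho.add_odd hN)
    rwa [pow_add, mul_assoc (j ^ (b + a)), ← hc x hx, mul_inv_rev, ← mul_assoc, ← mul_assoc,
      mul_inv_cancel_right] at this

theorem star [Finite G] (hA : IsPGroup 2 A) (hM : M ≤ A) (hn : A ≤ 𝐍(M)) (h1 : M ≠ ⊥) :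
    ∃ S, ¬ M ≤ S ∧ 𝐍(M) ⊓ 𝐍(A) ≤ 𝐍(S) ∧ ∀ u ∈ M, cst S u ∈ Z1 (A /c S) := by
  have hS : 𝐍(M) ⊓ 𝐍(A) ≤ 𝐍(FT.Phi M ⊔ ⁅M, A⁆) :=
    normsY (norms_Phi inf_le_left) (normsR inf_le_left inf_le_right)
  have hAS := (le_inf hn (normG A)).trans hS
  refine ⟨FT.Phi M ⊔ ⁅M, A⁆, fun hle => ?_, hS, fun u hu => ⟨mem_quotient _ (hM hu), ?_, ?_⟩⟩
  · have h2 := nil_comm_properl' (pgroup_nil hA) hM h1 (le_inf le_rfl hn)
    exact h2.ne (Phi_nongen' h2.le hle)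
  · exact quotient_cents2r (A := M) le_sup_right (mem_quotient _ hu)
  · rw [← cst_mul (hAS (hM hu)) (hAS (hM hu)), ← pow_two]
    exact coset_id (mem_sup_left (pow_mem_Phi (hA.to_le hM) hu))

theorem part2 [Finite G] (h : NilP A j m) (hx : x ∈ A) (i : ℕ) :
    Commute x (j ^ i * x * (j ^ i)⁻¹) := by
  let s : Set G := Set.range fun i : ℕ => j ^ i * x * (j ^ i)⁻¹
  have hs : ∀ i : ℕ, j ^ i * x * (j ^ i)⁻¹ ∈ closure s := fun i => subset_closure ⟨i, rfl⟩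
  have hxs : x ∈ closure s := by simpa using hs 0
  have hBA : closure s ≤ A := (closure_le _).2 (by
    rintro _ ⟨i, rfl⟩; exact (memJ_norm (pow_mem h.nj i)).2 hx)
  have hj : j ∈ 𝐍(closure s) := by
    refine norms_gen (A := zpowers j) (fun a ha => ?_) (mem_zpowers j)
    obtain ⟨n, rfl⟩ := (mem_powers_iff_mem_zpowers.2 ha)
    rintro _ ⟨i, rfl⟩
    exact ⟨n + i, by simp only [pow_add]; group⟩
  have hB := sub h hBA hj
  by_cases h1 : ⁅closure s, closure s⁆ = ⊥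
  · exact abelian_commute (derG1P.1 h1) hxs (hs i)
  exfalso
  obtain ⟨S, hS1, hS2, hS3⟩ := star hB.p2 (der_sub _) (der_norm _) h1
  have hn : closure s ≤ 𝐍(S) := (le_inf (der_norm _) (normG _)).trans hS2
  have hjS : j ∈ 𝐍(S) := hS2 ⟨der_char _ hj, hj⟩
  have hq := quot hB hn hjS
  have hz : ∀ a ∈ closure s /c S, ∀ b ∈ closure s /c S, ⁅a, b⁆ ∈ Z1 (closure s /c S) := by
    intro a' ha' b' hb'
    obtain ⟨a, ha, rfl⟩ := (mem_qt_of_le hn).1 ha'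
    obtain ⟨b, hb, rfl⟩ := (mem_qt_of_le hn).1 hb'
    rw [← cst_commutator (hn ha) (hn hb)]
    exact hS3 _ (commutator_mem_commutator ha hb)
  refine hS1 (der1_min hn ?_)
  rw [quotient_gen (subset_closure.trans hn)]
  refine ⟨⟨fun a b => Subtype.ext ?_⟩⟩
  refine (closure_induction₂ (p := fun a b _ _ => Commute a b) ?_ ?_ ?_ ?_ ?_ ?_ ?_ a.2 b.2).eq
  · rintro _ _ ⟨_, ⟨a, rfl⟩, rfl⟩ ⟨_, ⟨b, rfl⟩, rfl⟩
    have := orb_comm hq hz (mem_quotient S hxs) a b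
    rw [cst_conj (pow_mem hjS a) (hn hxs), cst_conj (pow_mem hjS b) (hn hxs), cst_pow hjS,
      cst_pow hjS]
    exact commutatorElement_eq_one_iff_commute.1 this
  · exact fun _ _ => Commute.one_left _
  · exact fun _ _ => Commute.one_right _
  · exact fun _ _ _ _ _ _ h h' => h.mul_left h'
  · exact fun _ _ _ _ _ _ h h' => h.mul_right h'
  · exact fun _ _ _ _ h => h.inv_left
  · exact fun _ _ _ _ h => h.inv_right

theorem part3_red (h : NilP A j m) (hz : ∀ c ∈ ⁅A, A⁆, ∀ z ∈ A, ⁅c, z⁆ ∈ Z1 A) (hx : x ∈ A)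
    (hy : y ∈ A) (hz' : z ∈ A) : ⁅⁅y, z⁆, x⁆ = 1 := by
  have hD : ⁅A, A⁆ ≤ A := der_sub A
  have hjD : j ∈ 𝐍(⁅A, A⁆) := der_char A h.nj
  have cm : ∀ {a b : G}, a ∈ A → b ∈ A → ⁅a, b⁆ ∈ ⁅A, A⁆ := fun ha hb =>
    commutator_mem_commutator ha hb
  have hn : A ≤ 𝐍(𝐙(A)) := norms_center (normG A)
  have hjZ : j ∈ 𝐍(𝐙(A)) := norms_center le_rfl h.nj
  have hq := quot h hn hjZ
  have hzq : ∀ a ∈ A /c 𝐙(A), ∀ b ∈ A /c 𝐙(A), ⁅a, b⁆ ∈ Z1 (A /c 𝐙(A)) := by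
    intro a' ha' b' hb'
    obtain ⟨a, ha, rfl⟩ := (mem_qt_of_le hn).1 ha'
    obtain ⟨b, hb, rfl⟩ := (mem_qt_of_le hn).1 hb'
    have hc := cm ha hb
    rw [← cst_commutator (hn ha) (hn hb)]
    generalize ⁅a, b⁆ = c at hc
    refine ⟨mem_quotient _ (hD hc), quotient_cents2r (A := ⁅A, A⁆) (commutator_le.2 fun c hc w hw =>
      mem_inf.2 ⟨(hz c hc w hw).1, (hz c hc w hw).2.1⟩) (mem_quotient _ hc), ?_⟩
    rw [← cst_mul (hn (hD hc)) (hn (hD hc))]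
    refine coset_id ⟨mul_mem (hD hc) (hD hc), fun w hw => ?_⟩
    have := commutatorElement_mul_left_eq_conj_mul c c w
    rw [z1_conj (hz c hc w hw) (hD hc), (hz c hc w hw).2.2,
      commutatorElement_eq_one_iff_mul_comm] at this
    exact this.symm
  have cg : ∀ c ∈ A, ∀ d ∈ A, cst 𝐙(A) c = cst 𝐙(A) d → ∀ w ∈ A, ⁅c, w⁆ = ⁅d, w⁆ := by
    intro c hc d hd e w hw
    have h1 := (cst_eq_iff (hn hc) (hn hd)).1 e
    have h2 : ⁅c⁻¹ * d, w⁆ = 1 := commutatorElement_eq_one_iff_mul_comm.2 (h1.2 w hw).symm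
    rw [show d = c * (c⁻¹ * d) by group, commutatorElement_mul_left_eq_conj_mul, h2]; simp
  have hj4 := pow_mem h.nj (2 * 2)
  have hj2 := pow_mem h.nj 2
  have hx4 := (memJ_norm hj4).2 hx
  have t1 : ⁅⁅j ^ (2 * 2) * x * (j ^ (2 * 2))⁻¹, y⁆, z⁆ = j * ⁅⁅x, y⁆, z⁆ * j⁻¹ := by
    rw [cg _ (hD (cm hx4 hy)) _ ((memJ_norm hj2).2 (hD (cm hx hy))) _ z hz']
    · simpa using bl_left h hD le_rfl hjD h.nj hz 1 (cm hx hy) hz'
    rw [cst_commutator (hn hx4) (hn hy), cst_conj (pow_mem hjZ _) (hn hx), cst_pow hjZ,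
      bl_left hq le_rfl le_rfl hq.nj hq.nj hzq 2 (mem_quotient _ hx) (mem_quotient _ hy),
      cst_conj (pow_mem hjZ _) (hn (hD (cm hx hy))), cst_pow hjZ, cst_commutator (hn hx) (hn hy)]
  have t3 : ⁅⁅z, j ^ (2 * 2) * x * (j ^ (2 * 2))⁻¹⁆, y⁆ = j * ⁅⁅z, x⁆, y⁆ * j⁻¹ := by
    rw [cg _ (hD (cm hz' hx4)) _ ((memJ_norm hj2).2 (hD (cm hz' hx))) _ y hy]
    · simpa using bl_left h hD le_rfl hjD h.nj hz 1 (cm hz' hx) hy
    rw [cst_commutator (hn hz') (hn hx4), cst_conj (pow_mem hjZ _) (hn hx), cst_pow hjZ,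
      bl_right hq le_rfl le_rfl hq.nj hq.nj hzq 2 (mem_quotient _ hz') (mem_quotient _ hx),
      cst_conj (pow_mem hjZ _) (hn (hD (cm hz' hx))), cst_pow hjZ, cst_commutator (hn hz') (hn hx)]
  have t2 := bl_right h hD le_rfl hjD h.nj hz 2 (cm hy hz') hx
  have cj : ∀ c ∈ ⁅A, A⁆, ∀ a ∈ A, ∀ b ∈ A, ⁅c, b * a * b⁻¹⁆ = ⁅c, a⁆ := by
    intro c hc a ha b hb
    have r : ∀ b ∈ A, ∀ d ∈ A, ⁅c, b * d⁆ = ⁅c, b⁆ * ⁅c, d⁆ := fun b hb d hd => by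
      rw [commutatorElement_mul_right_eq_mul_conj, mul_assoc, mul_assoc, ← mul_assoc b,
        z1_conj (hz c hc d hd) hb]
    rw [r _ (mul_mem hb ha) _ (inv_mem hb), r _ hb _ ha, z1_comm (hz c hc b hb) (hz c hc a ha),
      mul_assoc, ← r _ hb _ (inv_mem hb)]
    simp
  have jac : ∀ a ∈ A, ⁅⁅a, y⁆, z⁆ * ⁅⁅y, z⁆, a⁆ * ⁅⁅z, a⁆, y⁆ = 1 := fun a ha => by
    have := commutatorElement_commutatorElement_conj_mul a y z
    rwa [cj _ (cm ha hy) _ hz' _ hy, cj _ (cm hy hz') _ ha _ hz', cj _ (cm hz' ha) _ hy _ ha] at this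
  have j1 := jac x hx
  have j2 := jac _ hx4
  rw [t1, t2, t3] at j2
  have hT := hz _ (cm hy hz') x hx
  generalize ⁅⁅y, z⁆, x⁆ = T at *
  generalize ⁅⁅x, y⁆, z⁆ = T1 at *
  generalize ⁅⁅z, x⁆, y⁆ = T3 at *
  have e : j * T * j⁻¹ = T := by
    have e1 : T = T1⁻¹ * T3⁻¹ := by
      rw [← mul_inv_rev, eq_inv_iff_mul_eq_one]
      calc _ = T1⁻¹ * (T1 * T * T3) * T1 := by group
        _ = 1 := by rw [j1]; simp
    have e2 : j * T * j⁻¹ = T1⁻¹ * T3⁻¹ := by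
      rw [← mul_inv_rev, eq_inv_iff_mul_eq_one]
      calc _ = T1⁻¹ * j⁻¹ * (j * T1 * j⁻¹ * (j ^ 2 * T * (j ^ 2)⁻¹) * (j * T3 * j⁻¹)) * j * T1 := by
            group
        _ = 1 := by rw [j2]; simp
    rw [e2, ← e1]
  have e3 : Phi j m T = 1 :=
    mem_bot.1 (phi_mem_of_sq (C := Z1 A) (sub h (fun _ h => h.1) (Z1_norm h.nj)) bot_le
      (norms1 ⊤ (mem_top j)) (fun _ h => mem_bot.2 h.2.2) hT)
  have e4 : Commute j T := mul_inv_eq_iff_eq_mul.1 e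
  rwa [Phi, e, hT.2.2, one_mul, (e4.pow_left m).eq, mul_inv_cancel_right] at e3

theorem part3 [Finite G] (h : NilP A j m) : ⁅⁅A, A⁆, A⁆ = ⊥ := by
  by_contra h1
  have hM : ⁅⁅A, A⁆, A⁆ ≤ A := comm_subG (der_sub A) le_rfl
  obtain ⟨S, hS1, hS2, hS3⟩ := star h.p2 hM (commg_normr _ _) h1
  have hn : A ≤ 𝐍(S) := (le_inf (commg_normr _ _) (normG _)).trans hS2
  have hjS : j ∈ 𝐍(S) := hS2 ⟨normsR (der_char A) le_rfl h.nj, h.nj⟩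
  have hq := quot h hn hjS
  have hD : ⁅A, A⁆ ≤ 𝐍(S) := (der_sub A).trans hn
  refine hS1 ((quotient_eq_bot (hM.trans hn)).1 ?_)
  rw [quotientR hD hn, quotientR hn hn, commG1P, commutator_le]
  intro a ha b hb c hc
  refine (commutatorElement_eq_one_iff_mul_comm.1 (part3_red hq (fun c' hc' z' hz' => ?_) hc ha hb)).symm
  rw [← quotientR hn hn] at hc'
  obtain ⟨c, hc, rfl⟩ := (mem_qt_of_le hD).1 hc'
  obtain ⟨z, hz, rfl⟩ := (mem_qt_of_le hn).1 hz'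
  rw [← cst_commutator (hD hc) (hn hz)]
  exact hS3 _ (commutator_mem_commutator hc hz)

theorem part3' [Finite G] (h : NilP A j m) (hx : x ∈ A) (hy : y ∈ A) : ⁅x, y⁆ ∈ 𝐂(A) :=
  commG1P.1 (part3 h) (commutator_mem_commutator hx hy)

theorem part4 [Finite G] (h : NilP A j m) {v : G} (hv : v ∈ A)
    (h2 : ∀ y ∈ A, ⁅y, v⁆ * ⁅y, v⁆ = 1) (hx : x ∈ A) : ⁅j * x * j⁻¹, v⁆ = ⁅x, j * v * j⁻¹⁆ := by
  have cm : ∀ {a b : G}, a ∈ A → b ∈ A → ⁅a, b⁆ ∈ A := fun ha hb =>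
    der_sub A (commutator_mem_commutator ha hb)
  have r : ∀ a ∈ A, ∀ b ∈ A, ∀ c ∈ A, ⁅a, b * c⁆ = ⁅a, b⁆ * ⁅a, c⁆ := fun a ha b hb c hc => by
    rw [commutatorElement_mul_right_eq_mul_conj, mul_assoc, mul_assoc, ← mul_assoc b,
      part3' h ha hc b hb, mul_inv_cancel_right]
  let B : Subgroup G :=
    { carrier := {u | u ∈ A ∧ ∀ y ∈ A, ⁅y, u⁆ ∈ Z1 A}
      mul_mem' := fun {a b} ha hb => ⟨mul_mem ha.1 hb.1, fun y hy => by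
        rw [r y hy a ha.1 b hb.1]; exact mul_mem (ha.2 y hy) (hb.2 y hy)⟩
      one_mem' := ⟨one_mem _, fun y _ => by simpa using one_mem _⟩
      inv_mem' := fun {a} ha => ⟨inv_mem ha.1, fun y hy => by
        have := r y hy a ha.1 _ (inv_mem ha.1)
        rw [mul_inv_cancel, commutatorElement_one_right] at this
        rw [eq_inv_of_mul_eq_one_right this.symm]; exact inv_mem (ha.2 y hy)⟩ }
  have hB : j ∈ 𝐍(B) := by
    refine norms_of_conj_mem (A := 𝐍(A)) (B := B) (fun g hg u hu => ⟨(memJ_norm hg).2 hu.1, fun y hy => ?_⟩)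
      h.nj
    rw [show y = g * (g⁻¹ * y * g) * g⁻¹ by group, ← conjugate_commutatorElement]
    exact (memJ_norm (Z1_norm hg)).2 (hu.2 _ ((memJ_norm' hg).2 hy))
  exact bl (Y := B) h le_rfl (fun _ h => h.1) h.nj hB (fun x hx y hy => hy.2 x hx) hx
    ⟨hv, fun y hy => ⟨cm hy hv, part3' h hy hv, h2 y hy⟩⟩

theorem part1 [Finite G] {t : G} (ht : t * t = 1) (hc : Commute t j) (htA : t ∈ 𝐍(A))
    (hA : IsPGroup 2 A) (hj : j ∈ 𝐍(A)) (h : NilP (A ⊓ 𝐂[t]) j m) :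
    ∀ x ∈ A, ∃ k : ℕ, (Phi j m)^[k] x = 1 := by
  have hY : IsPGroup 2 (A ⊔ zpowers t : Subgroup G) := by
    refine isPGroup_sup hA ?_ (zpowers_le.2 htA)
    rintro ⟨_, n, rfl⟩
    refine ⟨1, Subtype.ext ?_⟩
    show (t ^ n) ^ 2 ^ 1 = 1
    rw [pow_one, ← zpow_natCast, ← zpow_mul, mul_comm, zpow_mul, zpow_natCast, pow_two, ht, one_zpow]
  have hjY : j ∈ 𝐍(A ⊔ zpowers t) := zpowers_le.1 (normsY (zpowers_le.2 hj)
    (cents_norm (zpowers_le.2 (by rw [cent_cycle]; exact mem_cent1.2 hc.symm.eq))))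
  have key : ∀ (n : ℕ) (M : Subgroup G), #|M| = n → M ≤ A → A ⊔ zpowers t ≤ 𝐍(M) → j ∈ 𝐍(M) →
      ∀ x ∈ A, ⁅t, x⁆ ∈ M → ∃ k : ℕ, (Phi j m)^[k] x = 1 := by
    intro n
    induction n using Nat.strong_induction_on with
    | _ n ih =>
    intro M hn hM hYM hjM x hx htx
    by_cases h1 : M = ⊥
    · rw [h1, mem_bot, commutatorElement_eq_one_iff_mul_comm] at htx
      exact h.nil x ⟨hx, mem_cent1.2 htx.symm⟩
    have hlt := nil_comm_properl' (pgroup_nil hY) (hM.trans le_sup_left) h1 (le_inf le_rfl hYM)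
    set M' := ⁅M, A ⊔ zpowers t⁆ with hM'
    have hYM' : A ⊔ zpowers t ≤ 𝐍(M') := commg_normr _ _
    have hjM' : j ∈ 𝐍(M') := zpowers_le.1 (normsR (zpowers_le.2 hjM) (zpowers_le.2 hjY))
    have ih' := ih _ (hn ▸ proper_card hlt) M' rfl (hlt.le.trans hM) hYM' hjM'
    have hAM' : A ≤ 𝐍(M') := le_sup_left.trans hYM'
    have htM' : t ∈ 𝐍(M') := hYM' (mem_sup_right (mem_zpowers t))
    obtain ⟨k, hk⟩ := ih' _ (hM htx) (by
      rw [← commutatorElement_inv]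
      exact inv_mem (commutator_mem_commutator htx (mem_sup_right (mem_zpowers t))))
    have mul : ∀ a ∈ A, ∀ b ∈ A, ⁅t, b⁆ ∈ M →
        cst M' ⁅t, a * b⁆ = cst M' ⁅t, a⁆ * cst M' ⁅t, b⁆ := fun a ha b hb hm => by
      have n1 : ∀ c ∈ A, ⁅t, c⁆ ∈ 𝐍(M') := fun c hc =>
        mul_mem (mul_mem (mul_mem htM' (hAM' hc)) (inv_mem htM')) (inv_mem (hAM' hc))
      rw [← cst_mul (n1 a ha) (n1 b hb), cst_eq_iff (n1 _ (mul_mem ha hb))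
        (mul_mem (n1 a ha) (n1 b hb)), commutatorElement_mul_right_eq_mul_conj,
        show (⁅t, a⁆ * a * ⁅t, b⁆ * a⁻¹)⁻¹ * (⁅t, a⁆ * ⁅t, b⁆) = ⁅⁅t, b⁆⁻¹, a⁆⁻¹ by
          generalize ⁅t, a⁆ = c; generalize ⁅t, b⁆ = d; simp only [commutatorElement_def]; group]
      exact inv_mem (commutator_mem_commutator (inv_mem hm) (mem_sup_left ha))
    have cjt : ∀ (n : ℕ) (a : G), ⁅t, j ^ n * a * (j ^ n)⁻¹⁆ = j ^ n * ⁅t, a⁆ * (j ^ n)⁻¹ :=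
      fun n a => by
      rw [conjugate_commutatorElement, ← (hc.pow_right n).eq, mul_inv_cancel_right]
    have step : ∀ a ∈ A, ⁅t, a⁆ ∈ M → ⁅t, Phi j m a⁆ ∈ M ∧
        cst M' ⁅t, Phi j m a⁆ = Phi (cst M' j) m (cst M' ⁅t, a⁆) := fun a ha hm => by
      have a1 := (memJ_norm hj).2 ha
      have a2 := (memJ_norm (pow_mem hj m)).2 ha
      have b1 : ⁅t, j * a * j⁻¹⁆ = j * ⁅t, a⁆ * j⁻¹ := by simpa using cjt 1 a
      have c1 : ⁅t, j * a * j⁻¹⁆ ∈ M := b1 ▸ (memJ_norm hjM).2 hm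
      have c2 : ⁅t, j ^ m * a * (j ^ m)⁻¹⁆ ∈ M := cjt m a ▸ (memJ_norm (pow_mem hjM m)).2 hm
      have hAM : A ≤ 𝐍(M) := le_sup_left.trans hYM
      have cl : ∀ a ∈ A, ∀ b, ⁅t, a⁆ ∈ M → ⁅t, b⁆ ∈ M → ⁅t, a * b⁆ ∈ M := fun a ha b h h' => by
        rw [commutatorElement_mul_right_eq_mul_conj, mul_assoc, mul_assoc, ← mul_assoc a]
        exact mul_mem h ((memJ_norm (hAM ha)).2 h')
      refine ⟨cl _ (mul_mem ha a1) _ (cl _ ha _ hm c1) c2, ?_⟩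
      have n1 := hAM' (hM hm)
      rw [Phi, mul _ (mul_mem ha a1) _ a2 c2, mul _ ha _ a1 c1, b1, cjt, cst_conj hjM' n1,
        cst_conj (pow_mem hjM' m) n1, cst_pow hjM']
      rfl
    have iter : ∀ k : ℕ, ⁅t, (Phi j m)^[k] x⁆ ∈ M ∧
        cst M' ⁅t, (Phi j m)^[k] x⁆ = (Phi (cst M' j) m)^[k] (cst M' ⁅t, x⁆) := fun k => by
      induction k with
      | zero => exact ⟨htx, rfl⟩
      | succ k ih =>
        rw [Function.iterate_succ_apply', Function.iterate_succ_apply', ← ih.2]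
        exact step _ (iter_mem hj hx k) ih.1
    obtain ⟨l, hl⟩ := ih' _ (iter_mem hj hx k) (by
      refine coset_idr (hAM' (hM (iter k).1)) ?_
      rw [(iter k).2, ← cst_iter hjM' (hAM' (hM htx)), hk]
      exact coset_id (one_mem _))
    exact ⟨l + k, by rw [Function.iterate_add_apply, hl]⟩
  intro x hx
  exact key _ A rfl le_rfl (sup_le (normG A) (zpowers_le.2 htA)) hj x hx
    (mul_mem ((memJ_norm htA).2 hx) (inv_mem hx))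

end

end VT

/-- Row VT. -/
theorem vt : VTStmt.{u} := fun _ _ _ _ _ _ =>
  ⟨fun _ ht hc htA hA hj ho h => ⟨hA, hj, ho, VT.part1 ht hc htA hA hj h⟩, fun h =>
    ⟨fun _ hx i => VT.part2 h hx i, fun _ hx _ hy z hz => (VT.part3' h hx hy z hz).symm,
      fun _ hu h2 _ hx => VT.part4 h hu h2 hx⟩⟩

end Cfsg.Agent.ZD
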