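import Cfsg.Agent.Lib.ZD.Sing
import Cfsg.Agent.Lib.ZD.VT
import Cfsg.Agent.Lib.ZD.A2
import Cfsg.Agent.Lib.Transfer.FStar2

/-! Row E of `docs/ZD_PLAN.md`, part 0: the group theoretic configuration and step E1. -/

open Subgroup MulAction
open scoped commutatorElement

namespace Cfsg.Agent.ZD

open FT Tr

set_option linter.unusedSectionVars false

universe u

variable {G : Type u} [Group G] {t j : G} {V P T : Subgroup G} {q : ℕ}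

/-- The unitary case. -/
structure EB3 (t : G) (V P : Subgroup G) (j : G) (q : ℕ) : Prop where
  card : #|P| = 2 * q ^ 3
  bl : ∀ x ∈ P, ∀ y ∈ P, ⁅j * x * j⁻¹, y⁆ = ⁅x, j * y * j⁻¹⁆
  nab : ∃ x ∈ P, ∃ y ∈ P, ¬ Commute x y
  rk : ∀ r ∈ P, ∀ w : G, (∀ x ∈ P, ⁅x, r⁆ = 1 ∨ ⁅x, r⁆ = w) → r ∈ V ∨ r * t ∈ V
  gen2 : ∃ u₁ ∈ P, ∃ u₂ ∈ P, ∀ L : Subgroup G, V ≤ L → t ∈ L →
    (∀ n : ℕ, j ^ n * u₁ * (j ^ n)⁻¹ ∈ L) → (∀ n : ℕ, j ^ n * u₂ * (j ^ n)⁻¹ ∈ L) → P ≤ L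
  trT : ∃ h ∈ 𝐍(P) ⊓ 𝐂(V), ∃ w ∈ V, w ≠ 1 ∧ h * t * h⁻¹ = t * w

/-- The group theoretic content of the configuration of row E. -/
structure EH (t : G) (V P : Subgroup G) (j : G) (q : ℕ) : Prop where
  t2 : t * t = 1
  nV : ∀ g : G, g * t * g⁻¹ ∉ V
  sing : Sing V j q
  exq : ∃ a : ℕ, q = 2 ^ a
  sylP : SylowIn 2 P (𝐂[t] ⊓ 𝐂(V))
  VP : V ≤ P
  tP : t ∈ P
  cjV : ∀ g : G, g * t * g⁻¹ ∈ 𝐂(V) → ∃ h ∈ 𝐍(V), h * t * h⁻¹ = g * t * g⁻¹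
  om : ∀ x ∈ P, x * x = 1 → x ∈ V ∨ x * t ∈ V
  sqP : ∀ x ∈ P, x * x ∈ V
  jodd : Odd (orderOf j)
  jt : Commute j t
  jP : j ∈ 𝐍(P)
  jfix : ∀ n : ℕ, j ^ n ∉ 𝐂(V) → ∀ x ∈ P, Commute (j ^ n) x → x = 1 ∨ x = t
  jq : j ^ (q - 1) ∈ 𝐂(P)
  CE : ∀ y ∈ 𝐂[t] ⊓ 𝐂(V) ⊓ 𝐍(P), Odd (orderOf y) → y ^ (q + 1) ∈ 𝐂(P)
  nj : ∀ h ∈ 𝐂[t] ⊓ 𝐍(V), Sc V j (h * j * h⁻¹)
  four : ∀ L : Subgroup G, L ≤ P → t ∉ L → (∀ x ∈ P, x ∈ L ∨ x * t ∈ L) → ∀ τ ∈ 𝐂[t] ⊓ 𝐍(V),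
    τ ∈ 𝐍(L) → τ * τ ∈ L → τ ∈ 𝐂(V)
  sylR : ∃ R, SylowIn 2 R 𝐂[t] ∧ R ≤ 𝐍(V) ∧ R ⊓ 𝐂(V) = P
  fin : ∀ S L : Subgroup G, IsPGroup 2 S → V ≤ S → t ∈ S →
    (∀ T : Subgroup G, IsPGroup 2 T → S ≤ T → T ≤ 𝐍(S) ⊓ 𝐍(V) → T = S) → ⁅S, S⁆ ≤ L →
    t ∉ L → (∀ g : G, g * t * g⁻¹ ∈ S → g * t * g⁻¹ ∈ 𝐂(V) ∧ g * t * g⁻¹ * t ∈ L) → False
  typ : (∀ x ∈ P, x * x = 1) ∨ EB3 t V P j q

namespace E

theorem conj_eq_of_cent {C : Subgroup G} {a b x : G} (h : a⁻¹ * b ∈ 𝐂(C)) (hx : x ∈ C) :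
    b * x * b⁻¹ = a * x * a⁻¹ := by
  have := mem_cent.1 h x hx
  calc b * x * b⁻¹ = a * (a⁻¹ * b * x) * b⁻¹ := by group
    _ = a * x * a⁻¹ := by rw [← this]; group

theorem pow_cent {C : Subgroup G} {a b : G} (ha : a ∈ 𝐍(C)) (h : a⁻¹ * b ∈ 𝐂(C)) (n : ℕ) :
    (a ^ n)⁻¹ * b ^ n ∈ 𝐂(C) := by
  induction n with
  | zero => simp
  | succ n ih =>
    have : (a ^ (n + 1))⁻¹ * b ^ (n + 1) = a⁻¹ * ((a ^ n)⁻¹ * b ^ n) * a * (a⁻¹ * b) := by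
      rw [pow_succ, pow_succ]; group
    rw [this]
    exact mul_mem ((memJ_norm' (cent_norm C ha)).2 ih) h

theorem mem_of_pow {C : Subgroup G} {y : G} {m n : ℕ} (hm : y ^ m ∈ C) (hn : y ^ n ∈ C)
    (h : m.Coprime n) : y ∈ C := by
  have h1 : y ^ (Nat.gcd m n : ℤ) ∈ C := by
    rw [Nat.gcd_eq_gcd_ab, zpow_add, zpow_mul, zpow_mul]
    exact mul_mem (zpow_mem (by exact_mod_cast hm) _) (zpow_mem (by exact_mod_cast hn) _)
  rwa [h, Nat.cast_one, zpow_one] at h1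

theorem mem_of_odd {C : Subgroup G} {y : G} {k : ℕ} (ho : Odd (orderOf y)) (h : y ^ 2 ^ k ∈ C) :
    y ∈ C :=
  mem_of_pow h (n := orderOf y) (by rw [pow_orderOf_eq_one]; exact one_mem _)
    (Nat.Coprime.pow_left k (Nat.coprime_two_left.2 ho))

theorem odd_pow {y : G} (ho : Odd (orderOf y)) (n : ℕ) : Odd (orderOf (y ^ n)) :=
  ho.of_dvd_nat (orderOf_pow_dvd n)

theorem cop [Finite G] {C : Subgroup G} {y : G} (hC : IsPGroup 2 C) (ho : Odd (orderOf y)) :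
    (#|C|).Coprime #|zpowers y| := by
  obtain ⟨k, hk⟩ := IsPGroup.iff_card.1 hC
  rw [hk, Nat.card_zpowers]
  exact Nat.Coprime.pow_left k (Nat.coprime_two_left.2 ho)

theorem solZ (y : G) : Group.IsSolvable (zpowers y) := Group.isSolvable_of_comm fun a b =>
  Subtype.ext (by
    obtain ⟨m, hm⟩ := a.2; obtain ⟨n, hn⟩ := b.2
    simp only [coe_mul, ← hm, ← hn]; exact zpow_mul_comm y m n)

/-- Counting cosets. -/
theorem coset_count [Finite G] {M H : Subgroup G} (f : ℕ → G) (N : ℕ) (h1 : ∀ i, f i ∈ H)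
    (h2 : ∀ i, f i ∉ M) (h3 : ∀ a b, a < b → b < N → (f a)⁻¹ * f b ∉ M) :
    N + 1 ≤ M.relIndex H := by
  classical
  let g : Option (Fin N) → H ⧸ M.subgroupOf H := fun o =>
    o.elim (QuotientGroup.mk 1) fun i => QuotientGroup.mk ⟨f i, h1 i⟩
  have hg : Function.Injective g := by
    rintro (_ | a) (_ | b) e
    · rfl
    · exact absurd (by simpa [mem_subgroupOf] using QuotientGroup.eq.1 e) (h2 b)
    · exact absurd (by simpa [mem_subgroupOf] using QuotientGroup.eq.1 e.symm) (h2 a)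
    · rcases lt_trichotomy a b with h | h | h
      · exact absurd (by simpa [mem_subgroupOf] using QuotientGroup.eq.1 e) (h3 a b h b.2)
      · rw [h]
      · exact absurd (by simpa [mem_subgroupOf] using QuotientGroup.eq.1 e.symm) (h3 b a h a.2)
  have := Nat.card_le_card_of_injective g hg
  simpa [relIndex, index] using this

/-- An element with an odd power and a prescribed action. -/
theorem exists_odd [Finite G] {C : Subgroup G} {a y : G} (ha : a ∈ 𝐍(C)) (ho : Odd (orderOf a))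
    (h : a⁻¹ * y ∈ 𝐂(C)) : ∃ e : ℕ, Odd (orderOf (y ^ e)) ∧ a⁻¹ * y ^ e ∈ 𝐂(C) := by
  have hm : orderOf y ≠ 0 := (orderOf_pos y).ne'
  obtain ⟨k, b, hb, e⟩ := Nat.exists_eq_two_pow_mul_odd hm
  have hc : (orderOf a).Coprime (2 ^ k) := Nat.Coprime.pow_right k (Nat.coprime_two_right.2 ho)
  obtain ⟨e', h1, h2⟩ := Nat.chineseRemainder hc 1 0
  refine ⟨e', ?_, ?_⟩
  · obtain ⟨c, hc⟩ := (Nat.modEq_zero_iff_dvd).1 h2
    refine hb.of_dvd_nat (orderOf_dvd_of_pow_eq_one ?_)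
    rw [← pow_mul, hc, show 2 ^ k * c * b = 2 ^ k * b * c by ring, ← e, pow_mul,
      pow_orderOf_eq_one, one_pow]
  · have := pow_cent ha h e'
    rwa [pow_eq_pow_iff_modEq.2 h1, pow_one] at this

end E

open E

namespace EH

variable [Finite G] (h : EH t V P j q)
include h

theorem tV : t ∉ V := by simpa using h.nV 1
theorem t1 : t ≠ 1 := fun e => h.tV (e ▸ one_mem _)
theorem tinv : t⁻¹ = t := BW.inv_eq h.t2
theorem Pt : P ≤ 𝐂[t] := h.sylP.le.trans inf_le_left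
theorem PV : P ≤ 𝐂(V) := h.sylP.le.trans inf_le_right
theorem tC : t ∈ 𝐂(V) := h.PV h.tP
theorem p2 : IsPGroup 2 P := h.sylP.isPGroup
theorem jV : j ∈ 𝐍(V) := h.sing.nj
theorem qodd : Odd (q - 1) := by
  obtain ⟨a, e⟩ := h.exq
  have := h.sing.q4
  rcases a with _ | a
  · omega
  · rw [e, pow_succ]; exact ⟨2 ^ a - 1, by have := Nat.one_le_two_pow (n := a); omega⟩

theorem cop_q : (q - 1).Coprime (q + 1) := by
  have := h.sing.q4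
  rw [show q + 1 = 2 + (q - 1) by omega, Nat.coprime_add_self_right]
  exact Nat.coprime_two_right.2 h.qodd

theorem jtn (n : ℕ) : j ^ n * t * (j ^ n)⁻¹ = t := by
  rw [(h.jt.pow_left n).eq]; group

theorem j1 : j ∉ 𝐂(V) := fun hc => by
  have := h.sing.pow_mem (n := 1)
  rw [pow_one] at this
  have h4 := h.sing.q4
  have := Nat.le_of_dvd one_pos (this.1 hc)
  omega

theorem j2 : j ^ 2 ∉ 𝐂(V) := fun hc => by
  have h4 := h.sing.q4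
  have := Nat.le_of_dvd two_pos (h.sing.pow_mem.1 hc)
  omega

theorem powP {n : ℕ} (hn : j ^ n ∈ 𝐂(V)) : j ^ n ∈ 𝐂(P) := by
  obtain ⟨c, rfl⟩ := h.sing.pow_mem.1 hn
  rw [pow_mul]; exact pow_mem h.jq c

theorem comm {x y : G} (hx : x ∈ P) (hy : y ∈ P) : ⁅x, y⁆ ∈ V := by
  have h1 := h.sqP _ (mul_mem hx hy)
  have h2 := h.sqP _ (inv_mem hy)
  have h3 := h.sqP _ (inv_mem hx)
  have h4 : y⁻¹ * (x⁻¹ * x⁻¹) * y ∈ V :=
    (memJ_norm' (cent_sub V (h.PV hy))).2 h3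
  have : ⁅x, y⁆ = x * y * (x * y) * (y⁻¹ * (x⁻¹ * x⁻¹) * y) * (y⁻¹ * y⁻¹) := by
    rw [commutatorElement_def]; group
  rw [this]; exact mul_mem (mul_mem h1 h4) h2

/-- Changing `j` by an element of `C(P)`. -/
theorem adm {j' : G} (ho : Odd (orderOf j')) (hc : j⁻¹ * j' ∈ 𝐂(P)) : EH t V P j' q := by
  have e1 : ∀ n : ℕ, ∀ x ∈ P, j' ^ n * x * (j' ^ n)⁻¹ = j ^ n * x * (j ^ n)⁻¹ := fun n x hx =>
    conj_eq_of_cent (pow_cent h.jP hc n) hx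
  have e0 : ∀ x ∈ P, j' * x * j'⁻¹ = j * x * j⁻¹ := fun x hx => conj_eq_of_cent hc hx
  have hV : ∀ n : ℕ, j' ^ n ∈ 𝐂(V) → j ^ n ∈ 𝐂(V) := fun n hn => by
    have := mul_mem hn (inv_mem (centS h.VP (pow_cent h.jP hc n)))
    simpa using this
  have hP : j' ∈ 𝐍(P) := by
    have := mul_mem h.jP (cent_sub P hc); simpa using this
  have hjV : j' ∈ 𝐍(V) := by
    have := mul_mem h.jV (cent_sub V (centS h.VP hc)); simpa using this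
  refine { h with
    sing := ⟨h.sing.two, h.sing.card, h.sing.q4, hjV, fun v hv v1 w hw w1 => ?_⟩
    jodd := ho
    jt := ?_
    jP := hP
    jfix := fun n hn x hx hcx => h.jfix n (fun hn' => hn ?_) x hx ?_
    jq := ?_
    nj := fun g hg => ?_
    typ := h.typ.imp id fun b => { b with
      bl := fun x hx y hy => by rw [e0 x hx, e0 y hy, b.bl x hx y hy]
      gen2 := ?_ } }
  · obtain ⟨n, e⟩ := h.sing.tr v hv v1 w hw w1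
    exact ⟨n, by rw [e1 n v (h.VP hv), e]⟩
  · have := e0 t h.tP
    rw [h.jt.eq, mul_inv_cancel_right] at this
    exact mul_inv_eq_iff_eq_mul.1 this
  · have := mul_mem hn' (centS h.VP (pow_cent h.jP hc n))
    simpa using this
  · have := e1 n x hx
    rw [hcx.eq, mul_inv_cancel_right] at this
    exact mul_inv_eq_iff_eq_mul.1 this.symm
  · have := mul_mem h.jq (pow_cent h.jP hc (q - 1))
    simpa using this
  · obtain ⟨n, e⟩ := h.nj g hg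
    refine ⟨n, fun v hv => ?_⟩
    rw [e1 n v (h.VP hv), ← e v hv]
    have hv' : g⁻¹ * v * g ∈ V := (memJ_norm' hg.2).2 hv
    calc g * j' * g⁻¹ * v * (g * j' * g⁻¹)⁻¹ = g * (j' * (g⁻¹ * v * g) * j'⁻¹) * g⁻¹ := by group
      _ = _ := by rw [e0 _ (h.VP hv')]; group
  · obtain ⟨u₁, h1, u₂, h2, e⟩ := b.gen2
    exact ⟨u₁, h1, u₂, h2, fun L hV ht a1 a2 => e L hV ht (fun n => e1 n u₁ h1 ▸ a1 n)
      fun n => e1 n u₂ h2 ▸ a2 n⟩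

end EH

/-- A `j`-invariant `2`-subgroup between `P` and `C(V)`. -/
structure ET (t : G) (V P T : Subgroup G) (j : G) (q : ℕ) : Prop extends EH t V P j q where
  T2 : IsPGroup 2 T
  PT : P ≤ T
  TV : T ≤ 𝐂(V)
  jT : j ∈ 𝐍(T)

namespace ET

variable [Finite G] (h : ET t V P T j q)
include h

theorem inf_t : T ⊓ 𝐂[t] = P :=
  h.sylP.eq_of_le (h.T2.to_inf_left) (le_inf h.PT h.Pt)
    (le_inf inf_le_right (inf_le_left.trans h.TV))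

theorem memP {x : G} (hx : x ∈ T) (hc : x ∈ 𝐂[t]) : x ∈ P := h.inf_t ▸ mem_inf.2 ⟨hx, hc⟩

theorem tT : t ∈ T := h.PT h.tP
theorem VT : V ≤ T := h.VP.trans h.PT

theorem fix {n : ℕ} (hn : j ^ n ∉ 𝐂(V)) {x : G} (hx : x ∈ T) (hc : Commute (j ^ n) x) :
    x = 1 ∨ x = t := by
  by_contra hne
  have hC : IsPGroup 2 (T ⊓ 𝐂[j ^ n] : Subgroup G) := h.T2.to_inf_left
  have htC : t ∈ T ⊓ 𝐂[j ^ n] := ⟨h.tT, mem_cent1.2 (h.jt.pow_left n).eq.symm⟩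
  have hlt : zpowers t < T ⊓ 𝐂[j ^ n] := by
    refine lt_of_le_of_ne (zpowers_le.2 htC) fun e => hne ?_
    exact (mem_zpowers_sq h.t2).1 (e ▸ mem_inf.2 ⟨hx, mem_cent1.2 hc.eq.symm⟩)
  obtain ⟨y, hy, hn', hy'⟩ := exists_mem_normalizer_not_mem hC hlt
  have e : y * t * y⁻¹ = t := by
    rcases (mem_zpowers_sq h.t2).1 ((memJ_norm hn').2 (mem_zpowers t)) with e | e
    · exact absurd (by simpa using e) h.t1
    · exact e
  exact hy' ((mem_zpowers_sq h.t2).2 (h.jfix n hn y (h.memP hy.1 (cent1_conj.2 e))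
    (mem_cent1.1 hy.2).symm))

theorem axb {y : G} (ho : Odd (orderOf y)) (hP : y ∈ 𝐂(P)) (hT : y ∈ 𝐍(T)) : y ∈ 𝐂(T) :=
  mem_centralizer_of_p_times_q h.p2 h.T2 (normsG h.PT) (Nat.coprime_two_right.2 ho) hP hT
    (centS (A := T ⊓ 𝐂(P)) (fun x hx => h.memP hx.1 (cent_le_cent1 h.tP hx.2)) hP)

theorem powC {n : ℕ} (hn : j ^ n ∈ 𝐂(V)) : j ^ n ∈ 𝐂(T) :=
  h.axb (odd_pow h.jodd n) (h.powP hn) (pow_mem h.jT n)

theorem normP {y : G} (hT : y ∈ 𝐍(T)) (ht : y ∈ 𝐂[t]) : y ∈ 𝐍(P) := by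
  rw [← h.inf_t]
  exact zpowers_le.1 (normsI (zpowers_le.2 hT) (norms_cent1 (zpowers_le.2 ht)))

/-- `⟨j⟩` acts coprimely on `N_{C(V)}(T) / C(T)`. -/
theorem cop_N : (#|(𝐂(V) ⊓ 𝐍(T)) /c 𝐂(T)|).Coprime #|zpowers (cst 𝐂(T) j)| := by
  refine Nat.coprime_of_dvd fun r hr h1 h2 => ?_
  have := Fact.mk hr
  have hjC : j ∈ 𝐍(𝐂(T)) := cent_norm T h.jT
  have hNC : 𝐂(V) ⊓ 𝐍(T) ≤ 𝐍(𝐂(T)) := inf_le_right.trans (cent_norm T)
  rw [Nat.card_zpowers] at h2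
  have hq : r ∣ q - 1 := h2.trans (orderOf_dvd_of_pow_eq_one
    ((cst_pow_eq_one hjC).2 (h.powC (centS h.VP h.jq))))
  obtain ⟨n, hn⟩ := h2
  set ρ := cst 𝐂(T) j ^ n with hρ
  have hn0 : 0 < n := Nat.pos_of_ne_zero fun e => (orderOf_pos (cst 𝐂(T) j)).ne' (by
    rw [hn, e, mul_zero])
  have ρ1 : ρ ≠ 1 := pow_ne_one_of_lt_orderOf hn0.ne' (by
    rw [hn]; exact lt_mul_left hn0 hr.one_lt)
  have ρr : ρ ^ r ^ 1 = 1 := by rw [pow_one, ← pow_mul, mul_comm, ← hn, pow_orderOf_eq_one]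
  have hnV : j ^ n ∉ 𝐂(V) := fun hc => ρ1 ((cst_pow_eq_one hjC).2 (h.powC hc))
  set N := (𝐂(V) ⊓ 𝐍(T)) /c 𝐂(T) with hN
  have hρN : ρ ∈ 𝐍(N) := pow_mem (cst_mem_norm (zpowers_le.1 (normsI
    (zpowers_le.2 (cent_norm V h.jV)) (norms_norm (zpowers_le.2 h.jT))))) n
  obtain ⟨W, hW, hρW⟩ := exists_sylowIn_ge (H := N ⊔ zpowers ρ) (isPGroup_zpowers ρr) le_sup_right
  have hWN : W ≤ 𝐍(N) := hW.le.trans (sup_le (normG N) (zpowers_le.2 hρN))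
  have hU := hW.inf_of_le_normalizer le_sup_left hWN
  obtain ⟨z, hz, z1⟩ : ∃ z ∈ W ⊓ N ⊓ 𝐂(W), z ≠ 1 := by
    by_contra hc
    push Not at hc
    exact meet_center_nil (pgroup_nil hW.isPGroup) (norm_normalI hWN) (hU.ne_bot h1)
      (eq_bot_iff.2 fun z hz => hc z ⟨hz.1, hz.2.2⟩)
  obtain ⟨k, hk⟩ := isPGroup_iff_forall_mem.1 hW.isPGroup z hz.1.1
  obtain ⟨x, hx, rfl, m, hm⟩ := exists_lift_p_elt hNC hz.1.2 hk
  have hc : (x * j ^ n)⁻¹ * (j ^ n * x) ∈ 𝐂(T) := by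
    rw [← cst_eq_iff (mul_mem (hNC hx) (pow_mem hjC n)) (mul_mem (pow_mem hjC n) (hNC hx)),
      cst_mul (hNC hx) (pow_mem hjC n), cst_mul (pow_mem hjC n) (hNC hx), cst_pow hjC]
    exact (mem_cent.1 hz.2 _ (hρW (mem_zpowers ρ))).symm
  have hs : Commute (j ^ n) (x * t * x⁻¹) := by
    have := conj_eq_of_cent hc h.tT
    have e2 : x * j ^ n * t * (x * j ^ n)⁻¹ = x * (j ^ n * t * (j ^ n)⁻¹) * x⁻¹ := by group
    rw [e2, h.jtn] at this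
    refine mul_inv_eq_iff_eq_mul.1 (Eq.trans ?_ this); group
  have hxt : x ∈ 𝐂[t] := by
    rcases h.fix hnV ((memJ_norm hx.2).2 h.tT) hs with e | e
    · exact absurd (by simpa using e) h.t1
    · exact cent1_conj.2 e
  have hro : Odd r := h.qodd.of_dvd_nat hq
  have hxo : Odd (orderOf x) := (hro.pow (n := m)).of_dvd_nat (orderOf_dvd_of_pow_eq_one hm)
  have hxP : x ∈ 𝐂(P) := mem_of_pow (h.CE x ⟨⟨hxt, hx.1⟩, h.normP hx.2 hxt⟩ hxo)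
    (n := r ^ m) (by rw [hm]; exact one_mem _)
    (Nat.Coprime.pow_right m (Nat.Coprime.coprime_dvd_left hq h.cop_q).symm)
  exact z1 ((cst_eq_one (hNC hx)).2 (h.axb hxo hxP hx.2))

theorem step : ∃ T' j', ET t V P T' j' q ∧ T ≤ T' ∧ SylowIn 2 T' (𝐂(V) ⊓ 𝐍(T)) := by
  have hjC : j ∈ 𝐍(𝐂(T)) := cent_norm T h.jT
  have hNC : 𝐂(V) ⊓ 𝐍(T) ≤ 𝐍(𝐂(T)) := inf_le_right.trans (cent_norm T)
  have hCN : 𝐂(T) ≤ 𝐂(V) ⊓ 𝐍(T) := le_inf (centS h.VT) (cent_sub T)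
  have hTN : T ≤ 𝐂(V) ⊓ 𝐍(T) := le_inf h.TV (normG T)
  have hjN : j ∈ 𝐍(𝐂(V) ⊓ 𝐍(T)) := zpowers_le.1 (normsI
    (zpowers_le.2 (cent_norm V h.jV)) (norms_norm (zpowers_le.2 h.jT)))
  obtain ⟨S, hS, hSn, hTS⟩ := sol_coprime_Sylow_subset (p := 2) (X := T /c 𝐂(T))
    (zpowers_le.2 (cst_mem_norm hjN)) h.cop_N (Or.inl (solZ _)) (quotientS _ hTN)
    (quotient_isPGroup _ h.T2) (zpowers_le.2 (cst_mem_norm h.jT))
  rw [← sylowIn_iff] at hS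
  have hSN : qpre 𝐂(T) S ≤ 𝐂(V) ⊓ 𝐍(T) := cosetpre_le hCN hS.le
  have hTS' : T ≤ qpre 𝐂(T) S := fun x hx =>
    mem_qpre.2 ⟨hNC (hTN hx), hTS (mem_quotient _ hx)⟩
  obtain ⟨T', hT', hTT⟩ := exists_sylowIn_ge h.T2 hTS'
  have hodd : ¬ 2 ∣ (qpre 𝐂(T) S).relIndex (𝐂(V) ⊓ 𝐍(T)) := by
    have := hS.not_dvd
    rwa [← index_cosetpre, quotientGK ⟨hCN, hNC⟩] at this
  have hjS : j ∈ 𝐍(qpre 𝐂(T) S) := (mem_norm_cosetpre hjC).2 (zpowers_le.1 hSn)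
  obtain ⟨n, hn, y, hy, e⟩ := hT'.frattini hjS
  obtain ⟨k, hk⟩ := IsPGroup.iff_card.1 hS.isPGroup
  obtain ⟨c, hc, u, hu, rfl⟩ := hT'.exists_mul_of_relIndex_pow (sub_cosetpre S)
    (k := k) (by rw [relIndex_cosetpre, hk]) hn
  have hc' : j⁻¹ * (u * y) ∈ 𝐂(T) := by
    rw [show j⁻¹ * (u * y) = j⁻¹ * c⁻¹ * j by rw [e]; group]
    exact (memJ_norm' hjC).2 (inv_mem hc)
  obtain ⟨e', ho, he⟩ := exists_odd h.jT h.jodd hc'
  exact ⟨T', (u * y) ^ e', ⟨h.adm ho (centS h.PT he), hT'.isPGroup, h.PT.trans hTT,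
    (hT'.le.trans hSN).trans inf_le_left, pow_mem (mul_mem (normG T' hu) hy) _⟩, hTT,
    hT'.trans hSN hodd⟩

end ET

theorem EH.e1 [Finite G] (h : EH t V P j q) : ∃ S j', ET t V P S j' q ∧ SylowIn 2 S 𝐂(V) := by
  have key : ∀ n : ℕ, ∀ T j', ET t V P T j' q → Nat.card G - #|T| = n →
      ∃ S j', ET t V P S j' q ∧ SylowIn 2 S 𝐂(V) := by
    intro n
    induction n using Nat.strong_induction_on with
    | _ n ih =>
      intro T j' hT e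
      obtain ⟨T', j'', h', hle, hs⟩ := hT.step
      rcases hle.eq_or_lt with rfl | hlt
      · refine ⟨T, j', hT, sylowIn_of_maximal hT.T2 hT.TV fun Q hQ h1 h2 => ?_⟩
        by_contra hne
        obtain ⟨x, hx, hn, hx'⟩ := exists_mem_normalizer_not_mem hQ (lt_of_le_of_ne h1 (Ne.symm hne))
        have := hs.eq_of_le (Q := Q ⊓ 𝐍(T)) hQ.to_inf_left (le_inf h1 (normG T))
          (inf_le_inf_right _ h2)
        exact hx' (this ▸ mem_inf.2 ⟨hx, hn⟩)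
      · have h1 : #|T| < #|T'| := proper_card hlt
        have h2 : #|T'| ≤ Nat.card G := T'.card_le_card_group
        exact ih _ (by omega) T' j'' h' rfl
  exact key _ P j ⟨h, h.p2, le_rfl, h.PV, h.jP⟩ rfl

end Cfsg.Agent.ZD
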