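import Cfsg.Agent.Lib.ZD.E0

/-! Row E of `docs/ZD_PLAN.md`, part 1: the maximal complement `A`. -/

open Subgroup MulAction
open scoped commutatorElement

namespace Cfsg.Agent.ZD

open FT Tr E

set_option linter.unusedSectionVars false

universe u

variable {G : Type u} [Group G] {t j : G} {V P T S A B C : Subgroup G} {q : ℕ}

namespace E

theorem card_two [Finite G] (hB : B ≤ C) (ht : t ∈ C) (hn : t ∉ B)
    (h : ∀ x ∈ C, x ∈ B ∨ x * t ∈ B) : #|C| = 2 * #|B| := by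
  have : B.relIndex C = 2 := relIndex_eq_two_iff.2 ⟨t, ht, fun b hb => by
    by_cases h1 : b ∈ B
    · exact Or.inr ⟨h1, fun h2 => hn (by simpa using mul_mem (inv_mem h1) h2)⟩
    · exact Or.inl ⟨(h b hb).resolve_left h1, h1⟩⟩
  rw [← card_mul_relIndex hB, this, mul_comm]

theorem der_of_sq (hB : B ≤ C) (h2 : ∀ x ∈ C, x * x ∈ B) : ⁅C, C⁆ ≤ B := by
  refine commg_le.2 fun x hx y hy => ?_
  have h1 := h2 _ (mul_mem hx hy)
  have h3 := h2 _ (inv_mem hy)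
  have h4 : y⁻¹ * (x⁻¹ * x⁻¹) * y ∈ B :=
    (memJ_norm' (VT.norm_of_sq hB h2 hy)).2 (h2 _ (inv_mem hx))
  have : x * y * x⁻¹ * y⁻¹ = x * y * (x * y) * (y⁻¹ * (x⁻¹ * x⁻¹) * y) * (y⁻¹ * y⁻¹) := by group
  rw [this]; exact mul_mem (mul_mem h1 h4) h3

theorem mem_sup_t (h2 : t * t = 1) (ht : t ∈ 𝐍(A)) {x : G} :
    x ∈ A ⊔ zpowers t ↔ x ∈ A ∨ x * t ∈ A := by
  rw [mem_join_norm (zpowers_le.2 ht)]
  constructor
  · rintro ⟨a, ha, b, hb, rfl⟩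
    rcases (mem_zpowers_sq h2).1 hb with rfl | rfl
    · exact Or.inl (by simpa using ha)
    · exact Or.inr (by rwa [mul_assoc, h2, mul_one])
  · rintro (h | h)
    · exact ⟨x, h, 1, one_mem _, mul_one x⟩
    · exact ⟨x * t, h, t, mem_zpowers t, by rw [mul_assoc, h2, mul_one]⟩

theorem nine {X : Type*} [CommGroup X] (a b c d e g : X) (hb : b * b = 1) (hc : c * c = 1)
    (he : e * e = 1) : a * b * c * (b * d * e) * (c * e * g) = a * d * g := by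
  calc _ = a * d * g * (b * b) * (c * c) * (e * e) := by ac_rfl
    _ = _ := by rw [hb, hc, he]; simp

end E

namespace EH

variable [Finite G] (h : EH t V P j q)
include h

theorem conj_into {g x : G} (hs : g * t * g⁻¹ ∈ 𝐂(V)) (hx : x ∈ 𝐂[g * t * g⁻¹] ⊓ 𝐂(V)) {k : ℕ}
    (hk : x ^ 2 ^ k = 1) : ∃ c ∈ 𝐍(V), c * (g * t * g⁻¹) * c⁻¹ = t ∧ c * x * c⁻¹ ∈ P := by
  obtain ⟨a, ha, e⟩ := h.cjV g hs
  rw [← e] at hx ⊢
  have h1 : a⁻¹ * x * a ∈ 𝐂[t] ⊓ 𝐂(V) := mem_inf.2 ⟨by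
    have := (mem_inf.1 hx).1; rwa [cent1J, mem_cj] at this,
    (memJ_norm' (cent_norm V ha)).2 hx.2⟩
  obtain ⟨c, hc, hP⟩ := h.sylP.exists_conj_mem h1 (k := k) (by
    rw [show a⁻¹ * x * a = a⁻¹ * x * a⁻¹⁻¹ by simp, conj_pow, hk]; simp)
  refine ⟨c * a⁻¹, mul_mem (cent_sub V hc.2) (inv_mem ha), ?_, by convert hP using 1; group⟩
  rw [← cent1_conj.1 hc.1]; nth_rw 2 [← cent1_conj.1 hc.1]; group

theorem blpow (b : EB3 t V P j q) (n : ℕ) {x y : G} (hx : x ∈ P) (hy : y ∈ P) :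
    ⁅j ^ (2 * n) * x * (j ^ (2 * n))⁻¹, y⁆ = j ^ n * ⁅x, y⁆ * (j ^ n)⁻¹ := by
  induction n generalizing x y with
  | zero => simp
  | succ n ih =>
    have e : j ^ (2 * (n + 1)) * x * (j ^ (2 * (n + 1)))⁻¹ =
        j ^ (2 * n) * (j * (j * x * j⁻¹) * j⁻¹) * (j ^ (2 * n))⁻¹ := by
      rw [mul_add, pow_add]; group
    have hx' := (memJ_norm h.jP).2 hx
    rw [e, ih ((memJ_norm h.jP).2 hx') hy, b.bl _ hx' y hy, ← conjugate_commutatorElement,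
      pow_succ]; group

theorem phi2 (b : EB3 t V P j q) {m : ℕ} (hm : ∀ v ∈ V, Phi j m v = 1) {x y : G} (hx : x ∈ P)
    (hy : y ∈ P) : ⁅Phi j m (Phi j m x), y⁆ = 1 := by
  have mul : ∀ a ∈ P, ∀ b ∈ P, ⁅a * b, y⁆ = ⁅a, y⁆ * ⁅b, y⁆ := fun a ha b hb => by
    rw [commMg_central (mem_cent.1 (h.PV ha) _ (h.comm hb hy)).symm]
    exact h.sing.comm (h.comm hb hy) (h.comm ha hy)
  have hn : ∀ n : ℕ, j ^ n * x * (j ^ n)⁻¹ ∈ P := fun n => (memJ_norm (pow_mem h.jP n)).2 hx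
  have e : Phi j m (Phi j m x) =
      j ^ 0 * x * (j ^ 0)⁻¹ * (j ^ 1 * x * (j ^ 1)⁻¹) * (j ^ m * x * (j ^ m)⁻¹) *
      (j ^ 1 * x * (j ^ 1)⁻¹ * (j ^ (2 * 1) * x * (j ^ (2 * 1))⁻¹) *
        (j ^ (m + 1) * x * (j ^ (m + 1))⁻¹)) *
      (j ^ m * x * (j ^ m)⁻¹ * (j ^ (m + 1) * x * (j ^ (m + 1))⁻¹) *
        (j ^ (2 * m) * x * (j ^ (2 * m))⁻¹)) := by
    simp only [Phi]; group
  let _ : CommGroup V := { (inferInstance : Group V) with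
    mul_comm := fun a b => Subtype.ext (h.sing.comm a.2 b.2) }
  let c : ℕ → V := fun n => ⟨_, h.comm (hn n) hy⟩
  have c2 : ∀ n, c n * c n = 1 := fun n => Subtype.ext (h.sing.two _ (c n).2)
  have := congrArg Subtype.val (nine (c 0) (c 1) (c m) (c (2 * 1)) (c (m + 1)) (c (2 * m))
    (c2 _) (c2 _) (c2 _))
  simp only [coe_mul, c] at this
  rw [e, mul _ (mul_mem (mul_mem (mul_mem (hn _) (hn _)) (hn _))
      (mul_mem (mul_mem (hn _) (hn _)) (hn _))) _ (mul_mem (mul_mem (hn _) (hn _)) (hn _)),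
    mul _ (mul_mem (mul_mem (hn _) (hn _)) (hn _)) _ (mul_mem (mul_mem (hn _) (hn _)) (hn _)),
    mul _ (mul_mem (hn _) (hn _)) _ (hn _), mul _ (mul_mem (hn _) (hn _)) _ (hn _),
    mul _ (mul_mem (hn _) (hn _)) _ (hn _), mul _ (hn _) _ (hn _), mul _ (hn _) _ (hn _),
    mul _ (hn _) _ (hn _), this, h.blpow b 1 hx hy, h.blpow b m hx hy]
  simpa [Phi] using hm _ (h.comm hx hy)

end EH

namespace ET

variable [Finite G] (h : ET t V P T j q)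
include h

theorem split {n : ℕ} (hn : j ^ n ∉ 𝐂(V)) (hC : C ≤ T) (hj : j ∈ 𝐍(C)) {x : G} (hx : x ∈ C) :
    x ∈ ⁅C, zpowers (j ^ n)⁆ ∨ x * t ∈ ⁅C, zpowers (j ^ n)⁆ := by
  obtain ⟨a, ha, b, hb, rfl⟩ := (coprime_cent_prod (zpowers_le.2 (pow_mem hj n))
    (cop (h.T2.to_le hC) (odd_pow h.jodd n)) (Or.inl (solZ _))).exists hx
  rcases h.fix hn (hC hb.1) (mem_cent.1 hb.2 _ (mem_zpowers _)) with rfl | rfl
  · exact Or.inl (by simpa using ha)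
  · exact Or.inr (by rwa [mul_assoc, h.t2, mul_one])

theorem split1 (hC : C ≤ T) (hj : j ∈ 𝐍(C)) {x : G} (hx : x ∈ C) :
    x ∈ ⁅C, zpowers j⁆ ∨ x * t ∈ ⁅C, zpowers j⁆ := by
  simpa using h.split (n := 1) (by simpa using h.j1) hC hj hx

theorem fpf {n : ℕ} (hn : j ^ n ∉ 𝐂(V)) (hB : B ≤ T) (hj : j ∈ 𝐍(B)) {x : G} (hx : x ∈ T)
    (hxB : x ∈ 𝐍(B)) (hc : j ^ n * x * (j ^ n)⁻¹ * x⁻¹ ∈ B) : x ∈ B ∨ x * t ∈ B := by
  have e := coprime_quotient_cent1 hB (pow_mem hj n)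
    (by simpa using cop (h.T2.to_le hB) (odd_pow h.jodd n))
  have : cst B x ∈ (T ⊓ 𝐂[j ^ n]) /c B := e ▸ mem_inf.2 ⟨mem_quotient _ hx,
    mem_cent1.2 ((commute_cst (pow_mem hj n) hxB).2 hc).symm⟩
  obtain ⟨z, hz, hzB, e'⟩ := mem_qt.1 this
  have := (cst_eq_iff' hxB hzB).1 e'.symm
  rcases h.fix hn hz.1 (mem_cent1.1 hz.2).symm with rfl | rfl
  · exact Or.inl (by simpa using this)
  · exact Or.inr (by rwa [h.tinv] at this)

theorem fpf1 (hB : B ≤ T) (hj : j ∈ 𝐍(B)) {x : G} (hx : x ∈ T)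
    (hxB : x ∈ 𝐍(B)) (hc : j * x * j⁻¹ * x⁻¹ ∈ B) : x ∈ B ∨ x * t ∈ B :=
  h.fpf (n := 1) (by simpa using h.j1) hB hj hx hxB (by simpa using hc)

theorem maschke (hB : B ≤ C) (hC : C ≤ T) (h2 : ∀ x ∈ C, x * x ∈ B) (hjB : j ∈ 𝐍(B))
    (hjC : j ∈ 𝐍(C)) (ht : t ∈ C) (hn : t ∉ B) : t ∉ ⁅C, zpowers j⁆ ⊔ B := fun hm => by
  have hCB := VT.norm_of_sq hB h2
  have hJ := zpowers_le.2 hjB
  have hd := coprime_abelian_cent_dprod (quotient_norms B (zpowers_le.2 hjC))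
    (coprime_quotient B (cop (h.T2.to_le hC) h.jodd)) (sub_der1_abelian (der_of_sq hB h2))
  have h1 : cst B t ∈ ⁅C /c B, zpowers j /c B⁆ := by
    rw [← quotientR hCB hJ, cst_mem_qt (hCB ht) (commg_le_norm hCB hJ), sup_comm]; exact hm
  have h3 : cst B t ∈ C /c B ⊓ 𝐂(zpowers j /c B) := quotient_subcent B C _
    (mem_quotient B ⟨ht, centsC.1 (zpowers_le.2 (by
      rw [cent_cycle]; exact mem_cent1.2 h.jt.eq)) (mem_zpowers t)⟩)
  exact hn ((cst_eq_one (hCB ht)).1 (mem_bot.1 (hd.disj ▸ mem_inf.2 ⟨h1, h3⟩)))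

theorem card_ge (hC : C ≤ T) (hB : B ≤ C) (hn : C ≤ 𝐍(B)) (hjB : j ∈ 𝐍(B)) (hjC : j ∈ 𝐍(C))
    (ht : t ∈ B) {x : G} (hx : x ∈ C) (hx' : x ∉ B) : q ≤ B.relIndex C := by
  have := coset_count (M := B) (H := C) (fun i => j ^ i * x * (j ^ i)⁻¹) (q - 1)
    (fun i => (memJ_norm (pow_mem hjC i)).2 hx) (fun i hi => hx' ((memJ_norm (pow_mem hjB i)).1 hi))
    fun a b hab hb hm => by
      obtain ⟨n, rfl⟩ := Nat.exists_eq_add_of_lt hab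
      have hn' : j ^ (n + 1) ∉ 𝐂(V) := fun hc => by
        have := Nat.le_of_dvd n.succ_pos (h.sing.pow_mem.1 hc); omega
      have h1 : x⁻¹ * (j ^ (n + 1) * x * (j ^ (n + 1))⁻¹) ∈ B := by
        refine (memJ_norm (pow_mem hjB a)).1 ?_
        convert hm using 1; group
      rcases h.fpf hn' (hB.trans hC) hjB (hC hx) (hn hx) (by
        convert (memJ_norm (hn hx)).2 h1 using 1; group) with h2 | h2
      · exact hx' h2
      · exact hx' (by simpa using mul_mem h2 (inv_mem ht))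
  have := h.sing.q4
  omega

end ET

/-- `S` is a Sylow subgroup of `C(V)`, `A` is a maximal invariant subgroup not containing `t`. -/
structure EA (t : G) (V P S A : Subgroup G) (j : G) (q : ℕ) : Prop extends ET t V P S j q where
  syl : SylowIn 2 S 𝐂(V)
  AS : A ≤ S
  jA : j ∈ 𝐍(A)
  tA : t ∈ 𝐍(A)
  tnA : t ∉ A
  QA : ⁅P, zpowers j⁆ ⊔ V ≤ A
  max : ∀ A', A ≤ A' → A' ≤ S → j ∈ 𝐍(A') → t ∈ 𝐍(A') → t ∉ A' → A' = A

theorem EH.exists_EA [Finite G] (h : EH t V P j q) : ∃ S A j', EA t V P S A j' q := by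
  obtain ⟨S, j', h', hs⟩ := h.e1
  have hQ : ⁅P, zpowers j'⁆ ≤ P := commg_subl.2 (zpowers_le.2 h'.jP)
  obtain ⟨A, hle, hA⟩ := (Set.toFinite {A : Subgroup G | A ≤ S ∧ j' ∈ 𝐍(A) ∧ t ∈ 𝐍(A) ∧ t ∉ A}).exists_le_maximal
    (a := ⁅P, zpowers j'⁆ ⊔ V) ⟨(sup_le hQ h.VP).trans h'.PT,
      zpowers_le.1 (normsY (commg_normr _ _) (zpowers_le.2 h'.jV)),
      cent_sub _ (centS (sup_le hQ h.VP) (sub_cent1.1 h.Pt)),
      h'.maschke h.VP h'.PT h.sqP h'.jV h'.jP h.tP h.tV⟩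
  exact ⟨S, A, j', h', hs, hA.1.1, hA.1.2.1, hA.1.2.2.1, hA.1.2.2.2, hle,
    fun A' h1 h2 h3 h4 h5 => le_antisymm (hA.2 ⟨h2, h3, h4, h5⟩ h1) h1⟩

namespace EA

variable [Finite G] (h : EA t V P S A j q)
include h

theorem VA : V ≤ A := le_sup_right.trans h.QA
theorem A2 : IsPGroup 2 A := h.T2.to_le h.AS
theorem AV : A ≤ 𝐂(V) := h.AS.trans h.TV

theorem PA {x : G} (hx : x ∈ P) : x ∈ A ∨ x * t ∈ A :=
  (h.split1 h.PT h.jP hx).imp (fun a => (le_sup_left.trans h.QA) a) fun a => (le_sup_left.trans h.QA) a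

theorem not_t {x : G} (hx : x ∈ A) : x * t ∉ A := fun hc =>
  h.tnA (by simpa using mul_mem (inv_mem hx) hc)

theorem memV {x : G} (hx : x ∈ A) (hv : x ∈ V ∨ x * t ∈ V) : x ∈ V :=
  hv.resolve_right fun hc => h.not_t hx (h.VA hc)

theorem nil : ∃ m, NilP A j m := by
  obtain ⟨m, hm⟩ := h.sing.zech
  have hodd : ∃ N : ℕ, Odd N ∧ j ^ N ∈ 𝐂(A) :=
    ⟨q - 1, h.qodd, centS h.AS (h.powC (centS h.VP h.jq))⟩
  refine ⟨m, (vt G A j m).1 t h.t2 h.jt.symm h.tA h.A2 h.jA hodd ⟨h.A2.to_inf_left,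
    BW.norm_inf h.jA h.jt.symm, hodd.imp fun N hN => ⟨hN.1, centS inf_le_left hN.2⟩, fun x hx => ?_⟩⟩
  have hxP := h.memP (h.AS hx.1) hx.2
  rcases h.typ with b | b
  · exact ⟨1, hm x (h.memV hx.1 (h.om x hxP (b x hxP)))⟩
  · have hz : Phi j m (Phi j m x) ∈ V := h.memV (VT.phi_mem h.jA (VT.phi_mem h.jA hx.1))
      (b.rk _ (VT.phi_mem h.jP (VT.phi_mem h.jP hxP)) 1 fun y hy => Or.inl (by
        rw [← commutatorElement_inv, h.phi2 b hm hxP hy, inv_one]))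
    exact ⟨3, hm _ hz⟩

theorem nA (g : G) : g * t * g⁻¹ ∉ A := fun hs => by
  obtain ⟨m, hm⟩ := h.nil
  set s := g * t * g⁻¹ with hs'
  have s2 : s * s = 1 := by rw [hs', conj_mul, h.t2]; simp
  have hj : j * s * j⁻¹ ∈ A := (memJ_norm h.jA).2 hs
  have hc := VT.part2 hm hs 1
  rw [pow_one] at hc
  obtain ⟨c, hc', e, hP⟩ := h.conj_into (h.AV hs) (x := j * s * j⁻¹)
    ⟨mem_cent1.2 hc.eq.symm, h.AV hj⟩ (k := 1) (by rw [pow_one, sq, conj_mul, s2]; simp)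
  rcases h.om _ hP (by rw [conj_mul, conj_mul, s2]; simp) with hv | hv
  · exact h.nV (c * j * g) (by convert hv using 1; rw [hs']; group)
  · rw [← e, conj_mul, memJ_norm hc'] at hv
    rcases h.fpf1 h.VT h.jV (h.AS hs) (cent_sub V (h.AV hs)) (by rwa [BW.inv_eq s2]) with a | a
    · exact h.nV g a
    · exact h.not_t hs (h.VA a)

theorem memY {x : G} : x ∈ A ⊔ zpowers t ↔ x ∈ A ∨ x * t ∈ A := mem_sup_t h.t2 h.tA

theorem YS : A ⊔ zpowers t ≤ S := sup_le h.AS (zpowers_le.2 h.tT)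

theorem PY : P ≤ A ⊔ zpowers t := fun _ hx => h.memY.2 (h.PA hx)

theorem jY : j ∈ 𝐍(A ⊔ zpowers t) :=
  zpowers_le.1 (normsY (zpowers_le.2 h.jA) (cents_norm (zpowers_le.2 (by
    rw [cent_cycle]; exact mem_cent1.2 h.jt.eq))))

theorem cardY : #|A ⊔ zpowers t| = 2 * #|A| :=
  card_two le_sup_left (mem_sup_right (mem_zpowers t)) h.tnA fun _ hx => h.memY.1 hx

theorem leY (hB : B ≤ C) (hC : C ≤ S) (h2 : ∀ x ∈ C, x * x ∈ B) (hjB : j ∈ 𝐍(B))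
    (hjC : j ∈ 𝐍(C)) (ht : t ∈ C) (hn : t ∉ B) (hA : A ≤ ⁅C, zpowers j⁆ ⊔ B) :
    C ≤ A ⊔ zpowers t := fun x hx => by
  have e := h.max _ hA ((sup_le (commg_subl.2 (zpowers_le.2 hjC)) hB).trans hC)
    (zpowers_le.1 (normsY (commg_normr _ _) (zpowers_le.2 hjB)))
    (normsY (commg_norml _ _) (VT.norm_of_sq hB h2) ht) (h.maschke hB hC h2 hjB hjC ht hn)
  rw [h.memY, ← e]
  exact (h.split1 hC hjC hx).imp (fun a => mem_sup_left a) fun a => mem_sup_left a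

/-- The final step of E2. -/
theorem eqY (h1 : S ⊓ 𝐍(A ⊔ zpowers t) ≠ A ⊔ zpowers t → S ⊓ 𝐍(A ⊔ zpowers t) ≤ 𝐍(A) ∧
    ∀ x ∈ S ⊓ 𝐍(A ⊔ zpowers t), x * x * t ∉ A) : S = A ⊔ zpowers t := by
  by_contra hne
  have hlt := pgroup_proper_norm h.T2 (lt_of_le_of_ne h.YS (Ne.symm hne))
  obtain ⟨h1, h2⟩ := h1 hlt.ne'
  set Y := A ⊔ zpowers t with hY
  have hjN : j ∈ 𝐍(S ⊓ 𝐍(Y)) :=
    zpowers_le.1 (normsI (zpowers_le.2 h.jT) (norms_norm (zpowers_le.2 h.jY)))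
  obtain ⟨W, hW, hc⟩ := chief_factor_exists_above (L := (S ⊓ 𝐍(Y)) ⊔ zpowers j)
    (normalYl.2 (zpowers_le.2 hjN)) (sup_le inf_le_right (zpowers_le.2 h.jY)) hlt
  have hW2 : IsPGroup 2 W := h.T2.to_le (hW.trans inf_le_left)
  obtain ⟨p, n, hp, hn, e, -, hx⟩ := sol_chief_abelem' hc (pgroup_sol hW2)
  obtain rfl : p = 2 := eq_of_dvd_card_pgroup hW2 hp
    ((dvd_pow_self p hn.ne').trans (e ▸ relIndex_dvd_card _ _))
  refine hc.lt.not_ge (h.leY (le_sup_left.trans hc.le) (hW.trans inf_le_left)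
    (fun x hx' => ?_) h.jA (hc.nrm.nz (mem_sup_right (mem_zpowers j)))
    (hc.le (mem_sup_right (mem_zpowers t))) h.tnA le_sup_right)
  exact (h.memY.1 (sq x ▸ hx x hx')).resolve_right (h2 x (hW hx'))

/-- All elements of `A t` are conjugate to `t`. -/
theorem all_conj {N : Subgroup G} (hN : ∀ g ∈ N, g * t * g⁻¹ ∈ A ⊔ zpowers t)
    (hc : #|A| ≤ 𝐂[t].relIndex N) {a : G} (ha : a ∈ A) : ∃ g ∈ N, g * t * g⁻¹ = a * t := by
  have hsub : {y | ∃ g ∈ N, g * t * g⁻¹ = y} ⊆ (· * t) '' (A : Set G) := by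
    rintro _ ⟨g, hg, rfl⟩
    exact ⟨_, (h.memY.1 (hN g hg)).resolve_left (h.nA g), by simp [mul_assoc, h.t2]⟩
  have := Set.eq_of_subset_of_ncard_le hsub (by
    rw [ncard_class, Set.ncard_image_of_injective _ (mul_left_injective t)]
    exact hc)
  exact (this ▸ ⟨a, ha, rfl⟩ : a * t ∈ {y | ∃ g ∈ N, g * t * g⁻¹ = y})

theorem normA (hc : ∀ a ∈ A, ∃ g : G, g * t * g⁻¹ = a * t) : 𝐍(A ⊔ zpowers t) ≤ 𝐍(A) :=
  fun g hg => mem_normalizer_of_forall fun a ha => by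
    refine (h.memY.1 ((memJ_norm hg).2 (mem_sup_left ha))).resolve_right fun hm => ?_
    obtain ⟨c, e⟩ := hc _ hm
    rw [mul_assoc _ t t, h.t2, mul_one] at e
    exact h.nA (g⁻¹ * c) (by
      rw [show g⁻¹ * c * t * (g⁻¹ * c)⁻¹ = g⁻¹ * (c * t * c⁻¹) * g by group, e]
      simpa [mul_assoc] using ha)

theorem cardP1 (b : ∀ x ∈ P, x * x = 1) : #|P| = 2 * q := by
  rw [card_two h.VP h.tP h.tV fun x hx => h.om x hx (b x hx), h.sing.card]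

/-- In the elementary case a conjugate of `t` is not a square in `C(V)`. -/
theorem not_sq (b : ∀ x ∈ P, x * x = 1) {g x : G} (hx : x ∈ 𝐂(V)) : g * t * g⁻¹ ≠ x * x :=
  fun e => by
  obtain ⟨c, -, e1, hP⟩ := h.conj_into (g := g) (x := x) (e ▸ mul_mem hx hx)
    ⟨mem_cent1.2 (by rw [e, mul_assoc]), hx⟩ (k := 2) (by
      rw [show x ^ 2 ^ 2 = x * x * (x * x) by rw [show 2 ^ 2 = 2 + 2 by rfl, pow_add, sq], ← e, conj_mul, h.t2]; simp)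
  have := b _ hP
  rw [conj_mul, ← e, e1] at this
  exact h.t1 this

theorem eqY1 (b : ∀ x ∈ P, x * x = 1) : S = A ⊔ zpowers t := by
  refine h.eqY fun hne => ?_
  set Y := A ⊔ zpowers t with hY
  have hYN : Y ≤ S ⊓ 𝐍(Y) := le_inf h.YS (normG Y)
  obtain ⟨x, hx, hx'⟩ := SetLike.exists_of_lt (lt_of_le_of_ne hYN hne.symm)
  have hq := h.card_ge inf_le_left hYN inf_le_right h.jY
    (zpowers_le.1 (normsI (zpowers_le.2 h.jT) (norms_norm (zpowers_le.2 h.jY))))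
    (mem_sup_right (mem_zpowers t)) hx hx'
  have hc : #|A| ≤ 𝐂[t].relIndex (S ⊓ 𝐍(Y)) := by
    have h1 := BW.card_mul_relIndex' (S ⊓ 𝐍(Y)) 𝐂[t]
    have h2 := card_mul_relIndex hYN
    have h3 : S ⊓ 𝐍(Y) ⊓ 𝐂[t] = P := le_antisymm (fun x hx => h.memP hx.1.1 hx.2)
      (le_inf (h.PY.trans hYN) h.Pt)
    rw [h3, h.cardP1 b, ← h2, hY, h.cardY] at h1
    have h4 := h.sing.q4
    nlinarith [Nat.mul_le_mul_left (#|A|) hq]
  have hall := fun a ha => h.all_conj (N := S ⊓ 𝐍(Y))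
    (fun g hg => (memJ_norm hg.2).2 (mem_sup_right (mem_zpowers t))) hc (a := a) ha
  refine ⟨inf_le_right.trans (h.normA fun a ha => (hall a ha).imp fun g hg => hg.2),
    fun x hx hm => ?_⟩
  obtain ⟨g, -, e⟩ := hall _ hm
  rw [mul_assoc _ t t, h.t2, mul_one] at e
  exact h.not_sq b (h.TV hx.1) e

end EA

end Cfsg.Agent.ZD
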