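import Cfsg.Agent.Lib.ZD.E2

/-! Row E of `docs/ZD_PLAN.md`, part 3: step E3, the cases with a cyclic top. -/

open Subgroup MulAction
open scoped commutatorElement

namespace Cfsg.Agent.ZD

open FT Tr E

set_option linter.unusedSectionVars false

universe u

variable {G : Type u} [Group G] {t j : G} {V P T S A B C : Subgroup G} {q : ℕ}

namespace EA

variable [Finite G] (h : EA t V P S A j q)
include h

theorem memS {x : G} : x ∈ S ↔ x ∈ A ∨ x * t ∈ A := by rw [← h.memY, ← h.eqS]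

theorem SA : S ≤ 𝐍(A) := by
  nth_rw 1 [h.eqS]; exact sup_le (normG A) (zpowers_le.2 h.tA)

theorem SH : S ≤ 𝐍(V) ⊓ 𝐍(S) := le_inf (h.TV.trans (cent_sub V)) (normG S)

theorem comm_mem {g s : G} (hS : g ∈ 𝐍(S)) (hA : g ∈ 𝐍(A)) (hs : s ∈ S) :
    s * g * s⁻¹ * g⁻¹ ∈ A := by
  rw [show s * g * s⁻¹ * g⁻¹ = s * (g * s⁻¹ * g⁻¹) by group]
  by_cases c : s ∈ A
  · exact mul_mem c ((memJ_norm hA).2 (inv_mem c))
  · exact h.mul_out (h.eqS ▸ hs) (h.eqS ▸ (memJ_norm hS).2 (inv_mem hs)) c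
      fun c' => c (inv_mem_iff.1 ((memJ_norm hA).1 c'))

theorem commA {g : G} (hS : g ∈ 𝐍(S)) (hA : g ∈ 𝐍(A)) : ⁅S, zpowers g⁆ ≤ A :=
  commg_cycle_le hA fun _ hs => h.comm_mem hS hA hs

theorem eqA : A = ⁅S, zpowers j⁆ := le_antisymm (fun _ ha =>
  (h.split1 le_rfl h.jT (h.AS ha)).resolve_right fun c => h.not_t ha (h.commA h.jT h.jA c))
  (h.commA h.jT h.jA)

theorem memC {T : Subgroup G} (hT : IsPGroup 2 T) (hS : S ≤ T) {x : G} (hx : x ∈ T)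
    (hc : x ∈ 𝐂(V)) : x ∈ S :=
  h.syl.eq_of_le (Q := T ⊓ 𝐂(V)) hT.to_inf_left (le_inf hS h.TV) inf_le_right ▸ mem_inf.2 ⟨hx, hc⟩

theorem mem_of_parts {X : Subgroup G} (hX : S ≤ X) {y : G} (hy : y ∈ 𝐂(V) ⊓ 𝐍(S))
    (ho : ∀ n : ℕ, Odd (orderOf (y ^ n)) → y ^ n ∈ X) : y ∈ X := by
  obtain ⟨k, b, hb, e⟩ := Nat.exists_eq_two_pow_mul_odd (orderOf_pos y).ne'
  refine mem_of_pow (ho (2 ^ k) (hb.of_dvd_nat (orderOf_dvd_of_pow_eq_one ?_))) (n := b) (hX ?_)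
    (Nat.Coprime.pow_left k (Nat.coprime_two_left.2 hb))
  · rw [← pow_mul, ← e, pow_orderOf_eq_one]
  · exact h.syl.le_of_le_normalizer' (isPGroup_zpowers (k := k) (by
      rw [← pow_mul, mul_comm, ← e, pow_orderOf_eq_one])) (zpowers_le.2 (pow_mem hy.1 b))
      (zpowers_le.2 (pow_mem hy.2 b)) (mem_zpowers _)

theorem maxH {S₁ : Subgroup G} (h1 : SylowIn 2 S₁ (𝐍(V) ⊓ 𝐍(S))) (T : Subgroup G)
    (hT : IsPGroup 2 T) (hle : S₁ ≤ T) (hn : T ≤ 𝐍(S₁) ⊓ 𝐍(V)) : T = S₁ := by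
  have hS : S ≤ S₁ := h1.le_of_le_normalizer h.T2 h.SH (h1.le.trans inf_le_right)
  have e : S₁ ⊓ 𝐂(V) = S := le_antisymm (fun x hx => h.memC h1.isPGroup hS hx.1 hx.2)
    (le_inf hS h.TV)
  exact h1.eq_of_le hT hle (le_inf (hn.trans inf_le_right) (e ▸ normsI (hn.trans inf_le_left)
    (norms_cent (hn.trans inf_le_right))))

theorem dec_of_sc {g : G} (hg : g ∈ 𝐍(V) ⊓ 𝐍(S)) (hs : Sc V j (g * j * g⁻¹)) :
    ∃ n ∈ 𝐂(V) ⊓ 𝐍(S), n * t * n⁻¹ = g * t * g⁻¹ := by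
  obtain ⟨i, e⟩ := hs
  have hC : 𝐍(S) ≤ 𝐍(𝐂(S)) := cent_norm S
  have hjN : j ∈ 𝐍(𝐂(V) ⊓ 𝐍(S)) := zpowers_le.1 (normsI
    (zpowers_le.2 (cent_norm V h.jV)) (norms_norm (zpowers_le.2 h.jT)))
  have hj1 : g * j * g⁻¹ ∈ 𝐍(S) := mul_mem (mul_mem hg.2 h.jT) (inv_mem hg.2)
  have hy : g * j * g⁻¹ * (j ^ i)⁻¹ ∈ 𝐂(V) ⊓ 𝐍(S) := mem_inf.2 ⟨mem_cent.2 fun v hv => by
    have := e _ ((memJ_norm' (pow_mem h.jV i)).2 hv)
    calc v * (g * j * g⁻¹ * (j ^ i)⁻¹)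
        = j ^ i * ((j ^ i)⁻¹ * v * j ^ i) * (j ^ i)⁻¹ * (g * j * g⁻¹ * (j ^ i)⁻¹) := by group
      _ = _ := by rw [← this]; group, mul_mem hj1 (inv_mem (pow_mem h.jT i))⟩
  have hn := zpowers_le.2 (cst_mem_norm (N := 𝐂(S)) hjN)
  obtain ⟨k, hk, hle⟩ := SchurZassenhaus_sub (A := zpowers (cst 𝐂(S) (g * j * g⁻¹)))
    (norm_joinEr hn) (sup_le (normG _) hn) (zpowers_le.2 (by
      rw [show g * j * g⁻¹ = g * j * g⁻¹ * (j ^ i)⁻¹ * j ^ i by group,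
        cst_mul (hC hy.2) (hC (pow_mem h.jT i)), cst_pow (hC h.jT)]
      exact mul_mem_sup (mem_quotient _ hy) (pow_mem (mem_zpowers _) i)))
    (by
      have := h.cop_N
      rwa [Nat.card_zpowers, cst_conj (hC hg.2) (hC h.jT), orderOf_conj, ← Nat.card_zpowers])
    (Or.inl (solZ _))
  obtain ⟨n, hn', hn2, rfl⟩ := mem_qt.1 hk
  obtain ⟨m, e'⟩ := mem_powers_iff_mem_zpowers.2 (mem_cj.1 (hle (mem_zpowers _)))
  simp only at e'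
  rw [← cst_pow (hC h.jT), ← cst_conj' hn2 (hC hj1), cst_eq_iff (hC (pow_mem h.jT m))
    (mul_mem (mul_mem (inv_mem hn2) (hC hj1)) hn2)] at e'
  have e2 := conj_eq_of_cent e' h.tT
  rw [h.jtn] at e2
  refine ⟨n, hn', ?_⟩
  rcases h.fix (n := 1) (by simpa using h.j1) ((memJ_norm' hg.2).2 ((memJ_norm hn'.2).2 h.tT)) (by
    rw [pow_one]
    refine mul_inv_eq_iff_eq_mul.1 ?_
    nth_rw 2 [← e2]; group) with a | a
  · refine absurd ?_ h.t1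
    calc t = n⁻¹ * g * (g⁻¹ * (n * t * n⁻¹) * g) * g⁻¹ * n := by group
      _ = 1 := by rw [a]; group
  · nth_rw 2 [← a]; group

theorem end1 (hA : 𝐍(V) ⊓ 𝐍(S) ≤ 𝐍(A)) (hs : ∀ g ∈ 𝐍(V) ⊓ 𝐍(S), Sc V j (g * j * g⁻¹)) :
    False := by
  set H := 𝐍(V) ⊓ 𝐍(S) with hH
  have hPH : P ≤ H ⊓ 𝐂[t] := le_inf (h.PT.trans h.SH) h.Pt
  obtain ⟨T, hT, hPT⟩ := exists_sylowIn_ge h.p2 hPH
  have hTH : T ≤ H := hT.le.trans inf_le_left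
  have hTS : T ≤ 𝐍(S) := hTH.trans inf_le_right
  have hNH : 𝐂(V) ⊓ 𝐍(S) ≤ H := inf_le_inf_right _ (cent_sub V)
  have h1 : SylowIn 2 (S ⊔ T) H := by
    refine ⟨sup_le h.SH hTH, isPGroup_sup h.T2 hT.isPGroup hTS, fun hd => ?_⟩
    have m1 : MulEq (𝐂(V) ⊓ 𝐍(S)) (H ⊓ 𝐂[t]) H := mulEq_of_forall hNH inf_le_left fun g hg => by
      obtain ⟨n, hn, e⟩ := h.dec_of_sc hg (hs g hg)
      refine ⟨n, hn, n⁻¹ * g, mem_inf.2 ⟨mul_mem (inv_mem (hNH hn)) hg, cent1_conj.2 ?_⟩, by group⟩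
      rw [show n⁻¹ * g * t * (n⁻¹ * g)⁻¹ = n⁻¹ * (g * t * g⁻¹) * n by group, ← e]; group
    have c1 := m1.card
    have c2 := card_join_norm hTS
    have e1 : S ⊓ T = P := le_antisymm (fun x hx => h.memP hx.1 (hT.le hx.2).2) (le_inf h.PT hPT)
    have hPN : P ≤ 𝐂(V) ⊓ 𝐍(S) ⊓ (H ⊓ 𝐂[t]) := le_inf (le_inf h.PV (normsG h.PT)) hPH
    have hSN : S ≤ 𝐂(V) ⊓ 𝐍(S) := le_inf h.TV (normG S)
    rw [← card_mul_relIndex hSN, ← card_mul_relIndex hT.le, ← card_mul_relIndex hPN,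
      ← card_mul_relIndex (sup_le h.SH hTH)] at c1
    rw [e1] at c2
    have c3 : (S.relIndex (𝐂(V) ⊓ 𝐍(S))) * T.relIndex (H ⊓ 𝐂[t]) =
        (S ⊔ T).relIndex H * P.relIndex (𝐂(V) ⊓ 𝐍(S) ⊓ (H ⊓ 𝐂[t])) := by
      refine Nat.eq_of_mul_eq_mul_left (Nat.mul_pos (Nat.card_pos (α := S))
        (Nat.card_pos (α := T))) ?_
      nth_rw 2 [← c2]; linarith
    rcases (Nat.Prime.dvd_mul Nat.prime_two).1 (c3 ▸ hd.mul_right _) with a | a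
    · exact (h.syl.mono hSN inf_le_left).not_dvd a
    · exact hT.not_dvd a
  have hSS : S ≤ S ⊔ T := le_sup_left
  obtain ⟨a, ha⟩ := h.exq
  obtain ⟨Γ, _, _, _, ρ, -, hρ, -⟩ := gal G V H j a (ha ▸ h.sing) inf_le_left hs
  have hker : ∀ x : H, x.1 ∈ S ⊔ T → ρ x = 1 → x.1 ∈ S := fun x hx e => by
    obtain ⟨n, e'⟩ := (hρ x).1 e
    obtain ⟨k, hk⟩ := isPGroup_iff_forall_mem.1 h1.isPGroup _ hx
    have c : (j ^ n)⁻¹ * x.1 ∈ 𝐂(V) := mem_cent.2 fun v hv => by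
      calc v * ((j ^ n)⁻¹ * x.1) = (j ^ n)⁻¹ * (j ^ n * v * (j ^ n)⁻¹) * x.1 := by group
        _ = _ := by rw [← e' v hv]; group
    have c2 := pow_cent (pow_mem h.jV n) c (2 ^ k)
    rw [hk, mul_one, inv_mem_iff] at c2
    exact h.memC h1.isPGroup hSS hx (by simpa using mul_mem (mem_of_odd (odd_pow h.jodd n) c2) c)
  obtain ⟨γ, hγ⟩ := IsCyclic.exists_generator (α := ((S ⊔ T).subgroupOf H).map ρ)
  obtain ⟨x₀, hx₀, e₀⟩ := γ.2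
  have hx₀' : x₀.1 ∈ S ⊔ T := hx₀
  have hcen : ∀ u ∈ S, ∀ g ∈ H, cst A u * cst A g = cst A g * cst A u := fun u hu g hg =>
    (commute_cst (h.SA hu) (hA hg)).2 (h.comm_mem hg.2 (hA hg) hu)
  have hdec : ∀ x ∈ S ⊔ T, ∃ i : ℤ, ∃ u ∈ S, cst A x = cst A x₀.1 ^ i * cst A u := fun x hx => by
    obtain ⟨i, e⟩ := hγ ⟨ρ ⟨x, h1.le hx⟩, ⟨x, h1.le hx⟩, hx, rfl⟩
    have e' : ρ x₀ ^ i = ρ ⟨x, h1.le hx⟩ := by rw [e₀]; exact congrArg Subtype.val e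
    refine ⟨i, _, hker ((x₀ ^ i)⁻¹ * ⟨x, h1.le hx⟩) (mul_mem (inv_mem (zpow_mem hx₀' i)) hx)
      (by rw [map_mul, map_inv, map_zpow, e', inv_mul_cancel]), ?_⟩
    rw [← cst_zpow (hA x₀.2), ← cst_mul (zpow_mem (hA x₀.2) i) (hA (Subtype.prop _))]
    simp
  refine h.fin (S ⊔ T) A h1.isPGroup (h.VT.trans hSS) (hSS h.tT) (h.maxH h1)
    (commg_le.2 fun x hx y hy => ?_) h.tnA fun g hg => ?_
  · rw [← commute_cst (hA (h1.le hx)) (hA (h1.le hy))]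
    obtain ⟨i, u, hu, e1⟩ := hdec x hx
    obtain ⟨k, w, hw, e2⟩ := hdec y hy
    have c1 : Commute (cst A u) (cst A y) := hcen u hu y (h1.le hy)
    have c2 : Commute (cst A w) (cst A x₀.1) := hcen w hw _ x₀.2
    rw [e1]
    refine (Commute.mul_left ?_ c1).eq
    rw [e2]
    exact ((Commute.refl _).zpow_zpow i k).mul_right (c2.symm.zpow_left i)
  · obtain ⟨a, ha, τ, hτ, e⟩ : ∃ a ∈ A, ∃ τ ∈ T, a * τ = g * t * g⁻¹ := by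
      obtain ⟨u, hu, τ, hτ, e⟩ := (mem_join_norm hTS).1 hg
      rcases h.memS.1 hu with c | c
      · exact ⟨u, c, τ, hτ, e⟩
      · exact ⟨_, c, t * τ, mul_mem (hPT h.tP) hτ, by
          rw [mul_assoc, ← mul_assoc t, h.t2, one_mul, e]⟩
    have s2 : a * τ * (a * τ) = 1 := by rw [e, conj_mul, h.t2]; simp
    have hτA := hA (hTH hτ)
    have hτt := (hT.le hτ).2
    have h2 : τ * τ ∈ A := by
      have : τ * τ = (a * (τ * a * τ⁻¹))⁻¹ * (a * τ * (a * τ)) := by group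
      rw [this, s2, mul_one]; exact inv_mem (mul_mem ha ((memJ_norm hτA).2 ha))
    have hC : g * t * g⁻¹ ∈ 𝐂(V) := e ▸ mul_mem (h.AV ha) (h.four (A ⊓ P) inf_le_right
      (fun c => h.tnA c.1) (fun x hx => (h.PA hx).imp (fun c => ⟨c, hx⟩)
        fun c => ⟨c, mul_mem hx h.tP⟩) τ ⟨hτt, (hTH hτ).1⟩
      (zpowers_le.1 (normsI (zpowers_le.2 hτA) (zpowers_le.2 (h.normP (hTS hτ) hτt))))
      ⟨h2, h.memP (h.AS h2) (mul_mem hτt hτt)⟩)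
    exact ⟨hC, (h.memS.1 (h.memC h1.isPGroup hSS hg hC)).resolve_left (h.nA g)⟩

theorem end3 (b : EB3 t V P j q) : False := by
  have hA : 𝐍(V) ⊓ 𝐍(S) ≤ 𝐍(A) := fun g hg => h.normY b (h.eqS ▸ hg.2) hg.1
  refine h.end1 hA fun g hg => h.sing.cent (mul_mem (mul_mem hg.1 h.jV) (inv_mem hg.1))
    fun v hv => ?_
  by_cases v1 : v = 1
  · simp [v1]
  obtain ⟨x, hx, u, hu, rfl⟩ : ∃ x ∈ A, ∃ u ∈ A ⊓ P, ⁅x, u⁆ = v := by
    obtain ⟨x, hx, y, hy, hc⟩ := b.nab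
    have lift : ∀ u ∈ P, ∃ u' ∈ A ⊓ P, ∀ z ∈ P, Commute u' z → Commute u z := fun u hu =>
      (h.PA hu).elim (fun a => ⟨u, ⟨a, hu⟩, fun _ _ c => c⟩) fun a =>
        ⟨u * t, ⟨a, mul_mem hu h.tP⟩, fun z hz c => by
          have := c.mul_left (Commute.symm (mem_cent1.1 (h.Pt hz) : Commute z t))
          rwa [mul_assoc, h.t2, mul_one] at this⟩
    obtain ⟨x', hx', e1⟩ := lift x hx
    obtain ⟨y', hy', e2⟩ := lift y hy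
    obtain ⟨n, e⟩ := h.sing.tr _ (h.comm hx'.2 hy'.2) (fun c => hc (e2 x hx (e1 y' hy'.2
      (commutatorElement_eq_one_iff_mul_comm.1 c)).symm).symm) v hv v1
    exact ⟨_, (memJ_norm (pow_mem h.jA n)).2 hx'.1, _, ⟨(memJ_norm (pow_mem h.jA n)).2 hy'.1,
      (memJ_norm (pow_mem h.jP n)).2 hy'.2⟩, by rw [← conjugate_commutatorElement, e]⟩
  obtain ⟨m, hm⟩ := h.nil
  have cB : ∀ c ∈ 𝐍(A), ∀ u, (∀ y ∈ A, ⁅y, u⁆ * ⁅y, u⁆ = 1) →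
      ∀ y ∈ A, ⁅y, c * u * c⁻¹⁆ * ⁅y, c * u * c⁻¹⁆ = 1 := fun c hc u hu y hy => by
    have := hu _ ((memJ_norm' hc).2 hy)
    rw [show y = c * (c⁻¹ * y * c) * c⁻¹ by group, ← conjugate_commutatorElement, conj_mul, this]
    simp
  have hB : ∀ y ∈ A, ⁅y, u⁆ * ⁅y, u⁆ = 1 := fun y hy => by
    rw [← h.sq_comm hy hu.1]
    exact commutatorElement_eq_one_iff_mul_comm.2 (mem_cent.1 (h.AV hy) _ (h.sqP u hu.2)).symm
  have r : ∀ x ∈ A, j * ⁅x, u⁆ * j⁻¹ = ⁅x, j * (j * u * j⁻¹) * j⁻¹⁆ := fun x hx => by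
    rw [conjugate_commutatorElement,
      VT.part4 hm ((memJ_norm h.jA).2 hu.1) (cB j h.jA u hB) hx]
  have l : ∀ u ∈ A, (∀ y ∈ A, ⁅y, u⁆ * ⁅y, u⁆ = 1) → g * j * g⁻¹ * ⁅x, u⁆ * (g * j * g⁻¹)⁻¹ =
      ⁅g * (j ^ 2 * (g⁻¹ * x * g) * (j ^ 2)⁻¹) * g⁻¹, u⁆ := fun u hu hB => by
    have hg' := inv_mem (hA hg)
    have := h.bl2 ((memJ_norm hg').2 hu) (cB _ hg' u hB) ((memJ_norm' (hA hg)).2 hx)
    rw [show u = g * (g⁻¹ * u * g⁻¹⁻¹) * g⁻¹ by group, ← conjugate_commutatorElement, this]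
    simp only [commutatorElement_def]; group
  rw [r x hx, l _ ((memJ_norm h.jA).2 ((memJ_norm h.jA).2 hu.1))
    (cB j h.jA _ (cB j h.jA u hB)), l u hu.1 hB, r _ ((memJ_norm (hA hg)).2
      ((memJ_norm (pow_mem h.jA 2)).2 ((memJ_norm' (hA hg)).2 hx)))]

theorem sc_of {g : G} (hg : g ∈ S ⊔ 𝐍(V) ⊓ 𝐍(S) ⊓ 𝐂[t]) : Sc V j (g * j * g⁻¹) := by
  obtain ⟨s, hs, c, hc, rfl⟩ := (mem_join_norm (inf_le_left.trans inf_le_right)).1 hg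
  obtain ⟨n, e⟩ := h.nj c ⟨hc.2, hc.1.1⟩
  refine ⟨n, fun v hv => ?_⟩
  have hs' := mem_cent.1 (h.TV hs)
  have e1 : s⁻¹ * v * s = v := by rw [mul_assoc, hs' v hv]; group
  calc _ = s * (c * j * c⁻¹ * (s⁻¹ * v * s) * (c * j * c⁻¹)⁻¹) * s⁻¹ := by group
    _ = _ := by rw [e1, e v hv, ← hs' _ ((memJ_norm (pow_mem h.jV n)).2 hv)]; group

theorem end1a (b : ∀ x ∈ P, x * x = 1) (hle : 𝐍(V) ⊓ 𝐍(S) ≤ S ⊔ 𝐍(V) ⊓ 𝐍(S) ⊓ 𝐂[t]) : False := by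
  refine h.end1 (hle.trans (sup_le h.SA fun c hc => ?_)) fun g hg => h.sc_of (hle hg)
  obtain ⟨i, e⟩ := h.nj c ⟨hc.2, hc.1.1⟩
  have hj1 : c * j * c⁻¹ ∈ 𝐍(S) := mul_mem (mul_mem hc.1.2 h.jT) (inv_mem hc.1.2)
  have hy : c * j * c⁻¹ * (j ^ i)⁻¹ ∈ 𝐂(V) ⊓ 𝐍(S) := mem_inf.2 ⟨mem_cent.2 fun v hv => by
    have := e _ ((memJ_norm' (pow_mem h.jV i)).2 hv)
    calc v * (c * j * c⁻¹ * (j ^ i)⁻¹)
        = j ^ i * ((j ^ i)⁻¹ * v * j ^ i) * (j ^ i)⁻¹ * (c * j * c⁻¹ * (j ^ i)⁻¹) := by group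
      _ = _ := by rw [← this]; group, mul_mem hj1 (inv_mem (pow_mem h.jT i))⟩
  have hjt : j ∈ 𝐂[t] := mem_cent1.2 h.jt.eq
  have hyt : c * j * c⁻¹ * (j ^ i)⁻¹ ∈ 𝐂[t] :=
    mul_mem (mul_mem (mul_mem hc.2 hjt) (inv_mem hc.2)) (inv_mem (pow_mem hjt i))
  have hyA := h.mem_of_parts h.SA hy fun n ho => cent_sub A (centS h.AS (h.axb ho
    (mem_cent.2 fun x hx => ?_) (pow_mem hy.2 n)))
  · have hA : c * j * c⁻¹ ∈ 𝐍(A) := by simpa using mul_mem hyA (pow_mem h.jA i)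
    refine mem_normalizer_of_cj_le ?_
    nth_rw 1 [h.eqA]
    rw [cj_commutator, cj_eq_of_mem_normalizer hc.1.2, cj_zpowers]
    exact h.commA hj1 hA
  · refine mem_cent1.1 (?_ : x ∈ 𝐂[_])
    rcases h.om x hx (b x hx) with a | a
    · exact cent1C.1 (cent_le_cent1 a (pow_mem hy.1 n))
    · exact (mul_mem_cancel_right (cent1C.1 (pow_mem hyt n))).1
        (cent1C.1 (cent_le_cent1 a (pow_mem hy.1 n)))

/-- In the elementary case, either one class or all of `A t`. -/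
theorem dich (b : ∀ x ∈ P, x * x = 1) {a : G} (ha : a ∈ A) :
    ∃ g ∈ 𝐍(V) ⊓ 𝐍(S), g * t * g⁻¹ = a * t := by
  set H := 𝐍(V) ⊓ 𝐍(S) with hH
  obtain ⟨g, hg, hg'⟩ := SetLike.not_le_iff_exists.1 (h.end1a b)
  have hjH : j ∈ H := ⟨h.jV, h.jT⟩
  have hn : H ⊓ 𝐂[t] ≤ 𝐍(S) := inf_le_left.trans inf_le_right
  have hM : S ⊔ H ⊓ 𝐂[t] ≤ H := sup_le h.SH inf_le_left
  have hjM : j ∈ S ⊔ H ⊓ 𝐂[t] := mem_sup_right ⟨hjH, mem_cent1.2 h.jt.eq⟩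
  have hq := coset_count (M := S ⊔ H ⊓ 𝐂[t]) (H := H) (fun i => j ^ i * g) (q - 1)
    (fun i => mul_mem (pow_mem hjH i) hg) (fun i hi => hg' ((mul_mem_cancel_left (pow_mem hjM i)).1 hi))
    fun a b hab hb hm => by
      obtain ⟨n, rfl⟩ := Nat.exists_eq_add_of_lt hab
      have hn' : j ^ (n + 1) ∉ 𝐂(V) := fun hc => by
        have := Nat.le_of_dvd n.succ_pos (h.sing.pow_mem.1 hc); omega
      have h1 : g⁻¹ * j ^ (n + 1) * g ∈ S ⊔ H ⊓ 𝐂[t] := by convert hm using 1; group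
      obtain ⟨k, hk, hle⟩ := SchurZassenhaus_sub (norm_joinEr hn) (sup_le (normG _) hn)
        (zpowers_le.2 h1) (cop h.T2 (by rw [orderOf_conj']; exact odd_pow h.jodd _))
        (Or.inl (solZ _))
      have e := cent1_conj.1 (mem_cj.1 (hle (mem_zpowers _))).2
      rcases h.fix hn' ((memJ_norm hg.2).2 ((memJ_norm (normG S hk)).2 h.tT)) (by
        refine mul_inv_eq_iff_eq_mul.1 ?_
        nth_rw 2 [← e]; group) with c | c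
      · exact h.t1 (by simpa using c)
      · refine hg' ((mul_mem_cancel_right (mem_sup_left hk)).1 (mem_sup_right
          ⟨mul_mem hg (h.SH hk), cent1_conj.2 ?_⟩))
        nth_rw 2 [← c]; group
  refine h.all_conj (N := H) (fun g hg => h.eqS ▸ (memJ_norm hg.2).2 h.tT) ?_ ha
  have c1 := relIndex_mul_relIndex _ _ _ (le_sup_right : H ⊓ 𝐂[t] ≤ S ⊔ H ⊓ 𝐂[t]) hM
  rw [index_join_right hn, inf_relIndex_left] at c1
  have c2 := BW.card_mul_relIndex' S (H ⊓ 𝐂[t])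
  have c3 : S ⊓ (H ⊓ 𝐂[t]) = P := le_antisymm (fun x hx => h.memP hx.1 hx.2.2)
    (le_inf h.PT (le_inf (h.PT.trans h.SH) h.Pt))
  have c4 : #|S| = 2 * #|A| := h.cardY ▸ congrArg (fun X : Subgroup G => #|X|) h.eqS
  rw [c3, h.cardP1 b, c4] at c2
  have h4 := h.sing.q4
  rw [← c1]
  nlinarith [Nat.mul_le_mul_left ((H ⊓ 𝐂[t]).relIndex S) (show q ≤ _ from by omega : q ≤ (S ⊔ H ⊓ 𝐂[t]).relIndex H)]

end EA

end Cfsg.Agent.ZD
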