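import Cfsg.Agent.Lib.ZD.E3
import Cfsg.Agent.Lib.ZD.Z3
import Cfsg.Agent.Lib.ZD.A4

/-! Row E of `docs/ZD_PLAN.md`, part 4: the case of `q` classes. -/

open Subgroup MulAction
open scoped commutatorElement

namespace Cfsg.Agent.ZD

open FT Tr E

set_option linter.unusedSectionVars false

universe u

variable {G : Type u} [Group G] {t j : G} {V P T S A B C : Subgroup G} {q : ℕ}

theorem E.exists_L {X : Type*} [Group X] {U : Subgroup X} {y τ : X} (hU : ∀ u ∈ U, u * u = 1)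
    (hy : y ∈ 𝐍(U)) (y2 : y * y = 1) (hτ : ∀ u ∈ U, u * y * (u * y) ≠ τ) :
    ∃ L : Subgroup X, τ ∉ L ∧ ∀ x z, (x ∈ U ∨ x * y ∈ U) → (z ∈ U ∨ z * y ∈ U) →
      x * z * x⁻¹ * z⁻¹ ∈ L := by
  have inv : ∀ u ∈ U, u⁻¹ = u := fun u hu => inv_eq_of_mul_eq_one_right (hU u hu)
  have cm : ∀ u ∈ U, ∀ w ∈ U, u * w = w * u := fun u hu w hw => by
    rw [← inv _ (mul_mem hu hw), mul_inv_rev, inv u hu, inv w hw]
  have yi : y⁻¹ = y := inv_eq_of_mul_eq_one_right y2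
  have cy : ∀ u ∈ U, y * u * y⁻¹ ∈ U := fun u hu => (memJ_norm hy).2 hu
  let L : Subgroup X :=
    { carrier := {x | ∃ u ∈ U, x = u * (y * u * y⁻¹)}
      one_mem' := ⟨1, one_mem _, by simp⟩
      mul_mem' := by
        rintro _ _ ⟨u, hu, rfl⟩ ⟨w, hw, rfl⟩
        refine ⟨u * w, mul_mem hu hw, ?_⟩
        rw [mul_assoc u, ← mul_assoc _ w, cm _ (cy u hu) w hw]; group
      inv_mem' := by
        rintro _ ⟨u, hu, rfl⟩
        exact ⟨u, hu, inv _ (mul_mem hu (cy u hu))⟩ }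
  have dec : ∀ x, x * y ∈ U → ∃ a ∈ U, x = a * y := fun x hx =>
    ⟨_, hx, by rw [mul_assoc, y2, mul_one]⟩
  refine ⟨L, fun ⟨u, hu, e⟩ => hτ u hu (by rw [e, yi]; group), fun x z hx hz => ?_⟩
  rcases hx with hx | hx <;> rcases hz with hz | hz
  · rw [cm x hx z hz]; simp
  · obtain ⟨c, hc, rfl⟩ := dec z hz
    refine ⟨x, hx, ?_⟩
    calc _ = x * (c * (y * x⁻¹ * y⁻¹)) * c⁻¹ := by group
      _ = _ := by rw [inv x hx, cm c hc _ (cy x hx)]; group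
  · obtain ⟨c, hc, rfl⟩ := dec x hx
    refine ⟨z, hz, ?_⟩
    calc _ = c * (y * z * y⁻¹) * c⁻¹ * z⁻¹ := by group
      _ = _ := by rw [cm c hc _ (cy z hz), inv z hz, cm z hz _ (cy z hz)]; group
  · obtain ⟨a, ha, rfl⟩ := dec x hx
    obtain ⟨c, hc, rfl⟩ := dec z hz
    refine ⟨a * c, mul_mem ha hc, ?_⟩
    calc _ = a * (y * (c * a⁻¹) * y⁻¹ * c⁻¹) := by group
      _ = _ := by
        rw [inv a ha, inv c hc, cm _ (cy _ (mul_mem hc ha)) c hc, cm c hc a ha]; group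

namespace EA

variable [Finite G] (h : EA t V P S A j q)
include h

theorem alpha {g : G} (hg : g ∈ 𝐍(S)) : g * t * g⁻¹ * t ∈ A :=
  (h.memS.1 ((memJ_norm hg).2 h.tT)).resolve_left (h.nA g)

theorem cardS : #|S| = 2 * #|A| := h.cardY ▸ congrArg (fun X : Subgroup G => #|X|) h.eqS

variable (b : ∀ x ∈ P, x * x = 1)
include b

theorem invA {a : G} (ha : a ∈ A) : t * a * t⁻¹ = a⁻¹ := by
  obtain ⟨g, -, e⟩ := h.dich b ha
  have : a * t * (a * t) = 1 := by rw [← e, conj_mul, h.t2]; simp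
  rw [h.tinv]
  exact eq_inv_of_mul_eq_one_right (by rw [← this]; group)

theorem abA {a c : G} (ha : a ∈ A) (hc : c ∈ A) : Commute a c := by
  have := h.invA b (mul_mem ha hc)
  rw [← conj_mul, h.invA b ha, h.invA b hc, mul_inv_rev] at this
  exact Commute.inv_inv_iff.1 this

theorem omA {a : G} (ha : a ∈ A) (h2 : a * a = 1) : a ∈ V := by
  refine h.memV ha (h.om a (h.memP (h.AS ha) (cent1_conj'.2 ?_)) h2)
  rw [h.invA b ha, inv_eq_of_mul_eq_one_right h2]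

theorem HA : 𝐍(V) ⊓ 𝐍(S) ≤ 𝐍(A) := fun _ hg =>
  h.normA (fun _ ha => (h.dich b ha).imp fun _ hg => hg.2) (h.eqS ▸ hg.2)

theorem out {x : G} (hx : x ∈ S) (hx' : x ∉ A) : ∃ g ∈ 𝐍(V) ⊓ 𝐍(S), g * t * g⁻¹ = x := by
  obtain ⟨g, hg, e⟩ := h.dich b ((h.memS.1 hx).resolve_left hx')
  exact ⟨g, hg, by rw [e, mul_assoc, h.t2, mul_one]⟩

theorem exists_nu : ∃ ν : ℕ, (∀ a ∈ A, a ^ 2 ^ ν ∈ V) ∧ ∀ v ∈ V, ∃ a ∈ A, a ^ 2 ^ ν = v := by
  classical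
  have ex : ∃ k : ℕ, ∀ a ∈ A, a ^ 2 ^ (k + 1) = 1 := by
    obtain ⟨k, hk⟩ := IsPGroup.iff_card.1 h.A2
    refine ⟨k, fun a ha => ?_⟩
    have : a ^ 2 ^ k = 1 := by
      rw [← hk]; exact congrArg Subtype.val (pow_card_eq_one' (x := (⟨a, ha⟩ : A)))
    rw [pow_succ, pow_mul, this, one_pow]
  have h1 : ∀ a ∈ A, a ^ 2 ^ Nat.find ex ∈ V := fun a ha => h.omA b (pow_mem ha _) (by
    rw [← sq, ← pow_mul, ← pow_succ]; exact Nat.find_spec ex a ha)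
  obtain ⟨a, ha, ne⟩ : ∃ a ∈ A, a ^ 2 ^ Nat.find ex ≠ 1 := by
    rcases e : Nat.find ex with _ | m
    · obtain ⟨v, hv, v1⟩ := (V.bot_or_exists_ne_one).resolve_left h.sing.ne_bot
      exact ⟨v, h.VA hv, by simpa using v1⟩
    · have := Nat.find_min ex (m := m) (by omega)
      push Not at this
      exact this
  refine ⟨_, h1, fun v hv => ?_⟩
  by_cases v1 : v = 1
  · exact ⟨1, one_mem _, by simp [v1]⟩
  obtain ⟨n, e⟩ := h.sing.tr _ (h1 a ha) ne v hv v1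
  exact ⟨_, (memJ_norm (pow_mem h.jA n)).2 ha, by rw [conj_pow, e]⟩

theorem sq_of {ν : ℕ} (h2 : ∀ v ∈ V, ∃ a ∈ A, a ^ 2 ^ ν = v) :
    ∀ i ≤ ν, ∀ a ∈ A, a ^ 2 ^ i = 1 → ∃ c ∈ A, a = c * c := by
  intro i
  induction i with
  | zero => exact fun _ a _ e => ⟨1, one_mem _, by simpa using e⟩
  | succ i ih =>
    intro hi a ha e
    obtain ⟨k, rfl⟩ := Nat.exists_eq_add_of_le hi
    obtain ⟨c, hc, e'⟩ := h2 _ (h.omA b (pow_mem ha (2 ^ i)) (by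
      rw [← sq, ← pow_mul, ← pow_succ, e]))
    have hd : c ^ 2 ^ k ∈ A := pow_mem hc _
    obtain ⟨d, hd', e2⟩ := ih (by omega) (a * (c ^ 2 ^ k * c ^ 2 ^ k)⁻¹)
      (mul_mem ha (inv_mem (mul_mem hd hd))) (by
        rw [(h.abA b ha (inv_mem (mul_mem hd hd))).mul_pow, ← e', inv_pow, ← sq, ← pow_mul,
          ← pow_mul, mul_inv_eq_one]
        congr 1; ring)
    refine ⟨d * c ^ 2 ^ k, mul_mem hd' hd, ?_⟩
    rw [(h.abA b hd' hd).symm.mul_mul_mul_comm, ← e2]; group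

theorem zz : q = 8 ∧ (∀ g ∈ 𝐍(V) ⊓ 𝐍(S) ⊓ 𝐂[t], g * g ∈ 𝐂(V) → g ∈ 𝐂(V)) ∧
    (∀ y ∈ 𝐍(V) ⊓ 𝐍(S), y ∉ 𝐂(V) → y * y ∈ 𝐂(V) → ∃ P', 𝐍(V) ⊓ 𝐍(S) ⊓ 𝐂(V) ≤ P' ∧
      P' ≤ 𝐍(V) ⊓ 𝐍(S) ∧ (𝐂(V)).relIndex P' = 8 ∧ y ∈ P' ∧ ∀ x ∈ P', ⁅x, y⁆ ∈ 𝐂(V)) ∧
    ∀ S₁, SylowIn 2 S₁ (𝐍(V) ⊓ 𝐍(S)) → ∃ O, S₁ ⊓ 𝐂(V) ≤ O ∧ O ≤ S₁ ∧ O.relIndex S₁ = 2 ∧
      (∀ x ∈ O, x * x ∈ 𝐂(V)) ∧ ∃ y ∈ S₁, y ∉ O ∧ y * y ∈ 𝐂(V) := by
  obtain ⟨ν, h1, h2⟩ := h.exists_nu b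
  set H := 𝐍(V) ⊓ 𝐍(S) with hH
  let δ : G → G := fun g => (g * t * g⁻¹ * t) ^ 2 ^ ν
  have dV : ∀ g ∈ H, δ g ∈ V := fun g hg => h1 _ (h.alpha hg.2)
  have dm : ∀ g ∈ H, ∀ g' ∈ H, δ (g * g') = δ g * (g * δ g' * g⁻¹) := fun g hg g' hg' => by
    have c := h.abA b (h.alpha hg.2) ((memJ_norm (h.HA b hg)).2 (h.alpha hg'.2))
    simp only [δ]
    rw [← conj_pow, ← c.mul_pow, c.eq]
    congr 1
    calc _ = g * (g' * t * g'⁻¹ * (t * t)) * g⁻¹ * t := by rw [h.t2]; group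
      _ = _ := by group
  have d1 : ∀ g ∈ 𝐂[t], δ g = 1 := fun g hg => by
    simp only [δ]; rw [cent1_conj.1 hg, h.t2, one_pow]
  have dX : ∀ g ∈ H, δ g = 1 → g ∈ S ⊔ H ⊓ 𝐂[t] := fun g hg e => by
    obtain ⟨c, hc, e'⟩ := h.sq_of b h2 ν le_rfl _ (h.alpha hg.2) e
    refine (mul_mem_cancel_left (mem_sup_left (inv_mem (h.AS hc)))).1 (mem_sup_right
      (mem_inf.2 ⟨mul_mem (inv_mem (h.SH (h.AS hc))) hg, cent1_conj.2 ?_⟩))
    calc _ = c⁻¹ * (g * t * g⁻¹ * t) * t⁻¹ * c := by group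
      _ = t⁻¹ * (t * c * t⁻¹) * c := by rw [e']; group
      _ = _ := by rw [h.invA b hc, h.tinv]; group
  have dS : ∀ g ∈ S ⊔ H ⊓ 𝐂[t], δ g = 1 := fun g hg => by
    obtain ⟨s, hs, c, hc, rfl⟩ := (mem_join_norm (inf_le_left.trans inf_le_right)).1 hg
    rw [dm s (h.SH hs) c hc.1, d1 c hc.2]
    have : ∀ a ∈ A, δ a = 1 := fun a ha => by
      simp only [δ]
      rw [show a * t * a⁻¹ * t = a * (t * a⁻¹ * t⁻¹) by rw [h.tinv]; group, h.invA b (inv_mem ha),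
        inv_inv, (Commute.refl a).mul_pow, h.sing.two _ (h1 a ha)]
    rcases h.memS.1 hs with c | c
    · simp [this s c]
    · have e := dm _ (h.SH (h.AS c)) t (h.SH h.tT)
      rw [mul_assoc, h.t2, mul_one, this _ c, d1 t (mem_cent1.2 rfl)] at e
      simp [e]
  obtain ⟨z0, z1, z2, z3⟩ := zrow G V H j q δ h.sing inf_le_left ⟨h.jV, h.jT⟩
    (d1 j (mem_cent1.2 h.jt.eq)) dV dm (fun v hv => by
      obtain ⟨a, ha, e⟩ := h2 v hv
      obtain ⟨g, hg, e'⟩ := h.dich b ha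
      exact ⟨g, hg, by simp only [δ]; rw [e', mul_assoc, h.t2, mul_one, e]⟩)
    (fun g hg hc => dS g (h.mem_of_parts le_sup_left (mem_inf.2 ⟨hc, hg.2⟩) fun n ho => by
      refine dX _ (pow_mem hg n) ?_
      set y := g ^ n
      have hy : y ∈ H := pow_mem hg n
      have hyc : y ∈ 𝐂(V) := pow_mem hc n
      have hp : ∀ m : ℕ, δ (y ^ m) = δ y ^ m := fun m => by
        induction m with
        | zero => simpa using d1 1 (one_mem _)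
        | succ m ih =>
          rw [pow_succ', dm y hy _ (pow_mem hy m), ← mem_cent.1 hyc _ (dV _ (pow_mem hy m)), ih,
            pow_succ', mul_inv_cancel_right]
      obtain ⟨m, hm⟩ := ho
      have := hp (orderOf y)
      rw [pow_orderOf_eq_one, d1 1 (one_mem _), hm, pow_succ, pow_mul, sq,
        h.sing.two _ (dV y hy), one_pow, one_mul] at this
      exact this.symm))
    fun g hg e => h.sc_of (dX g hg e)
  exact ⟨z0, fun g hg => z1 g hg.1 (d1 g hg.2), fun y hy y1 y2 => (z2 y hy y1 y2).2.2.2,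
    fun S₁ hS => (z3 S₁ hS).2⟩

theorem two_cent {g x : G} (hg : g ∈ 𝐍(V) ⊓ 𝐍(S)) (hx : x ∈ 𝐍(V) ⊓ 𝐍(S))
    (hc : x ∈ 𝐂[g * t * g⁻¹]) (k : ℕ) (hk : x ^ 2 ^ k ∈ 𝐂(V)) : x ∈ 𝐂(V) := by
  induction k with
  | zero => simpa using hk
  | succ k ih =>
    refine ih ((memJ_norm' (cent_norm V hg.1)).1 ((h.zz b).2.1 _ (mem_inf.2 ⟨mul_mem (mul_mem
      (inv_mem hg) (pow_mem hx _)) hg, cent1_conj.2 ?_⟩) ?_))
    · have := cent1_conj.1 (pow_mem hc (2 ^ k))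
      calc _ = g⁻¹ * (x ^ 2 ^ k * (g * t * g⁻¹) * (x ^ 2 ^ k)⁻¹) * g := by group
        _ = _ := by rw [this]; group
    · rw [pow_succ, pow_mul, sq] at hk
      convert (memJ_norm' (cent_norm V hg.1)).2 hk using 1; group

theorem sylP_t : SylowIn 2 P 𝐂[t] := by
  obtain ⟨R, hR, hRV, e⟩ := h.sylR
  obtain ⟨S₂, hS₂, hle⟩ := exists_sylowIn_ge hR.isPGroup hRV
  have h2 := hS₂.inf_of_le_normalizer (cent_sub V) (hS₂.le.trans (cent_norm V))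
  obtain ⟨c, hc, e2⟩ := h.syl.exists_cj_eq h2
  have hcV : c ∈ 𝐍(V) := cent_sub V hc
  have htR : t ∈ R := (e ▸ h.tP : t ∈ R ⊓ 𝐂(V)).1
  obtain ⟨g, hg, e3⟩ := h.out b (x := c * t * c⁻¹) (e2 ▸ conj_mem_cj.2 ⟨hle htR, h.tC⟩) (h.nA c)
  have : R ≤ 𝐂(V) := fun x hx => by
    obtain ⟨k, hk⟩ := isPGroup_iff_forall_mem.1 hR.isPGroup x hx
    refine (memJ_norm (cent_norm V hcV)).1 (h.two_cent b hg (mem_inf.2 ⟨mul_mem (mul_mem hcV
      (hRV hx)) (inv_mem hcV), ?_⟩) (cent1_conj.2 ?_) k (by rw [conj_pow, hk]; simp))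
    · rw [← e2, normJ]
      exact conj_mem_cj.2 (normsI (normsG hle) (hRV.trans (cent_norm V)) hx)
    · rw [e3]
      calc _ = c * (x * t * x⁻¹) * c⁻¹ := by group
        _ = _ := by rw [cent1_conj.1 (hR.le hx)]
  rwa [← e, inf_eq_left.2 this]

theorem nsq (g x : G) : x * x ≠ g * t * g⁻¹ := fun e => by
  have e' : g⁻¹ * x * g * (g⁻¹ * x * g) = t := by
    calc _ = g⁻¹ * (x * x) * g := by group
      _ = _ := by rw [e]; group
  set y := g⁻¹ * x * g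
  obtain ⟨c, hc, hP⟩ := (h.sylP_t b).exists_conj_mem (y := y) (mem_cent1.2 (by
    rw [← e']; exact (mul_assoc y y y).symm)) (k := 2) (by
      rw [show y ^ 2 ^ 2 = y * y * (y * y) by rw [show 2 ^ 2 = 2 + 2 by rfl, pow_add, sq], e', h.t2])
  have := b _ hP
  rw [conj_mul, e'] at this
  exact h.t1 (by simpa using this)

theorem card16 {g : G} (hT : IsPGroup 2 T) (hc : T ≤ 𝐂[g * t * g⁻¹]) : #|T| ≤ 16 := by
  have := (((h.sylP_t b).cj g).card_le hT (by rwa [← cent1J]))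
  rwa [card_cj, h.cardP1 b, (h.zz b).1] at this

theorem sqA {x : G} (hx : x * x ∈ S) : x * x ∈ A := by
  by_contra c
  obtain ⟨g, -, e⟩ := h.out b hx c
  exact h.nsq b g x e.symm

theorem conj_CV {g : G} (hs : g * t * g⁻¹ ∈ 𝐍(V) ⊓ 𝐍(S)) : g * t * g⁻¹ ∈ 𝐂(V) := by
  by_contra hn
  set s := g * t * g⁻¹ with hs'
  have s2 : s * s = 1 := by rw [hs', conj_mul, h.t2]; simp
  have si : s⁻¹ = s := inv_eq_of_mul_eq_one_right s2
  obtain ⟨P', h1, h2, h3, h4, h5⟩ := (h.zz b).2.2.1 s hs hn (s2 ▸ one_mem _)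
  have hSP : S ≤ P' := (le_inf h.SH h.TV).trans h1
  obtain ⟨S', hS', hle⟩ := exists_sylowIn_ge (isPGroup_zpowers (p := 2) (k := 1) (x := s) (by
    rw [pow_one, sq, s2])) (zpowers_le.2 h4)
  have hsS : s ∈ S' := hle (mem_zpowers s)
  have hSS : S ≤ S' := hS'.le_of_le_normalizer h.T2 hSP (hS'.le.trans (h2.trans inf_le_right))
  have c1 : 8 * #|S| ≤ #|S'| := by
    obtain ⟨k, hk⟩ := IsPGroup.iff_card.1 h.T2
    have d : 2 ^ (k + 3) ∣ #|P'| := by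
      rw [← card_inf_mul_relIndex 𝐂(V) P', h3, pow_add, ← hk]
      exact Nat.mul_dvd_mul (card_dvd_of_le (le_inf h.TV hSP)) (by norm_num)
    rw [hS'.card_eq_pow, hk, show 8 * 2 ^ k = 2 ^ (k + 3) by ring]
    exact Nat.pow_le_pow_right two_pos ((Nat.Prime.pow_dvd_iff_le_factorization Nat.prime_two
      Nat.card_pos.ne').1 d)
  have c2 := index_cent1_le (A := S') (K := A ⊓ 𝐂[s * t]) (x := s) fun x hx => by
    have hk : x * s * x⁻¹ * s⁻¹ ∈ S := h.memC hS'.isPGroup hSS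
      (mul_mem (mul_mem (mul_mem hx hsS) (inv_mem hx)) (inv_mem hsS)) (h5 x (hS'.le hx))
    have hi : s * (x * s * x⁻¹ * s⁻¹) * s⁻¹ = (x * s * x⁻¹ * s⁻¹)⁻¹ := by
      calc _ = s * (x * s * x⁻¹) * (s * s)⁻¹ := by group
        _ = s * (x * s⁻¹ * x⁻¹) := by rw [s2, si]; group
        _ = _ := by group
    set k := x * s * x⁻¹ * s⁻¹
    have hA : k ∈ A := by
      by_contra c
      obtain ⟨g', hg', e⟩ := h.out b hk c
      refine hn (h.two_cent b hg' hs (cent1_conj.2 ?_) 1 (by rw [pow_one, sq, s2]; exact one_mem _))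
      rw [e, hi, ← e]
      simp [h.tinv, mul_assoc]
    refine mem_inf.2 ⟨hA, cent1C.1 (cent1_conj.2 ?_)⟩
    calc _ = s * (t * k * t⁻¹) * s⁻¹ := by group
      _ = (s * k * s⁻¹)⁻¹ := by rw [h.invA b hA]; group
      _ = _ := by rw [hi, inv_inv]
  have c3 : #|A ⊓ 𝐂[s * t]| < #|A| := proper_card (lt_of_le_of_ne inf_le_left fun e => hn (by
    have : s * t ∈ 𝐂(V) := mem_cent.2 fun v hv =>
      mem_cent1.1 (e.symm ▸ h.VA hv : v ∈ A ⊓ 𝐂[s * t]).2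
    exact (mul_mem_cancel_right h.tC).1 this))
  have c4 := card_inf_mul_relIndex 𝐂[s] S'
  have c5 := h.card16 b (T := 𝐂[s] ⊓ S') hS'.isPGroup.to_inf_right inf_le_left
  have c6 := h.cardS
  nlinarith

theorem end1q : False := by
  obtain ⟨S₁, h1⟩ := exists_sylowIn (p := 2) (𝐍(V) ⊓ 𝐍(S))
  have hS : S ≤ S₁ := h1.le_of_le_normalizer h.T2 h.SH (h1.le.trans inf_le_right)
  have hA : S₁ ≤ 𝐍(A) := h1.le.trans (h.HA b)
  obtain ⟨O, o1, o2, o3, o4, y, hy, y1, y2⟩ := (h.zz b).2.2.2 S₁ h1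
  have hOA := o2.trans hA
  have sq : ∀ x ∈ S₁, x * x ∈ 𝐂(V) → cst A x * cst A x = 1 := fun x hx c => by
    rw [← cst_mul (hA hx) (hA hx), cst_eq_one (mul_mem (hA hx) (hA hx))]
    exact h.sqA b (h.memC h1.isPGroup hS (mul_mem hx hx) c)
  have hyO : y ∈ 𝐍(O) := mem_normalizer_of_forall fun x hx => by
    rw [mul_mem_of_relIndex_two o3 (mul_mem hy (o2 hx)) (inv_mem hy),
      mul_mem_of_relIndex_two o3 hy (o2 hx), inv_mem_iff]
    tauto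
  obtain ⟨L, l1, l2⟩ := exists_L (U := O /c A) (y := cst A y) (τ := cst A t) (fun u hu => by
      obtain ⟨x, hx, rfl⟩ := (mem_qt_of_le hOA).1 hu
      exact sq x (o2 hx) (o4 x hx)) (cst_mem_norm hyO) (sq y hy y2) fun u hu e => by
    obtain ⟨x, hx, rfl⟩ := (mem_qt_of_le hOA).1 hu
    have hxy := hA (mul_mem (o2 hx) hy)
    rw [← cst_mul (hOA hx) (hA hy), ← cst_mul hxy hxy, cst_eq_iff' (mul_mem hxy hxy) h.tA,
      h.tinv] at e
    exact h.not_t (h.sqA b (h.memS.2 (Or.inr e))) e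
  have dec : ∀ x ∈ S₁, cst A x ∈ O /c A ∨ cst A x * cst A y ∈ O /c A := fun x hx => by
    by_cases c : x ∈ O
    · exact Or.inl (mem_quotient A c)
    · rw [← cst_mul (hA hx) (hA hy)]
      exact Or.inr (mem_quotient A ((mul_mem_of_relIndex_two o3 hx hy).2 (by tauto)))
  refine h.fin S₁ (qpre A L) h1.isPGroup (h.VT.trans hS) (hS h.tT) (h.maxH h1)
    (commg_le.2 fun x hx z hz => mem_qpre.2 ⟨mul_mem (mul_mem (mul_mem (hA hx) (hA hz))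
      (inv_mem (hA hx))) (inv_mem (hA hz)), ?_⟩) (fun c => l1 (mem_qpre.1 c).2) fun g hg => ?_
  · exact (cst_commutator (hA hx) (hA hz)).symm ▸ l2 _ _ (dec x hx) (dec z hz)
  · have hC := h.conj_CV b (h1.le hg)
    exact ⟨hC, sub_cosetpre L
      ((h.memS.1 (h.memC h1.isPGroup hS hg hC)).resolve_left (h.nA g))⟩

end EA

theorem EH.false [Finite G] (h : EH t V P j q) : False := by
  obtain ⟨S, A, j', h'⟩ := h.exists_EA
  exact h'.typ.elim h'.end1q h'.end3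

end Cfsg.Agent.ZD
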