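import Cfsg.Agent.Lib.ZD.BW
import Cfsg.Agent.Lib.ZD.A1
import Cfsg.Agent.Lib.Solv.FrobCard

/-! Row G11 of `docs/ZD_PLAN.md`. -/

open Subgroup MulAction
open scoped commutatorElement

namespace Cfsg.Agent.ZD

open FT Tr

universe u

namespace G11

theorem dc {X Y : Type*} [Finite X] [Finite Y] (s : Set X) (t : Set Y) (r : X → Y → Prop)
    (m n : ℕ) (hm : ∀ a ∈ s, m ≤ {b | b ∈ t ∧ r a b}.ncard)
    (hn : ∀ b ∈ t, {a | a ∈ s ∧ r a b}.ncard ≤ n) : s.ncard * m ≤ t.ncard * n := by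
  classical
  rw [Set.ncard_eq_toFinset_card s, Set.ncard_eq_toFinset_card t]
  refine Finset.card_mul_le_card_mul r (fun a ha => ?_) fun b hb => ?_
  · rw [← Set.ncard_coe_finset]
    convert hm a (by simpa using ha) using 2
    ext b; simp [Finset.mem_bipartiteAbove]
  · rw [← Set.ncard_coe_finset]
    convert hn b (by simpa using hb) using 2
    ext a; simp [Finset.mem_bipartiteBelow]

variable {G : Type u} {Ω : Type u} [Group G] [Finite G] [MulAction G Ω] {D : Set G} {α β : Ω}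
  {Q V : Subgroup G} {j : G} {q : ℕ}

theorem q4 (h : Good D α β Q V j q) : 4 ≤ q := by
  obtain ⟨a, ha, rfl⟩ := h.exq
  exact Nat.pow_le_pow_right (n := 2) (by norm_num) ha

theorem dk (h : Good D α β Q V j q) (hq : #|Q| = q ^ 2) :
    ∀ g ∈ closure D, g • α = α → g • β = β → g ∈ zpowers j := by
  have := q4 h
  rcases h.typ with e | e | e
  · rw [e, h.cardV] at hq; nlinarith
  · exact e.DK
  · have := e.card; rw [hq] at this; nlinarith

theorem ncard_DA (h : Good D α β Q V j q) (γ : Ω) : (DA D γ).ncard + 1 = q := by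
  rw [h.zd.ncard_DA (Set.mem_univ γ) (Set.mem_univ α), ← h.cardV,
    ← Set.ncard_insert_of_notMem (a := 1) (fun e => h.zd.ne_one e.1 rfl)]
  rw [show insert 1 (DA D α) = (V : Set G) from Set.ext fun v => (h.memV v).symm]
  rfl

theorem transfer (H : ∀ α β : Ω, α ≠ β → ∃ Q V j q, GoodX D α β Q V j q)
    (h : GoodX D α β Q V j q) (hq : #|Q| = q ^ 2) {γ δ : Ω} (ne : γ ≠ δ) :
    ∃ Q V j, GoodX D γ δ Q V j q ∧ #|Q| = q ^ 2 := by
  obtain ⟨Q', V', j', q', h'⟩ := H γ δ ne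
  obtain rfl : q' = q := (ncard_DA h'.toGood α).symm.trans (ncard_DA h.toGood α)
  exact ⟨Q', V', j', h', by have := h.cardΩ; have := h'.cardΩ; omega⟩

theorem vD (h : Good D α β Q V j q) {v : G} (hv : v ∈ V) (h1 : v ≠ 1) : v ∈ D ∧ v • α = α :=
  ((h.memV v).1 hv).resolve_left h1

theorem cb (h : GoodX D α β Q V j q) (hq : #|Q| = q ^ 2) {y v : G} (hy : y ∈ closure D)
    (hv : v ∈ V) (h1 : v ≠ 1) (hc : Commute y v) : y ∈ Q := by
  obtain ⟨vd, va⟩ := vD h.toGood hv h1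
  have ya : y • α = α := h.zd.fix_of_comm vd (Set.mem_univ _) va (mem_top _) hc
  obtain ⟨x, hx, e⟩ := h.dec y ya
  obtain ⟨n, hn⟩ := mem_powers_iff_mem_zpowers.2 (dk h.toGood hq _ (mul_mem (inv_mem (h.QD hx)) hy)
    (by rw [mul_smul, ya, h.Qa _ (inv_mem hx)]) e)
  dsimp only at hn
  by_cases h2 : j ^ n = 1
  · rw [h2] at hn
    rwa [← inv_mul_eq_one.1 hn.symm]
  · exact absurd (h.fpf n h2 v (h.VQ hv) (hn ▸ (h.cent v hv x hx).symm.inv_left.mul_left hc)) h1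

theorem odd_Q (h : Good D α β Q V j q) {Y : Subgroup G} (hY : Odd #|Y|) {y : G} (hy : y ∈ Y)
    (hq : y ∈ Q) : y = 1 :=
  BW.eq_one hY hy (BW.eq_one hY (mul_mem hy hy) ((h.two _ (mul_mem hq hq)).2 (h.sq y hq)))

theorem norm_B (h : Good D α β Q V j q) (g : G) : g ∈ 𝐍(closure D) :=
  norms_gen (A := ⊤) (fun a ha x hx => h.zd.conj x hx a ha) (mem_top g)

/-- at most four elements of `Q` conjugate `y` into its centralizer -/
theorem four (h : GoodX D α β Q V j q) (hq : #|Q| = q ^ 2) {Y : Subgroup G} (hY : Odd #|Y|)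
    {y d : G} (hy : y ∈ Y) (hB : y ∈ closure D) (y1 : y ≠ 1) (hd : d ∈ V) (d1 : d ≠ 1)
    (hi : d * y * d⁻¹ = y⁻¹) : {u | u ∈ Q ∧ Commute (u * y * u⁻¹) y}.ncard ≤ 4 := by
  set A := closure D ⊓ 𝐂[y] with hA
  have nc : ∀ v ∈ V, v ≠ 1 → ¬ Commute y v := fun v hv v1 hc =>
    y1 (odd_Q h.toGood hY hy (cb h hq hB hv v1 hc))
  have fp : ∀ v ∈ V, v ≠ 1 → A ⊓ 𝐂[v] = ⊥ := fun v hv v1 => by
    refine eq_bot_iff.2 fun a ha => mem_bot.2 ?_
    have aQ := cb h hq ha.1.1 hv v1 (mem_cent1.1 ha.2)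
    have ac : Commute y a := (mem_cent1.1 ha.1.2).symm
    by_contra a1
    by_cases a2 : a * a = 1
    · exact nc a ((h.two a aQ).1 a2) a1 ac
    · exact nc _ (h.sq a aQ) a2 (ac.mul_right ac)
  have iv : ∀ v ∈ V, v ≠ 1 → v ∈ 𝐍(A) → ∀ a ∈ A, v * a * v⁻¹ = a⁻¹ := fun v hv v1 hn =>
    Frob.conj_eq_inv_of_fpf hn ((h.two v (h.VQ hv)).2 hv) (fp v hv v1)
  have nA : ∀ u : G, u ∈ 𝐍(𝐂[y]) → u ∈ 𝐍(A) := fun u hu =>
    zpowers_le.1 (normsI (zpowers_le.2 (norm_B h.toGood u)) (zpowers_le.2 hu))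
  have dA : d ∈ 𝐍(A) := nA d (by rw [← cj_eq_iff, ← cent1J, hi, cent1V])
  have yA : y ∈ A := ⟨hB, cent1id y⟩
  have ab : ∀ a ∈ A, ∀ b ∈ A, a * b = b * a := fun a ha b hb => by
    have e := iv d hd d1 dA _ (mul_mem ha hb)
    rw [show d * (a * b) * d⁻¹ = d * a * d⁻¹ * (d * b * d⁻¹) by group, iv d hd d1 dA _ ha,
      iv d hd d1 dA _ hb, ← mul_inv_rev, inv_inj] at e
    exact e.symm
  have uN : ∀ u ∈ Q, Commute (u * y * u⁻¹) y → u ∈ 𝐍(A) := fun u hu hc => by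
    have yA' : u * y * u⁻¹ ∈ A := ⟨(memJ_norm (norm_B h.toGood u)).2 hB, mem_cent1.2 hc⟩
    rw [← inv_mem_iff]
    refine mem_normalizer_fintype fun a ha => ⟨(memJ_norm (norm_B h.toGood u⁻¹)).2 ha.1,
      mem_cent1.2 ?_⟩
    calc _ = u⁻¹ * (a * (u * y * u⁻¹)) * u := by group
      _ = _ := by rw [ab a ha _ yA']; group
  have vN : ∀ v ∈ V, v ∈ 𝐍(A) → v = 1 ∨ v = d := fun v hv hn => by
    by_contra hne
    push Not at hne
    refine nc (d⁻¹ * v) (mul_mem (inv_mem hd) hv) (fun e => hne.2 (inv_mul_eq_one.1 e).symm) ?_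
    have e := (iv v hv hne.1 hn y yA).trans hi.symm
    calc y * (d⁻¹ * v) = d⁻¹ * (d * y * d⁻¹) * v := by group
      _ = d⁻¹ * v * y := by rw [← e]; group
  have sq : ∀ x ∈ Q, x ∈ 𝐍(A) → x ∉ V → x * x = d := fun x hx hn hv =>
    (vN _ (h.sq x hx) (mul_mem hn hn)).resolve_left (mt (h.two x hx).1 hv)
  by_cases hx : ∃ x ∈ Q, x ∈ 𝐍(A) ∧ x ∉ V
  · obtain ⟨x, hx, xn, xv⟩ := hx
    refine (Set.ncard_le_ncard (t := {1, d, x, x * d}) ?_).trans ((Set.ncard_insert_le _ _).trans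
      (Nat.succ_le_succ ((Set.ncard_insert_le _ _).trans (Nat.succ_le_succ
        ((Set.ncard_insert_le _ _).trans (by simp))))))
    rintro u ⟨hu, hc⟩
    have un := uN u hu hc
    by_cases uv : u ∈ V
    · rcases vN u uv un with e | e <;> simp [e]
    · rcases vN _ (h.sqinj hq x hx u hu ((sq x hx xn xv).trans (sq u hu un uv).symm))
        (mul_mem (inv_mem xn) un) with e | e
      · simp [← inv_mul_eq_one.1 e]
      · simp [← e]
  · refine (Set.ncard_le_ncard (t := {1, d}) ?_).trans ((Set.ncard_insert_le _ _).trans (by simp))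
    rintro u ⟨hu, hc⟩
    have un := uN u hu hc
    exact vN u (by_contra fun uv => hx ⟨u, hu, un, uv⟩) un

theorem exists_sqrt {Y : Subgroup G} (hY : Odd #|Y|) {y : G} (hy : y ∈ Y) : ∃ z ∈ Y, z * z = y := by
  obtain ⟨m, hm⟩ := hY
  have h1 : y ^ (2 * m + 1) = 1 := by
    rw [← hm]; exact orderOf_dvd_iff_pow_eq_one.1 (BW.ord_dvd hy)
  refine ⟨y ^ (m + 1), pow_mem hy _, ?_⟩
  rw [← pow_add, show m + 1 + (m + 1) = 2 * m + 1 + 1 by ring, pow_succ, h1, one_mul]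

theorem comm_of_inv {Y : Subgroup G} {d : G} (hi : ∀ y ∈ Y, d * y * d⁻¹ = y⁻¹) {a b : G}
    (ha : a ∈ Y) (hb : b ∈ Y) : a * b = b * a := by
  have e := hi _ (mul_mem ha hb)
  rw [show d * (a * b) * d⁻¹ = d * a * d⁻¹ * (d * b * d⁻¹) by group, hi _ ha, hi _ hb,
    ← mul_inv_rev, inv_inj] at e
  exact e.symm

theorem bound (H : ∀ α β : Ω, α ≠ β → ∃ Q V j q, GoodX D α β Q V j q)
    (h : GoodX D α β Q V j q) (hq : #|Q| = q ^ 2) {Y : Subgroup G} (hY : Odd #|Y|)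
    (hB : Y ≤ closure D) {d : G} (hd : d ∈ V) (d1 : d ≠ 1) (hi : ∀ y ∈ Y, d * y * d⁻¹ = y⁻¹)
    (hf : ∀ y ∈ Y, ∀ γ : Ω, y • γ = γ → y = 1) : #|Y| ≤ 2 * q + 1 := by
  haveI : Finite Ω := Nat.finite_of_card_ne_zero (by rw [h.cardΩ]; omega)
  obtain ⟨dD, da⟩ := vD h.toGood hd d1
  have z := h.zd
  have hq4 := q4 h.toGood
  have hA := ncard_DA h.toGood
  let P : Set G := {e | e ∈ D ∧ ∀ γ : Ω, (d * e) • γ ≠ γ}
  let N : Set G := {e | e ∈ D ∧ e ≠ d ∧ ∃ γ, γ ≠ α ∧ e • γ = d • γ}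
  have dne : ∀ γ, γ ≠ α → γ ≠ d • γ := fun γ ne e =>
    ne (z.eq_pt dD (Set.mem_univ _) (Set.mem_univ _) e.symm da)
  have c1 := dc D (Set.univ : Set Ω) (fun e γ => e • γ = γ) 1 (q - 1)
    (fun e he => (Set.ncard_pos (Set.toFinite _)).2 (z.ex e he))
    (fun γ _ => by have := hA γ; exact (Nat.eq_sub_of_add_eq this).le)
  have c2 := dc {γ : Ω | γ ≠ α} N (fun γ e => e • γ = d • γ) (q - 2) 2
    (fun γ hγ => by
      have e1 := z.ncard_DS (Set.mem_univ γ) (Set.mem_univ _) (dne γ hγ)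
      have e2 := Set.ncard_diff_singleton_add_one (s := DS D γ (d • γ)) (a := d) ⟨dD, rfl⟩
      have e3 := hA (d • γ)
      refine le_trans (by omega) (Set.ncard_le_ncard (s := DS D γ (d • γ) \ {d}) ?_)
      exact fun e he => ⟨⟨he.1.1, he.2, γ, hγ, he.1.2⟩, he.1.2⟩)
    (fun e he => by
      obtain ⟨eD, ed, γ, hγ, e1⟩ := he
      obtain ⟨Q', V', j', q', h'⟩ := H γ (d • γ) (dne γ hγ)
      obtain ⟨n, hn⟩ := mem_powers_iff_mem_zpowers.2 (h'.sw d dD e eD rfl e1)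
      dsimp only at hn
      refine (Set.ncard_le_ncard (t := {γ, d • γ}) fun δ hδ => ?_).trans
        ((Set.ncard_insert_le _ _).trans (by simp))
      refine h'.jfix n (fun e2 => ed ?_) δ (by rw [hn, mul_smul, hδ.2, z.smul_smul dD])
      rw [e2] at hn
      rw [eq_inv_of_mul_eq_one_right hn.symm, z.inv_eq dD])
  have c3 := dc ((Y : Set G) \ {1}) P (fun y e => ∃ x ∈ Q, x * y * x⁻¹ = d * e) (q ^ 2) 4
    (fun y hy => by
      rw [← hq]
      refine Set.ncard_le_ncard_of_injOn (s := (Q : Set G)) (fun x => d * (x * y * x⁻¹))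
        (fun x hx => ⟨⟨?_, fun γ e => hy.2 (hf y hy.1 (x⁻¹ • γ) ?_)⟩, x, hx, (z.sq' dD _).symm⟩)
        fun x hx x' hx' e => ?_
      · obtain ⟨w, hw, rfl⟩ := exists_sqrt hY hy.1
        have := z.conj d dD (x * w⁻¹) (mem_top _)
        convert this using 1
        calc _ = d * x * w * w * x⁻¹ := by group
          _ = x * (d * w * d⁻¹) * d * (w * x⁻¹) := by rw [(h.cent d hd x hx).eq]; group
          _ = _ := by rw [hi w hw]; group
      · rw [z.sq' dD, mul_smul, mul_smul] at e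
        exact smul_left_cancel x (by rw [e, smul_inv_smul])
      · have e1 : x * y * x⁻¹ = x' * y * x'⁻¹ := mul_left_cancel e
        have uQ := mul_mem (inv_mem hx') hx
        have uc : Commute y (x'⁻¹ * x) := by
          calc y * (x'⁻¹ * x) = x'⁻¹ * (x' * y * x'⁻¹) * x := by group
            _ = x'⁻¹ * x * y := by rw [← e1]; group
        have nc : ∀ v ∈ V, Commute y v → v = 1 := fun v hv hc => by_contra fun v1 =>
          hy.2 (odd_Q h.toGood hY hy.1 (cb h hq (hB hy.1) hv v1 hc))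
        exact (inv_mul_eq_one.1 (nc _ ((h.two _ uQ).1 (nc _ (h.sq _ uQ) (uc.mul_right uc))) uc)).symm)
    (fun e _ => by
      rcases Set.eq_empty_or_nonempty
        {y | y ∈ (Y : Set G) \ {1} ∧ ∃ x ∈ Q, x * y * x⁻¹ = d * e} with e0 | ⟨y, hy, x, hx, e1⟩
      · rw [e0]; simp
      refine le_trans ?_ (four h hq hY hy.1 (hB hy.1) hy.2 hd d1 (hi y hy.1))
      refine le_trans (Set.ncard_le_ncard ?_) (Set.ncard_image_le (f := fun u => u * y * u⁻¹))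
      rintro y' ⟨hy', x', hx', e2⟩
      have e3 : x'⁻¹ * x * y * (x'⁻¹ * x)⁻¹ = y' := by
        calc _ = x'⁻¹ * (x * y * x⁻¹) * x' := by group
          _ = y' := by rw [e1, ← e2]; group
      exact ⟨x'⁻¹ * x, ⟨mul_mem (inv_mem hx') hx, e3 ▸ comm_of_inv hi hy'.1 hy.1⟩, e3⟩)
  have c4 : P.ncard + N.ncard + (DA D α).ncard ≤ D.ncard := by
    rw [← Set.ncard_union_eq, ← Set.ncard_union_eq]
    · refine Set.ncard_le_ncard ?_
      rintro e ((he | he) | he) <;> exact he.1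
    · rw [Set.disjoint_left]
      rintro e (he | ⟨eD, ed, γ, hγ, e1⟩) ha
      · exact he.2 α (by rw [mul_smul, ha.2, da])
      · have hv : d * e ∈ V := mul_mem hd ((h.memV e).2 (.inr ha))
        obtain ⟨h1, h2⟩ := vD h.toGood hv fun e2 =>
          ed (by rw [eq_inv_of_mul_eq_one_right e2, z.inv_eq dD])
        exact hγ (z.eq_pt h1 (Set.mem_univ _) (Set.mem_univ _)
          (by rw [mul_smul, e1, z.smul_smul dD]) h2)
    · rw [Set.disjoint_left]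
      rintro e he ⟨eD, ed, γ, hγ, e1⟩
      exact he.2 γ (by rw [mul_smul, e1, z.smul_smul dD])
  have e1 : {γ : Ω | γ ≠ α}.ncard + 1 = Nat.card Ω := by
    rw [← Set.ncard_univ, ← Set.ncard_diff_singleton_add_one (Set.mem_univ α)]
    congr 2; ext; simp
  have e2 : ((Y : Set G) \ {1}).ncard + 1 = #|Y| := Set.ncard_diff_singleton_add_one (one_mem Y)
  rw [Set.ncard_univ, h.cardΩ, hq] at c1
  rw [h.cardΩ, hq, Nat.add_right_cancel_iff] at e1
  rw [e1] at c2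
  have e3 := hA α
  obtain ⟨r, rfl⟩ : ∃ r, q = r + 2 := ⟨q - 2, by omega⟩
  rw [show r + 2 - 1 = r + 1 from rfl] at c1
  rw [Nat.add_sub_cancel] at c2
  have : ((Y : Set G) \ {1}).ncard * (r + 2) ^ 2 ≤ (2 * (r + 2)) * (r + 2) ^ 2 := by nlinarith
  have := Nat.le_of_mul_le_mul_right this (by positivity)
  omega

theorem main (H : ∀ α β : Ω, α ≠ β → ∃ Q V j q, GoodX D α β Q V j q)
    (h : GoodX D α β Q V j q) (hq : #|Q| = q ^ 2) {d : G} (hd : d ∈ V) (d1 : d ≠ 1)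
    {Y : Subgroup G} (hY : Odd #|Y|) (hn : d ∈ 𝐍(Y)) : (𝐂[d]).relIndex Y < q ∨
      ((𝐂[d]).relIndex Y ∣ q ^ 2 + 1 ∧ (𝐂[d]).relIndex Y ≤ 2 * q + 1) := by
  obtain ⟨dD, da⟩ := vD h.toGood hd d1
  have z := h.zd
  set Y₁ := Y ⊓ closure D
  have ho : Odd #|Y₁| := hY.of_dvd_nat (card_dvd_of_le inf_le_left)
  have hn1 : d ∈ 𝐍(Y₁) :=
    zpowers_le.1 (normsI (zpowers_le.2 hn) (zpowers_le.2 (norm_B h.toGood d)))
  have fp : Y₁ ⊓ 𝐂[d] = ⊥ := eq_bot_iff.2 fun y hy =>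
    odd_Q h.toGood hY hy.1.1 (cb h hq hy.1.2 hd d1 (mem_cent1.1 hy.2))
  have hi := Frob.conj_eq_inv_of_fpf hn1 (z.sq dD) fp
  have hm : MulEq Y₁ (Y ⊓ 𝐂[d]) Y := mulEq_of_forall inf_le_left inf_le_left fun y hy => by
    obtain ⟨w, hw, e⟩ := exists_sqrt ho (y := y * (d * y⁻¹ * d⁻¹))
      <| mem_inf.2 ⟨mul_mem hy ((memJ_norm hn).2 (inv_mem hy)), by
        rw [show y * (d * y⁻¹ * d⁻¹) = y * d * y⁻¹ * d⁻¹ by group]
        exact mul_mem (subset_closure (z.conj d dD y (mem_top _))) (inv_mem (subset_closure dD))⟩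
    refine ⟨w, hw, w⁻¹ * y, ⟨Y.mul_mem (Y.inv_mem hw.1) hy, cent1_conj'.2 ?_⟩, by group⟩
    calc _ = d * w⁻¹ * d⁻¹ * (y * (d * y⁻¹ * d⁻¹))⁻¹ * y := by group
      _ = w⁻¹ * y := by rw [hi _ (inv_mem hw), ← e]; group
  have hc : (𝐂[d]).relIndex Y = #|Y₁| := by
    have e1 := hm.card
    rw [← inf_assoc, inf_of_le_left (inf_le_left : Y₁ ≤ Y), fp, card_bot, mul_one,
      ← BW.card_mul_relIndex' Y 𝐂[d], mul_comm] at e1
    exact (Nat.eq_of_mul_eq_mul_left Nat.card_pos e1).symm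
  rw [hc]
  by_cases hf : ∀ y ∈ Y₁, ∀ γ : Ω, y • γ = γ → y = 1
  · refine .inr ⟨?_, bound H h hq ho inf_le_right hd d1 hi hf⟩
    have := Solv.card_dvd_of_free Y₁ (Set.univ : Set Ω) (fun _ _ _ _ => Set.mem_univ _)
      fun g hg γ _ e => hf g hg γ e
    rwa [Nat.card_univ, h.cardΩ, hq] at this
  left
  push Not at hf
  obtain ⟨y, hy, γ, e, y1⟩ := hf
  have e' : y • d • γ = d • γ := by
    have := hi _ (inv_mem hy)
    rw [inv_inv] at this
    rw [← this, mul_smul, inv_smul_smul, mul_smul, inv_smul_eq_iff.2 e.symm]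
  have ne : γ ≠ d • γ := fun e1 => by
    obtain rfl := z.eq_pt dD (Set.mem_univ _) (Set.mem_univ _) e1.symm da
    have hv : y * d * y⁻¹ ∈ V := (h.memV _).2 (.inr ⟨z.conj d dD y (mem_top _),
      e ▸ BS.smul_conj_fixed (e.symm ▸ da)⟩)
    refine y1 (BW.eq_one ho hy (odd_Q h.toGood ho (mul_mem hy hy) (h.VQ ?_)))
    have := mul_mem hv (inv_mem hd)
    rwa [mul_assoc, mul_assoc, ← mul_assoc d, hi _ (inv_mem hy), inv_inv] at this
  obtain ⟨Q', V', j', h', hq'⟩ := transfer H h hq ne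
  obtain ⟨n, hn⟩ := mem_powers_iff_mem_zpowers.2 (dk h'.toGood hq' y hy.2 e e')
  dsimp only at hn
  have fx : ∀ w ∈ Y₁, ∀ δ : Ω, y • δ = δ → w • δ = δ := fun w hw δ hδ => by
    have a : ∀ ε, y • ε = ε → ε = γ ∨ ε = d • γ := fun ε hε => h'.jfix n (hn ▸ y1) ε (hn ▸ hε)
    have b : ∀ ε : Ω, y • ε = ε → y • w • ε = w • ε := fun ε hε => by
      rw [← mul_smul, comm_of_inv hi hy hw, mul_smul, hε]
    refine BW.mem_of_sq (S := stabilizer G δ) ho hw ?_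
    rw [mem_stabilizer_iff, mul_smul]
    by_cases c : w • δ = δ
    · rw [c, c]
    have c' : w • w • δ ≠ w • δ := fun e => c (smul_left_cancel w e)
    rcases a _ hδ with e1 | e1 <;> rcases a _ (b _ hδ) with e2 | e2 <;>
      rcases a _ (b _ (b _ hδ)) with e3 | e3 <;>
      first | exact e3.trans e1.symm | exact absurd (e2.trans e1.symm) c |
        exact absurd (e3.trans e2.symm) c'
  have hle : Y₁ ≤ zpowers j' := fun w hw => dk h'.toGood hq' w hw.2 (fx w hw _ e) (fx w hw _ e')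
  have := card_le_of_le hle
  rw [Nat.card_zpowers, h'.ord] at this
  have := q4 h.toGood
  omega

end G11

/-- Row G11. -/
theorem g11 : G11Stmt.{u} := by
  intro G Ω _ _ _ D H α β Q V j q h hq d hd Y hY hn
  obtain ⟨γ, -, e⟩ := h.zd.ex d hd
  obtain ⟨δ, ne⟩ : ∃ δ, γ ≠ δ := by
    by_cases c : γ = α
    · exact ⟨β, c ▸ h.ne⟩
    · exact ⟨α, c⟩
  obtain ⟨Q', V', j', h', hq'⟩ := G11.transfer H h hq ne
  exact G11.main H h' hq' ((h'.memV d).2 (.inr ⟨hd, e⟩)) (h.zd.ne_one hd) hY hn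

end Cfsg.Agent.ZD
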