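import Cfsg.Agent.Lib.ZD.Defs

/-! Row GOOD2, part a: elementary consequences of `Good`. -/

open Subgroup MulAction
open scoped commutatorElement

set_option linter.unusedSectionVars false

namespace Cfsg.Agent.ZD

open FT Tr

universe u

variable {G : Type u} {Ω : Type u} [Group G] [MulAction G Ω] [Finite G]

theorem g2_card_hom (A K : Subgroup G) (φ : G → G)
    (hm : ∀ x ∈ A, ∀ y ∈ A, φ (x * y) = φ x * φ y) (hk : ∀ x ∈ A, φ x = 1 ↔ x ∈ K) :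
    ∃ R : Subgroup G, (∀ r, r ∈ R ↔ ∃ x ∈ A, φ x = r) ∧ #|A ⊓ K| * #|R| = #|A| := by
  let f : A →* G := MonoidHom.mk' (fun x => φ x) fun x y => hm x x.2 y y.2
  refine ⟨f.range, fun r => ⟨fun ⟨x, e⟩ => ⟨x, x.2, e⟩, fun ⟨x, hx, e⟩ => ⟨⟨x, hx⟩, e⟩⟩, ?_⟩
  have e : f.ker = (A ⊓ K).subgroupOf A := by
    ext x; rw [MonoidHom.mem_ker, mem_subgroupOf, mem_inf]
    exact ⟨fun h => ⟨x.2, (hk x x.2).1 h⟩, fun h => (hk x x.2).2 h.2⟩
  rw [← f.ker.card_mul_index, index_ker, e,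
    Nat.card_congr (subgroupOfEquivOfLe (inf_le_left : A ⊓ K ≤ A)).toEquiv]

theorem g2_pw {j ρ : G} (h : ρ ∈ zpowers j) : ∃ n : ℕ, j ^ n = ρ :=
  mem_powers_iff_mem_zpowers.2 h

theorem g2_comm_of_odd {g x : G} (ho : Odd (orderOf g)) (h : Commute (g * g) x) : Commute g x := by
  obtain ⟨m, hm⟩ := ho
  have : g = (g * g) ^ (m + 1) := by
    rw [← sq, ← pow_mul, show 2 * (m + 1) = orderOf g + 1 by omega, pow_succ, pow_orderOf_eq_one,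
      one_mul]
  rw [this]; exact h.pow_left _

namespace Good

variable {D : Set G} {α β : Ω} {Q V : Subgroup G} {j : G} {q : ℕ} (h : Good D α β Q V j q)
include h

theorem q4 : 4 ≤ q := by
  obtain ⟨a, ha, rfl⟩ := h.exq
  exact Nat.pow_le_pow_right (n := 2) (by norm_num) ha

theorem Vsq {v : G} (hv : v ∈ V) : v * v = 1 := (h.two v (h.VQ hv)).2 hv

theorem Vinv {v : G} (hv : v ∈ V) : v⁻¹ = v := inv_eq_of_mul_self (h.Vsq hv)

theorem Vn {g v : G} (hg : g • α = α) (hv : v ∈ V) : g * v * g⁻¹ ∈ V :=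
  (h.two _ (h.Qn g hg v (h.VQ hv))).1 (conj_mul_self (h.Vsq hv) g)

theorem exV : ∃ v ∈ V, v ≠ 1 :=
  trivgPn.1 fun e => by
    have := h.cardV; have := h.q4; rw [e, card_bot] at *; omega

theorem QC : Q ≤ 𝐂(V) := fun x hx v hv => (h.cent v hv x hx).eq

theorem Ca {g : G} (hg : g ∈ 𝐂(V)) : g • α = α := by
  obtain ⟨v, hv, v1⟩ := h.exV
  obtain ⟨vD, va⟩ := ((h.memV v).1 hv).resolve_left v1
  by_contra ne
  refine h.zd.uniq v vD ⟨α, trivial, g • α, trivial, Ne.symm ne, va, ?_⟩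
  rw [← mul_smul, hg v hv, mul_smul, va]

theorem Ja {ρ : G} (hρ : ρ ∈ zpowers j) : ρ • α = α :=
  (zpowers_le.2 (show j ∈ stabilizer G α from h.ja)) hρ

theorem Jb {ρ : G} (hρ : ρ ∈ zpowers j) : ρ • β = β :=
  (zpowers_le.2 (show j ∈ stabilizer G β from h.jb)) hρ

theorem JQ {ρ x : G} (hρ : ρ ∈ zpowers j) (hx : x ∈ Q) : ρ * x * ρ⁻¹ ∈ Q := h.Qn ρ (h.Ja hρ) x hx

theorem JV {ρ x : G} (hρ : ρ ∈ zpowers j) (hx : x ∈ V) : ρ * x * ρ⁻¹ ∈ V := h.Vn (h.Ja hρ) hx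

theorem JV' {ρ x : G} (hρ : ρ ∈ zpowers j) (hx : ρ * x * ρ⁻¹ ∈ V) : x ∈ V := by
  simpa [mul_assoc] using h.JV (inv_mem hρ) hx

theorem fpf' {ρ x : G} (hρ : ρ ∈ zpowers j) (hx : x ∈ Q) (x1 : x ≠ 1) (e : ρ * x * ρ⁻¹ = x) :
    ρ = 1 := by
  obtain ⟨n, rfl⟩ := g2_pw hρ
  by_contra ne
  exact x1 (h.fpf n ne x hx (mul_inv_eq_iff_eq_mul.1 e))

theorem JC {ρ : G} (hρ : ρ ∈ zpowers j) (hc : ρ ∈ 𝐂(V)) : ρ = 1 := by
  obtain ⟨v, hv, v1⟩ := h.exV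
  exact h.fpf' hρ (h.VQ hv) v1 (mul_inv_eq_iff_eq_mul.2 (hc v hv).symm)

theorem jodd : Odd (orderOf j) := by
  obtain ⟨a, ha, e⟩ := h.exq
  rw [h.ord, e]
  exact Nat.Even.sub_odd (Nat.one_le_two_pow) (Nat.even_pow.2 ⟨even_two, by omega⟩) odd_one

theorem j_ne : j ≠ 1 := fun e => by
  have := h.ord; have := h.q4; rw [e, orderOf_one] at *; omega

theorem dec {g : G} (hg : g • α = α) : ∃ x ∈ Q, (x⁻¹ * g) • β = β := by
  obtain ⟨x, hx, e⟩ := h.tr (g • β) fun e => h.ne ((smul_left_cancel_iff g).1 (hg.trans e.symm))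
  exact ⟨x, hx, by rw [mul_smul, ← e, inv_smul_smul]⟩

theorem inj {x y : G} (hx : x ∈ Q) (hy : y ∈ Q) (e : x • β = y • β) : x = y :=
  (inv_mul_eq_one.1 (h.reg _ (mul_mem (inv_mem hy) hx) (by rw [mul_smul, e, inv_smul_smul]))).symm

theorem xb_ne {x : G} (hx : x ∈ Q) : x • β ≠ α := fun e =>
  h.ne ((smul_left_cancel_iff x).1 ((h.Qa x hx).trans e.symm))

theorem fix_iff {g x : G} (ha : g • α = α) (hb : g • β = β) (hx : x ∈ Q) :
    g • x • β = x • β ↔ Commute x g := by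
  have e : g • x • β = (g * x * g⁻¹) • β := by rw [mul_smul, mul_smul, inv_smul_eq_iff.2 hb.symm]
  rw [e]
  exact ⟨fun e' => (mul_inv_eq_iff_eq_mul.1 (h.inj (h.Qn g ha x hx) hx e')).symm,
    fun c => by rw [← c.eq, mul_inv_cancel_right]⟩

theorem eq_one {g : G} (ha : g • α = α) (hb : g • β = β) (hc : ∀ x ∈ Q, Commute x g) : g = 1 :=
  h.faith g fun ω => by
    by_cases e : ω = α
    · rw [e, ha]
    · obtain ⟨x, hx, rfl⟩ := h.tr ω e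
      exact (h.fix_iff ha hb hx).2 (hc x hx)

theorem finΩ : Finite Ω := Finite.of_surjective (fun x : Option G => x.elim α (· • β)) fun ω => by
  by_cases e : ω = α
  · exact ⟨none, e.symm⟩
  · obtain ⟨x, -, e⟩ := h.tr ω e
    exact ⟨some x, e⟩

theorem cardFix {g : G} (ha : g • α = α) (hb : g • β = β) :
    (fixedBy Ω g).ncard = #|Q ⊓ 𝐂[g]| + 1 := by
  have e : fixedBy Ω g = insert α ((· • β) '' ((Q ⊓ 𝐂[g] : Subgroup G) : Set G)) := by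
    ext ω
    refine ⟨fun hω => ?_, ?_⟩
    · by_cases e : ω = α
      · exact Or.inl e
      · obtain ⟨x, hx, rfl⟩ := h.tr ω e
        exact Or.inr ⟨x, ⟨hx, mem_cent1.2 ((h.fix_iff ha hb hx).1 hω)⟩, rfl⟩
    · rintro (rfl | ⟨x, hx, rfl⟩)
      · exact ha
      · exact (h.fix_iff ha hb hx.1).2 (mem_cent1.1 hx.2)
  rw [e, Set.ncard_insert_of_notMem (by rintro ⟨x, hx, e⟩; exact h.xb_ne hx.1 e)
    ((Set.toFinite _).image _), Set.InjOn.ncard_image fun x hx y hy e => h.inj hx.1 hy.1 e]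
  rfl

theorem cardΩ : Nat.card Ω = #|Q| + 1 := by
  have := h.cardFix (one_smul G α) (one_smul G β)
  rwa [fixedBy_one_eq_univ, Set.ncard_univ,
    inf_eq_left.2 fun x _ => mem_cent1.2 (Commute.one_right x)] at this

theorem comm {x y : G} (hx : x ∈ Q) (hy : y ∈ Q) : ⁅x, y⁆ ∈ V := by
  have e : ⁅x, y⁆ = x * y * (x * y) * ((y⁻¹ * (x * x)⁻¹ * y⁻¹⁻¹) * (y * y)⁻¹) := by
    rw [commutatorElement_def]; group
  rw [e]
  exact mul_mem (h.sq _ (mul_mem hx hy)) (mul_mem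
    (h.Vn (h.Qa _ (inv_mem hy)) (inv_mem (h.sq x hx))) (inv_mem (h.sq y hy)))

theorem fpfU {ρ x : G} (hρ : ρ ∈ zpowers j) (ρ1 : ρ ≠ 1) (hx : x ∈ Q)
    (e : ρ * x * ρ⁻¹ * x⁻¹ ∈ V) : x ∈ V := by
  let f : V → V := fun w => ⟨ρ * w * ρ⁻¹ * w⁻¹, mul_mem (h.JV hρ w.2) (inv_mem w.2)⟩
  have key : ∀ y ∈ Q, ∀ w ∈ V, ρ * w * ρ⁻¹ * w⁻¹ = ρ * y * ρ⁻¹ * y⁻¹ → y = w := by
    intro y hy w hw e
    by_contra ne
    refine ρ1 (h.fpf' hρ (mul_mem (inv_mem (h.VQ hw)) hy) (fun e => ne (inv_mul_eq_one.1 e).symm) ?_)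
    calc ρ * (w⁻¹ * y) * ρ⁻¹ = (ρ * w * ρ⁻¹)⁻¹ * (ρ * y * ρ⁻¹ * y⁻¹) * y := by group
      _ = w⁻¹ * y := by rw [← e]; group
  have hf : Function.Injective f := fun w w' e =>
    Subtype.ext (key _ (h.VQ w'.2) w w.2 (congrArg Subtype.val e)).symm
  obtain ⟨w, hw⟩ := Finite.surjective_of_injective hf ⟨_, e⟩
  rw [key x hx w w.2 (congrArg Subtype.val hw)]; exact w.2

theorem jfix {ρ : G} (hρ : ρ ∈ zpowers j) (ρ1 : ρ ≠ 1) {γ : Ω} (e : ρ • γ = γ) :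
    γ = α ∨ γ = β := by
  refine or_iff_not_imp_left.2 fun ne => ?_
  obtain ⟨x, hx, rfl⟩ := h.tr γ ne
  by_cases x1 : x = 1
  · rw [x1, one_smul]
  · exact absurd (h.fpf' hρ hx x1 (mul_inv_eq_iff_eq_mul.2
      ((h.fix_iff (h.Ja hρ) (h.Jb hρ) hx).1 e).symm)) ρ1

/-- Elements of `C(V)` fixing `β` commute with `j`. -/
theorem Wj {g ρ : G} (hg : g ∈ 𝐂(V)) (hb : g • β = β) (hρ : ρ ∈ zpowers j) : Commute g ρ := by
  have c : Commute g j := by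
    have m := h.nj g (h.Ca hg) hb
    have := h.JC (mul_mem m (inv_mem (mem_zpowers j))) fun v hv => by
      have e1 := hg _ (h.JV (inv_mem (mem_zpowers j)) hv)
      have e2 := hg v hv
      rw [inv_inv] at e1
      calc v * (g * j * g⁻¹ * j⁻¹) = (v * g) * j * g⁻¹ * j⁻¹ := by group
        _ = g * j * (j⁻¹ * v * j * g⁻¹) * j⁻¹ := by rw [e2]; group
        _ = g * j * (g⁻¹ * (j⁻¹ * v * j)) * j⁻¹ := by
          rw [show j⁻¹ * v * j * g⁻¹ = g⁻¹ * (j⁻¹ * v * j) from (Commute.inv_right e1).eq]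
        _ = _ := by group
    exact mul_inv_eq_iff_eq_mul.1 (mul_inv_eq_one.1 this)
  obtain ⟨n, rfl⟩ := hρ
  exact c.zpow_right n

/-- A subgroup of order at most `q²` containing `V` and the `j`-conjugates of `x ∉ V`. -/
theorem cover {C : Subgroup G} (hV : V ≤ C) {x : G} (hx : x ∈ Q) (xV : x ∉ V)
    (hJ : ∀ ρ ∈ zpowers j, ρ * x * ρ⁻¹ ∈ C) : q ^ 2 ≤ #|C| ∧ (#|C| ≤ q ^ 2 → ∀ y ∈ C,
      y ∈ V ∨ ∃ ρ ∈ zpowers j, (ρ * x * ρ⁻¹)⁻¹ * y ∈ V) := by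
  let f : Option (zpowers j) × V → C := fun p => ⟨p.1.elim 1 (fun ρ => ρ * x * (ρ : G)⁻¹) * p.2,
    mul_mem (by rcases p with ⟨_ | ρ, v⟩; exacts [one_mem _, hJ ρ ρ.2]) (hV p.2.2)⟩
  have nv : ∀ (ρ : zpowers j) (v w : V), (v : G) ≠ ρ * x * (ρ : G)⁻¹ * w := fun ρ v w e =>
    xV (h.JV' ρ.2 (by rw [← mul_inv_eq_iff_eq_mul.2 e]; exact mul_mem v.2 (inv_mem w.2)))
  have hf : Function.Injective f := by
    rintro ⟨_ | ρ, v⟩ ⟨_ | σ, w⟩ e <;> replace e := congrArg Subtype.val e <;>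
      simp only [f, Option.elim, one_mul] at e
    · rw [Subtype.ext e]
    · exact absurd e (nv σ v w)
    · exact absurd e.symm (nv ρ w v)
    · have m : ((σ : G)⁻¹ * ρ) ∈ zpowers j := mul_mem (inv_mem σ.2) ρ.2
      have : (σ : G)⁻¹ * ρ = 1 := by
        by_contra ne
        refine xV (h.fpfU m ne hx ?_)
        have e1 : (ρ : G) * x * (ρ : G)⁻¹ = σ * x * (σ : G)⁻¹ * (w * (v : G)⁻¹) := by
          rw [← mul_assoc _ (w : G), ← e]; group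
        have e2 : (σ : G)⁻¹ * ρ * x * ((σ : G)⁻¹ * ρ)⁻¹ * x⁻¹ =
            x * ((σ : G)⁻¹ * (w * (v : G)⁻¹) * (σ : G)⁻¹⁻¹) * x⁻¹ := by
          calc _ = (σ : G)⁻¹ * ((ρ : G) * x * (ρ : G)⁻¹) * σ * x⁻¹ := by group
            _ = _ := by rw [e1]; group
        rw [e2]
        exact h.Vn (h.Qa x hx) (h.JV (inv_mem σ.2) (mul_mem w.2 (inv_mem v.2)))
      obtain rfl : σ = ρ := Subtype.ext (inv_mul_eq_one.1 this)
      rw [Subtype.ext (mul_left_cancel e)]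
  have hc : Nat.card (Option (zpowers j) × V) = q ^ 2 := by
    have := h.q4
    rw [Nat.card_prod, Finite.card_option, Nat.card_zpowers, h.ord, h.cardV, Nat.sub_add_cancel
      (by omega), pow_two]
  refine ⟨hc ▸ Nat.card_le_card_of_injective f hf, fun le y hy => ?_⟩
  obtain ⟨⟨_ | ρ, v⟩, e⟩ := (hf.bijective_of_nat_card_le (hc ▸ le)).2 ⟨y, hy⟩ <;>
    replace e := congrArg Subtype.val e <;> simp only [f, Option.elim, one_mul] at e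
  · exact Or.inl (e ▸ v.2)
  · exact Or.inr ⟨ρ, ρ.2, by rw [← e, inv_mul_cancel_left]; exact v.2⟩

theorem trU (hq : #|Q| = q ^ 2) {x y : G} (hx : x ∈ Q) (xV : x ∉ V) (hy : y ∈ Q) (yV : y ∉ V) :
    ∃ ρ ∈ zpowers j, (ρ * x * ρ⁻¹)⁻¹ * y ∈ V :=
  ((h.cover h.VQ hx xV fun _ hρ => h.JQ hρ hx).2 hq.le y hy).resolve_left yV

theorem sq_mul {x v : G} (hx : x ∈ Q) (hv : v ∈ V) : x * v * (x * v) = x * x := by
  rw [mul_assoc, ← mul_assoc v, (h.cent v hv x hx).eq, mul_assoc x v, h.Vsq hv, mul_one]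

theorem sq_of {x y : G} (hx : x ∈ Q) (e : x⁻¹ * y ∈ V) : y * y = x * x := by
  rw [← h.sq_mul hx e, mul_inv_cancel_left]

theorem sqinj (hq : #|Q| = q ^ 2) {x y : G} (hx : x ∈ Q) (hy : y ∈ Q) (e : x * x = y * y) :
    x⁻¹ * y ∈ V := by
  by_cases xV : x ∈ V
  · exact mul_mem (inv_mem xV) ((h.two y hy).1 (e ▸ h.Vsq xV))
  have x1 : x * x ≠ 1 := fun e => xV ((h.two x hx).1 e)
  obtain ⟨ρ, hρ, m⟩ := h.trU hq hx xV hy fun yV => x1 (e.trans (h.Vsq yV))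
  have e1 := h.sq_of (h.JQ hρ hx) m
  have : ρ = 1 := h.fpf' hρ (mul_mem hx hx) x1 (by
    conv_rhs => rw [e, e1]
    group)
  simpa [this] using m

theorem sq_comm {x y : G} (hx : x ∈ Q) (hy : y ∈ Q) (c : Commute x y) (e : x * x = y * y) :
    x⁻¹ * y ∈ V :=
  (h.two _ (mul_mem (inv_mem hx) hy)).1 (by
    rw [← pow_two, c.inv_left.mul_pow, inv_pow, pow_two, pow_two, e, inv_mul_cancel])

theorem pow_dec {x g : G} (hx : x ∈ Q) (hg : g • α = α) (n : ℕ) : (x * g) ^ n * (g ^ n)⁻¹ ∈ Q := by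
  induction n with
  | zero => simp
  | succ n ih =>
    have e : (x * g) ^ (n + 1) * (g ^ (n + 1))⁻¹ = x * (g * ((x * g) ^ n * (g ^ n)⁻¹) * g⁻¹) := by
      rw [pow_succ', pow_succ']; group
    rw [e]; exact mul_mem hx (h.Qn g hg _ ih)

/-- Decomposition of an element of `C(V)`. -/
theorem decW {g : G} (hg : g ∈ 𝐂(V)) : ∃ x ∈ Q, ∃ τ ∈ 𝐂(V), τ • β = β ∧ g = x * τ ∧
    ∀ n : ℕ, g ^ n ∈ Q ↔ τ ^ n = 1 := by
  obtain ⟨x, hx, e⟩ := h.dec (h.Ca hg)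
  have m : x⁻¹ * g ∈ 𝐂(V) := mul_mem (inv_mem (h.QC hx)) hg
  refine ⟨x, hx, _, m, e, by group, fun n => ?_⟩
  have := h.pow_dec hx (h.Ca m) n
  rw [mul_inv_cancel_left] at this
  refine ⟨fun hn => h.reg _ ?_ (pow_mem (show _ ∈ stabilizer G β from e) n), fun hn => ?_⟩
  · simpa using mul_mem (inv_mem this) hn
  · simpa [hn] using this

theorem p2 : IsPGroup 2 Q := fun x => ⟨2, Subtype.ext (by
  have := h.Vsq (h.sq x x.2)
  change (x : G) ^ 2 ^ 2 = 1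
  rw [← this]; simp only [pow_succ, pow_zero, one_mul, mul_assoc, Nat.reduceMul])⟩

end Good

end Cfsg.Agent.ZD
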