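import Cfsg.Agent.Lib.ZD.Good2b
import Cfsg.Agent.Lib.ZD.A2

/-! Row GOOD2, part c: involutions fixing two points. -/

open Subgroup MulAction
open scoped commutatorElement

set_option linter.unusedSectionVars false

namespace Cfsg.Agent.ZD

open FT Tr

universe u

theorem g2_arith1 {q N x : ℕ} (hq : 4 ≤ q) (hx : q ≤ x) (hxN : x ≤ N) (hN : N ≤ q ^ 3)
    (e : (N - x) * (q - 1) = (x + 1) * (q - 1) * x * (q - 1)) : x = q ∧ N = q ^ 3 := by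
  obtain ⟨m, rfl⟩ : ∃ m, q = m + 1 := ⟨q - 1, by omega⟩
  obtain ⟨k, rfl⟩ := Nat.exists_eq_add_of_le hxN
  simp only [Nat.add_sub_cancel, Nat.add_sub_cancel_left] at e
  obtain rfl := Nat.eq_of_mul_eq_mul_right (by omega) e
  obtain rfl : x = m + 1 := by
    by_contra ne
    obtain ⟨c, rfl⟩ : ∃ c, x = m + 2 + c := ⟨x - (m + 2), by omega⟩
    nlinarith [Nat.zero_le (c * c * m), Nat.zero_le (c * m * m), Nat.zero_le (c * m)]
  exact ⟨rfl, by ring⟩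

theorem g2_arith2 {c s r : ℕ} (hc : 1 ≤ c) (hs : s + r = 6 * c)
    (e : (2 ^ s * 2 ^ r - 2 ^ s) * ((2 ^ c) ^ 2 - 1) =
      (2 ^ s + 1) * (2 ^ c - 1) * 2 ^ s * (2 ^ c - 1)) : False := by
  obtain ⟨m, hm⟩ : ∃ m, 2 ^ c = m + 1 := ⟨2 ^ c - 1, by have := Nat.two_pow_pos c; omega⟩
  have m1 : 1 ≤ m := by have := Nat.pow_le_pow_right (n := 2) (by omega) hc; omega
  have e1 : 2 ^ r * (m + 2) = 2 ^ s * m + 2 * (m + 1) := by
    obtain ⟨k, hk⟩ : ∃ k, 2 ^ r = k + 1 := ⟨2 ^ r - 1, by have := Nat.two_pow_pos r; omega⟩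
    rw [hm, hk, mul_add, mul_one, Nat.add_sub_cancel, Nat.add_sub_cancel,
      show (m + 1) ^ 2 - 1 = m * (m + 2) from Nat.sub_eq_of_eq_add (by ring)] at e
    have := Nat.eq_of_mul_eq_mul_left (Nat.mul_pos (Nat.two_pow_pos s) m1)
      (show 2 ^ s * m * (k * (m + 2)) = 2 ^ s * m * ((2 ^ s + 1) * m) by linarith)
    rw [hk]; linarith
  have p : 2 ^ (c + 1) = 2 * (m + 1) := by rw [pow_succ, hm, mul_comm]
  by_cases hsc : s ≤ c + 1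
  · have h1 := Nat.pow_le_pow_right (n := 2) (by omega) hsc
    have h2 := Nat.pow_le_pow_right (n := 2) (by omega) (show c + 1 ≤ r by omega)
    nlinarith
  · obtain ⟨t, rfl⟩ : ∃ t, s = c + 1 + (t + 1) := ⟨s - (c + 2), by omega⟩
    have o1 : Nat.Coprime 2 (m + 2) := Nat.coprime_two_left.2 (by
      rw [show m + 2 = 2 ^ c + 1 by omega]
      exact (Nat.even_pow.2 ⟨even_two, by omega⟩).add_one)
    have o2 : Nat.Coprime 2 (2 ^ (t + 1) * m + 1) := Nat.coprime_two_left.2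
      (((Nat.even_pow.2 ⟨even_two, by omega⟩).mul_right m).add_one)
    have e2 : 2 ^ r * (m + 2) = 2 ^ (c + 1) * (2 ^ (t + 1) * m + 1) := by
      rw [e1, ← p, pow_add]; ring
    have e3 : 2 ^ r = 2 ^ (c + 1) := Nat.dvd_antisymm
      ((o2.pow_left r).dvd_of_dvd_mul_right (e2 ▸ dvd_mul_right _ _))
      ((o1.pow_left _).dvd_of_dvd_mul_right (e2 ▸ dvd_mul_right _ _))
    rw [e3] at e2
    have e4 := Nat.eq_of_mul_eq_mul_left (Nat.two_pow_pos _) e2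
    have e5 := Nat.pow_right_injective le_rfl e3
    have h1 : t + 1 < 2 ^ (t + 1) := Nat.lt_two_pow_self
    have h2 : c < 2 ^ c := Nat.lt_two_pow_self
    have : 2 ^ (t + 1) ≤ 2 := by nlinarith
    omega

variable {G : Type u} {Ω : Type u} [Group G] [MulAction G Ω] [Finite G]

namespace Good

variable {D : Set G} {α β : Ω} {Q V : Subgroup G} {j : G} {q : ℕ} (h : Good D α β Q V j q)
include h

theorem ncard_DA (C : Subgroup G) : (DA (D ∩ C) α).ncard = #|V ⊓ C| - 1 := by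
  have e : DA (D ∩ C) α = ((V ⊓ C : Subgroup G) : Set G) \ {1} := by
    ext v
    refine ⟨fun hv => ⟨⟨(h.memV v).2 (Or.inr ⟨hv.1.1, hv.2⟩), hv.1.2⟩, h.zd.ne_one hv.1.1⟩,
      fun hv => ?_⟩
    have := ((h.memV v).1 hv.1.1).resolve_left hv.2
    exact ⟨⟨this.1, hv.1.2⟩, this.2⟩
  rw [e, Set.ncard_sdiff_singleton_of_mem (one_mem _)]; rfl

theorem cnt {τ d g : G} (h2 : τ * τ = 1) (ha : τ • α = α) (hb : τ • β = β) (hd : d ∈ V)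
    (d1 : d ≠ 1) (hc : Commute d τ) (hg : g * τ * g⁻¹ = τ * d) :
    (#|Q| - #|Q ⊓ 𝐂[τ]|) * (q - 1) =
      (#|Q ⊓ 𝐂[τ]| + 1) * (#|V ⊓ 𝐂[τ]| - 1) * #|Q ⊓ 𝐂[τ]| * (#|V ⊓ 𝐂[τ]| - 1) := by
  have := h.finΩ
  obtain ⟨dD, da⟩ := ((h.memV d).1 hd).resolve_left d1
  have c := h.zd.cnt h2 trivial ⟨α, trivial, β, trivial, h.ne, ha, hb⟩ dD hc (δ := α) trivial da
  have e1 : V ⊓ 𝐂[τ * d] = V ⊓ 𝐂[τ] := by
    ext v
    refine and_congr_right fun hv => ?_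
    have cv := h.cent v hv d (h.VQ hd)
    exact ⟨fun m => mem_cent1.2
      (by simpa using Commute.mul_right (mem_cent1.1 m) cv.inv_right : Commute v τ),
      fun m => mem_cent1.2 (Commute.mul_right (mem_cent1.1 m) cv)⟩
  have e2 : (DA D α).ncard = q - 1 := by simpa [h.cardV] using h.ncard_DA ⊤
  rw [e2, h.ncard_DA, h.ncard_DA, e1, ← hg, ncard_fix_conj (by simp) (by simp), Set.univ_inter,
    Set.ncard_sdiff (Set.subset_univ _), Set.ncard_univ, h.cardΩ, h.cardFix ha hb] at c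
  simpa using c

theorem frC {τ : G} (h2 : τ * τ = 1) (h1 : τ ≠ 1) (hb : τ • β = β) (hc : τ ∈ 𝐂(V)) :
    #|Q| = q ^ 3 ∧ ∀ x ∈ Q, Commute x τ → x ∈ V := by
  have ha := h.Ca hc
  have q4 := h.q4
  obtain ⟨d, hd, d1⟩ := h.exV
  obtain ⟨ε, hε⟩ : ∃ ε : Ω, τ • ε ≠ ε := by by_contra! c; exact h1 (h.faith τ c)
  have dD := (((h.memV d).1 hd).resolve_left d1).1
  have ne : j * d * j⁻¹ ≠ d := fun e => h.j_ne (h.fpf' (mem_zpowers j) (h.VQ hd) d1 e)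
  have jd := h.JV (mem_zpowers j) hd
  obtain ⟨g, -, hg⟩ := h.zd.conj_mul (fun d hd e he => h.zd.mul_mem (fun g _ hg =>
    h.faith g fun ω => hg ω trivial) hd he) h2 trivial ⟨α, trivial, β, trivial, h.ne, ha, hb⟩
    (ε := ε) trivial hε ⟨_, ⟨h.zd.conj d dD j trivial, mem_cent1.2 (hc _ jd)⟩, d,
      ⟨dD, mem_cent1.2 (hc d hd)⟩, ne, h.cent _ jd d (h.VQ hd)⟩ dD (hc d hd)
  have c := h.cnt h2 ha hb hd d1 (hc d hd) hg
  have le : V ≤ 𝐂[τ] := fun v hv => mem_cent1.2 (hc v hv)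
  rw [inf_eq_left.2 le, h.cardV] at c
  have le' : V ≤ Q ⊓ 𝐂[τ] := le_inf h.VQ le
  obtain ⟨e1, e2⟩ := g2_arith1 q4 (h.cardV ▸ card_le_of_le le') (card_le_of_le inf_le_left)
    h.card_le c
  refine ⟨e2, fun x hx cx => ?_⟩
  rw [eq_of_le_of_card_ge le' (e1.trans h.cardV.symm).le]
  exact ⟨hx, mem_cent1.2 cx⟩

theorem nJ {g ρ : G} (ha : g • α = α) (hb : g • β = β) (hρ : ρ ∈ zpowers j) :
    g * ρ * g⁻¹ ∈ zpowers j := by
  obtain ⟨n, rfl⟩ := g2_pw hρ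
  rw [← conj_pow]; exact pow_mem (h.nj g ha hb) n

theorem card_CJ {g v : G} (ha : g • α = α) (hb : g • β = β) (hv : v ∈ V) (v1 : v ≠ 1)
    (hc : Commute v g) : #|V ⊓ 𝐂[g]| - 1 ∣ q - 1 := by
  have e : ((V ⊓ 𝐂[g] : Subgroup G) : Set G) \ {1} =
      (fun ρ => ρ * v * ρ⁻¹) '' ((zpowers j ⊓ 𝐂[g] : Subgroup G) : Set G) := by
    ext w
    constructor
    · rintro ⟨⟨hw, cw⟩, w1⟩
      obtain ⟨ρ, hρ, rfl⟩ := h.trJ hv v1 hw w1
      refine ⟨ρ, ⟨hρ, mem_cent1.2 (mul_inv_eq_iff_eq_mul.1 (inv_mul_eq_one.1 (h.fpf'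
        (mul_mem (inv_mem hρ) (h.nJ ha hb hρ)) (h.VQ hv) v1 ?_)).symm).symm⟩, rfl⟩
      calc _ = ρ⁻¹ * (g * ρ * (g⁻¹ * v * g) * ρ⁻¹ * g⁻¹) * ρ := by group
        _ = ρ⁻¹ * (g * (ρ * v * ρ⁻¹) * g⁻¹) * ρ := by rw [mul_assoc g⁻¹, hc.eq]; group
        _ = v := by rw [← mem_cent1.1 cw]; group
    · rintro ⟨ρ, ⟨hρ, c⟩, rfl⟩
      exact ⟨⟨h.JV hρ hv, (𝐂[g]).mul_mem ((𝐂[g]).mul_mem c (mem_cent1.2 hc)) ((𝐂[g]).inv_mem c)⟩,
        by simpa using v1⟩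
  have e2 := congrArg Set.ncard e
  rw [Set.ncard_sdiff_singleton_of_mem (one_mem _), Set.InjOn.ncard_image fun ρ hρ σ hσ e =>
    (inv_mul_eq_one.1 (h.fpf' (mul_mem (inv_mem hσ.1) hρ.1) (h.VQ hv) v1 (by
      calc _ = σ⁻¹ * (ρ * v * ρ⁻¹) * σ := by group
        _ = v := by rw [show ρ * v * ρ⁻¹ = _ from e]; group))).symm] at e2
  rw [show #|V ⊓ 𝐂[g]| - 1 = #|zpowers j ⊓ 𝐂[g]| from e2, ← h.ord, ← card_cycle]
  exact cardSg inf_le_left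

theorem frN {τ : G} (h2 : τ * τ = 1) (ha : τ • α = α) (hb : τ • β = β) (hc : τ ∉ 𝐂(V)) :
    Q = V ∧ #|V ⊓ 𝐂[τ]| ^ 2 = q ∧ ∀ v ∈ V, Commute v τ → ∃ u ∈ V, v = u * τ * u * τ := by
  have ti := inv_eq_of_mul_self h2
  have tt : ∀ x, τ * (τ * x) = x := fun x => by rw [← mul_assoc, h2, one_mul]
  have tV : ∀ u ∈ V, τ * u * τ ∈ V := fun u hu => by simpa [ti] using h.Vn ha hu
  have cV : ∀ u ∈ V, ∀ v ∈ V, u * v = v * u := fun u hu v hv => h.cent u hu v (h.VQ hv)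
  have ker : ∀ u ∈ V, u * τ * u * τ = 1 ↔ u ∈ 𝐂[τ] := fun u hu => by
    rw [mem_cent1, mul_assoc, mul_eq_one_iff_eq_inv, mul_inv_rev, ti, h.Vinv hu]
  have cj : ∀ u ∈ V, u * τ * u⁻¹ = τ * (u * τ * u * τ) := fun u hu => by
    calc _ = u * (τ * u * τ) * τ := by simp only [h.Vinv hu, mul_assoc, h2, mul_one]
      _ = _ := by rw [cV u hu _ (tV u hu)]; group
  have im : ∀ u ∈ V, u * τ * u * τ ∈ V ⊓ 𝐂[τ] := fun u hu => by
    refine ⟨by simpa [mul_assoc] using mul_mem hu (tV u hu), mem_cent1.2 ?_⟩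
    rw [← cj u hu, h.Vinv hu, mul_assoc, h2, mul_one]
  obtain ⟨R, hR, e⟩ := g2_card_hom V 𝐂[τ] (fun u => u * τ * u * τ) (fun u hu v hv => by
    calc u * v * τ * (u * v) * τ = u * (v * (τ * u * τ)) * τ * v * τ := by
          simp only [mul_assoc, tt]
      _ = _ := by rw [cV v hv _ (tV u hu)]; group) ker
  have RC : R ≤ V ⊓ 𝐂[τ] := fun r hr => by obtain ⟨u, hu, rfl⟩ := (hR r).1 hr; exact im u hu
  obtain ⟨u, hu, cu⟩ : ∃ u ∈ V, u ∉ 𝐂[τ] := by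
    by_contra! c; exact hc fun v hv => mem_cent1.1 (c v hv)
  have d1 := mt (ker u hu).1 cu
  have c := h.cnt h2 ha hb (im u hu).1 d1 (mem_cent1.1 (im u hu).2) (cj u hu)
  have dv := h.card_CJ ha hb (im u hu).1 d1 (mem_cent1.1 (im u hu).2)
  have lt : #|V ⊓ 𝐂[τ]| ≠ q := fun e => cu ((eq_of_le_of_card_ge (inf_le_left : V ⊓ 𝐂[τ] ≤ V)
    (h.cardV.trans e.symm).le).ge hu).2
  have le := card_le_of_le RC
  have g1 : 1 < #|V ⊓ 𝐂[τ]| := (one_lt_card_iff_ne_bot _).2 (trivgPn.2 ⟨_, im u hu, d1⟩)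
  rw [h.cardV] at e
  have eR : #|V ⊓ 𝐂[τ]| ≤ #|R| := by
    obtain ⟨m, hm⟩ : ∃ m, #|V ⊓ 𝐂[τ]| = m + 1 := ⟨_, (Nat.sub_add_cancel g1.le).symm⟩
    obtain ⟨k, hk⟩ : ∃ k, #|R| = k + 1 := ⟨_, (Nat.sub_add_cancel (cardG_gt0 R)).symm⟩
    rw [hm, hk] at e ⊢; rw [hm] at lt
    rw [hm, ← e, Nat.add_sub_cancel, show (m + 1) * (k + 1) - 1 = m * (k + 1) + k from
      Nat.sub_eq_of_eq_add (by ring), Nat.dvd_add_right (dvd_mul_right _ _)] at dv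
    exact Nat.succ_le_succ (Nat.le_of_dvd (Nat.pos_of_ne_zero fun k0 => lt (by simpa [k0] using e))
      dv)
  have eq : #|V ⊓ 𝐂[τ]| ^ 2 = q := by rw [← e, le_antisymm le eR, pow_two]
  refine ⟨?_, eq, fun v hv cv => ?_⟩
  · obtain ⟨c0, hc0⟩ := IsPGroup.iff_card.1 (h.p2.to_le (inf_le_left.trans h.VQ : V ⊓ 𝐂[τ] ≤ Q))
    rcases h.typ with e | t | t
    · exact e
    · obtain ⟨m, hm⟩ := t.odd
      rw [hm, hc0, ← pow_mul] at eq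
      have := Nat.pow_right_injective le_rfl eq
      omega
    · obtain ⟨s, hs⟩ := IsPGroup.iff_card.1 (h.p2.to_le (inf_le_left : Q ⊓ 𝐂[τ] ≤ Q))
      have d := cardSg (inf_le_left : Q ⊓ 𝐂[τ] ≤ Q)
      rw [t.card, hs, ← eq, hc0, ← pow_mul, ← pow_mul, Nat.pow_dvd_pow_iff_le_right one_lt_two] at d
      obtain ⟨r, hr⟩ := Nat.exists_eq_add_of_le d
      rw [t.card, hs, ← eq, hc0, ← pow_mul _ 2 3, ← pow_mul 2 c0 (2 * 3), hr, pow_add] at c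
      exact (g2_arith2 (Nat.pos_of_ne_zero fun c1 => by rw [hc0, c1] at g1; omega) (by omega) c).elim
  · obtain ⟨u, hu, e⟩ := (hR v).1 ((eq_of_le_of_card_ge RC eR).ge ⟨hv, mem_cent1.2 cv⟩)
    exact ⟨u, hu, e.symm⟩

end Good

end Cfsg.Agent.ZD
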