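import Cfsg.Agent.Lib.ZD.M2a
import Cfsg.Agent.Lib.ZD.A3
import Cfsg.Agent.Lib.ZD.BW

/-! Row M2, step 5: the case `P = K V`. -/

open Subgroup MulAction

namespace Cfsg.Agent.ZD

open FT Tr SF.GP

universe u

variable {G : Type u} {Ω : Type u} [Group G] [MulAction G Ω]

theorem burn [Finite G] [Finite Ω] (S : Subgroup G) (A B : Set G) (hA : A ⊆ S) (hB : B ⊆ S)
    (a b c : ℕ) (h1 : (fixedBy Ω (1 : G)).ncard = a + 1) (h2 : ∀ y ∈ A, (fixedBy Ω y).ncard = b + 1)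
    (h3 : ∀ y ∈ B, (fixedBy Ω y).ncard = c + 1) (a1 : (1 : G) ∉ A) (b1 : (1 : G) ∉ B)
    (ab : ∀ y ∈ A, y ∉ B) (h4 : ∀ y ∈ S, y ≠ 1 → y ∉ A → y ∉ B → (fixedBy Ω y).ncard = 1) :
    #|S| ∣ a + A.ncard * b + B.ncard * c := by
  classical
  have := Fintype.ofFinite G
  have := Fintype.ofFinite Ω
  have e := MulAction.sum_card_fixedBy_eq_card_orbits_mul_card_group S Ω
  have k : ∀ y : S, Fintype.card (fixedBy Ω y) = 1 + ((if y = 1 then a else 0) +
      (if (y : G) ∈ A then b else 0) + (if (y : G) ∈ B then c else 0)) := fun y => by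
    rw [← Nat.card_eq_fintype_card, Nat.card_coe_set_eq,
      show fixedBy Ω y = fixedBy Ω (y : G) from rfl]
    by_cases e1 : y = 1
    · subst e1
      rw [OneMemClass.coe_one, h1, if_pos rfl, if_neg a1, if_neg b1]; omega
    by_cases e2 : (y : G) ∈ A
    · rw [h2 _ e2, if_neg e1, if_pos e2, if_neg (ab _ e2)]; omega
    by_cases e3 : (y : G) ∈ B
    · rw [h3 _ e3, if_neg e1, if_neg e2, if_pos e3]; omega
    · rw [h4 _ y.2 (by simpa using e1) e2 e3, if_neg e1, if_neg e2, if_neg e3]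
  have s : ∀ (A : Set G) (b : ℕ), A ⊆ S →
      ∑ y : S, (if (y : G) ∈ A then b else 0) = A.ncard * b := fun A b hA => by
    rw [← Finset.sum_filter, Finset.sum_const, smul_eq_mul, ← Set.ncard_coe_finset]
    congr 1
    refine Set.ncard_congr (fun y _ => (y : G)) (fun y hy => by simpa using hy)
      (fun _ _ _ _ h => Subtype.ext h) fun y hy => ⟨⟨y, hA hy⟩, by simpa using hy, rfl⟩
  rw [Finset.sum_congr rfl fun y _ => k y, Finset.sum_add_distrib, Finset.sum_add_distrib,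
    Finset.sum_add_distrib, s A b hA, s B c hB, Finset.sum_ite_eq', if_pos (Finset.mem_univ _),
    Finset.sum_const, smul_eq_mul, mul_one, Finset.card_univ] at e
  rw [Nat.card_eq_fintype_card]
  exact (Nat.dvd_add_right dvd_rfl).1 (e ▸ Dvd.intro_left _ rfl)

namespace MF

variable [Finite G] {D : Set G} {t : G} {α β : Ω} {V K P : Subgroup G} {j s s' : G} {q : ℕ}
  (c : MF D t α β V K P j s s' q)
include c

theorem four_dvd_K : 4 ∣ #|K| := by
  obtain ⟨n, hn⟩ := IsPGroup.iff_card.1 (c.p2.to_le c.KP)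
  obtain ⟨k, hk, k1, kt⟩ := c.K4
  have : 3 ≤ #|K| := by
    rw [← Set.ncard_eq_three.2 ⟨1, t, k, c.t1.symm, k1.symm, kt.symm, rfl⟩]
    refine Set.ncard_le_ncard (t := (K : Set G)) ?_
    rintro _ (rfl | rfl | rfl)
    exacts [one_mem K, c.tK, hk]
  rw [hn] at this ⊢
  match n, this with
  | n + 2, _ => exact Dvd.intro_left (2 ^ n) (by ring)

theorem fix_E {e : G} (he : e ∈ K ⊔ V) (h1 : e ∉ V) :
    (fixedBy Ω e).ncard = (fixedBy Ω t).ncard := by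
  obtain ⟨k, hk, v, hv, rfl⟩ := c.memE.1 he
  obtain ⟨w, hw, e⟩ := c.cover k hk (by rintro rfl; exact h1 (by simpa)) v hv
  obtain ⟨h, hh, e'⟩ := c.tr2 w hw
  rw [← e', mem_NN_conj] at e
  have hK := c.PN ((memJ_norm' hh.1).2 (c.EP he)) e
  rw [show k * v = h * (h⁻¹ * (k * v) * h) * h⁻¹ by group, ncard_fixedBy_conj]
  congr 1
  refine Set.ext (c.FK _ hK fun e1 => h1 ?_)
  rw [show k * v = h * (h⁻¹ * (k * v) * h) * h⁻¹ by group, e1]; simp

theorem P_le_SS : P ≤ SS K V := fun x hx => mem_SS.2 ⟨c.PV hx, fun k hk => by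
  rw [(c.Pk hx hk).eq]; simp⟩

theorem fix_V {v : G} (hv : v ∈ V) (h1 : v ≠ 1) : fixedBy Ω v = {α} :=
  Set.ext fun _ => ⟨c.eq_a hv h1, fun h => h ▸ c.Va hv⟩

theorem cent_ne_top {y : G} (h1 : y ≠ 1) (ha : y • α = α) : 𝐂[y] ≠ ⊤ := fun e =>
  c.min.stab_ne_top (F := fixedBy Ω y) ha (self_mem_Ker y) h1 (eq_top_iff.2 (e ▸ cent1_le_Stab y))

end MF

theorem mb1 : MB1Stmt.{u} := by
  intro G Ω _ _ _ D t α β V K P j s s' q c htr hP hF
  have := c.fin
  set S := SS K V with hS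
  have SV : ∀ y ∈ S, y ∈ 𝐂(V) := fun y hy => (mem_SS.1 hy).1
  have dV : ∀ y ∈ S, y * t * y⁻¹ * t⁻¹ ∈ V := fun y hy => (mem_SS.1 hy).2 t c.tK
  have ker : ∀ x ∈ S, ∀ y ∈ S, x * t * x⁻¹ * t⁻¹ = y * t * y⁻¹ * t⁻¹ → x⁻¹ * y ∈ P :=
    fun x hx y hy e => c.CC c.tK c.t1 (SV _ (mul_mem (inv_mem hx) hy)) (by
      have e := mul_right_cancel e
      calc x⁻¹ * y * t = x⁻¹ * (y * t * y⁻¹) * y := by group
        _ = t * (x⁻¹ * y) := by rw [← e]; group)
  have cS : #|S| = #|K| * q * q := by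
    have h1 := ncard_class t S
    have h2 : {y | ∃ g ∈ S, g * t * g⁻¹ = y} = (fun v => t * v) '' V := by
      ext y
      constructor
      · rintro ⟨g, hg, rfl⟩
        refine ⟨_, dV g hg, ?_⟩
        dsimp only
        rw [(c.kv c.tK (dV g hg)).eq]; group
      · rintro ⟨v, hv, rfl⟩; exact htr v hv
    rw [h2, Set.ncard_image_of_injective _ (mul_right_injective t)] at h1
    have h3 : S ⊓ 𝐂[t] = P := le_antisymm (fun y hy => c.CC c.tK c.t1 (SV y hy.1) (mem_cent1.1 hy.2))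
      (le_inf c.P_le_SS fun x hx => mem_cent1.2 (c.Pk hx c.tK))
    rw [← BW.card_mul_relIndex' S 𝐂[t], h3, ← h1, c.cardP hF, ← c.cardV]; rfl
  have sq : ∀ y ∈ S, y ∉ P → y * y ∈ V := fun y hy hn => by
    have h1 : y * y ∈ P := by
      have := ker y⁻¹ (inv_mem hy) y hy (by
        have e := (c.cv (SV y hy) (dV y hy)).eq
        have e2 := c.twoV (dV y hy)
        have e3 := (c.kv c.tK (dV y hy)).eq
        have e4 := inv_eq_of_mul_self c.tt
        generalize hw : y * t * y⁻¹ * t⁻¹ = w at *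
        have e5 : y * t = w * t * y := by rw [← hw]; group
        have e6 : y * (w * t) * y⁻¹ = t := by
          rw [← mul_assoc, e, mul_assoc w, e5, ← mul_assoc, ← mul_assoc, e2]; group
        calc _ = y⁻¹ * (y * (w * t) * y⁻¹) * y⁻¹⁻¹ * t⁻¹ := by rw [e6]
          _ = w := by group)
      rwa [inv_inv] at this
    by_contra h2
    exact hn (c.CE (hP ▸ h1) h2 (SV y hy) ((Commute.refl y).mul_right (Commute.refl y)))
  let I : Set G := {y | y ∈ S ∧ y ∉ P ∧ y * y = 1}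
  have jS : ∀ n : ℕ, ∀ y ∈ I, j ^ n * y * (j ^ n)⁻¹ ∈ I := fun n y hy => by
    have hn := pow_mem c.sing.nj n
    refine ⟨mem_SS.2 ⟨(memJ_norm (cent_norm V hn)).2 (SV y hy.1), fun k hk => ?_⟩,
      fun h => hy.2.1 ((memJ_norm (pow_mem c.jP n)).1 h), ?_⟩
    · have := (memJ_norm hn).2 ((mem_SS.1 hy.1).2 k hk)
      have e : j ^ n * k * (j ^ n)⁻¹ = k := mul_inv_eq_iff_eq_mul.2 ((c.jK hk).pow_left n).eq
      convert this using 1
      conv_lhs => rw [← e]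
      group
    · rw [show j ^ n * y * (j ^ n)⁻¹ * (j ^ n * y * (j ^ n)⁻¹) = j ^ n * (y * y) * (j ^ n)⁻¹ by
        group, hy.2.2]; simp
  have d1 : ∀ y ∈ I, y * t * y⁻¹ * t⁻¹ ≠ 1 := fun y hy e => hy.2.1 (by
    simpa using ker 1 (one_mem _) y hy.1 (by rw [e]; simp))
  have trI : ∀ y ∈ I, ∀ w ∈ V, w ≠ 1 → ∃ n : ℕ,
      j ^ n * y * (j ^ n)⁻¹ * t * (j ^ n * y * (j ^ n)⁻¹)⁻¹ * t⁻¹ = w := fun y hy w hw w1 => by
    obtain ⟨n, e⟩ := c.sing.tr _ (dV y hy.1) (d1 y hy) w hw w1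
    refine ⟨n, ?_⟩
    have e1 : j ^ n * t * (j ^ n)⁻¹ = t := mul_inv_eq_iff_eq_mul.2 ((c.jK c.tK).pow_left n).eq
    rw [← e]
    conv_lhs => rw [← e1]
    group
  have fib : ∀ x ∈ I, ∀ y ∈ I, x * t * x⁻¹ * t⁻¹ = y * t * y⁻¹ * t⁻¹ → x⁻¹ * y ∈ V :=
    fun x hx y hy e => by
    obtain ⟨k, hk, v, hv, e1⟩ := c.memE.1 (hP ▸ ker x hx.1 y hy.1 e)
    by_cases k1 : k = 1
    · rw [← e1, k1, one_mul]; exact hv
    refine absurd (c.CC hk k1 (SV x hx.1) ?_) hx.2.1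
    have e2 : y = x * k * v := by rw [mul_assoc, e1]; group
    have e3 := hy.2.2
    rw [e2, (((c.cv (SV x hx.1) hv).mul_left (c.kv hk hv)).symm).mul_mul_mul_comm, c.twoV hv,
      mul_one] at e3
    rw [Commute, SemiconjBy, ← inv_eq_of_mul_self e3, mul_inv_rev, inv_eq_of_mul_self hx.2.2,
      inv_eq_of_mul_self (c.twoK k hk)]
  have IV : ∀ y ∈ I, ∀ v ∈ V, y * v ∈ I := fun y hy v hv =>
    ⟨mul_mem hy.1 (c.P_le_SS (c.VP hv)), fun h => hy.2.1 ((mul_mem_cancel_right (c.VP hv)).1 h), by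
      rw [(c.cv (SV y hy.1) hv).symm.mul_mul_mul_comm, hy.2.2, c.twoV hv, one_mul]⟩
  have ti : ∀ y ∈ I, TI Ω y := fun y hy => c.min.ti_of_not_mem hy.2.2
    (fun e => hy.2.1 (e ▸ one_mem P)) fun hd => hy.2.1 (c.VP (c.mV hd (c.fixC (SV y hy.1))))
  have VC : ∀ y ∈ I, V ≤ 𝐂[y] := fun y hy => sub_cent1.2 (SV y hy.1)
  have same : ∀ x ∈ I, ∀ y ∈ I, (fixedBy Ω y).ncard = (fixedBy Ω x).ncard := fun x hx y hy => by
    obtain ⟨n, e⟩ := trI x hx _ (dV y hy.1) (d1 y hy)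
    have hx' := jS n x hx
    have hv := fib _ hx' y hy e
    rw [← ncard_fixedBy_conj (j ^ n) x]
    generalize j ^ n * x * (j ^ n)⁻¹ = z at *
    by_cases v1 : z⁻¹ * y = 1
    · rw [inv_mul_eq_one.1 v1]
    obtain ⟨w, hw, w1, wv⟩ := c.exV2 (z⁻¹ * y)
    obtain ⟨g, hg⟩ := c.min.conj_mul (ti z hx') ⟨w, ⟨c.VD hw w1, VC z hx' hw⟩, _,
      ⟨c.VD hv v1, VC z hx' hv⟩, wv, c.cv (c.VV hw) hv⟩ (c.VD hv v1) (mem_cent1.1 (VC z hx' hv))
    rw [← ncard_fixedBy_conj g z, hg, mul_inv_cancel_left]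
  have q4 := c.q4
  have cΩ := c.cardΩ hF
  obtain ⟨r, rfl⟩ : ∃ r, q = r + 1 := ⟨q - 1, by omega⟩
  have ro : Odd r := c.odd_q1
  have cE : ((P : Set G) \ V).ncard + (r + 1) = #|K| * (r + 1) := by
    rw [← c.cardP hF, ← c.cardV]
    exact Set.ncard_sdiff_add_ncard_of_subset c.VP
  have key : ∀ u : ℕ, (∀ y ∈ I, (fixedBy Ω y).ncard = u + 1) →
      4 * (r + 1) ^ 2 ∣ (r + 1) ^ 2 * r + I.ncard * u := fun u hu => by
    have := burn (Ω := Ω) S ((P : Set G) \ V) I (fun y hy => c.P_le_SS hy.1) (fun y hy => hy.1)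
      ((r + 1) ^ 3) (r + 1) u (by
        rw [fixedBy_one_eq_univ, Set.ncard_univ, cΩ, Nat.add_sub_cancel]; ring)
      (fun y hy => by rw [c.fix_E (hP ▸ hy.1) hy.2, hF]) hu (fun h => h.2 (one_mem V))
      (fun h => h.2.1 (one_mem P)) (fun y hy h => h.2.1 hy.1) fun y hy y1 h1 h2 => by
        by_cases hp : y ∈ P
        · rw [c.fix_V (by_contra fun hv => h1 ⟨hp, hv⟩) y1, Set.ncard_singleton]
        · rw [Set.ncard_eq_one]
          refine ⟨α, Set.ext fun ω => ⟨fun h => c.eq_a (sq y hy hp) (fun e => h2 ⟨hy, hp, e⟩)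
            (by rw [mul_smul, h, h]), fun h => h ▸ c.fixC (SV y hy)⟩⟩
    rw [cS] at this
    have e : (r + 1) ^ 3 + ((P : Set G) \ V).ncard * (r + 1) + I.ncard * u =
        #|K| * (r + 1) * (r + 1) + ((r + 1) ^ 2 * r + I.ncard * u) := by rw [← cE]; ring
    rw [e, Nat.dvd_add_right dvd_rfl, mul_assoc, ← pow_two] at this
    exact (Nat.mul_dvd_mul_right c.four_dvd_K _).trans this
  have pos : 0 < (r + 1) ^ 2 := by positivity
  obtain ⟨m, hm⟩ := ro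
  rcases I.eq_empty_or_nonempty with e | ⟨y, hy⟩
  · have := key 0 (by simp [e])
    rw [mul_zero, add_zero, mul_comm, Nat.mul_dvd_mul_iff_left pos] at this
    omega
  have cI : I.ncard = r * (r + 1) := by
    have := c.ncard_DA α
    rw [c.DA_a, Nat.add_sub_cancel] at this
    rw [show r * (r + 1) = ((V : Set G) \ {1}).ncard * (r + 1) by rw [this]]
    refine ncard_fib (fun y w => y * t * y⁻¹ * t⁻¹ = w)
      (fun x hx => ⟨_, ⟨⟨dV x hx.1, d1 x hx⟩, rfl⟩, fun w h => h.2.symm⟩) fun w hw => ?_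
    obtain ⟨n, e⟩ := trI y hy w hw.1 hw.2
    have hz := jS n y hy
    generalize j ^ n * y * (j ^ n)⁻¹ = z at *
    rw [← c.cardV, ← Nat.card_coe_set_eq, ← SetLike.coe_sort_coe, Nat.card_coe_set_eq,
      Nat.card_coe_set_eq, ← Set.ncard_image_of_injective (V : Set G) (mul_right_injective z)]
    congr 1
    refine Set.ext fun x => ⟨fun h => ⟨_, fib z hz x h.1 (e.trans h.2.symm), by simp⟩, ?_⟩
    rintro ⟨v, hv, rfl⟩
    refine ⟨IV z hz v hv, ?_⟩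
    rw [← e, mul_assoc z, ← (c.kv c.tK hv).eq]; group
  obtain ⟨γ, -, δ, -, ne, e1, e2⟩ := (ti y hy).fr
  have ya := c.fixC (SV y hy.1)
  obtain ⟨ε, hε, nε⟩ : ∃ ε ∈ fixedBy Ω y, ε ≠ α := by
    by_cases h : γ = α
    exacts [⟨δ, e2, h ▸ ne.symm⟩, ⟨γ, e1, h⟩]
  rcases c.loc _ (c.cent_ne_top (ti y hy).ne_one ya) _ (c.min.zh_cent1 hy.2.2) (VC y hy) ya ε hε nε
    with h | h | h
  · have := key _ fun x hx => (same y hy x hx).trans h
    rw [cI, show (r + 1) ^ 2 * r + r * (r + 1) * (r + 1) = (r + 1) ^ 2 * (2 * r) by ring, mul_comm,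
      Nat.mul_dvd_mul_iff_left pos] at this
    omega
  · have := key _ fun x hx => (same y hy x hx).trans h
    rw [cI, show (r + 1) ^ 2 * r + r * (r + 1) * (r + 1) ^ 2 = (r + 1) ^ 2 * (r + r * (r + 1)) by
      ring, mul_comm, Nat.mul_dvd_mul_iff_left pos, show r * (r + 1) = 2 * (r * (m + 1)) by
        rw [hm]; ring] at this
    omega
  · have := key _ fun x hx => (same y hy x hx).trans h
    rw [cI, show (r + 1) ^ 2 * r + r * (r + 1) * (r + 1) ^ 3 =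
      (r + 1) ^ 2 * (r + r * (r + 1) ^ 2) by ring, mul_comm, Nat.mul_dvd_mul_iff_left pos,
      show r * (r + 1) ^ 2 = 2 * (r * (m + 1) * (r + 1)) by rw [hm]; ring] at this
    omega

end Cfsg.Agent.ZD
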