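import Cfsg.Agent.Lib.ZD.BW

/-! Row VT of `docs/ZD_PLAN.md`, part 1: sections and the bilinear lemma. -/

open Subgroup MulAction
open scoped commutatorElement

namespace Cfsg.Agent.ZD

open FT Tr

universe u

namespace VT

theorem ring_pow {R : Type*} [Ring R] (h2 : ∀ x : R, x + x = 0) (s : R) (m e : ℕ) :
    (1 + s + s ^ m) ^ 2 ^ e = 1 + s ^ 2 ^ e + (s ^ 2 ^ e) ^ m := by
  induction e with
  | zero => simp
  | succ e ih =>
    rw [pow_succ 2, pow_mul, ih, pow_mul]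
    generalize s ^ 2 ^ e = a
    have hc : a ^ m * a = a * a ^ m := (Commute.self_pow a m).symm.eq
    have : (1 + a + a ^ m) ^ 2 = 1 + a ^ 2 + (a ^ m) ^ 2 + (a + a) + (a ^ m + a ^ m) +
        (a * a ^ m + a ^ m * a) := by noncomm_ring
    rw [this, hc, h2, h2, h2, ← pow_mul, ← pow_mul, mul_comm m]; simp

theorem ring_zero {R : Type*} [Ring R] (h2 : ∀ x : R, x + x = 0) (s : R) (m N : ℕ) (hN : Odd N)
    (hs : s ^ N = 1) (k : ℕ) : ∃ n, (1 + s + s ^ m) ^ (n + k) = 1 + s + s ^ m := by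
  have h1 : 2 ^ (N.totient * k) ≡ 1 [MOD N] := by
    have := (Nat.ModEq.pow_totient (Nat.coprime_two_left.2 hN)).pow k
    rwa [← pow_mul, one_pow] at this
  have h3 : s ^ 2 ^ (N.totient * k) = s := by
    have hp : 1 ≤ 2 ^ (N.totient * k) := Nat.one_le_two_pow
    obtain ⟨c, hc⟩ := (Nat.modEq_iff_dvd' hp).1 h1.symm
    rw [show 2 ^ (N.totient * k) = N * c + 1 by omega, pow_succ, pow_mul, hs, one_pow, one_mul]
  have h4 : k ≤ 2 ^ (N.totient * k) :=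
    (Nat.le_mul_of_pos_left k (Nat.totient_pos.2 hN.pos)).trans Nat.lt_two_pow_self.le
  refine ⟨2 ^ (N.totient * k) - k, ?_⟩
  rw [Nat.sub_add_cancel h4, ring_pow h2, h3]

variable {G : Type*} [Group G] {A B C : Subgroup G} {j x y : G} {m : ℕ}

theorem phi_mem (hj : j ∈ 𝐍(C)) (hx : x ∈ C) : Phi j m x ∈ C :=
  mul_mem (mul_mem hx ((memJ_norm hj).2 hx)) ((memJ_norm (pow_mem hj m)).2 hx)

theorem iter_mem (hj : j ∈ 𝐍(C)) (hx : x ∈ C) (k : ℕ) : (Phi j m)^[k] x ∈ C := by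
  induction k with
  | zero => exact hx
  | succ k ih => rw [Function.iterate_succ_apply']; exact phi_mem hj ih

theorem comm_of_sq (h2 : ∀ x ∈ C, x * x = 1) (hx : x ∈ C) (hy : y ∈ C) : x * y = y * x := by
  rw [← BW.inv_eq (h2 _ (C.mul_mem hx hy)), mul_inv_rev, BW.inv_eq (h2 _ hx), BW.inv_eq (h2 _ hy)]

theorem cjN_pow (hj : j ∈ 𝐍(C)) (s : AddMonoid.End (Additive C))
    (hs : ∀ x : C, s (Additive.ofMul x) = Additive.ofMul (BW.cjN hj x)) (n : ℕ) (x : C) :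
    (((s ^ n) (Additive.ofMul x)).toMul : G) = j ^ n * x * (j ^ n)⁻¹ := by
  induction n generalizing x with
  | zero => simp
  | succ n ih =>
    rw [pow_succ, AddMonoid.End.coe_mul, Function.comp_apply, hs, ih, BW.cjN_coe, pow_succ]
    group

/-- (0) for an elementary abelian group. -/
theorem phi_eq_one (h2 : ∀ x ∈ C, x * x = 1) (hj : j ∈ 𝐍(C)) {N : ℕ} (hN : Odd N)
    (hc : j ^ N ∈ 𝐂(C)) (hx : x ∈ C) {k : ℕ} (hk : (Phi j m)^[k] x = 1) : Phi j m x = 1 := by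
  letI : CommGroup C := { (inferInstance : Group C) with
    mul_comm := fun a b => Subtype.ext (comm_of_sq h2 a.2 b.2) }
  let s : AddMonoid.End (Additive C) := MonoidHom.toAdditive (BW.cjN hj)
  have hs : ∀ x : C, s (Additive.ofMul x) = Additive.ofMul (BW.cjN hj x) := fun _ => rfl
  have e2 : ∀ f : AddMonoid.End (Additive C), f + f = 0 := fun f => by
    ext a
    show ((f a).toMul : G) * (f a).toMul = 1
    exact h2 _ (f a).toMul.2
  have eN : s ^ N = 1 := by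
    ext a
    show (((s ^ N) (Additive.ofMul a.toMul)).toMul : G) = a.toMul
    rw [cjN_pow hj s hs, ← hc _ a.toMul.2, mul_inv_cancel_right]
  have eφ : ∀ a : Additive C, (((1 + s + s ^ m) a).toMul : G) = Phi j m a.toMul := fun a => by
    have := cjN_pow hj s hs m a.toMul
    show ((a.toMul : G) * (BW.cjN hj a.toMul) * ((s ^ m) (Additive.ofMul a.toMul)).toMul) = _
    rw [this]; rfl
  have eI : ∀ (k : ℕ) (a : Additive C),
      ((((1 + s + s ^ m) ^ k) a).toMul : G) = (Phi j m)^[k] a.toMul := fun k => by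
    induction k with
    | zero => intro a; rfl
    | succ k ih =>
      intro a
      rw [pow_succ, AddMonoid.End.coe_mul, Function.comp_apply, ih, eφ, Function.iterate_succ_apply]
  obtain ⟨n, hn⟩ := ring_zero e2 s m N hN eN k
  have h0 : ((1 + s + s ^ m) ^ k) (Additive.ofMul ⟨x, hx⟩) = 0 := by
    apply Additive.toMul.injective
    exact Subtype.ext ((eI k _).trans hk)
  have := eφ (Additive.ofMul ⟨x, hx⟩)
  rw [← hn, pow_add, AddMonoid.End.coe_mul, Function.comp_apply, h0, map_zero] at this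
  exact this.symm

theorem cst_phi (hj : j ∈ 𝐍(B)) (hx : x ∈ 𝐍(B)) :
    cst B (Phi j m x) = Phi (cst B j) m (cst B x) := by
  have h1 := pow_mem hj m
  unfold Phi
  rw [cst_mul (mul_mem hx (mul_mem (mul_mem hj hx) (inv_mem hj)))
    (mul_mem (mul_mem h1 hx) (inv_mem h1)), cst_mul hx (mul_mem (mul_mem hj hx) (inv_mem hj)),
    cst_conj hj hx, cst_conj h1 hx, cst_pow hj]

theorem cst_iter (hj : j ∈ 𝐍(B)) (hx : x ∈ 𝐍(B)) (k : ℕ) :
    cst B ((Phi j m)^[k] x) = (Phi (cst B j) m)^[k] (cst B x) := by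
  induction k with
  | zero => rfl
  | succ k ih =>
    rw [Function.iterate_succ_apply', Function.iterate_succ_apply', ← ih,
      cst_phi hj (iter_mem (normG _ hj) hx k)]

theorem sub (h : NilP A j m) (hC : C ≤ A) (hj : j ∈ 𝐍(C)) : NilP C j m :=
  ⟨h.p2.to_le hC, hj, h.odd.imp fun _ hN => ⟨hN.1, centS hC hN.2⟩, fun x hx => h.nil x (hC hx)⟩

theorem quot (h : NilP A j m) (hA : A ≤ 𝐍(B)) (hj : j ∈ 𝐍(B)) : NilP (A /c B) (cst B j) m := by
  refine ⟨quotient_isPGroup B h.p2, cst_mem_norm h.nj, ?_, fun z hz => ?_⟩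
  · obtain ⟨N, hN, hc⟩ := h.odd
    exact ⟨N, hN, cst_pow hj N ▸ quotient_cent B A (mem_quotient B hc)⟩
  · obtain ⟨x, hx, rfl⟩ := (mem_qt_of_le hA).1 hz
    obtain ⟨k, hk⟩ := h.nil x hx
    exact ⟨k, by rw [← cst_iter hj (hA hx), hk]; exact coset_id (one_mem B)⟩

theorem norm_of_sq (hB : B ≤ C) (h2 : ∀ x ∈ C, x * x ∈ B) : C ≤ 𝐍(B) :=
  norms_of_conj_mem fun a ha b hb => by
    rw [show a * b * a⁻¹ = a * b * (a * b) * b⁻¹ * (a * a)⁻¹ by group]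
    exact mul_mem (mul_mem (h2 _ (mul_mem ha (hB hb))) (inv_mem hb)) (inv_mem (h2 a ha))

/-- (0) -/
theorem phi_mem_of_sq (h : NilP C j m) (hB : B ≤ C) (hj : j ∈ 𝐍(B)) (h2 : ∀ x ∈ C, x * x ∈ B)
    (hx : x ∈ C) : Phi j m x ∈ B := by
  have hn := norm_of_sq hB h2
  have hq := quot h hn hj
  obtain ⟨N, hN, hc⟩ := hq.odd
  obtain ⟨k, hk⟩ := hq.nil _ (mem_quotient B hx)
  refine coset_idr (hn (phi_mem h.nj hx)) ?_
  rw [cst_phi hj (hn hx)]
  refine phi_eq_one (fun z hz => ?_) hq.nj hN hc (mem_quotient B hx) hk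
  obtain ⟨y, hy, rfl⟩ := (mem_qt_of_le hn).1 hz
  rw [← cst_mul (hn hy) (hn hy)]; exact coset_id (h2 y hy)

/-- The central elements of order at most two. -/
def Z1 (A : Subgroup G) : Subgroup G where
  carrier := {z | z ∈ A ∧ z ∈ 𝐂(A) ∧ z * z = 1}
  mul_mem' := fun {a b} ha hb => ⟨mul_mem ha.1 hb.1, mul_mem ha.2.1 hb.2.1, by
    rw [mul_assoc, ← mul_assoc b, ← hb.2.1 a ha.1, mul_assoc, hb.2.2, mul_one, ha.2.2]⟩
  one_mem' := ⟨one_mem _, one_mem _, one_mul 1⟩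
  inv_mem' := fun {a} ha => by rwa [Set.mem_setOf_eq, BW.inv_eq ha.2.2]

theorem Z1_norm (hj : j ∈ 𝐍(A)) : j ∈ 𝐍(Z1 A) := by
  have key : ∀ g ∈ 𝐍(A), ∀ z ∈ Z1 A, g * z * g⁻¹ ∈ Z1 A := fun g hg z hz =>
    ⟨(memJ_norm hg).2 hz.1, (memJ_norm (cent_norm A hg)).2 hz.2.1, by
      rw [show g * z * g⁻¹ * (g * z * g⁻¹) = g * (z * z) * g⁻¹ by group, hz.2.2]; simp⟩
  exact norms_of_conj_mem key hj

theorem z1_conj {z : G} (hz : z ∈ Z1 A) (hx : x ∈ A) : x * z * x⁻¹ = z := by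
  rw [hz.2.1 x hx, mul_inv_cancel_right]

theorem z1_comm {z w : G} (hz : z ∈ Z1 A) (hw : w ∈ Z1 A) : z * w = w * z := (hz.2.1 w hw.1).symm

/-- The bilinear lemma. -/
theorem bl {X Y : Subgroup G} (h : NilP A j m) (hX : X ≤ A) (hY : Y ≤ A) (hjX : j ∈ 𝐍(X))
    (hjY : j ∈ 𝐍(Y)) (hz : ∀ x ∈ X, ∀ y ∈ Y, ⁅x, y⁆ ∈ Z1 A) (hx : x ∈ X) (hy : y ∈ Y) :
    ⁅j * x * j⁻¹, y⁆ = ⁅x, j * y * j⁻¹⁆ := by
  have l : ∀ a ∈ X, ∀ b ∈ X, ∀ c ∈ Y, ⁅a * b, c⁆ = ⁅a, c⁆ * ⁅b, c⁆ := fun a ha b hb c hc => by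
    rw [commutatorElement_mul_left_eq_conj_mul, z1_conj (hz b hb c hc) (hX ha),
      z1_comm (hz b hb c hc) (hz a ha c hc)]
  have r : ∀ a ∈ X, ∀ b ∈ Y, ∀ c ∈ Y, ⁅a, b * c⁆ = ⁅a, b⁆ * ⁅a, c⁆ := fun a ha b hb c hc => by
    rw [commutatorElement_mul_right_eq_mul_conj, mul_assoc, mul_assoc, ← mul_assoc b,
      z1_conj (hz a ha c hc) (hY hb)]
  have p1 : ∀ a ∈ X, Phi j m a ∈ 𝐂(Y) := fun a ha =>
    (phi_mem_of_sq (B := X ⊓ 𝐂(Y)) (sub h hX hjX) inf_le_left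
      (zpowers_le.1 (norms_subcent (zpowers_le.2 hjX) (zpowers_le.2 hjY)))
      (fun a ha => ⟨mul_mem ha ha, fun c hc => by
        have := l a ha a ha c hc
        rw [(hz a ha c hc).2.2, commutatorElement_eq_one_iff_mul_comm] at this
        exact this.symm⟩) ha).2
  have p2 : ∀ b ∈ Y, Phi j m b ∈ 𝐂(X) := fun b hb =>
    (phi_mem_of_sq (B := Y ⊓ 𝐂(X)) (sub h hY hjY) inf_le_left
      (zpowers_le.1 (norms_subcent (zpowers_le.2 hjY) (zpowers_le.2 hjX)))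
      (fun b hb => ⟨mul_mem hb hb, fun a ha => by
        have := r a ha b hb b hb
        rwa [(hz a ha b hb).2.2, commutatorElement_eq_one_iff_mul_comm] at this⟩) hb).2
  have p3 : ∀ z ∈ Z1 A, Phi j m z = 1 := fun z hz =>
    mem_bot.1 (phi_mem_of_sq (C := Z1 A) (sub h (fun _ h => h.1) (Z1_norm h.nj)) bot_le
      (norms1 ⊤ (mem_top j)) (fun _ h => mem_bot.2 h.2.2) hz)
  have hx1 := (memJ_norm hjX).2 hx
  have hy1 := (memJ_norm hjY).2 hy
  have hxm := (memJ_norm (pow_mem hjX m)).2 hx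
  have hym := (memJ_norm (pow_mem hjY m)).2 hy
  have q1 : ∀ c ∈ Y, ⁅x * (j * x * j⁻¹), c⁆ = ⁅j ^ m * x * (j ^ m)⁻¹, c⁆ := fun c hc => by
    have e := l _ (mul_mem hx hx1) _ hxm c hc
    have e1 : ⁅Phi j m x, c⁆ = 1 := commutatorElement_eq_one_iff_mul_comm.2 (p1 x hx c hc).symm
    rw [show x * (j * x * j⁻¹) * (j ^ m * x * (j ^ m)⁻¹) = Phi j m x from rfl, e1] at e
    rw [eq_inv_of_mul_eq_one_left e.symm, BW.inv_eq (hz _ hxm c hc).2.2]
  have q2 : ∀ a ∈ X, ⁅a, y * (j * y * j⁻¹)⁆ = ⁅a, j ^ m * y * (j ^ m)⁻¹⁆ := fun a ha => by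
    have e := r a ha _ (mul_mem hy hy1) _ hym
    have e1 : ⁅a, Phi j m y⁆ = 1 := commutatorElement_eq_one_iff_mul_comm.2 (p2 y hy a ha)
    rw [show y * (j * y * j⁻¹) * (j ^ m * y * (j ^ m)⁻¹) = Phi j m y from rfl, e1] at e
    rw [eq_inv_of_mul_eq_one_left e.symm, BW.inv_eq (hz _ ha _ hym).2.2]
  have q3 := p3 _ (hz x hx y hy)
  unfold Phi at q3
  rw [conjugate_commutatorElement, conjugate_commutatorElement, ← q1 _ hym, ← q2 _ (mul_mem hx hx1),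
    l _ hx _ hx1 _ (mul_mem hy hy1), r _ hx _ hy _ hy1, r _ hx1 _ hy _ hy1] at q3
  have a1 := hz _ hx _ hy
  have a2 := hz _ hx _ hy1
  have a3 := hz _ hx1 _ hy
  have a4 := hz _ hx1 _ hy1
  generalize ⁅x, y⁆ = a at *
  generalize ⁅x, j * y * j⁻¹⁆ = b at *
  generalize ⁅j * x * j⁻¹, y⁆ = c at *
  generalize ⁅j * x * j⁻¹, j * y * j⁻¹⁆ = d at *
  have e : a * d * (a * b * (c * d)) = (a * a) * (b * c) * (d * d) := by
    rw [z1_comm (mul_mem a1 a4) (mul_mem (mul_mem a1 a2) (mul_mem a3 a4)),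
      z1_comm a1 a4]
    rw [show a * b * (c * d) * (d * a) = a * (b * c * (d * d) * a) by group,
      ← z1_comm a1 (mul_mem (mul_mem a2 a3) (mul_mem a4 a4))]
    group
  rw [e, a1.2.2, a4.2.2, one_mul, mul_one] at q3
  rw [eq_inv_of_mul_eq_one_right q3, BW.inv_eq a2.2.2]

end VT

end Cfsg.Agent.ZD
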