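import Cfsg.Agent.Lib.ZD.M2a
import Cfsg.Agent.Lib.ZD.A3
import Cfsg.Agent.Lib.ZD.VT1

/-! Row M2, steps 1-3, part 1: basic facts on `CS`. -/

open Subgroup MulAction

set_option linter.unusedSectionVars false

namespace Cfsg.Agent.ZD

open FT Tr SF.GP

universe u

variable {G : Type u} {Ω : Type u} [Group G] [MulAction G Ω]

theorem eq_of_odd_of_sq {x y : G} (hx : Odd (orderOf x)) (hy : Odd (orderOf y)) (hc : Commute x y)
    (h : x⁻¹ * y * (x⁻¹ * y) = 1) : x = y := by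
  have h1 : orderOf (x⁻¹ * y) ∣ 2 := orderOf_dvd_of_pow_eq_one (by rw [pow_two, h])
  have h2 : orderOf (x⁻¹ * y) ∣ orderOf x * orderOf y := by
    rw [← orderOf_inv x]; exact hc.inv_left.orderOf_mul_dvd_mul_orderOf
  have h3 := Nat.dvd_gcd h1 h2
  rw [Nat.coprime_two_left.2 (hx.mul hy), Nat.dvd_one, orderOf_eq_one_iff] at h3
  exact inv_mul_eq_one.1 h3

theorem eq_one_of_odd_order {x : G} (hx : Odd (orderOf x)) (h : x * x = 1) : x = 1 :=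
  (eq_of_odd_of_sq (by simp) hx (Commute.one_left x) (by simpa using h)).symm

namespace CS

variable [Finite G] {D : Set G} {t : G} {a b : fixedBy Ω t} {R V K P : Subgroup G} {j : G} {q : ℕ}
  {Q W : Subgroup (XT Ω t)} (c : CS D t a b R V K P j q Q W)
include c

theorem mz : ZH ⊤ (Set.univ : Set Ω) D := c.min.zd
theorem mne : (a : Ω) ≠ b := fun e => c.good.ne (Subtype.ext e)
theorem mRt : R ≤ 𝐂[t] := c.sylR.le
theorem mtR : t ∈ R := c.sylR.le_of_le_normalizer (isPGroup_zpowers_sq c.ti.sq)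
  (zpowers_le.2 (cent1id t)) (cents_norm (by rw [cent_cycle]; exact c.mRt)) (mem_zpowers t)
theorem mK {x : G} : x ∈ K ↔ x ∈ R ∧ x ∈ NN Ω t := by rw [c.eqK]; rfl
theorem mtK : t ∈ K := c.mK.2 ⟨c.mtR, self_mem_Ker t⟩
theorem mKN : K ≤ NN Ω t := fun _ h => (c.mK.1 h).2
theorem mPR : P ≤ R := c.eqP ▸ inf_le_left
theorem mPV : P ≤ 𝐂(V) := c.eqP ▸ inf_le_right
theorem mRG : R ≤ GF Ω t := c.mRt.trans (cent_le_GF t)
theorem mPG : P ≤ GF Ω t := c.mPR.trans c.mRG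
theorem mVR : V ≤ R := fun v hv => by
  rcases (c.memV v).1 hv with rfl | h
  exacts [one_mem _, h.2]
theorem mVG : V ≤ GF Ω t := c.mVR.trans c.mRG
theorem mVD {v : G} (hv : v ∈ V) (h1 : v ≠ 1) : v ∈ D := (((c.memV v).1 hv).resolve_left h1).1
theorem mVa {v : G} (hv : v ∈ V) : v • (a : Ω) = a := c.Ra v (c.mVR hv)
theorem meq {v : G} (hv : v ∈ V) (h1 : v ≠ 1) {ω : Ω} (h : v • ω = ω) : ω = a :=
  c.mz.eq_pt (c.mVD hv h1) trivial trivial h (c.mVa hv)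
theorem mVV : V ≤ 𝐂(V) := fun _ hv _ hw => VT.comm_of_sq c.sing.two hw hv
theorem mVP : V ≤ P := c.eqP ▸ le_inf c.mVR c.mVV
theorem mVN {v : G} (hv : v ∈ V) (h : v ∈ NN Ω t) : v = 1 := by
  by_contra h1
  exact c.mne (c.meq hv h1 (h _ b.2)).symm
theorem mfr {x : G} (h : x ∈ NN Ω t) : FR (Set.univ : Set Ω) x := fr_of_Ker a.2 b.2 c.mne h
theorem mPN {x : G} (hx : x ∈ P) (h : x ∈ NN Ω t) : x ∈ K := c.mK.2 ⟨c.mPR hx, h⟩
theorem mkv {k v : G} (hk : k ∈ K) (hv : v ∈ V) : Commute k v := (c.mPV (c.KP hk) v hv).symm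
theorem mkk {k l : G} (hk : k ∈ K) (hl : l ∈ K) : Commute k l := (c.cenK hk l (c.KP hl)).symm
theorem mE {x : G} (hx : x ∈ P) (h : pT Ω t x ∈ W) : x ∈ K ⊔ V := by
  obtain ⟨v, hv, e⟩ := (c.piV _).1 h
  have := c.mPN (mul_mem (inv_mem (c.mVP hv)) hx)
    ((pr_eq_iff' (Stab_inv _) (c.mVG hv) (c.mPG hx)).1 e)
  simpa using mul_mem (mem_sup_right hv) (mem_sup_left this)
theorem mexV (v : G) : ∃ w ∈ V, w ≠ 1 ∧ w ≠ v := by
  by_contra! h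
  have h4 := c.sing.q4
  have : (V : Set G) ⊆ {1, v} := fun w hw => by
    by_cases h1 : w = 1
    exacts [Or.inl h1, Or.inr (h w hw h1)]
  have h2 := (Set.ncard_le_ncard this).trans (Set.ncard_insert_le 1 {v})
  rw [← Nat.card_coe_set_eq, SetLike.coe_sort_coe, c.sing.card, Set.ncard_singleton] at h2
  omega
theorem mfixV {g : G} (h : g ∈ 𝐍(V)) : g • (a : Ω) = a := by
  obtain ⟨v, hv, h1, -⟩ := c.mexV 1
  exact c.meq hv h1 (BS.smul_fixed_of_conj (c.mVa (conj_mem_of_mem_normalizer' h hv)))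
theorem mK4 (h : ¬ #|K| ≤ 2) : ∃ k ∈ K, k ≠ 1 ∧ k ≠ t := by
  by_contra! h'
  have : (K : Set G) ⊆ {1, t} := fun w hw => by
    by_cases h1 : w = 1
    exacts [Or.inl h1, Or.inr (h' w hw h1)]
  exact h ((Set.ncard_le_ncard this).trans ((Set.ncard_insert_le 1 {t}).trans (by simp)))
theorem mline {k w : G} (hk : k ∈ K) (h1 : k ≠ 1) (hw : w ∈ V) :
    ∃ h ∈ 𝐍(P) ⊓ 𝐍(V), h⁻¹ * (k * w) * h ∈ K ∧ h⁻¹ * (k * w) * h ≠ 1 := by
  obtain ⟨w', hw', e⟩ := c.cover k hk h1 w hw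
  obtain ⟨h, hh, e'⟩ := c.tr2 w' hw'
  rw [← e'] at e
  refine ⟨h, hh, c.mPN ((memJ_norm' hh.1).2 (mul_mem (c.KP hk) (c.mVP hw))) (mem_NN_conj.1 e),
    fun e1 => h1 ?_⟩
  have e2 : k * w = 1 := by
    rw [show k * w = h * (h⁻¹ * (k * w) * h) * h⁻¹ by group, e1]; simp
  have e3 := c.mVN hw (eq_inv_of_mul_eq_one_right e2 ▸ inv_mem (c.mKN hk))
  rwa [e3, mul_one] at e2
theorem mW {d : G} (hd : d ∈ D) (hG : d ∈ GF Ω t) (ha : d • (a : Ω) = a) : pT Ω t d ∈ W :=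
  (c.good.memV _).2 (.inr ⟨⟨d, ⟨hd, hG⟩, rfl⟩, (pr_smul_eq (Stab_inv _) hG).2 ha⟩)
theorem mW2 {ξ : XT Ω t} (h : ξ ∈ W) : ξ * ξ = 1 := (c.good.two ξ (c.good.VQ h)).2 h

theorem locX {H : Subgroup G} (hH : H ≠ ⊤) {F : Set Ω} (hz : ZH H F (D ∩ H)) (hV : V ≤ H)
    (hm : ∀ d ∈ D, d • (a : Ω) = a → d ∈ V) (ha : (a : Ω) ∈ F) {γ : Ω} (hγ : γ ∈ F) (ne : γ ≠ a) :
    ∃ Q' j', GoodX (pr H F '' (D ∩ H)) (⟨a, ha⟩ : F) ⟨γ, hγ⟩ Q' (prS hz.inv V) j' q := by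
  obtain ⟨v, hv, v1, -⟩ := c.mexV 1
  obtain ⟨w, hw, w1, wv⟩ := c.mexV v
  obtain ⟨Q', W', j', q', h⟩ := c.min.loc H hH F hz ⟨w, ⟨c.mVD hw w1, hV hw⟩, v,
    ⟨c.mVD hv v1, hV hv⟩, wv, c.mVV hv w hw⟩ ⟨a, ha⟩ ⟨γ, hγ⟩ fun e => ne (congrArg Subtype.val e).symm
  obtain rfl : W' = prS hz.inv V := by
    ext ξ
    rw [h.memV, mem_prS]
    constructor
    · rintro (rfl | ⟨⟨d, hd, rfl⟩, e⟩)
      · exact ⟨1, one_mem _, one_mem _, pr_one hz.inv⟩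
      · exact ⟨d, hm d hd.1 ((pr_smul_eq hz.inv hd.2).1 e), hd.2, rfl⟩
    · rintro ⟨v, hv, hv', rfl⟩
      by_cases v1 : v = 1
      · exact .inl (v1 ▸ pr_one hz.inv)
      · exact .inr ⟨⟨v, ⟨c.mVD hv v1, hv'⟩, rfl⟩, (pr_smul_eq hz.inv hv').2 (c.mVa hv)⟩
  obtain rfl : q' = q := by
    have := card_prS hz.inv hV
    rwa [show V ⊓ Ker G F = ⊥ from eq_bot_iff.2 fun v hv => by_contra fun v1 =>
      ne (c.meq hv.1 v1 (hv.2 γ hγ)), card_bot, one_mul, h.cardV, c.sing.card] at this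
  exact ⟨Q', j', h⟩

end CS

end Cfsg.Agent.ZD
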