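import Cfsg.Agent.Lib.ZD.M2Base1
import Cfsg.Agent.Lib.ZD.A4

/-! Row M2, steps 1-3, part 2. -/

open Subgroup MulAction

set_option linter.unusedSectionVars false

namespace Cfsg.Agent.ZD

open FT Tr SF.GP

universe u

variable {G : Type u} {Ω : Type u} [Group G] [MulAction G Ω]

/-- `CS` with `|K| ≥ 4` and the consequences of (D1) and (C1). -/
structure MB (D : Set G) (t : G) (a b : fixedBy Ω t) (R V K P : Subgroup G) (j : G) (q : ℕ)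
    (Q W : Subgroup (XT Ω t)) : Prop where
  c : CS D t a b R V K P j q Q W
  K4 : ∃ k ∈ K, k ≠ 1 ∧ k ≠ t
  FK : ∀ k ∈ K, k ≠ 1 → ∀ ω : Ω, k • ω = ω ↔ t • ω = ω
  C1 : ∀ k ∈ K, k ≠ 1 → ∀ w ∈ V, w ≠ 1 → ∀ y ∈ 𝐂(V), Commute y k → y ∈ NN Ω (k * w) →
    y * y ∈ NN Ω t

namespace MB

variable [Finite G] {D : Set G} {t : G} {a b : fixedBy Ω t} {R V K P : Subgroup G} {j : G} {q : ℕ}
  {Q W : Subgroup (XT Ω t)} (m : MB D t a b R V K P j q Q W)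
include m

theorem NK {k : G} (hk : k ∈ K) (h1 : k ≠ 1) : NN Ω k = NN Ω t := by
  rw [NN, show fixedBy Ω k = fixedBy Ω t from Set.ext (m.FK k hk h1)]

theorem GK {k : G} (hk : k ∈ K) (h1 : k ≠ 1) : 𝐂[k] ≤ GF Ω t := by
  rw [GF, ← show fixedBy Ω k = fixedBy Ω t from Set.ext (m.FK k hk h1)]; exact cent_le_GF k

theorem gen {X Y : Subgroup G} (hX : Odd #|X|) (hn : K ≤ 𝐍(X))
    (h : ∀ k ∈ K, k ≠ 1 → X ⊓ 𝐂[k] ≤ Y) : X ≤ Y := by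
  obtain ⟨k, hk, k1, kt⟩ := m.K4
  have hle := four_le' (ha := m.c.ti.sq) (hb := m.c.twoK k hk) (h := (m.c.mkk m.c.mtK hk).eq)
    m.c.mtK hk
  exact gen4 (TwoGrp.isKleinFour_four _ _ _ m.c.ti.ne_one k1 kt.symm) hX (hle.trans hn)
    fun e he => h e (hle he)

theorem DG0 {d : G} (hd : d ∈ D) {γ δ : Ω} (hγ : t • γ = γ) (hδ : t • δ = δ) (ne : γ ≠ δ)
    (e : d • γ = δ) : d ∈ GF Ω t := by
  obtain ⟨s, hs, hc, e'⟩ := m.c.mz.exists_cent_swap (isPGroup_zpowers_sq m.c.ti.sq) le_top trivial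
    trivial ne fun g hg => .inl ⟨zpowers_le.2 (show t ∈ stabilizer G γ from hγ) hg,
      zpowers_le.2 (show t ∈ stabilizer G δ from hδ) hg⟩
  rw [cent_cycle] at hc
  have h1 := m.c.mz.swap_mem_core hd hs trivial trivial ne e e'
  have h2 := m.gen (odd_core _) (le_trans (fun k hk => mem_inf.2 ⟨mem_top k, mem_Stab_pair
    (.inl ⟨m.c.mKN hk γ hγ, m.c.mKN hk δ hδ⟩)⟩) (pcore_norm _ _))
    (fun k hk k1 => inf_le_right.trans (m.GK hk k1)) h1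
  exact (mul_mem_cancel_right (cent_le_GF t hc)).1 h2

theorem DG {d : G} (hd : d ∈ D) {γ δ : Ω} (hγ : t • γ = γ) (hδ : t • δ = δ) (e : d • γ = δ) :
    d ∈ GF Ω t := by
  by_cases ne : γ = δ
  swap
  · exact m.DG0 hd hγ hδ ne e
  subst ne
  obtain ⟨ε, ne⟩ := exists_ne_pt m.c.ti ⟨γ, hγ⟩
  have ne' : (ε : Ω) ≠ γ := fun e => ne (Subtype.ext e.symm)
  obtain ⟨d0, hd0, hc, e0⟩ := m.c.min.exists_cent_fix (isPGroup_zpowers_sq m.c.ti.sq)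
    (α := ε) fun g hg => zpowers_le.2 (show t ∈ stabilizer G (ε : Ω) from ε.2) hg
  rw [cent_cycle] at hc
  obtain ⟨s, hs, e1, e2, -⟩ := m.c.mz.exists_swap hd0 hd trivial trivial ne' e0 e
  have := m.DG0 hs ε.2 hγ ne' e2
  exact e1 ▸ mul_mem (mul_mem this (cent_le_GF t hc)) (inv_mem this)

theorem line {k w : G} (hk : k ∈ K) (h1 : k ≠ 1) (hw : w ∈ V) :
    ∃ h ∈ 𝐍(P) ⊓ 𝐍(V), h⁻¹ * (k * w) * h ∈ K ∧ h⁻¹ * (k * w) * h ≠ 1 ∧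
      ∀ x, x ∈ NN Ω (k * w) ↔ h⁻¹ * x * h ∈ NN Ω t := by
  obtain ⟨h, hh, e1, e2⟩ := m.c.mline hk h1 hw
  refine ⟨h, hh, e1, e2, fun x => ?_⟩
  rw [← m.NK e1 e2, ← mem_NN_conj, show h * (h⁻¹ * (k * w) * h) * h⁻¹ = k * w by group]

theorem oddN {d d' : G} (hd : d ∈ D) (hd' : d' ∈ D) (e : d • (a : Ω) = a) (e' : d' • (a : Ω) = a)
    (ho : Odd (orderOf (d * d'))) : d * d' ∈ NN Ω t := by
  have h1 := m.DG hd a.2 a.2 e
  have h2 := m.DG hd' a.2 a.2 e'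
  refine (pr_eq_one (Stab_inv _) (mul_mem h1 h2)).1 (eq_one_of_odd_order
    (ho.of_dvd_nat (orderOf_pr_dvd (Stab_inv _) (mul_mem h1 h2))) (m.c.mW2 ?_))
  rw [pr_mul (Stab_inv _) h1 h2]
  exact mul_mem (m.c.mW hd h1 e) (m.c.mW hd' h2 e')

theorem oddL {k w : G} (hk : k ∈ K) (h1 : k ≠ 1) (hw : w ∈ V) {d d' : G} (hd : d ∈ D) (hd' : d' ∈ D)
    (e : d • (a : Ω) = a) (e' : d' • (a : Ω) = a) (ho : Odd (orderOf (d * d'))) :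
    d * d' ∈ NN Ω (k * w) := by
  obtain ⟨h, hh, -, -, e1⟩ := m.line hk h1 hw
  have ha := m.c.mfixV (inv_mem hh.2)
  have f : ∀ x : G, x • (a : Ω) = a → (h⁻¹ * x * h⁻¹⁻¹) • (a : Ω) = a := fun x hx => by
    have := BS.smul_conj_fixed (g := h⁻¹) hx
    rwa [ha] at this
  have e2 : h⁻¹ * (d * d') * h = h⁻¹ * d * h⁻¹⁻¹ * (h⁻¹ * d' * h⁻¹⁻¹) := by group
  rw [e1, e2]
  refine m.oddN (m.c.min.conj hd _) (m.c.min.conj hd' _) (f d e) (f d' e') ?_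
  rwa [← e2, orderOf_conj']

theorem sqL {k w y : G} (hk : k ∈ K) (h1 : k ≠ 1) (hw : w ∈ V) (w1 : w ≠ 1) (hy : y ∈ NN Ω t)
    (hV : y ∈ 𝐂(V)) (hc : Commute y k) : y * y ∈ NN Ω (k * w) := by
  obtain ⟨h, hh, e1, e2, e3⟩ := m.line hk h1 hw
  rw [e3, show h⁻¹ * (y * y) * h = h⁻¹ * y * h * (h⁻¹ * y * h) by group]
  refine m.C1 _ e1 e2 (h⁻¹ * w * h) ((memJ_norm' hh.2).2 hw) (by
    intro e; apply w1
    rw [show w = h * (h⁻¹ * w * h) * h⁻¹ by group, e]; simp) _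
    ((memJ_norm' (cent_norm V hh.2)).2 hV) ?_ ?_
  · have := (hc.mul_right (show Commute y w from (hV w hw).symm)).eq
    calc _ = h⁻¹ * (y * (k * w)) * h := by group
      _ = _ := by rw [this]; group
  · rw [show h⁻¹ * (k * w) * h * (h⁻¹ * w * h) = h⁻¹ * (k * (w * w)) * h⁻¹⁻¹ by group,
      m.c.sing.two w hw, mul_one, mem_NN_conj, m.NK hk h1]
    simpa [mul_assoc] using hy

theorem triv {k : G} (hk : k ∈ K) (h1 : k ≠ 1) (Y : Set G)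
    (hc : ∀ g, Commute g k → ∀ y ∈ Y, g⁻¹ * y * g ∈ Y) (hN : ∀ y ∈ Y, y ∈ NN Ω t)
    (hw : ∀ w ∈ V, w ≠ 1 → ∀ y ∈ Y, y ∈ NN Ω (k * w)) : ∀ y ∈ Y, y = 1 := fun y hy => by
  refine m.c.min.faith y fun ω => ?_
  by_cases e : k • ω = ω
  · exact hN y hy ω ((m.FK k hk h1 ω).1 e)
  have k2 := m.c.twoK k hk
  obtain ⟨d, hd, dk, e1⟩ := m.c.mz.exists_comm k2 trivial trivial e
  obtain ⟨w, hw', w1, -⟩ := m.c.mexV 1
  obtain ⟨g, -, gk, e2⟩ := m.c.mz.conj_cent1 k2 trivial (m.c.mfr (m.c.mKN hk)) (m.c.mVD hw' w1) hd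
    (m.c.mkv hk hw').symm dk
  have e3 : g * (k * w) * g⁻¹ = k * d := by rw [← e2, ← mul_assoc g, gk.eq]; group
  have := mem_NN_conj.2 (hw w hw' w1 _ (hc g gk y hy))
  rw [e3] at this
  exact this ω (by rw [mem_fixedBy, mul_smul, e1, ← mul_smul, k2, one_smul])

theorem ON : 𝐎(NN Ω t) = ⊥ := by
  have hn : GF Ω t ≤ 𝐍(𝐎(NN Ω t)) := norms_pcore _ (GF_le_norm t)
  refine le_bot_iff.1 (m.gen (odd_core _) ((m.c.mKN.trans (NN_le_GF t)).trans hn)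
    fun k hk k1 y hy => mem_bot.2 ?_)
  have hO : Odd #|𝐎(NN Ω t) ⊓ 𝐂[k]| := (odd_core _).of_dvd_nat (card_dvd_of_le inf_le_left)
  have hk' : 𝐂[k] ≤ 𝐍(𝐎(NN Ω t) ⊓ 𝐂[k]) := normsI ((m.GK hk k1).trans hn) (normG _)
  have hV : V ≤ 𝐂[k] := fun v hv => mem_cent1.2 (m.c.mkv hk hv).symm
  refine m.triv hk k1 (𝐎(NN Ω t) ⊓ 𝐂[k] : Subgroup G)
    (fun g hg y hy => (memJ_norm' (hk' (mem_cent1.2 hg))).2 hy) (fun y hy => pcore_sub _ _ hy.1)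
    (fun w hw w1 => ?_) y hy
  refine le_of_comm_cent hO m.c.ls.p2V (hV.trans hk') (commg_le.2 fun y hy v hv => ?_)
    fun y hy => BW.mem_of_sq hO hy.1 (m.sqL hk k1 hw w1 (pcore_sub _ _ hy.1.1) hy.2
      (mem_cent1.1 hy.1.2))
  by_cases v1 : v = 1
  · simp [v1]
  have ya : y • (a : Ω) = a := pcore_sub _ _ hy.1 a a.2
  have h2 : y * v * y⁻¹ * v⁻¹ ∈ 𝐎(NN Ω t) ⊓ 𝐂[k] := by
    rw [mul_assoc, mul_assoc, ← mul_assoc v]
    exact mul_mem hy ((memJ_norm (hk' (hV hv))).2 (inv_mem hy))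
  have ho := hO.of_dvd_nat (BW.ord_dvd h2)
  rw [m.c.ls.invV hv] at ho ⊢
  refine m.oddL hk k1 hw (m.c.min.conj (m.c.mVD hv v1) y) (m.c.mVD hv v1) ?_ (m.c.mVa hv) ho
  have := BS.smul_conj_fixed (g := y) (m.c.mVa hv)
  rwa [ya] at this

theorem DC {d : G} (hd : d ∈ D) (hG : d ∈ GF Ω t) : d ∈ 𝐂(NN Ω t) := fun n hn => by
  have hdN : zpowers d ≤ 𝐍(NN Ω t) := zpowers_le.2 (GF_le_norm t hG)
  have d2 := m.c.mz.sq hd
  have h1 := zstar_in (L := NN Ω t ⊔ zpowers d) (mem_sup_right (mem_zpowers d)) (m.c.mz.two d hd)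
    (fun g hg hc => by
      by_contra ne
      refine m.c.mz.prod d hd _ (m.c.min.conj hd g) (Ne.symm ne) hc (m.c.mfr ?_)
      obtain ⟨x, hx, y, hy, rfl⟩ := (mem_join_norm hdN).1 hg
      have hc' : y * d * y⁻¹ = d := by
        rcases (mem_zpowers_sq d2).1 hy with rfl | rfl <;> simp
      rw [show d * (x * y * d * (x * y)⁻¹) = d * x * (y * d * y⁻¹) * x⁻¹ by group, hc']
      nth_rw 2 [← m.c.mz.inv_eq hd]
      exact mul_mem (conj_mem_Ker hG hx) (inv_mem hx)) (mem_sup_left hn)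
  have h2 := inf_core_le (le_sup_left : NN Ω t ≤ NN Ω t ⊔ zpowers d)
    (mem_inf.2 ⟨h1, mul_mem (conj_mem_Ker hG hn) (inv_mem hn)⟩)
  rw [m.ON, mem_bot, mul_inv_eq_one, mul_inv_eq_iff_eq_mul] at h2
  exact h2.symm

theorem DF {d : G} (hd : d ∈ D) {γ δ : Ω} (hγ : t • γ = γ) (hδ : t • δ = δ) (e : d • γ = δ) :
    d ∈ 𝐂(NN Ω t) := m.DC hd (m.DG hd hγ hδ e)

theorem mV {d : G} (hd : d ∈ D) (e : d • (a : Ω) = a) : d ∈ V := by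
  have hG := m.DG hd a.2 a.2 e
  obtain ⟨v, hv, e1⟩ := (m.c.piV _).1 (m.c.mW hd hG e)
  have hn := (pr_eq_iff' (Stab_inv _) (m.c.mVG hv) hG).1 e1
  have hc := m.DC hd hG _ hn
  rw [m.c.ls.invV hv] at hn hc
  by_cases v1 : v = 1
  · rw [v1, one_mul] at hn
    exact absurd (m.c.mfr hn) (m.c.mz.uniq d hd)
  by_contra hd'
  refine m.c.mz.prod v (m.c.mVD hv v1) d hd (fun e => hd' (e ▸ hv)) ?_ (m.c.mfr hn)
  rw [← mul_assoc] at hc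
  exact mul_right_cancel hc

theorem NV : NN Ω t ≤ 𝐂(V) := centsC.1 fun v hv => by
  by_cases h1 : v = 1
  · rw [h1]; exact one_mem _
  · exact m.DC (m.c.mVD hv h1) (m.c.mVG hv)

theorem sqN {k n : G} (hk : k ∈ K) (h1 : k ≠ 1) (hn : n ∈ NN Ω t) (hc : Commute n k) :
    n * n = 1 := by
  refine m.triv hk h1 {x | ∃ y ∈ NN Ω t, Commute y k ∧ y * y = x} ?_ ?_ ?_ _ ⟨n, hn, hc, rfl⟩
  · rintro g hg _ ⟨y, hy, hc, rfl⟩
    refine ⟨g⁻¹ * y * g, (memJ_norm' (GF_le_norm t (m.GK hk h1 (mem_cent1.2 hg)))).2 hy,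
      (hg.inv_left.mul_left hc).mul_left hg, by group⟩
  · rintro _ ⟨y, hy, -, rfl⟩; exact mul_mem hy hy
  · rintro w hw w1 _ ⟨y, hy, hc, rfl⟩; exact m.sqL hk h1 hw w1 hy (m.NV hy) hc

theorem CN {k n : G} (hk : k ∈ K) (h1 : k ≠ 1) (hn : n ∈ NN Ω t) (hc : Commute n k) : n ∈ K := by
  have e := VT.comm_of_sq (C := NN Ω t ⊓ 𝐂[k]) (fun x hx => m.sqN hk h1 hx.1 (mem_cent1.1 hx.2))
    ⟨hn, mem_cent1.2 hc⟩ ⟨self_mem_Ker t, mem_cent1.2 (m.c.mkk m.c.mtK hk)⟩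
  refine m.c.mK.2 ⟨m.c.sylR.le_of_le_normalizer (Q := NN Ω t ⊓ 𝐂[t]) ?_ inf_le_right
    (normsI (m.c.mRG.trans (GF_le_norm t)) (normsG m.c.mRt)) ⟨hn, mem_cent1.2 e⟩, hn⟩
  exact isPGroup_iff_forall_mem.2 fun x hx => ⟨1, by
    rw [pow_one, pow_two, m.sqN m.c.mtK m.c.ti.ne_one hx.1 (mem_cent1.1 hx.2)]⟩

theorem eq_of_pi {x y : G} (hx : x ∈ GF Ω t) (hy : y ∈ GF Ω t) (hc : x ∈ 𝐂(NN Ω t))
    (ht : Commute y t) (ho : Odd (orderOf x)) (ho' : Odd (orderOf y)) (e : pT Ω t x = pT Ω t y) :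
    x = y := by
  have hn := (pr_eq_iff' (Stab_inv _) hx hy).1 e
  have hK := m.CN m.c.mtK m.c.ti.ne_one hn
    ((show Commute x t from (hc t (self_mem_Ker t)).symm).inv_left.mul_left ht)
  refine eq_of_odd_of_sq ho ho' ?_ (m.c.twoK _ hK)
  have := (hc _ hn).symm
  rw [mul_inv_cancel_left] at this
  calc x * y = x * (x⁻¹ * y * x) := by rw [← this]
    _ = y * x := by group

end MB

end Cfsg.Agent.ZD
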