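import Cfsg.Agent.Lib.ZD.M2Base2

/-! Row M2, steps 1-4, part 3. -/

open Subgroup MulAction

set_option linter.unusedSectionVars false

namespace Cfsg.Agent.ZD

open FT Tr SF.GP

universe u

variable {G : Type u} {Ω : Type u} [Group G] [MulAction G Ω]

namespace MB

variable [Finite G] {D : Set G} {t : G} {a b : fixedBy Ω t} {R V K P : Subgroup G} {j : G} {q : ℕ}
  {Q W : Subgroup (XT Ω t)} (m : MB D t a b R V K P j q Q W)
include m

theorem jt : Commute j t := (m.c.jK t m.c.mtK).symm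
theorem jG : j ∈ GF Ω t := cent_le_GF t (mem_cent1.2 m.jt)

theorem odd_sw {s s' : G} (hs : s ∈ D) (hs' : s' ∈ D) (e : s • (a : Ω) = b) (e' : s' • (a : Ω) = b) :
    Odd (orderOf (s * s')) :=
  m.c.mz.odd_of_fr hs hs' (m.c.mz.fr_swap hs hs' trivial trivial m.c.mne e e')

theorem exj : ∃ s ∈ D, ∃ s' ∈ D, s • (a : Ω) = b ∧ s' • (a : Ω) = b ∧ j = s * s' := by
  obtain ⟨_, ⟨s, hs, rfl⟩, _, ⟨s', hs', rfl⟩, e1, e2, e3⟩ := m.c.good.jD
  have e1 := (pr_smul_eq (Stab_inv _) hs.2).1 e1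
  have e2 := (pr_smul_eq (Stab_inv _) hs'.2).1 e2
  exact ⟨s, hs.1, s', hs'.1, e1, e2, (m.eq_of_pi (mul_mem hs.2 hs'.2) m.jG
    (mul_mem (m.DC hs.1 hs.2) (m.DC hs'.1 hs'.2)) m.jt (m.odd_sw hs.1 hs'.1 e1 e2) m.c.jodd
    ((pr_mul (Stab_inv _) hs.2 hs'.2).trans e3.symm)).symm⟩

theorem sw {s s' : G} (hs : s ∈ D) (hs' : s' ∈ D) (e : s • (a : Ω) = b) (e' : s' • (a : Ω) = b) :
    s * s' ∈ zpowers j := by
  have h1 := m.DG hs a.2 b.2 e
  have h2 := m.DG hs' a.2 b.2 e'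
  have : Finite (XT Ω t) := finite_XS (Stab_inv _)
  obtain ⟨n, hn⟩ := exists_npow (m.c.good.sw _ ⟨s, ⟨hs, h1⟩, rfl⟩ _ ⟨s', ⟨hs', h2⟩, rfl⟩
    ((pr_smul_eq (Stab_inv _) h1).2 e) ((pr_smul_eq (Stab_inv _) h2).2 e'))
  rw [m.eq_of_pi (mul_mem h1 h2) (pow_mem m.jG n) (mul_mem (m.DC hs h1) (m.DC hs' h2))
    (m.jt.pow_left n) (m.odd_sw hs hs' e e') (m.c.jodd.of_dvd_nat (orderOf_pow_dvd n))
    ((pr_mul (Stab_inv _) h1 h2).trans (hn.symm.trans (pr_pow (Stab_inv _) m.jG n).symm))]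
  exact pow_mem (mem_zpowers j) n

theorem jpow {n : ℕ} (h : pT Ω t j ^ n = 1) : j ^ n = 1 :=
  (m.eq_of_pi (one_mem _) (pow_mem m.jG n) (one_mem _) (m.jt.pow_left n) (by simp)
    (m.c.jodd.of_dvd_nat (orderOf_pow_dvd n))
    ((pr_one (Stab_inv _)).trans (h.symm.trans (pr_pow (Stab_inv _) m.jG n).symm))).symm

theorem ord : orderOf j = q - 1 := by
  rw [← m.c.good.ord]
  exact Nat.dvd_antisymm (orderOf_dvd_of_pow_eq_one (m.jpow (pow_orderOf_eq_one _)))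
    (orderOf_pr_dvd (Stab_inv _) m.jG)

theorem cardF : (fixedBy Ω t).ncard = #|Q| + 1 := m.c.good.cardΩ

theorem not3 (h : T3 (DT Ω D t) a b Q W (pT Ω t j) q) : False := by
  obtain ⟨ζ, hζ, ζ1, ζo, ζa, ζb, ζW⟩ := h.zeta
  have z := m.c.mz
  have := m.c.min.finite
  obtain ⟨g, hg, rfl⟩ := z.lift_closure a.2 b.2 m.c.mne (T := ⊥) IsPGroup.of_bot bot_le hζ
  have gN : g ∈ 𝐂(NN Ω t) := (closure_le _).2 (fun d hd => m.DC hd.1.1 hd.2) hg
  have gG : g ∈ GF Ω t := (closure_le _).2 (fun d hd => hd.2) hg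
  have ga := (pr_smul_eq (Stab_inv _) gG).1 ζa
  have gb := (pr_smul_eq (Stab_inv _) gG).1 ζb
  have gV : g ∈ 𝐂(V) := m.c.ls.mem_CV (mem_normalizer_of_forall fun v hv => by
    by_cases v1 : v = 1
    · simp [v1]
    · refine m.mV (m.c.min.conj (m.c.mVD hv v1) g) ?_
      have := BS.smul_conj_fixed (g := g) (m.c.mVa hv)
      rwa [ga] at this) gG ζW
  set o := orderOf (pr (Stab G (fixedBy Ω t)) (fixedBy Ω t) g) with ho
  obtain ⟨r, hr, n, hn⟩ := Nat.exists_prime_and_dvd (n := o) (by simpa [ho] using ζ1)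
  have go : g ^ o ∈ K := m.CN m.c.mtK m.c.ti.ne_one ((pr_eq_one (Stab_inv _) (pow_mem gG o)).1 (by
    rw [pr_pow (Stab_inv _) gG, pow_orderOf_eq_one]))
    ((show Commute g t from (gN t (self_mem_Ker t)).symm).pow_left o)
  set w := g ^ (2 * n) with hw
  have wr : w ^ r = 1 := by
    rw [hw, ← pow_mul, show 2 * n * r = o + o by rw [hn]; ring, pow_add, m.c.twoK _ go]
  have w1 : w ≠ 1 := fun e => by
    have e1 : o ∣ 2 * n := orderOf_dvd_of_pow_eq_one (by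
      rw [← pr_pow (Stab_inv _) gG, ← hw, e, pr_one (Stab_inv _)])
    have e2 := (Nat.coprime_two_right.2 ζo).dvd_of_dvd_mul_left e1
    have e3 : 0 < n := Nat.pos_of_ne_zero fun e => by rw [hn, e] at ζo; simp at ζo
    have := Nat.le_of_dvd e3 e2
    have := hr.two_le
    nlinarith
  haveI := Fact.mk hr
  have wp : IsPGroup r (zpowers w) := isPGroup_zpowers (k := 1) (by rw [pow_one, wr])
  have rq : r ∣ q + 1 := (Dvd.intro _ hn.symm).trans (orderOf_dvd_of_pow_eq_one (m.c.good.oddW _ ζW ζo))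
  have q4 := m.c.sing.q4
  have r1 : ¬ r ∣ q := fun e => hr.one_lt.ne' (Nat.dvd_one.1 ((Nat.dvd_add_right e).1 rq))
  have r2 : ¬ r ∣ q - 1 := fun e => by
    have : r ∣ 2 := (Nat.dvd_add_right e).1 (by rwa [show q - 1 + 2 = q + 1 by omega])
    rw [(Nat.prime_dvd_prime_iff_eq hr Nat.prime_two).1 this] at hn
    exact (Nat.not_even_iff_odd.2 ζo) (hn ▸ even_two_mul n)
  have wN : w ∈ 𝐂(NN Ω t) := pow_mem gN _
  have wV : w ∈ 𝐂(V) := pow_mem gV _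
  have wa : w • (a : Ω) = a := pow_mem (show g ∈ stabilizer G (a : Ω) from ga) _
  have wb : w • (b : Ω) = b := pow_mem (show g ∈ stabilizer G (b : Ω) from gb) _
  have cA : ∀ γ : Ω, (DA D γ).ncard = q - 1 := fun γ => by
    rw [z.ncard_DA (β := a) trivial trivial, show DA D (a : Ω) = (V : Set G) \ {1} from
      Set.ext fun _ => ⟨fun h => ⟨m.mV h.1 h.2, z.ne_one h.1⟩, fun h =>
        ⟨m.c.mVD h.1 h.2, m.c.mVa h.1⟩⟩, Set.ncard_sdiff_singleton_of_mem V.one_mem,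
      ← Nat.card_coe_set_eq, SetLike.coe_sort_coe, m.c.sing.card]
  have hz : ZH 𝐂[w] (fixedBy Ω w) (D ∩ 𝐂[w]) := z.sub le_top (Set.subset_univ _)
    (fun x hx => Stab_inv _ x (cent1_le_Stab w hx))
    (fun d hd hc => by
      obtain ⟨γ, -, e⟩ := z.ex d hd
      exact ⟨γ, z.fix_of_comm hd trivial e trivial (mem_cent1.1 hc).symm, e⟩)
    fun ε hε => by
      obtain ⟨d, hd, hc⟩ := exists_cent_of_pgroup wp (DA D ε) (fun x hx y hy =>
        ⟨m.c.min.conj hy.1 x, by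
          have := BS.smul_conj_fixed (g := x) hy.2
          rwa [zpowers_le.2 (show w ∈ stabilizer G ε from hε) hx] at this⟩) (by rwa [cA])
      exact ⟨d, hd.1, mem_cent1.2 (hc w (mem_zpowers w)).symm, hd.2⟩
  have hH : 𝐂[w] ≠ ⊤ := fun e => m.c.min.stab_ne_top (F := fixedBy Ω w) wa (self_mem_Ker w) w1
    (eq_top_iff.2 (e ▸ cent1_le_Stab w))
  obtain ⟨Q', j', h'⟩ := m.c.locX hH hz (sub_cent1.2 wV) (fun d hd => m.mV hd) wa wb m.c.mne.symm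
  obtain ⟨v, hv, v1, -⟩ := m.c.mexV 1
  have wt : Commute w (t * v) := (show Commute w t from (wN t (self_mem_Ker t)).symm).mul_right
    (wV v hv).symm
  obtain ⟨ε, hε, e⟩ := exists_fix (Ω := Ω) wp (Φ := fixedBy Ω (t * v) \ {(a : Ω)})
    (fun x hx y hy => ⟨Stab_inv _ x (zpowers_le.2 (cent1_le_Stab _ (mem_cent1.2 wt)) hx) y hy.1,
      fun e => hy.2 (smul_left_cancel x (e.trans (zpowers_le.2
        (show w ∈ stabilizer G (a : Ω) from wa) hx).symm))⟩) (by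
      obtain ⟨x, -, e⟩ := m.c.tr2 v hv
      have h3 := Set.ncard_sdiff_singleton_add_one (show (a : Ω) ∈ fixedBy Ω (t * v) by
        rw [mem_fixedBy, mul_smul, m.c.mVa hv]; exact a.2)
      rw [← e, ncard_fixedBy_conj, m.cardF, h.card, e, Nat.add_right_cancel_iff] at h3
      rw [h3]
      exact fun e => r1 (hr.dvd_of_dvd_pow e))
  have εw : w • ε = ε := e w (mem_zpowers w)
  have εt : t • ε ≠ ε := fun e1 => hε.2 (m.c.meq hv v1 (by
    have := hε.1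
    rwa [mem_fixedBy, (m.c.mkv m.c.mtK hv).eq, mul_smul, e1] at this))
  have KH : K ≤ 𝐂[w] := fun k hk => mem_cent1.2 (wN k (m.c.mKN hk))
  have nQ : ∀ k ∈ K, k ≠ 1 → pr 𝐂[w] (fixedBy Ω w) k ∉ Q' := fun k hk k1 hq =>
    εt ((m.FK k hk k1 ε).1 ((pr_eq_one hz.inv (KH hk)).1 (h'.reg _ hq
      ((pr_smul_eq hz.inv (KH hk)).2 (m.c.mKN hk _ b.2))) ε εw))
  obtain ⟨k, hk, k1, kt⟩ := m.K4
  refine nQ (t * k) (mul_mem m.c.mtK hk)
    (fun e => kt (by rw [eq_inv_of_mul_eq_one_right e, m.c.ti.inv_eq])) ?_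
  rw [pr_mul hz.inv (KH m.c.mtK) (KH hk)]
  refine h'.syl (prS hz.inv K) (isPGroup_prS hz.inv
    (m.c.sylR.isPGroup.to_le (m.c.KP.trans m.c.mPR))) ?_ _ (pr_mem_prS hz.inv m.c.mtK (KH m.c.mtK)) _
    (pr_mem_prS hz.inv hk (KH hk)) (nQ t m.c.mtK m.c.ti.ne_one) (nQ k hk k1)
  intro ξ hξ η hη
  obtain ⟨x, hx, hx', rfl⟩ := (mem_prS hz.inv).1 hξ
  obtain ⟨y, hy, hy', rfl⟩ := (mem_prS hz.inv).1 hη
  exact pr_commute hz.inv hy' hx' (m.c.mkv hx hy).symm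

theorem ne3 : #|Q| ≠ q ^ 3 := fun e => by
  have := m.c.sing.q4
  rcases m.c.good.typ with h | h | h
  · rw [h, m.c.good.cardV] at e; nlinarith [Nat.pow_le_pow_left this 2]
  · rw [h.card] at e; nlinarith
  · exact m.not3 h

theorem mf : ∃ s s', MF D t (a : Ω) (b : Ω) V K P j s s' q := by
  obtain ⟨s, hs, s', hs', e1, e2, e3⟩ := m.exj
  have c := m.c
  have q4 := c.sing.q4
  refine ⟨s, s', c.min, c.mne, c.mtK, c.ti.ne_one, m.K4, c.twoK, m.FK, a.2, b.2, fun v => ?_,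
    c.sing, c.good.exq, c.KP, c.mVP, c.mPV, c.sylP.isPGroup, c.cenK, c.sqP, fun x hx e => ?_,
    fun d hd γ δ => m.DF hd, fun k hk k1 n => m.CN hk k1, fun γ hγ ne => ?_, fun x hx e => ?_,
    fun y hy hG => ?_, hs, hs', e1, e2, e3, fun σ hσ e => m.sw hσ hs e e1, m.ord, c.jP,
    fun n hn γ hγ e => ?_, c.cover, c.tr2, fun H hH F hz hV ha γ hγ ne => ?_, ?_⟩
  · refine ⟨fun hv => ?_, ?_⟩
    · by_cases v1 : v = 1
      exacts [.inl v1, .inr ⟨c.mVD hv v1, c.mVa hv⟩]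
    · rintro (rfl | h)
      exacts [one_mem _, m.mV h.1 h.2]
  · refine c.mE hx ((c.good.two _ ((c.piP _).2 ⟨x, hx, rfl⟩)).1 ?_)
    rw [← pr_mul (Stab_inv _) (c.mPG hx) (c.mPG hx), e, pr_one (Stab_inv _)]
  · obtain ⟨ξ, hξ, e⟩ := c.good.tr ⟨γ, hγ⟩ fun e => ne (congrArg Subtype.val e)
    obtain ⟨x, hx, rfl⟩ := (c.piP _).1 hξ
    exact ⟨x, hx, (pr_smul_eq (Stab_inv _) (c.mPG hx)).1 e⟩
  · exact c.mPN hx ((pr_eq_one (Stab_inv _) (c.mPG hx)).1 (c.good.reg _ ((c.piP _).2 ⟨x, hx, rfl⟩)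
      ((pr_smul_eq (Stab_inv _) (c.mPG hx)).2 e)))
  · obtain ⟨x, hx, e⟩ := (c.piP _).1 (c.good.CV m.ne3 _ (c.ls.pi_CW hG hy))
    exact ⟨x, hx, (pr_eq_iff' (Stab_inv _) (c.mPG hx) hG).1 e⟩
  · rcases c.good.jfix n (fun e => hn (m.jpow e)) ⟨γ, hγ⟩ (by
      rw [← pr_pow (Stab_inv _) m.jG]; exact (pr_smul_eq (Stab_inv _) (pow_mem m.jG n)).2 e) with h | h
    exacts [.inl (congrArg Subtype.val h), .inr (congrArg Subtype.val h)]
  · obtain ⟨Q', j', h⟩ := c.locX hH hz hV (fun d hd => m.mV hd) ha hγ ne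
    rw [show F.ncard = #|Q'| + 1 from h.cardΩ]
    rcases h.typ with e | e | e
    exacts [.inl (by rw [e, h.cardV]), .inr (.inl (by rw [e.card])), .inr (.inr (by rw [e.card]))]
  rcases c.good.typ with h | h | h
  · refine .inl ⟨le_antisymm (fun x hx => c.mE hx (h ▸ (c.piP _).2 ⟨x, hx, rfl⟩))
      (sup_le c.KP c.mVP), by rw [m.cardF, h, c.good.cardV]⟩
  · refine .inr ⟨by rw [m.cardF, h.card], h.odd, fun x hx y hy e => ?_, fun g hg ha hb e => ?_⟩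
    · refine c.mE (mul_mem (inv_mem hx) hy) ?_
      rw [show pT Ω t (x⁻¹ * y) = _ from pr_mul (Stab_inv _) (inv_mem (c.mPG hx)) (c.mPG hy),
        pr_inv (Stab_inv _) (c.mPG hx)]
      refine c.good.sqinj h.card _ ((c.piP _).2 ⟨x, hx, rfl⟩) _ ((c.piP _).2 ⟨y, hy, rfl⟩) ?_
      rw [← pr_mul (Stab_inv _) (c.mPG hx) (c.mPG hx), ← pr_mul (Stab_inv _) (c.mPG hy) (c.mPG hy), e]
    · by_contra hn
      rcases c.good.fr (pT Ω t g) (by
        rw [← pr_mul (Stab_inv _) hg hg]; exact (pr_eq_one (Stab_inv _) (mul_mem hg hg)).2 e)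
        (mt (pr_eq_one (Stab_inv _) hg).1 hn) ((pr_smul_eq (Stab_inv _) hg).2 ha)
        ((pr_smul_eq (Stab_inv _) hg).2 hb) with h' | h'
      · exact m.ne3 h'.2.1
      · have := h.card
        rw [h'.1, c.good.cardV] at this; nlinarith
  · exact (m.not3 h).elim

end MB

end Cfsg.Agent.ZD
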