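import Cfsg.Agent.Lib.ZD.A1

/-! Row M2: the configuration when `|K| ≥ 4`, read in `G`. -/

open Subgroup MulAction

set_option linter.unusedSectionVars false

namespace Cfsg.Agent.ZD

open FT Tr SF.GP

universe u

variable {G : Type u} {Ω : Type u} [Group G] [MulAction G Ω]

/-- The pointwise stabilizer of the fixed points of `t`. -/
abbrev NN (Ω : Type u) [MulAction G Ω] (t : G) : Subgroup G := Ker G (fixedBy Ω t)

/-- The setwise stabilizer of the fixed points of `t`. -/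
abbrev GF (Ω : Type u) [MulAction G Ω] (t : G) : Subgroup G := Stab G (fixedBy Ω t)

theorem mem_NN {t g : G} : g ∈ NN Ω t ↔ ∀ ω : Ω, t • ω = ω → g • ω = ω := Iff.rfl

theorem mem_GF {t g : G} : g ∈ GF Ω t ↔ ∀ ω : Ω, t • g • ω = g • ω ↔ t • ω = ω := Iff.rfl

theorem NN_le_GF (t : G) : NN Ω t ≤ GF Ω t := fun g hg ω =>
  ⟨fun h => by
    have := (NN Ω t).inv_mem hg _ h
    rw [inv_smul_smul] at this; rw [this]; exact h, fun h => by rw [hg ω h]; exact h⟩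

theorem cent_le_GF (t : G) : 𝐂[t] ≤ GF Ω t := fun g hg ω => by
  have hc := mem_cent1.1 hg
  rw [mem_fixedBy, mem_fixedBy, ← mul_smul, ← hc, mul_smul, smul_left_cancel_iff]

theorem GF_le_norm (t : G) [Finite G] : GF Ω t ≤ 𝐍(NN Ω t) := fun g hg =>
  Tr.mem_normalizer_of_forall fun n hn ω h => by
    have : t • g⁻¹ • ω = g⁻¹ • ω := ((GF Ω t).inv_mem hg ω).2 h
    rw [mul_smul, mul_smul, hn _ this, smul_inv_smul]

theorem conj_fix {g t : G} {ω : Ω} : (g * t * g⁻¹) • ω = ω ↔ t • g⁻¹ • ω = g⁻¹ • ω := by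
  rw [mul_smul, mul_smul, ← eq_inv_smul_iff]

theorem mem_NN_conj {g t x : G} : x ∈ NN Ω (g * t * g⁻¹) ↔ g⁻¹ * x * g ∈ NN Ω t := by
  refine ⟨fun h ω e => ?_, fun h ω e => ?_⟩
  · rw [mul_smul, mul_smul, h _ (BS.smul_conj_fixed e), inv_smul_smul]
  · have := h _ (conj_fix.1 e)
    rwa [mul_smul, mul_smul, smul_inv_smul, smul_left_cancel_iff] at this

theorem ncard_fixedBy_conj (g t : G) :
    (fixedBy Ω (g * t * g⁻¹)).ncard = (fixedBy Ω t).ncard := by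
  rw [← smul_fixedBy, Set.ncard_smul_set]

theorem ncard_fib {X Y : Type*} [Finite X] [Finite Y] {A : Set X} {B : Set Y} (r : X → Y → Prop)
    {m : ℕ} (h1 : ∀ x ∈ A, ∃ y, (y ∈ B ∧ r x y) ∧ ∀ z, z ∈ B ∧ r x z → z = y)
    (h2 : ∀ y ∈ B, {x | x ∈ A ∧ r x y}.ncard = m) : A.ncard = B.ncard * m := by
  classical
  have := Fintype.ofFinite X
  have := Fintype.ofFinite Y
  rcases A.eq_empty_or_nonempty with rfl | ⟨x0, hx0⟩
  · rcases B.eq_empty_or_nonempty with rfl | ⟨y, hy⟩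
    · simp
    · rw [← h2 y hy]; simp
  have : Nonempty Y := ⟨(h1 x0 hx0).choose⟩
  choose! φ hφ hu using h1
  rw [Set.ncard_eq_toFinset_card' A, Finset.card_eq_sum_card_fiberwise (t := B.toFinset) (f := φ)
    (fun x hx => by simpa using (hφ x (by simpa using hx)).1),
    Finset.sum_congr rfl (g := fun _ => m), Finset.sum_const, smul_eq_mul,
    Set.ncard_eq_toFinset_card' B]
  intro y hy
  rw [← h2 y (by simpa using hy), Set.ncard_eq_toFinset_card']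
  congr 1
  ext x
  simp only [Finset.mem_filter, Set.mem_toFinset, Set.mem_ofPred_eq]
  refine and_congr_right fun hx => ⟨fun e => e ▸ (hφ x hx).2, fun e => ?_⟩
  exact (hu x hx y ⟨by simpa using hy, e⟩).symm

theorem card_orb [Finite G] (H : Subgroup G) (β : Ω) {Φ : Set Ω}
    (h : ∀ ω, ω ∈ Φ ↔ ∃ x ∈ H, x • β = ω) : #|H| = #|H ⊓ stabilizer G β| * Φ.ncard := by
  have e : Φ = orbit H β := Set.ext fun ω =>
    (h ω).trans ⟨fun ⟨x, hx, e⟩ => ⟨⟨x, hx⟩, e⟩, fun ⟨x, e⟩ => ⟨x, x.2, e⟩⟩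
  rw [inf_comm, ← Tr.card_inf_mul_relIndex (stabilizer G β) H, e, ← index_stabilizer]
  rfl

theorem exists_npow [Finite G] {j y : G} (h : y ∈ zpowers j) : ∃ n : ℕ, j ^ n = y :=
  mem_powers_iff_mem_zpowers.2 h

theorem exists_fix {p : ℕ} [Fact p.Prime] {T : Subgroup G} (hT : IsPGroup p T) {Φ : Set Ω}
    (hS : ∀ g ∈ T, ∀ y ∈ Φ, g • y ∈ Φ) (hc : ¬ p ∣ Φ.ncard) : ∃ y ∈ Φ, ∀ g ∈ T, g • y = y :=
  Solv.exists_fixed_of_pgroup hT Φ hS (by rwa [Nat.card_coe_set_eq])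

/-- The extra facts in the Suzuki type. -/
structure B2 (Ω : Type u) [MulAction G Ω] (t : G) (α β : Ω) (V K P : Subgroup G) (q : ℕ) : Prop where
  card : (fixedBy Ω t).ncard = q ^ 2 + 1
  odd : ∃ m : ℕ, q = 2 ^ (2 * m + 1)
  sqinj : ∀ x ∈ P, ∀ y ∈ P, x * x = y * y → x⁻¹ * y ∈ K ⊔ V
  fr : ∀ h ∈ GF Ω t, h • α = α → h • β = β → h * h ∈ NN Ω t → h ∈ NN Ω t

/-- The configuration. -/
structure MF (D : Set G) (t : G) (α β : Ω) (V K P : Subgroup G) (j s s' : G) (q : ℕ) : Prop where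
  min : Min Ω D
  ne : α ≠ β
  tK : t ∈ K
  t1 : t ≠ 1
  K4 : ∃ k ∈ K, k ≠ 1 ∧ k ≠ t
  twoK : ∀ k ∈ K, k * k = 1
  FK : ∀ k ∈ K, k ≠ 1 → ∀ ω : Ω, k • ω = ω ↔ t • ω = ω
  ta : t • α = α
  tb : t • β = β
  memV : ∀ v, v ∈ V ↔ v = 1 ∨ (v ∈ D ∧ v • α = α)
  sing : Sing V j q
  exq : ∃ a : ℕ, 2 ≤ a ∧ q = 2 ^ a
  KP : K ≤ P
  VP : V ≤ P
  PV : P ≤ 𝐂(V)
  p2 : IsPGroup 2 P
  cenK : K ≤ 𝐂(P)
  sqP : ∀ x ∈ P, x * x ∈ V
  om : ∀ x ∈ P, x * x = 1 → x ∈ K ⊔ V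
  DF : ∀ d ∈ D, ∀ γ δ : Ω, t • γ = γ → t • δ = δ → d • γ = δ → d ∈ 𝐂(NN Ω t)
  CN : ∀ k ∈ K, k ≠ 1 → ∀ n ∈ NN Ω t, Commute n k → n ∈ K
  trP : ∀ γ : Ω, t • γ = γ → γ ≠ α → ∃ x ∈ P, x • β = γ
  regP : ∀ x ∈ P, x • β = β → x ∈ K
  CV : ∀ y ∈ 𝐂(V), y ∈ GF Ω t → ∃ x ∈ P, x⁻¹ * y ∈ NN Ω t
  sD : s ∈ D
  sD' : s' ∈ D
  sa : s • α = β
  sa' : s' • α = β
  jD : j = s * s'
  sw : ∀ σ ∈ D, σ • α = β → σ * s ∈ zpowers j
  ord : orderOf j = q - 1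
  jP : j ∈ 𝐍(P)
  jF : ∀ n : ℕ, j ^ n ≠ 1 → ∀ γ : Ω, t • γ = γ → j ^ n • γ = γ → γ = α ∨ γ = β
  cover : ∀ k ∈ K, k ≠ 1 → ∀ v ∈ V, ∃ w ∈ V, k * v ∈ NN Ω (t * w)
  tr2 : ∀ w ∈ V, ∃ h ∈ 𝐍(P) ⊓ 𝐍(V), h * t * h⁻¹ = t * w
  loc : ∀ H : Subgroup G, H ≠ ⊤ → ∀ F : Set Ω, ZH H F (D ∩ H) → V ≤ H → α ∈ F → ∀ γ ∈ F, γ ≠ α →
    F.ncard = q + 1 ∨ F.ncard = q ^ 2 + 1 ∨ F.ncard = q ^ 3 + 1
  typ : (P = K ⊔ V ∧ (fixedBy Ω t).ncard = q + 1) ∨ B2 Ω t α β V K P q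

/-- The elements of `C(V)` acting trivially on `K V / V`. -/
def SS (K V : Subgroup G) : Subgroup G := 𝐂(V) ⊓ SF.GP.cmod V (K : Set G)

theorem mem_SS {K V : Subgroup G} {x : G} :
    x ∈ SS K V ↔ x ∈ 𝐂(V) ∧ ∀ k ∈ K, x * k * x⁻¹ * k⁻¹ ∈ V :=
  ⟨fun h => ⟨h.1, (SF.GP.mem_cmod.1 h.2).2⟩, fun h => ⟨h.1, SF.GP.mem_cmod.2 ⟨cent_sub V h.1, h.2⟩⟩⟩

/-- Steps 1-3. -/
def MBaseStmt : Prop :=
  ∀ (G Ω : Type u) [Group G] [Finite G] [MulAction G Ω] (D : Set G) (t : G) (a b : fixedBy Ω t)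
    (R V K P : Subgroup G) (j : G) (q : ℕ) (Q W : Subgroup (XT Ω t)),
    CS D t a b R V K P j q Q W → ¬ #|K| ≤ 2 → ∃ s s', MF D t (a : Ω) (b : Ω) V K P j s s' q

/-- Step 5. -/
def MB1Stmt : Prop :=
  ∀ (G Ω : Type u) [Group G] [Finite G] [MulAction G Ω] (D : Set G) (t : G) (α β : Ω)
    (V K P : Subgroup G) (j s s' : G) (q : ℕ), MF D t α β V K P j s s' q →
    (∀ w ∈ V, ∃ y ∈ SS K V, y * t * y⁻¹ = t * w) → P = K ⊔ V →
    (fixedBy Ω t).ncard = q + 1 → False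

namespace MF

variable [Finite G] {D : Set G} {t : G} {α β : Ω} {V K P : Subgroup G} {j s s' : G} {q : ℕ}
  (c : MF D t α β V K P j s s' q)
include c

theorem z : ZH ⊤ (Set.univ : Set Ω) D := c.min.zd
theorem fin : Finite Ω := Finite.of_surjective (fun g : G => g • α) fun ω =>
  let ⟨g, _, e⟩ := c.z.tr (α := α) (β := ω) trivial trivial; ⟨g, e⟩
theorem tt : t * t = 1 := c.twoK t c.tK
theorem twoV {v : G} (hv : v ∈ V) : v * v = 1 := c.sing.two v hv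
theorem VD {v : G} (hv : v ∈ V) (h1 : v ≠ 1) : v ∈ D := (((c.memV v).1 hv).resolve_left h1).1
theorem Va {v : G} (hv : v ∈ V) : v • α = α := by
  rcases (c.memV v).1 hv with rfl | h
  exacts [one_smul _ _, h.2]
theorem mV {d : G} (hd : d ∈ D) (h : d • α = α) : d ∈ V := (c.memV d).2 (Or.inr ⟨hd, h⟩)
theorem eq_a {v : G} (hv : v ∈ V) (h1 : v ≠ 1) {ω : Ω} (h : v • ω = ω) : ω = α :=
  c.z.eq_pt (c.VD hv h1) trivial trivial h (c.Va hv)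
theorem q4 : 4 ≤ q := c.sing.q4
theorem cardV : #|V| = q := c.sing.card
theorem exV : ∃ v ∈ V, v ≠ 1 := by
  by_contra! h
  have := c.q4
  rw [← c.cardV, (eq_bot_iff_forall V).2 h, card_bot] at this
  omega
theorem exV2 (v : G) : ∃ w ∈ V, w ≠ 1 ∧ w ≠ v := by
  by_contra! h
  have h4 := c.q4
  have : (V : Set G) ⊆ {1, v} := fun w hw => by
    by_cases h1 : w = 1
    exacts [Or.inl h1, Or.inr (h w hw h1)]
  have h2 := (Set.ncard_le_ncard this).trans (Set.ncard_insert_le 1 {v})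
  rw [← Nat.card_coe_set_eq, SetLike.coe_sort_coe, c.cardV, Set.ncard_singleton] at h2
  omega
theorem normV {g : G} (h : g • α = α) : g ∈ 𝐍(V) := Tr.mem_normalizer_of_forall fun v hv => by
  rcases (c.memV v).1 hv with rfl | ⟨hd, e⟩
  · simp
  · exact c.mV (c.z.conj v hd g trivial) (by nth_rw 1 [← h]; rw [BS.smul_conj_fixed e, h])
theorem fixV {g : G} (h : g ∈ 𝐍(V)) : g • α = α := by
  obtain ⟨v, hv, h1⟩ := c.exV
  have := conj_mem_of_mem_normalizer' h hv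
  refine c.eq_a hv h1 (BS.smul_fixed_of_conj (c.Va this))
theorem fixC {g : G} (h : g ∈ 𝐂(V)) : g • α = α := c.fixV (cent_sub V h)
theorem Pa {x : G} (hx : x ∈ P) : x • α = α := c.fixC (c.PV hx)
theorem KN : K ≤ NN Ω t := fun k hk ω h => by
  by_cases h1 : k = 1
  · rw [h1, one_smul]
  · exact (c.FK k hk h1 ω).2 h
theorem tN : t ∈ NN Ω t := fun _ h => h
theorem KV : K ≤ 𝐂(V) := c.KP.trans c.PV
theorem VV : V ≤ 𝐂(V) := c.VP.trans c.PV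
theorem KK : K ≤ 𝐂(K) := c.cenK.trans (centS c.KP)
theorem PK : P ≤ 𝐂(K) := centsC.1 c.cenK
theorem Pk {x k : G} (hx : x ∈ P) (hk : k ∈ K) : Commute x k := (mem_cent.1 (c.PK hx) k hk).symm
theorem cv {x v : G} (hx : x ∈ 𝐂(V)) (hv : v ∈ V) : Commute x v := (mem_cent.1 hx v hv).symm
theorem kv {k v : G} (hk : k ∈ K) (hv : v ∈ V) : Commute k v := c.cv (c.KV hk) hv
theorem VN {v : G} (hv : v ∈ V) (h : v ∈ NN Ω t) : v = 1 := by
  by_contra h1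
  exact c.ne (c.eq_a hv h1 (h β c.tb)).symm
theorem memE {x : G} : x ∈ K ⊔ V ↔ ∃ k ∈ K, ∃ v ∈ V, k * v = x :=
  Tr.mem_sup_of_le_normalizer (c.KV.trans (cent_sub V))
theorem EP : K ⊔ V ≤ P := sup_le c.KP c.VP
theorem twoE {x : G} (hx : x ∈ K ⊔ V) : x * x = 1 := by
  obtain ⟨k, hk, v, hv, rfl⟩ := c.memE.1 hx
  rw [(c.kv hk hv).symm.mul_mul_mul_comm, c.twoK k hk, c.twoV hv, one_mul]
theorem cenE : K ⊔ V ≤ 𝐂(P) := sup_le c.cenK (centsC.1 c.PV)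
theorem GFk {k g : G} (hk : k ∈ K) (h1 : k ≠ 1) (h : g * k * g⁻¹ ∈ K) : g ∈ GF Ω t := fun ω => by
  have h2 : g * k * g⁻¹ ≠ 1 := by simpa using h1
  rw [mem_fixedBy, mem_fixedBy, ← c.FK _ h h2, conj_fix, inv_smul_smul, c.FK k hk h1]
theorem GFc {k g : G} (hk : k ∈ K) (h1 : k ≠ 1) (h : Commute g k) : g ∈ GF Ω t :=
  c.GFk hk h1 (by rwa [h.eq, mul_inv_cancel_right])
theorem PG : P ≤ GF Ω t := fun _ hx => c.GFc c.tK c.t1 (c.Pk hx c.tK)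
theorem NV : NN Ω t ≤ 𝐂(V) := centsC.1 fun v hv => by
  by_cases h1 : v = 1
  · rw [h1]; exact one_mem _
  · exact c.DF v (c.VD hv h1) α α c.ta c.ta (c.Va hv)
/-- `C_C(k) = P`. -/
theorem CC {k y : G} (hk : k ∈ K) (h1 : k ≠ 1) (hy : y ∈ 𝐂(V)) (h : Commute y k) : y ∈ P := by
  obtain ⟨x, hx, hn⟩ := c.CV y hy (c.GFc hk h1 h)
  have := c.CN k hk h1 _ hn ((c.Pk hx hk).inv_left.mul_left h)
  simpa using mul_mem hx (c.KP this)
theorem CE {e y : G} (he : e ∈ K ⊔ V) (h1 : e ∉ V) (hy : y ∈ 𝐂(V)) (h : Commute y e) : y ∈ P := by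
  obtain ⟨k, hk, v, hv, rfl⟩ := c.memE.1 he
  refine c.CC hk (by rintro rfl; exact h1 (by simpa)) hy ?_
  simpa using h.mul_right (c.cv hy hv).inv_right
theorem PN {x : G} (hx : x ∈ P) (hn : x ∈ NN Ω t) : x ∈ K := c.regP x hx (hn β c.tb)
theorem cN {d : G} (hd : d ∈ D) (h : Commute d t) : d ∈ 𝐂(NN Ω t) := by
  obtain ⟨γ, -, e⟩ := c.z.ex d hd
  have := c.z.fix_of_comm hd trivial e trivial h.symm
  exact c.DF d hd γ γ this this e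
theorem cNt {x : G} (h : x ∈ 𝐂(NN Ω t)) : Commute x t := (mem_cent.1 h t c.tN).symm
theorem sN : s ∈ 𝐂(NN Ω t) := c.DF s c.sD α β c.ta c.tb c.sa
theorem jN : j ∈ 𝐂(NN Ω t) := c.jD ▸ mul_mem c.sN (c.DF s' c.sD' α β c.ta c.tb c.sa')
theorem jK {k : G} (hk : k ∈ K) : Commute j k := (mem_cent.1 c.jN k (c.KN hk)).symm
theorem sb : s • β = α := c.z.swap c.sD c.sa
theorem ja : j • α = α := by rw [c.jD, mul_smul, c.sa', c.sb]
theorem jb : j • β = β := by rw [c.jD, mul_smul, c.z.swap c.sD' c.sa', c.sa]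
theorem sj : s * j * s⁻¹ = j⁻¹ := by
  rw [c.jD, c.z.sq' c.sD, mul_inv_rev, c.z.inv_eq c.sD']
theorem Ja {x : G} (hx : x ∈ zpowers j) : x • α = α := zpowers_le.2 (show j ∈ stabilizer G α from c.ja) hx
theorem Jb {x : G} (hx : x ∈ zpowers j) : x • β = β := zpowers_le.2 (show j ∈ stabilizer G β from c.jb) hx
theorem nj {h : G} (ha : h • α = α) (hb : h • β = β) : h * j * h⁻¹ ∈ zpowers j := by
  have k : ∀ σ ∈ D, σ • α = β → h * σ * h⁻¹ * s ∈ zpowers j := fun σ hσ e =>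
    c.sw _ (c.z.conj σ hσ h trivial) (by
      nth_rw 1 [← ha]; rw [mul_smul, inv_smul_smul, mul_smul, e, hb])
  have := mul_mem (k s c.sD c.sa) (inv_mem (k s' c.sD' c.sa'))
  rwa [show h * s * h⁻¹ * s * (h * s' * h⁻¹ * s)⁻¹ = h * (s * s'⁻¹) * h⁻¹ by group,
    c.z.inv_eq c.sD', ← c.jD] at this
theorem odd_q1 : Odd (q - 1) := by
  obtain ⟨a, ha, rfl⟩ := c.exq
  exact Nat.Even.sub_odd Nat.one_le_two_pow (Nat.even_pow.2 ⟨even_two, by omega⟩) odd_one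
theorem odd_J : Odd #|zpowers j| := by rw [Nat.card_zpowers, c.ord]; exact c.odd_q1
theorem fpfP {y x : G} (hy : y ∈ zpowers j) (h1 : y ≠ 1) (hx : x ∈ P) (h : Commute y x) : x ∈ K := by
  obtain ⟨n, rfl⟩ := exists_npow hy
  refine c.regP x hx ((c.jF n h1 _ ((c.PG hx β).2 c.tb)
    (BS.smul_fixed_of_commute (c.Jb hy) h.symm)).resolve_left fun e => c.ne ?_)
  rw [← c.Pa hx] at e
  exact (smul_left_cancel x e).symm
theorem fpfV {y v : G} (hy : y ∈ zpowers j) (h1 : y ≠ 1) (hv : v ∈ V) (h : Commute y v) : v = 1 :=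
  c.VN hv (c.KN (c.fpfP hy h1 (c.VP hv) h))
theorem frt : FR (Set.univ : Set Ω) t := ⟨α, trivial, β, trivial, c.ne, c.ta, c.tb⟩
theorem DA_a : DA D α = (V : Set G) \ {1} := Set.ext fun _ =>
  ⟨fun h => ⟨c.mV h.1 h.2, c.z.ne_one h.1⟩, fun h => ⟨c.VD h.1 h.2, c.Va h.1⟩⟩
theorem ncard_DA (γ : Ω) : (DA D γ).ncard = q - 1 := by
  rw [c.z.ncard_DA (β := α) trivial trivial, c.DA_a, Set.ncard_sdiff_singleton_of_mem V.one_mem,
    ← Nat.card_coe_set_eq, SetLike.coe_sort_coe, c.cardV]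
/-- The fixed points of `t d` form a conjugate of those of `t`. -/
theorem line {d : G} (hd : d ∈ D) (h : Commute d t) : ∃ g, g * t * g⁻¹ = t * d := by
  obtain ⟨w, hw, h1⟩ := c.exV
  obtain ⟨g, -, hg, e⟩ := c.z.conj_cent1 c.tt trivial c.frt (c.VD hw h1) hd (c.kv c.tK hw).symm h
  obtain ⟨x, -, e'⟩ := c.tr2 w hw
  refine ⟨g * x, ?_⟩
  calc g * x * t * (g * x)⁻¹ = g * (x * t * x⁻¹) * g⁻¹ := by group
    _ = t * (g * w * g⁻¹) := by rw [e', ← mul_assoc, hg.eq]; group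
    _ = _ := by rw [e]
theorem comm_conj {g e : G} {ω : Ω} (he : e ∈ D) (h1 : e • ω = ω) (h : (g * t * g⁻¹) • ω = ω) :
    Commute e (g * t * g⁻¹) := by
  have h2 := conj_fix.1 h
  have := c.cNt (c.DF _ (c.z.conj e he g⁻¹ trivial) _ _ h2 h2 (BS.smul_conj_fixed h1))
  have := this.map (MulAut.conj g).toMonoidHom
  simpa [mul_assoc] using this
theorem uniq {d d' : G} (hd : d ∈ D) (hd' : d' ∈ D) (h : Commute d t) (h' : Commute d' t) {ω : Ω}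
    (hω : t • ω ≠ ω) (e : (t * d) • ω = ω) (e' : (t * d') • ω = ω) : d = d' := by
  obtain ⟨x, hx, ex⟩ := c.z.surj ω trivial
  obtain ⟨g, hg⟩ := c.line hd h
  obtain ⟨g', hg'⟩ := c.line hd' h'
  have k : ∀ {d}, (t * d) • ω = ω → d • ω = t • ω := fun {d} e => by
    rw [mul_smul, ← eq_inv_smul_iff, inv_eq_of_mul_self c.tt] at e; exact e
  have h1 := (c.comm_conj hx ex (hg ▸ e)).mul_right (c.comm_conj hx ex (hg' ▸ e'))
  rw [hg, hg', show t * d * (t * d') = d * d' by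
    rw [← h.eq, mul_assoc, ← mul_assoc t, c.tt, one_mul]] at h1
  have := c.z.eq_one_of_inv hd hx trivial (by rwa [k e]) ex (c.z.odd_of_fr hd hd'
    (c.z.fr_swap hd hd' trivial trivial hω.symm (k e) (k e')))
    (by rw [c.z.sq' hd, mul_inv_rev, c.z.inv_eq hd']) h1.symm
  rwa [mul_eq_one_iff_eq_inv, c.z.inv_eq hd'] at this
theorem exd {ω : Ω} (hω : t • ω ≠ ω) : ∃ d ∈ D, Commute d t ∧ (t * d) • ω = ω := by
  obtain ⟨d, hd, h, e⟩ := c.z.exists_comm c.tt trivial trivial hω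
  exact ⟨d, hd, h, by rw [mul_smul, e, ← mul_smul, c.tt, one_smul]⟩
theorem ncard_CD : {d | d ∈ D ∧ Commute d t}.ncard = (fixedBy Ω t).ncard * (q - 1) := by
  have := c.fin
  refine ncard_fib (fun d γ => d • γ = γ) (fun d hd => ?_) fun γ hγ => ?_
  · obtain ⟨γ, -, e⟩ := c.z.ex d hd.1
    exact ⟨γ, ⟨c.z.fix_of_comm hd.1 trivial e trivial hd.2.symm, e⟩,
      fun δ h => c.z.eq_pt hd.1 trivial trivial h.2 e⟩
  · rw [← c.ncard_DA γ]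
    congr 1
    exact Set.ext fun d => ⟨fun h => ⟨h.1.1, h.2⟩, fun h =>
      ⟨⟨h.1, c.cNt (c.DF d h.1 γ γ hγ hγ h.2)⟩, h.2⟩⟩
theorem cardΩ {g : ℕ} (hg : (fixedBy Ω t).ncard = g + 1) :
    Nat.card Ω = g + 1 + (g + 1) * (q - 1) * g := by
  have := c.fin
  rw [← Set.ncard_add_ncard_compl (fixedBy Ω t), ← hg, ← c.ncard_CD]
  congr 1
  refine ncard_fib (fun ω d => (t * d) • ω = ω) (fun ω hω => ?_) fun d hd => ?_
  · obtain ⟨d, hd, h, e⟩ := c.exd hω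
    exact ⟨d, ⟨⟨hd, h⟩, e⟩, fun d' h' => c.uniq h'.1.1 hd h'.1.2 h hω h'.2 e⟩
  · obtain ⟨γ, -, e⟩ := c.z.ex d hd.1
    have h1 := c.z.fix_of_comm hd.1 trivial e trivial hd.2.symm
    obtain ⟨x, hx⟩ := c.line hd.1 hd.2
    have h2 : γ ∈ fixedBy Ω (t * d) := by rw [mem_fixedBy, mul_smul, e, h1]
    have h3 := Set.ncard_sdiff_singleton_add_one h2
    rw [← hx, ncard_fixedBy_conj, hg, hx] at h3
    rw [← Nat.add_right_cancel h3]
    congr 1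
    refine Set.ext fun ω => ⟨fun h => ⟨h.2, fun e' => h.1 (by rw [e']; exact h1)⟩,
      fun h => ⟨fun e' => h.2 (c.z.eq_pt hd.1 trivial trivial ?_ e), h.1⟩⟩
    have := h.1
    rwa [mem_fixedBy, ← hd.2.eq, mul_smul, e'] at this
theorem cardP {g : ℕ} (hg : (fixedBy Ω t).ncard = g + 1) : #|P| = #|K| * g := by
  have := c.fin
  have h1 := Set.ncard_sdiff_singleton_add_one (show α ∈ fixedBy Ω t from c.ta)
  rw [card_orb P β (Φ := fixedBy Ω t \ {α}) fun ω => ⟨fun h => c.trP ω h.1 h.2, ?_⟩,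
    Nat.add_right_cancel (h1.trans hg)]
  · congr 2
    exact congrArg _ (le_antisymm (fun x hx => c.regP x hx.1 hx.2)
      (le_inf c.KP fun k hk => c.KN hk β c.tb))
  · rintro ⟨x, hx, rfl⟩
    exact ⟨(c.PG hx β).2 c.tb, fun e => c.ne (smul_left_cancel x ((c.Pa hx).trans e.symm))⟩

end MF

end Cfsg.Agent.ZD
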