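import Cfsg.Agent.Lib.ZD.M2a
import Cfsg.Agent.Lib.ZD.A2

/-! Row M2: fixed points of `J`, the canonical point, translations and the group `S`. -/

open Subgroup MulAction

set_option linter.unusedSectionVars false

namespace Cfsg.Agent.ZD

open FT Tr SF.GP

universe u

variable {G : Type u} {Ω : Type u} [Group G] [MulAction G Ω]

theorem inv_of_mem_zpowers {s j y : G} (h : s * j * s⁻¹ = j⁻¹) (hy : y ∈ zpowers j) :
    s * y * s⁻¹ = y⁻¹ := by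
  obtain ⟨n, rfl⟩ := hy
  simp only [← conj_zpow, h, inv_zpow]

theorem four_aux [Finite G] {A : Subgroup G} (hA : #|A| = 4) {c x y : G} (c2 : c * c = 1) (c1 : c ≠ 1)
    (hc : c ∈ A) (hx : x ∈ A) (hy : y ∈ A) (h1 : x ∉ zpowers c) (h2 : y ∉ zpowers c) :
    x * y ∈ zpowers c := by
  have h := Tr.card_mul_relIndex (zpowers_le.2 hc)
  rw [Nat.card_zpowers, orderOf_eq_two c2 c1, hA] at h
  have := (mul_mem_iff_of_index_two (H := (zpowers c).subgroupOf A) (by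
    show (zpowers c).relIndex A = 2
    omega) (a := ⟨x, hx⟩) (b := ⟨y, hy⟩)).2 (by simp [mem_subgroupOf, h1, h2])
  exact this

namespace MF

variable [Finite G] {D : Set G} {t : G} {α β : Ω} {V K P : Subgroup G} {j s s' : G} {q : ℕ}
  (c : MF D t α β V K P j s s' q)
include c

theorem JK {y k : G} (hy : y ∈ zpowers j) (hk : k ∈ K) : Commute y k := by
  obtain ⟨n, rfl⟩ := hy
  exact (c.jK hk).zpow_left n

theorem jfix {y : G} (hy : y ∈ zpowers j) (h1 : y ≠ 1) {ω : Ω} (e : y • ω = ω) : ω = α ∨ ω = β := by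
  have k : ∀ ω : Ω, t • ω = ω → y • ω = ω → ω = α ∨ ω = β := by
    obtain ⟨n, rfl⟩ := exists_npow hy
    exact c.jF n h1
  by_cases hω : t • ω = ω
  · exact k ω hω e
  obtain ⟨d, hd, h, e'⟩ := c.exd hω
  have ht := c.JK hy c.tK
  have h2 : y * d * y⁻¹ = d := c.uniq (c.z.conj d hd y trivial) hd
    ((ht.mul_left h).mul_left ht.inv_left) h hω (by
      rw [show t * (y * d * y⁻¹) = y * (t * d) * y⁻¹ by rw [← mul_assoc, ← mul_assoc, ← ht.eq]; group]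
      nth_rw 1 [← e]; rw [BS.smul_conj_fixed e', e]) e'
  have h3 : Commute y d := mul_inv_eq_iff_eq_mul.1 h2
  obtain ⟨γ, -, eγ⟩ := c.z.ex d hd
  rcases k γ (c.z.fix_of_comm hd trivial eγ trivial h.symm)
    (c.z.fix_of_comm hd trivial eγ trivial h3) with rfl | rfl
  · exact absurd (c.fpfV hy h1 (c.mV hd eγ) h3) (c.z.ne_one hd)
  · have h4 := c.z.conj d hd s trivial
    refine absurd (c.fpfV (inv_mem hy) (inv_ne_one.2 h1) (c.mV h4 ?_) ?_) (c.z.ne_one h4)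
    · rw [← c.sb]; exact BS.smul_conj_fixed eγ
    · rw [← inv_of_mem_zpowers c.sj hy]
      simpa using h3.map (MulAut.conj s).toMonoidHom

theorem trF {γ : Ω} (h : t • γ = γ) : ∃ g ∈ 𝐂(NN Ω t), g • γ = α := by
  by_cases e : γ = α
  · exact ⟨1, one_mem _, by rw [one_smul, e]⟩
  · obtain ⟨σ, hσ, e'⟩ := c.z.exists_DS (α := γ) (β := α) trivial trivial e
    exact ⟨σ, c.DF σ hσ γ α h c.ta e', e'⟩

theorem tr2F {γ δ : Ω} (h : t • γ = γ) (h' : t • δ = δ) (ne : γ ≠ δ) :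
    ∃ g ∈ 𝐂[t], g • α = γ ∧ g • β = δ := by
  obtain ⟨g, hg, e⟩ := c.trF h
  have hg' : g ∈ 𝐂[t] := mem_cent1.2 (c.cNt hg)
  obtain ⟨x, hx, e'⟩ := c.trP (g • δ) ((cent_le_GF t hg' δ).2 h')
    (fun e' => ne (smul_left_cancel g (e.trans e'.symm)))
  refine ⟨g⁻¹ * x, mul_mem (inv_mem hg') (mem_cent1.2 (c.Pk hx c.tK)), ?_, ?_⟩
  · rw [mul_smul, c.Pa hx, ← e, inv_smul_smul]
  · rw [mul_smul, e', inv_smul_smul]

theorem kv_ne {k v : G} (hk : k ∈ K) (h1 : k ≠ 1) (hv : v ∈ V) : k * v ∉ V := fun h =>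
  h1 (c.VN ((mul_mem_cancel_right hv).1 h) (c.KN hk))

theorem cover' {k v : G} (hk : k ∈ K) (h1 : k ≠ 1) (hv : v ∈ V) :
    ∃ w ∈ V, ∀ ω : Ω, (k * v) • ω = ω ↔ (t * w) • ω = ω := by
  obtain ⟨w, hw, h⟩ := c.cover k hk h1 v hv
  obtain ⟨x, hx, e⟩ := c.tr2 w hw
  refine ⟨w, hw, fun ω => ?_⟩
  rw [← e, mem_NN_conj] at h
  have h2 := c.PN (conj_mem_of_mem_normalizer' hx.1 (mul_mem (c.KP hk) (c.VP hv))) h
  rw [← e, conj_fix, ← c.FK _ h2 (fun e' => c.kv_ne hk h1 hv (by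
    rw [show k * v = 1 by simpa [mul_assoc] using congrArg (fun z => x * z * x⁻¹) e']
    exact one_mem _)), mul_smul _ x, smul_inv_smul, mul_smul x⁻¹, smul_left_cancel_iff]

/-- The canonical point of `F` attached to a point outside `F`. -/
theorem canon {ω : Ω} (hω : t • ω ≠ ω) : ∃ d ∈ D, Commute d t ∧ (t * d) • ω = ω ∧
    ∃ δ : Ω, d • δ = δ ∧ t • δ = δ ∧ ∀ y ∈ 𝐍(K), y • ω = ω → y • δ = δ := by
  obtain ⟨d, hd, h, e⟩ := c.exd hω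
  obtain ⟨δ, -, eδ⟩ := c.z.ex d hd
  have hδ := c.z.fix_of_comm hd trivial eδ trivial h.symm
  refine ⟨d, hd, h, e, δ, eδ, hδ, fun y hy ey => ?_⟩
  have hk := conj_mem_of_mem_normalizer hy c.tK
  obtain ⟨g, hg, eg⟩ := c.trF ((c.GFk c.tK c.t1 hk δ).2 hδ)
  have hv : g * (y * d * y⁻¹) * g⁻¹ ∈ V := c.mV (c.z.conj _ (c.z.conj d hd y trivial) g trivial)
    (by rw [← eg]; exact BS.smul_conj_fixed (BS.smul_conj_fixed eδ))
  obtain ⟨w, hw, e'⟩ := c.cover' hk (by simpa using c.t1) hv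
  have gt := c.cNt hg
  have gk : Commute g (y * t * y⁻¹) := (mem_cent.1 hg _ (c.KN hk)).symm
  have h2 : (t * (g⁻¹ * w * g⁻¹⁻¹)) • ω = ω := by
    have := (e' (g • ω)).1 (by
      rw [show y * t * y⁻¹ * (g * (y * d * y⁻¹) * g⁻¹) = g * (y * (t * d) * y⁻¹) * g⁻¹ by
        rw [← mul_assoc, ← mul_assoc, ← gk.eq]; group]
      refine BS.smul_conj_fixed ?_
      nth_rw 1 [← ey]; rw [BS.smul_conj_fixed e, ey])
    rw [show t * (g⁻¹ * w * g⁻¹⁻¹) = g⁻¹ * (t * w) * g by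
      rw [← mul_assoc, ← mul_assoc, ← gt.inv_left.eq]; group, mul_smul, mul_smul, this, inv_smul_smul]
  have w1 : w ≠ 1 := by rintro rfl; simp [hω] at h2
  have h3 := c.uniq (c.z.conj w (c.VD hw w1) g⁻¹ trivial) hd
    ((gt.inv_left.mul_left (c.kv c.tK hw).symm).mul_left gt.inv_left.inv_left) h hω h2 e
  refine c.z.eq_pt hd trivial trivial ?_ eδ
  rw [← h3, eq_inv_smul_iff.2 eg]
  exact BS.smul_conj_fixed (c.Va hw)

theorem normE {g : G} (hg : g ∈ 𝐍(P)) : g ∈ 𝐍(K ⊔ V) := Tr.mem_normalizer_of_forall fun _ he =>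
  c.om _ (conj_mem_of_mem_normalizer hg (c.EP he)) (conj_mul_self (c.twoE he) g)

theorem cmodE {x e : G} (hx : x ∈ SF.GP.cmod V (K : Set G)) (he : e ∈ K ⊔ V) :
    x * e * x⁻¹ * e⁻¹ ∈ V := by
  obtain ⟨k, hk, v, hv, rfl⟩ := c.memE.1 he
  have := mul_mem (hx.2 k hk) (conj_mem_of_mem_normalizer (cent_sub V (c.KV hk))
    (mul_mem (conj_mem_of_mem_normalizer hx.1 hv) (inv_mem hv)))
  rwa [show x * k * x⁻¹ * k⁻¹ * (k * (x * v * x⁻¹ * v⁻¹) * k⁻¹) = x * (k * v) * x⁻¹ * (k * v)⁻¹ by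
    group] at this

theorem cmod_conj {g x : G} (hg : g ∈ 𝐍(K ⊔ V)) (hg' : g ∈ 𝐍(V))
    (hx : x ∈ SF.GP.cmod V (K : Set G)) : g * x * g⁻¹ ∈ SF.GP.cmod V (K : Set G) := by
  refine ⟨mul_mem (mul_mem hg' hx.1) (inv_mem hg'), fun k hk => ?_⟩
  have := conj_mem_of_mem_normalizer hg' (c.cmodE hx (conj_mem_of_mem_normalizer' hg
    (mem_sup_left hk)))
  rwa [show g * (x * (g⁻¹ * k * g) * x⁻¹ * (g⁻¹ * k * g)⁻¹) * g⁻¹ =
    g * x * g⁻¹ * k * (g * x * g⁻¹)⁻¹ * k⁻¹ by group] at this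

theorem normS {g : G} (hg : g ∈ 𝐍(K ⊔ V)) (hg' : g ∈ 𝐍(V)) : g ∈ 𝐍(SS K V) :=
  Tr.mem_normalizer_of_forall fun _ hx =>
    ⟨conj_mem_of_mem_normalizer (cent_norm V hg') hx.1, c.cmod_conj hg hg' hx.2⟩

theorem jV : j ∈ 𝐍(V) := c.sing.nj
theorem jS : j ∈ 𝐍(SS K V) := c.normS (c.normE c.jP) c.jV

theorem dl {x e : G} (hx : x ∈ SF.GP.cmod V (K : Set G)) (he : e ∈ K ⊔ V) :
    e⁻¹ * (x * e * x⁻¹) ∈ V := by
  have := conj_mem_of_mem_normalizer' (cent_sub V (c.PV (c.EP he))) (c.cmodE hx he)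
  rwa [show e⁻¹ * (x * e * x⁻¹ * e⁻¹) * e = e⁻¹ * (x * e * x⁻¹) by group] at this

theorem PS : P ≤ SS K V := fun x hx => mem_SS.2 ⟨c.PV hx, fun k hk => by
  rw [(c.Pk hx hk).eq]; simp⟩

theorem SP : SS K V ≤ 𝐍(P) := fun y hy => Tr.mem_normalizer_of_forall fun x hx => by
  have h1 : y * x * y⁻¹ ∈ 𝐂(V) := mul_mem (mul_mem hy.1 (c.PV hx)) (inv_mem hy.1)
  refine c.CC c.tK c.t1 h1 ?_
  have h2 := (c.Pk hx c.tK).map (MulAut.conj y).toMonoidHom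
  have := Commute.mul_right (show Commute (y * x * y⁻¹) (y * t * y⁻¹) from h2)
    (c.cv h1 (c.dl hy.2 (mem_sup_left c.tK))).inv_right
  simpa [mul_assoc] using this

theorem SE : SS K V ≤ 𝐍(K ⊔ V) := fun _ hy => c.normE (c.SP hy)

theorem sqS {y : G} (hy : y ∈ SS K V) : y * y ∈ P := by
  have hv := c.dl hy.2 (mem_sup_left c.tK)
  refine c.CC c.tK c.t1 (mul_mem hy.1 hy.1) (mul_inv_eq_iff_eq_mul.1 ?_)
  calc y * y * t * (y * y)⁻¹ = y * t * (t⁻¹ * (y * t * y⁻¹)) * y⁻¹ := by group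
    _ = t * ((t⁻¹ * (y * t * y⁻¹)) * (t⁻¹ * (y * t * y⁻¹))) := by
      rw [mul_assoc _ _ y⁻¹, ← (c.cv hy.1 hv).inv_left.eq]; group
    _ = t := by rw [c.twoV hv, mul_one]

theorem p2S : IsPGroup 2 (SS K V) := isPGroup_iff_forall_mem.2 fun y hy => by
  obtain ⟨n, h⟩ := isPGroup_iff_forall_mem.1 c.p2 _ (c.sqS hy)
  exact ⟨n + 1, by rw [pow_succ', pow_mul, pow_two, h]⟩

theorem trS_of {y : G} (hy : y ∈ SS K V) (hP : y ∉ P) {k v : G} (hk : k ∈ K) (h1 : k ≠ 1)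
    (hv : v ∈ V) : ∃ x ∈ SS K V, x * k * x⁻¹ = k * v := by
  by_cases v1 : v = 1
  · exact ⟨1, one_mem _, by simp [v1]⟩
  obtain ⟨n, e⟩ := c.sing.tr _ (c.dl hy.2 (mem_sup_left hk)) (fun e => hP (c.CC hk h1 hy.1 (by
    rw [inv_mul_eq_one, eq_mul_inv_iff_mul_eq] at e; exact e.symm))) v hv v1
  refine ⟨_, conj_mem_of_mem_normalizer (pow_mem c.jS n) hy, ?_⟩
  have h := ((c.jK hk).pow_left n).eq
  rw [← e]
  calc j ^ n * y * (j ^ n)⁻¹ * k * (j ^ n * y * (j ^ n)⁻¹)⁻¹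
      = j ^ n * y * (j ^ n)⁻¹ * (k * j ^ n) * y⁻¹ * (j ^ n)⁻¹ := by group
    _ = (j ^ n * k) * (k⁻¹ * (y * k * y⁻¹)) * (j ^ n)⁻¹ := by rw [← h]; group
    _ = _ := by rw [h]; group

theorem scG {h : G} (hF : h ∈ GF Ω t) (ha : h • α = α) : Sc V j (h * j * h⁻¹) := by
  obtain ⟨x, hx, e⟩ := c.trP (h • β) ((hF β).2 c.tb)
    (fun e => c.ne (smul_left_cancel h (ha.trans e.symm)))
  obtain ⟨n, en⟩ := exists_npow (c.nj (h := x⁻¹ * h) (by rw [mul_smul, ha, c.Pa (inv_mem hx)])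
    (by rw [mul_smul, ← e, inv_smul_smul]))
  refine ⟨n, fun v hv => ?_⟩
  have h1 := (c.cv (c.PV hx) hv).eq
  have h2 := (c.cv (c.PV hx) (conj_mem_of_mem_normalizer (pow_mem c.jV n) hv)).eq
  calc h * j * h⁻¹ * v * (h * j * h⁻¹)⁻¹
      = x * (x⁻¹ * h * j * (x⁻¹ * h)⁻¹) * (x⁻¹ * (v * x)) * (x⁻¹ * h * j * (x⁻¹ * h)⁻¹)⁻¹ * x⁻¹ := by group
    _ = x * (j ^ n * v * (j ^ n)⁻¹) * x⁻¹ := by rw [← en, ← h1]; group
    _ = _ := by rw [h2]; group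

theorem VNw {v w : G} (hv : v ∈ V) (hw : w ∈ V) (h : v ∈ NN Ω (t * w)) : v = 1 := by
  obtain ⟨x, hx, e⟩ := c.tr2 w hw
  rw [← e, mem_NN_conj] at h
  simpa [mul_assoc] using congrArg (fun z => x * z * x⁻¹) (c.VN (conj_mem_of_mem_normalizer' hx.2 hv) h)

theorem exS (hZ : ZStmt.{u}) : ∃ y ∈ SS K V, y ∉ P := by
  by_contra! hS
  set H := 𝐍(P) ⊓ SF.GP.cmod V (K : Set G)
  have tE : t ∈ K ⊔ V := mem_sup_left c.tK
  have jH : j ∈ H := ⟨c.jP, c.jV, fun k hk => by rw [(c.jK hk).eq]; simp⟩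
  have h0 : ∀ h ∈ H, h ∈ 𝐂(V) → ∀ k ∈ K, k⁻¹ * (h * k * h⁻¹) = 1 := fun h hh hC k hk => by
    rw [(c.Pk (hS h ⟨hC, hh.2⟩) hk).eq]; simp
  obtain ⟨-, -, h3, h4⟩ := hZ G V H j q (fun h => t⁻¹ * (h * t * h⁻¹)) c.sing (fun h hh => hh.2.1) jH
    (by rw [(c.jK c.tK).eq]; simp) (fun h hh => c.dl hh.2 tE) (fun h _ h' _ => by group)
    (fun v hv => by
      by_cases v1 : v = 1
      · exact ⟨1, one_mem _, by simp [v1]⟩
      obtain ⟨g, hg, e⟩ := c.tr2 v hv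
      have hh : g⁻¹ * j * g⁻¹⁻¹ ∈ H := ⟨(𝐍(P)).mul_mem ((𝐍(P)).mul_mem ((𝐍(P)).inv_mem hg.1) c.jP)
        ((𝐍(P)).inv_mem ((𝐍(P)).inv_mem hg.1)), c.cmod_conj (inv_mem (c.normE hg.1)) (inv_mem hg.2) jH.2⟩
      obtain ⟨n, en⟩ := c.sing.tr _ (c.dl hh.2 tE) (fun e' => v1 (c.fpfV (mem_zpowers j) (by
        intro e1
        have := c.ord
        have := c.q4
        simp [e1] at *
        omega) hv (by
        have h1 : j * (g * t * g⁻¹) * j⁻¹ = g * t * g⁻¹ := by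
          rw [inv_mul_eq_one] at e'
          conv_rhs => rw [e']
          group
        rw [e, mul_inv_eq_iff_eq_mul, ← mul_assoc, (c.jK c.tK).eq, mul_assoc, mul_assoc] at h1
        exact mul_left_cancel h1))) v hv v1
      refine ⟨_, mul_mem (pow_mem jH n) hh, ?_⟩
      have h := ((c.jK c.tK).pow_left n).inv_right.eq
      rw [← en, ← mul_assoc (j ^ n) t⁻¹, h]
      group)
    (fun h hh hC => h0 h hh hC t c.tK)
    (fun h hh e => c.scG (cent_le_GF t (mem_cent1.2 (by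
      rw [inv_mul_eq_one, eq_mul_inv_iff_mul_eq] at e; exact e.symm))) (c.fixV hh.2.1))
  obtain ⟨T, hT⟩ := exists_sylowIn (p := 2) H
  obtain ⟨-, O, hO, -, -, -, y, hy, yO, y2⟩ := h4 T hT
  have yH := hT.le hy
  have yC : y ∉ 𝐂(V) := fun h => yO (hO ⟨hy, h⟩)
  obtain ⟨h5, h6, ⟨z, hz, h7⟩, -⟩ := h3 y yH yC y2
  obtain ⟨v, hv, ev⟩ : ∃ v ∈ V, y * v * y⁻¹ ≠ v := by
    by_contra! h
    exact yC (mem_cent.2 fun v hv => (mul_inv_eq_iff_eq_mul.1 (h v hv)).symm)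
  have ev' := (h7 v hv).resolve_left ev
  have z1 : z ≠ 1 := by rintro rfl; exact ev (by simpa using ev')
  have zy : z ∈ V ⊓ 𝐂[y] := ⟨hz, mem_cent1.2 (by
    rcases h7 z hz with e | e
    · exact (mul_inv_eq_iff_eq_mul.1 e).symm
    · rw [c.twoV hz] at e; exact absurd (by simpa using e) z1)⟩
  have key : ∀ k ∈ K, k ≠ 1 → k⁻¹ * (y * k * y⁻¹) ∈ V ⊓ 𝐂[y] ∧ k⁻¹ * (y * k * y⁻¹) ∉ zpowers z := by
    intro k hk k1
    have hd := c.dl yH.2 (mem_sup_left hk)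
    have h8 : ∀ v ∈ V, k⁻¹ * (y * k * y⁻¹) * (y * v * y⁻¹) ≠ v := fun v hv e => by
      obtain ⟨w, hw, ew⟩ := c.cover' hk k1 hv
      have e1 : y ∈ 𝐂[k * v] := mem_cent1.2 (mul_inv_eq_iff_eq_mul.1 (by
        conv_rhs => rw [← e]
        group))
      have e2 : y ∈ GF Ω (t * w) := fun ω => by
        rw [mem_fixedBy, mem_fixedBy, ← ew, ← ew]; exact cent_le_GF _ e1 ω
      have e3 : t * w ∈ NN Ω (t * w) := fun _ h => h
      have := c.VNw (c.dl yH.2 (mul_mem tE (mem_sup_right hw))) hw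
        (mul_mem (inv_mem e3) (conj_mem_of_mem_normalizer (GF_le_norm _ e2) e3))
      refine h5 w hw ?_
      rw [inv_mul_eq_one] at this
      rw [← mul_left_cancel_iff (a := t)]
      conv_rhs => rw [this]
      group
    refine ⟨⟨hd, mem_cent1.2 (mul_inv_eq_iff_eq_mul.1 ?_ : Commute y _).symm⟩, fun h => ?_⟩
    · have := h0 _ (mul_mem yH yH) y2 k hk
      rw [show k⁻¹ * (y * y * k * (y * y)⁻¹) =
        k⁻¹ * (y * k * y⁻¹) * (y * (k⁻¹ * (y * k * y⁻¹)) * y⁻¹) by group] at this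
      rw [← mul_left_cancel_iff (a := k⁻¹ * (y * k * y⁻¹)), this, c.twoV hd]
    · rcases (mem_zpowers_sq (c.twoV hz)).1 h with e | e
      · exact h8 1 (one_mem _) (by simp [e])
      · exact h8 v hv (by rw [e, ev', ← mul_assoc, c.twoV hz, one_mul])
  obtain ⟨k, hk, k1, kt⟩ := c.K4
  have tk : t * k ≠ 1 := fun e => kt (by rw [eq_inv_of_mul_eq_one_right e, inv_eq_of_mul_self c.tt])
  refine (key _ (mul_mem c.tK hk) tk).2 ?_
  have := four_aux h6 (c.twoV hz) z1 zy (key t c.tK c.t1).1 (key k hk k1).1 (key t c.tK c.t1).2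
    (key k hk k1).2
  have h9 := (c.kv (inv_mem hk) (key t c.tK c.t1).1.1).eq
  rwa [← mul_assoc, ← h9, show k⁻¹ * (t⁻¹ * (y * t * y⁻¹)) * (y * k * y⁻¹) =
    (t * k)⁻¹ * (y * (t * k) * y⁻¹) by group] at this

theorem cardS (h : ∀ w ∈ V, ∃ y ∈ SS K V, y * t * y⁻¹ = t * w) : #|SS K V| = #|P| * q := by
  have h1 : 𝐂[t] ⊓ SS K V = P := le_antisymm (fun x hx => c.CC c.tK c.t1 hx.2.1 (mem_cent1.1 hx.1))
    fun x hx => ⟨mem_cent1.2 (c.Pk hx c.tK), c.PS hx⟩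
  rw [← Tr.card_inf_mul_relIndex 𝐂[t], h1, ← ncard_class, ← c.cardV, ← SetLike.coe_sort_coe V,
    Nat.card_coe_set_eq, ← Set.ncard_image_of_injective (V : Set G) (mul_right_injective t)]
  congr 2
  refine Set.ext fun x => ⟨?_, ?_⟩
  · rintro ⟨g, hg, rfl⟩
    exact ⟨_, c.dl hg.2 (mem_sup_left c.tK), by simp⟩
  · rintro ⟨w, hw, rfl⟩
    exact h w hw

end MF

end Cfsg.Agent.ZD
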