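import Cfsg.Agent.Lib.ZD.M2b
import Cfsg.Agent.Lib.Transfer.ElemCent2

/-! Row M2, Suzuki type: the two point stabilizer. -/

open Subgroup MulAction

set_option linter.unusedSectionVars false

namespace Cfsg.Agent.ZD

open FT Tr SF.GP

universe u

variable {G : Type u} {Ω : Type u} [Group G] [MulAction G Ω]

theorem EC_three [Finite G] {T : Subgroup G} (h : EC T) : ∃ y : G, orderOf y = 3 := by
  obtain ⟨u, hu, -⟩ := SE.exists_not_mem h.se
  obtain ⟨s, hs, -, -, hs1, -⟩ := h.exists_two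
  have h12 : (QuotientGroup.mk 1 : G ⧸ 𝐍(T)) ≠ QuotientGroup.mk u :=
    fun e => hu (mk_eq_one_iff.1 e.symm)
  have h13 : (QuotientGroup.mk 1 : G ⧸ 𝐍(T)) ≠ QuotientGroup.mk (s * u) :=
    fun e => hu ((mul_mem_cancel_left (le_normalizer hs)).1 (mk_eq_one_iff.1 e.symm))
  have h23 : (QuotientGroup.mk u : G ⧸ 𝐍(T)) ≠ QuotientGroup.mk (s * u) :=
    fun e => hs1 (h.eq_of_mem_coset hu T.one_mem hs (by simpa using QuotientGroup.eq.1 e)).symm
  obtain ⟨g, e1, e2, e3⟩ := h.triply h12 h13 h23 h23 h12.symm h13.symm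
  have : Fact (Nat.Prime 3) := ⟨Nat.prime_three⟩
  refine ⟨g, orderOf_eq_prime (h.sharp h12 h13 h23 ?_ ?_ ?_) ?_⟩
  · rw [pow_three, mul_smul, mul_smul, e1, e2, e3]
  · rw [pow_three, mul_smul, mul_smul, e2, e3, e1]
  · rw [pow_three, mul_smul, mul_smul, e3, e1, e2]
  · rintro rfl; exact h12 (by simpa using e1)

theorem exists_cen [Finite G] {p : ℕ} [Fact p.Prime] {T : Subgroup G} (hT : IsPGroup p T) (h : T ≠ ⊥) :
    ∃ z ∈ T, z ≠ 1 ∧ z ∈ 𝐂(T) := by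
  obtain ⟨⟨z, hz⟩, z1⟩ := (ne_bot_iff_exists_ne_one).1 (mt (center_nil_eq1 (pgroup_nil hT)).1 h)
  exact ⟨z, hz.1, fun e => z1 (Subtype.ext e), hz.2⟩

theorem three_or_norm [Finite G] {C K : Subgroup G} {t k : G} (hK : K ≤ C) (two : ∀ k ∈ K, k * k = 1)
    (ht : t ∈ K) (hk : k ∈ K) (t1 : t ≠ 1) (k1 : k ≠ 1) (kt : k ≠ t)
    (hc : ∀ k ∈ K, k ≠ 1 → ∀ y ∈ C, Commute y k → y ∈ K) : C ≤ 𝐍(K) ∨ ∃ y ∈ C, orderOf y = 3 := by
  by_cases hn : C ≤ 𝐍(K)
  · exact Or.inl hn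
  have cm : ∀ a ∈ K, ∀ b ∈ K, Commute a b := fun a ha b hb => by
    have := two _ (mul_mem ha hb)
    rw [mul_eq_one_iff_eq_inv, mul_inv_rev, inv_eq_of_mul_self (two a ha),
      inv_eq_of_mul_self (two b hb)] at this
    exact this
  have p2 : IsPGroup 2 K := isPGroup_iff_forall_mem.2 fun x hx => ⟨1, by rw [pow_one, pow_two, two x hx]⟩
  have hS : SylowIn 2 K C := sylowIn_of_maximal p2 hK fun T hT h1 h2 => le_antisymm (by
    obtain ⟨z, hz, z1, hz'⟩ := exists_cen hT fun e => t1 (by simpa [e] using h1 ht)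
    exact fun x hx => hc z (hc t ht t1 z (h2 hz) (mem_cent.1 hz' t (h1 ht)).symm) z1 x (h2 hx)
      (mem_cent.1 hz' x hx)) h1
  have : EC (K.subgroupOf C) := by
    refine ⟨hS.subgroupOf_top, fun h => ?_, fun h => hn ((normal_subgroupOf_iff_le_normalizer hK).1 h),
      fun u hu => ?_⟩
    · have := (subgroupOfEquivOfLe hK).isCyclic.1 h
      have e := IsCyclic.exponent_eq_card (α := K)
      have h1 : Monoid.exponent K ∣ 2 := Monoid.exponent_dvd_of_forall_pow_eq_one fun x =>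
        Subtype.ext (by simpa [pow_two] using two x x.2)
      have h2 : ({1, t, k} : Set G).ncard ≤ (K : Set G).ncard := Set.ncard_le_ncard (by
        rintro x (rfl | rfl | rfl)
        exacts [K.one_mem, ht, hk])
      rw [Set.ncard_insert_of_notMem (by simp [t1.symm, k1.symm]), Set.ncard_pair kt.symm,
        ← Nat.card_coe_set_eq, SetLike.coe_sort_coe, ← e] at h2
      have := Nat.le_of_dvd two_pos h1
      omega
    · obtain ⟨x, hx, h⟩ := hS.exists_conj_mem u.2 (k := 1) (by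
        rw [pow_one, ← Subgroup.coe_pow, ← hu, pow_orderOf_eq_one]; rfl)
      have u1 : x * u * x⁻¹ ≠ 1 := by simpa using ne_one_of_orderOf_two hu
      have key : ∀ y ∈ centralizer ({u} : Set C), x * y * x⁻¹ ∈ K := fun y hy =>
        hc _ h u1 _ (mul_mem (mul_mem hx y.2) (inv_mem hx))
          ((show Commute (y : G) u from congrArg Subtype.val (mem_cent1.1 hy)).map
            (MulAut.conj x).toMonoidHom)
      refine ⟨⟨⟨fun a b => Subtype.ext (Subtype.ext ?_)⟩⟩, fun y hy => Subtype.ext ?_⟩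
      · simpa using (cm _ (key a a.2) _ (key b b.2)).eq
      · simpa [pow_two] using two _ (key y hy)
  obtain ⟨y, hy⟩ := EC_three this
  exact Or.inr ⟨y, y.2, by rw [orderOf_coe, hy]⟩

theorem relIndex_orb (H : Subgroup G) (β : Ω) {Φ : Set Ω}
    (h : ∀ ω, ω ∈ Φ ↔ ∃ x ∈ H, x • β = ω) : (H ⊓ stabilizer G β).relIndex H = Φ.ncard := by
  have e : Φ = orbit H β := Set.ext fun ω =>
    (h ω).trans ⟨fun ⟨x, hx, e⟩ => ⟨⟨x, hx⟩, e⟩, fun ⟨x, e⟩ => ⟨x, x.2, e⟩⟩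
  rw [inf_relIndex_left, e, ← index_stabilizer]
  rfl

theorem dvd_sdiff_Fix {p : ℕ} [Fact p.Prime] {T : Subgroup G} (hT : IsPGroup p T) {Φ : Set Ω}
    (hS : ∀ g ∈ T, ∀ y ∈ Φ, g • y ∈ Φ) : p ∣ (Φ \ Fix Ω T).ncard := by
  by_contra h
  obtain ⟨y, hy, e⟩ := exists_fix hT (Φ := Φ \ Fix Ω T) (fun g hg y hy => ⟨hS g hg y hy.1, fun h' =>
    hy.2 (by rwa [← inv_smul_smul g y, h' _ (inv_mem hg)])⟩) h
  exact hy.2 e

theorem q_mod {q : ℕ} (h : ∃ m : ℕ, q = 2 ^ (2 * m + 1)) : q % 3 = 2 ∧ (q % 5 = 2 ∨ q % 5 = 3) := by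
  obtain ⟨m, rfl⟩ := h
  induction m with
  | zero => simp
  | succ m ih =>
    rw [show 2 * (m + 1) + 1 = 2 * m + 1 + 2 by ring, pow_add]
    omega

namespace MF

variable [Finite G] {D : Set G} {t : G} {α β : Ω} {V K P : Subgroup G} {j s s' : G} {q : ℕ}
  (c : MF D t α β V K P j s s' q)
include c

theorem cne {Y : Subgroup G} (h1 : Y ≠ ⊥) : 𝐂(Y) ≠ ⊤ := fun h => by
  have := c.min.simple
  rcases (inferInstance : (center G).Normal).eq_bot_or_eq_top with e | e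
  · refine h1 (eq_bot_iff.2 (e ▸ fun y hy => mem_center_iff.2 fun g => ?_))
    exact (mem_cent.1 (h ▸ mem_top g) y hy).symm
  · obtain ⟨v, hv, v1⟩ := c.exV
    exact c.ne (c.sa ▸ (c.z.fix_of_comm (c.VD hv v1) trivial (c.Va hv) trivial
      (mem_center_iff.1 (e ▸ mem_top v) s)).symm)

theorem p2K : IsPGroup 2 K := c.p2.to_le c.KP

theorem odd_K : Odd ((K : Set G) \ {1}).ncard := by
  obtain ⟨n, hn⟩ := IsPGroup.iff_card.1 c.p2K
  rw [Set.ncard_sdiff_singleton_of_mem K.one_mem, ← Nat.card_coe_set_eq, SetLike.coe_sort_coe, hn]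
  refine Nat.Even.sub_odd Nat.one_le_two_pow (Nat.even_pow.2 ⟨even_two, ?_⟩) odd_one
  rintro rfl
  exact c.t1 ((eq_bot_iff_forall K).1 (card_eq_one.1 hn) t c.tK)

variable (b : B2 Ω t α β V K P q)
include b

theorem cardn : Nat.card Ω = q ^ 3 * (q * (q - 1) + 1) + 1 := by
  rw [c.cardΩ b.card]
  obtain ⟨u, rfl⟩ := Nat.exists_eq_add_of_le' (show 1 ≤ q by have := c.q4; omega)
  rw [Nat.add_sub_cancel]; ring

theorem no3 {y : G} (hy : y ∈ 𝐂(V)) (e : y • β = β) : orderOf y ≠ 3 := fun h => by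
  have := c.fin
  have : Fact (Nat.Prime 3) := ⟨Nat.prime_three⟩
  have h3 := (q_mod b.odd).1
  have h4 : (q - 1) % 3 = 1 := by omega
  have hp := isPGroup_zpowers_of_orderOf_eq h
  have h1 := c.loc 𝐂(zpowers y) (c.cne (by rw [Ne, zpowers_eq_bot]; rintro rfl; simp at h))
    (Fix Ω (zpowers y)) (c.z.sub le_top (Set.subset_univ _)
      (fun g hg ω hω x hx => BS.smul_fixed_of_commute (hω x hx) (mem_cent.1 hg x hx).symm)
      (fun d hd h' => by
        obtain ⟨ω, -, e⟩ := c.z.ex d hd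
        exact ⟨ω, fun x hx => c.z.fix_of_comm hd trivial e trivial (mem_cent.1 h' x hx), e⟩)
      fun ω hω => by
        obtain ⟨d, hd, h'⟩ := exists_cent_of_pgroup hp (DA D ω) (fun g hg d hd =>
          ⟨c.z.conj d hd.1 g trivial, by
            nth_rw 1 [← hω g hg]; rw [BS.smul_conj_fixed hd.2, hω g hg]⟩) (by rw [c.ncard_DA]; omega)
        exact ⟨d, hd.1, mem_cent.2 h', hd.2⟩)
    (centsC.1 (zpowers_le.2 hy)) (by rw [Fix_zpowers]; exact c.fixC hy) β (by rw [Fix_zpowers]; exact e)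
    c.ne.symm
  have h2 := dvd_sdiff_Fix hp (Φ := (Set.univ : Set Ω)) fun _ _ _ _ => trivial
  have h5 := Set.ncard_add_ncard_compl (Fix Ω (zpowers y))
  rw [c.cardn b, Set.compl_eq_univ_sdiff] at h5
  have h6 : (q ^ 3 * (q * (q - 1) + 1) + 1) % 3 = 1 := by
    simp [Nat.add_mod, Nat.mul_mod, Nat.pow_mod, h3, h4]
  have h7 : (q ^ 2 + 1) % 3 = 2 := by simp [Nat.add_mod, Nat.pow_mod, h3]
  have h8 : (q ^ 3 + 1) % 3 = 0 := by simp [Nat.add_mod, Nat.pow_mod, h3]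
  omega

theorem C0K {y : G} (hy : y ∈ 𝐂(V)) (e : y • β = β) : y ∈ 𝐍(K) := by
  obtain ⟨k, hk, k1, kt⟩ := c.K4
  rcases three_or_norm (C := 𝐂(V) ⊓ stabilizer G β) (le_inf c.KV fun k hk => c.KN hk β c.tb) c.twoK
    c.tK hk c.t1 k1 kt (fun k hk k1 y hy h => c.regP y (c.CC hk k1 hy.1 h) hy.2) with h | ⟨z, hz, h⟩
  · exact h ⟨hy, e⟩
  · exact absurd h (c.no3 b hz.1 hz.2)

theorem C0N {y : G} (hy : y ∈ 𝐂(V)) (e : y • β = β) : y ∈ NN Ω t := by
  obtain ⟨x, hx, h⟩ := c.CV y hy (c.GFk c.tK c.t1 (conj_mem_of_mem_normalizer (c.C0K b hy e) c.tK))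
  have := h β c.tb
  rw [mul_smul, e, inv_smul_eq_iff] at this
  exact (mul_mem_cancel_left (inv_mem (c.KN (c.regP x hx this.symm)))).1 h

theorem NK : NN Ω t ≤ 𝐍(K) := fun _ hn => c.C0K b (c.NV hn) (hn β c.tb)

theorem abG {h : G} (ha : h • α = α) (hb : h • β = β) : h ∈ GF Ω t := by
  have k : ∀ h : G, h • α = α → h • β = β → ∀ ω : Ω, t • ω = ω → t • h • ω = h • ω := by
    intro h ha hb ω hω
    have := c.C0N b (conj_mem_of_mem_normalizer' (cent_norm V (c.normV ha)) (c.KV c.tK))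
      (by rw [mul_smul, mul_smul, hb, c.tb, inv_smul_eq_iff, hb]) ω hω
    rwa [mul_smul, mul_smul, inv_smul_eq_iff] at this
  refine fun ω => ⟨fun e => ?_, k h ha hb ω⟩
  simpa using k h⁻¹ (by rw [inv_smul_eq_iff, ha]) (by rw [inv_smul_eq_iff, hb]) _ e

theorem p2N {x : G} {i : ℕ} (hx : x ∈ NN Ω t) (h : x ^ 2 ^ i = 1) : x ∈ K := by
  obtain ⟨k, hk, e⟩ := exists_cent_of_pgroup (isPGroup_zpowers h) ((K : Set G) \ {1})
    (fun g hg k hk => ⟨conj_mem_of_mem_normalizer (c.NK b (zpowers_le.2 hx hg)) hk.1, by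
      simpa using hk.2⟩) (by rw [← even_iff_two_dvd, Nat.not_even_iff_odd]; exact c.odd_K)
  exact c.CN k hk.1 hk.2 x hx (e x (mem_zpowers x))

theorem GK : GF Ω t ≤ 𝐍(K) := fun g hg => Tr.mem_normalizer_of_forall fun k hk =>
  c.p2N b (i := 1) (conj_mem_of_mem_normalizer (GF_le_norm t hg) (c.KN hk))
    (by rw [pow_one, pow_two, conj_mul_self (c.twoK k hk)])

theorem p2ab {x : G} {i : ℕ} (ha : x • α = α) (hb : x • β = β) (h : x ^ 2 ^ i = 1) : x ∈ K := by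
  have k : ∀ i : ℕ, x ^ 2 ^ i ∈ NN Ω t → x ∈ NN Ω t := fun i => by
    induction i with
    | zero => simp
    | succ i ih =>
      refine fun h => ih (b.fr _ (pow_mem (c.abG b ha hb) _) (pow_mem (show x ∈ stabilizer G α from ha) _)
        (pow_mem (show x ∈ stabilizer G β from hb) _) ?_)
      rwa [← pow_two, ← pow_mul, ← pow_succ]
  exact c.p2N b (k i (h ▸ one_mem _)) h

theorem GP {h : G} (hF : h ∈ GF Ω t) (ha : h • α = α) : h ∈ 𝐍(K ⊔ V) :=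
  normsY (zpowers_le.2 (c.GK b hF)) (zpowers_le.2 (c.normV ha)) (mem_zpowers h)

/-- The normalizer of a nontrivial subgroup of `N` stabilizes `F`. -/
theorem normY {Y : Subgroup G} (h1 : Y ≠ ⊥) (hY : Y ≤ NN Ω t) : 𝐍(Y) ≤ GF Ω t := by
  have := c.fin
  have : Fact (Nat.Prime 5) := ⟨Nat.prime_five⟩
  have hz := c.z.pts (H' := 𝐂(Y)) le_top
  set Φ := {ω : Ω | ω ∈ (Set.univ : Set Ω) ∧ ∃ d ∈ D, d ∈ 𝐂(Y) ∧ d • ω = ω}
  have hF : fixedBy Ω t ⊆ Φ := fun γ hγ => by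
    obtain ⟨d, hd, e⟩ := c.z.surj γ trivial
    exact ⟨trivial, d, hd, centS hY (c.DF d hd γ γ hγ hγ e), e⟩
  have hle := Set.ncard_le_ncard hF
  have q4 := c.q4
  rw [b.card] at hle
  have e : fixedBy Ω t = Φ := by
    rcases c.loc _ (c.cne h1) Φ hz (centsC.1 (hY.trans c.NV)) (hF c.ta) β (hF c.tb) c.ne.symm with
      h | h | h
    · nlinarith
    · exact Set.eq_of_subset_of_ncard_le hF (by rw [h, b.card])
    exfalso
    obtain ⟨T, hT⟩ := exists_sylowIn (p := 5) 𝐂(NN Ω t)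
    have h5 := (q_mod b.odd).2
    obtain ⟨ω, -, hω⟩ := exists_fix hT.isPGroup (fun g hg => hz.inv g (centS hY (hT.le hg))) (by
      rw [h, Nat.dvd_iff_mod_eq_zero]
      rcases h5 with h5 | h5 <;> simp [Nat.add_mod, Nat.pow_mod, h5])
    obtain ⟨δ, hδ, e⟩ : ∃ δ : Ω, t • δ = δ ∧ ∀ g ∈ T, g • δ = δ := by
      by_cases h' : t • ω = ω
      · exact ⟨ω, h', hω⟩
      · obtain ⟨-, -, -, -, δ, -, h2, h3⟩ := c.canon h'
        exact ⟨δ, h2, fun g hg => h3 g (cent_sub K (centS c.KN (hT.le hg))) (hω g hg)⟩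
    refine hT.not_dvd_relIndex_of_le (K := 𝐂(NN Ω t) ⊓ stabilizer G δ) (le_inf hT.le e) inf_le_left ?_
    rw [relIndex_orb _ δ (Φ := fixedBy Ω t) fun γ => ⟨fun hγ => ?_, ?_⟩, b.card, Nat.dvd_iff_mod_eq_zero]
    · rcases h5 with h5 | h5 <;> simp [Nat.add_mod, Nat.pow_mod, h5]
    · obtain ⟨g, hg, e1⟩ := c.trF hδ
      obtain ⟨g', hg', e2⟩ := c.trF hγ
      exact ⟨g'⁻¹ * g, mul_mem (inv_mem hg') hg, by rw [mul_smul, e1, ← e2, inv_smul_smul]⟩
    · rintro ⟨g, hg, rfl⟩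
      exact (cent_le_GF t (mem_cent1.2 (c.cNt hg)) δ).2 hδ
  have k : ∀ g ∈ 𝐍(Y), ∀ ω ∈ Φ, g • ω ∈ Φ := fun g hg ω ⟨_, d, hd, h, e⟩ =>
    ⟨trivial, _, c.z.conj d hd g trivial, conj_mem_of_mem_normalizer (cent_norm Y hg) h,
      BS.smul_conj_fixed e⟩
  intro g hg ω
  rw [e]
  exact ⟨fun h => by simpa using k _ (inv_mem hg) _ h, k g hg ω⟩

end MF

end Cfsg.Agent.ZD
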