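import Cfsg.Agent.Lib.ZD.Defs
import Cfsg.Agent.Lib.FT.Main

/-! Singer cycles (row SING of `docs/ZD_PLAN.md`). -/

open Subgroup MulAction
open scoped commutatorElement

namespace Cfsg.Agent.ZD

open FT Tr

universe u

variable {G : Type u} [Group G] {V H : Subgroup G} {j h v : G} {q : ℕ}

/-- Field coordinates for a Singer cycle. -/
structure SCo {F : Type} [Field F] (V : Subgroup G) (j : G) (φ : G → F) (c : F) : Prop where
  add : ∀ x ∈ V, ∀ y ∈ V, φ (x * y) = φ x + φ y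
  inj : ∀ x ∈ V, ∀ y ∈ V, φ x = φ y → x = y
  surj : ∀ a, ∃ x ∈ V, φ x = a
  conj : ∀ n : ℕ, ∀ x ∈ V, φ (j ^ n * x * (j ^ n)⁻¹) = c ^ n * φ x
  gen : ∀ a, a ≠ 0 → ∃ n : ℕ, c ^ n = a
  ne : c ≠ 0

theorem semilin {F : Type} [Field F] [Finite F] {c d : F} (hc : ∀ a, a ≠ 0 → ∃ n : ℕ, c ^ n = a)
    (T : F →+ F) (h1 : T 1 ≠ 0) (h : ∀ a, T (c * a) = d * T a) :
    ∃ σ : F ≃+* F, ∀ a, T a = T 1 * σ a := by
  have hn : ∀ (n : ℕ) a, T (c ^ n * a) = d ^ n * T a := fun n a => by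
    induction n with
    | zero => simp
    | succ n ih => rw [pow_succ', mul_assoc, h, ih, pow_succ', mul_assoc]
  let σ : F →+* F :=
    { toFun := fun a => T a / T 1
      map_zero' := by simp
      map_one' := div_self h1
      map_add' := fun a b => by rw [map_add, add_div]
      map_mul' := fun a b => by
        by_cases ha : a = 0
        · simp [ha]
        obtain ⟨n, rfl⟩ := hc a ha
        have := hn n 1
        rw [mul_one] at this
        rw [hn, this]; field_simp }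
  exact ⟨RingEquiv.ofBijective σ (Finite.injective_iff_bijective.1 σ.injective), fun a =>
    (mul_div_cancel₀ _ h1).symm⟩

namespace SCo

variable {F : Type} [Field F] {φ : G → F} {c : F} (s : SCo V j φ c)
include s

theorem one : φ 1 = 0 := by simpa using s.add 1 V.one_mem 1 V.one_mem

theorem eq_zero (hv : v ∈ V) : φ v = 0 ↔ v = 1 :=
  ⟨fun e => s.inj v hv 1 V.one_mem (e.trans s.one.symm), fun e => e ▸ s.one⟩

theorem exists_add (hh : h ∈ 𝐍(V)) : ∃ T : F →+ F, T 1 ≠ 0 ∧ ∀ v ∈ V, T (φ v) = φ (h * v * h⁻¹) := by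
  choose ι hι hι' using s.surj
  have e : ∀ v ∈ V, ι (φ v) = v := fun v hv => s.inj _ (hι _) _ hv (hι' _)
  have m := fun a => conj_mem_of_mem_normalizer hh (hι a)
  refine ⟨AddMonoidHom.mk' (fun a => φ (h * ι a * h⁻¹)) fun a b => ?_, fun e1 => ?_, fun v hv => ?_⟩
  · rw [← s.add _ (m a) _ (m b), s.inj _ (hι (a + b)) _ (mul_mem (hι a) (hι b))
      (by rw [s.add _ (hι a) _ (hι b), hι', hι', hι'])]
    congr 1; group
  · have := (s.eq_zero (m 1)).1 e1
    rw [conj_eq_one_iff] at this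
    simpa [this, s.one] using hι' 1
  · exact congrArg (fun x => φ (h * x * h⁻¹)) (e v hv)

theorem sc (hj : j ∈ 𝐍(V)) (hh : h ∈ 𝐍(V)) {a : F} (ha : a ≠ 0) (e : ∀ v ∈ V, φ (h * v * h⁻¹) = a * φ v) :
    Sc V j h := by
  obtain ⟨n, rfl⟩ := s.gen a ha
  exact ⟨n, fun v hv => s.inj _ (conj_mem_of_mem_normalizer hh hv) _
    (conj_mem_of_mem_normalizer (pow_mem hj n) hv) (by rw [e v hv, s.conj n v hv])⟩

theorem semi [Finite F] (hj : j ∈ 𝐍(V)) (hh : h ∈ 𝐍(V)) (hs : Sc V j (h * j * h⁻¹)) :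
    ∃ (a : F) (σ : F ≃+* F), a ≠ 0 ∧ ∀ v ∈ V, φ (h * v * h⁻¹) = a * σ (φ v) := by
  obtain ⟨T, h1, hT⟩ := s.exists_add hh
  obtain ⟨m, hm⟩ := hs
  obtain ⟨σ, hσ⟩ := semilin (d := c ^ m) s.gen T h1 fun a => by
    obtain ⟨v, hv, rfl⟩ := s.surj a
    have h2 := conj_mem_of_mem_normalizer hh hv
    have := s.conj 1 v hv
    rw [pow_one, pow_one] at this
    rw [← this, hT _ (conj_mem_of_mem_normalizer hj hv), hT v hv, ← s.conj m _ h2, ← hm _ h2]
    congr 1; group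
  exact ⟨T 1, σ, h1, fun v hv => by rw [← hT v hv, hσ]⟩

theorem pow_mem_iff (hj : j ∈ 𝐍(V)) {n : ℕ} : j ^ n ∈ 𝐂(V) ↔ c ^ n = 1 := by
  refine ⟨fun e => ?_, fun e v hv => ?_⟩
  · obtain ⟨v, hv, e1⟩ := s.surj 1
    have := s.conj n v hv
    rwa [← e v hv, mul_inv_cancel_right, e1, mul_one, eq_comm] at this
  · have := s.inj _ (conj_mem_of_mem_normalizer (pow_mem hj n) hv) v hv (by rw [s.conj n v hv, e, one_mul])
    exact (mul_inv_eq_iff_eq_mul.1 this).symm

theorem ord [Fintype F] : orderOf c = Fintype.card F - 1 := by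
  classical
  rw [← Fintype.card_units, ← Nat.card_eq_fintype_card, ← orderOf_eq_card_of_forall_mem_powers
    (g := Units.mk0 c s.ne) fun x => by
      obtain ⟨n, hn⟩ := s.gen x x.ne_zero
      exact ⟨n, Units.ext (by simpa using hn)⟩, ← orderOf_units]
  rfl

end SCo

namespace Sing

variable [Finite G] (s : Sing V j q)
include s

omit [Finite G] in
theorem comm {x y : G} (hx : x ∈ V) (hy : y ∈ V) : x * y = y * x := by
  have h := s.two _ (mul_mem hx hy)
  calc x * y = x * (x * y * (x * y)) * y * (x * x) * (y * y) * (y * y)⁻¹ * (x * x)⁻¹ * (x * (x * y * (x * y)) * y)⁻¹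
        * (x * y) := by group
    _ = y * x := by
      have := inv_eq_of_mul_eq_one_right h
      rw [mul_inv_rev, inv_eq_of_mul_eq_one_right (s.two x hx), inv_eq_of_mul_eq_one_right (s.two y hy)] at this
      rw [this]; group

omit [Finite G] in
theorem p2 : IsPGroup 2 V := fun x => ⟨1, Subtype.ext (by simpa [pow_two] using s.two x x.2)⟩

theorem ne_bot : V ≠ ⊥ := fun e => by
  have := s.card; have := s.q4; rw [e, card_bot] at *; omega

omit [Finite G] in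
/-- `j`-invariant subgroups of `V` -/
theorem irr {C : Subgroup G} (hC : C ≤ V) (hj : ∀ x ∈ C, j * x * j⁻¹ ∈ C) : C = ⊥ ∨ C = V := by
  refine (eq_or_ne C ⊥).imp_right fun e => le_antisymm hC fun w hw => ?_
  obtain ⟨⟨v, hv⟩, v1⟩ := ne_bot_iff_exists_ne_one.1 e
  by_cases w1 : w = 1
  · exact w1 ▸ C.one_mem
  obtain ⟨n, rfl⟩ := s.tr v (hC hv) (fun e => v1 (Subtype.ext e)) w hw w1
  clear hw w1
  induction n with
  | zero => simpa using hv
  | succ n ih => convert hj _ ih using 1; group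

theorem coord : ∃ (F : Type) (_ : Field F) (_ : Fintype F) (φ : G → F) (c : F),
    SCo V j φ c ∧ Fintype.card F = q ∧ CharP F 2 := by
  obtain ⟨⟨e, he⟩, e1⟩ := ne_bot_iff_exists_ne_one.1 s.ne_bot
  have e2 : e ≠ 1 := fun h => e1 (Subtype.ext h)
  obtain ⟨F, _, _, φ, χ, c, h1, hc⟩ := BS.exists_coord (R := zpowers j) (A := V) (B := ⊥)
    (by rintro _ ⟨a, rfl⟩ _ ⟨b, rfl⟩; exact Commute.zpow_zpow_self j a b)
    (fun k hk x hx => conj_mem_of_mem_normalizer (zpowers_le.2 s.nj hk) hx)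
    (fun k _ x hx => by rw [mem_bot] at hx ⊢; simp [hx]) bot_le
    (fun x hx y hy => by rw [mem_bot, s.comm hx hy]; group)
    (fun C _ hC hn => s.irr hC (hn j (mem_zpowers j))) he (by rwa [mem_bot])
  have hp : ∀ n : ℕ, ∀ x ∈ V, φ (j ^ n * x * (j ^ n)⁻¹) = χ j ^ n * φ x := fun n x hx => by
    rw [c.conj _ (pow_mem (mem_zpowers j) n) x hx, c.chi_pow (mem_zpowers j)]
  refine ⟨F, _, _, φ, χ j, ⟨c.add, fun x hx y hy e => by
    have := (c.eq_iff hx hy).1 e
    rwa [mem_bot, mul_inv_eq_one] at this, c.surj, hp, fun a ha => ?_, c.chi_ne (mem_zpowers j)⟩,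
    by rw [hc, relIndex_bot_left, s.card], c.charTwo s.p2⟩
  obtain ⟨u, hu, rfl⟩ := c.surj a
  obtain ⟨n, rfl⟩ := s.tr e he e2 u hu (by rintro rfl; exact ha c.map_one)
  exact ⟨n, by rw [hp n e he, h1, mul_one]⟩

theorem pow_mem {n : ℕ} : j ^ n ∈ 𝐂(V) ↔ q - 1 ∣ n := by
  obtain ⟨F, _, _, φ, c, h, hc, -⟩ := s.coord
  rw [h.pow_mem_iff s.nj, ← orderOf_dvd_iff_pow_eq_one, h.ord, hc]

theorem zech : ∃ m, ∀ v ∈ V, Phi j m v = 1 := by
  obtain ⟨F, _, _, φ, c, h, hc, _⟩ := s.coord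
  have c1 : 1 + c ≠ 0 := fun e => by
    have h1 := h.ord
    rw [← CharTwo.add_eq_zero.1 e, orderOf_one, hc] at h1
    have := s.q4; omega
  obtain ⟨m, hm⟩ := h.gen _ c1
  refine ⟨m, fun v hv => ?_⟩
  have h1 := conj_mem_of_mem_normalizer s.nj hv
  have h2 := conj_mem_of_mem_normalizer (Subgroup.pow_mem _ s.nj m) hv
  have h3 := h.conj 1 v hv
  rw [pow_one, pow_one] at h3
  rw [Phi, ← h.eq_zero (mul_mem (mul_mem hv h1) h2), h.add _ (mul_mem hv h1) _ h2, h.add _ hv _ h1, h3,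
    h.conj m v hv, hm]
  have := CharTwo.add_self_eq_zero ((1 + c) * φ v)
  linear_combination this

/-- an element commuting with `j` on `V` is a scalar -/
theorem cent (hh : h ∈ 𝐍(V)) (e : ∀ v ∈ V, h * (j * v * j⁻¹) * h⁻¹ = j * (h * v * h⁻¹) * j⁻¹) :
    Sc V j h := by
  obtain ⟨F, _, _, φ, c, k, -, -⟩ := s.coord
  obtain ⟨T, h1, hT⟩ := k.exists_add hh
  have hn : ∀ n : ℕ, T (c ^ n) = c ^ n * T 1 := fun n => by
    induction n with
    | zero => simp
    | succ n ih =>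
      obtain ⟨v, hv, e1⟩ := k.surj (c ^ n)
      have h2 := k.conj 1 v hv
      have h3 := k.conj 1 _ (conj_mem_of_mem_normalizer hh hv)
      rw [pow_one, pow_one] at h2 h3
      rw [pow_succ', mul_assoc, ← ih, ← e1, ← h2, hT _ (conj_mem_of_mem_normalizer s.nj hv), e v hv, h3,
        hT v hv]
  refine k.sc s.nj hh h1 fun v hv => ?_
  rw [← hT v hv]
  by_cases e0 : φ v = 0
  · simp [e0]
  obtain ⟨n, e1⟩ := k.gen _ e0
  rw [← e1, hn, mul_comm]

end Sing

/-- ring automorphisms are `ZMod 2`-linear -/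
noncomputable def toAlg {F : Type} [Field F] [Algebra (ZMod 2) F] (τ : F ≃+* F) : F ≃ₐ[ZMod 2] F :=
  AlgEquiv.ofRingEquiv (f := τ) fun x => congrArg (fun f : ZMod 2 →+* F => f x)
    (RingHom.ext_zmod (τ.toRingHom.comp (algebraMap (ZMod 2) F)) (algebraMap (ZMod 2) F))

theorem card_gal {F : Type} [Field F] [Fintype F] [Algebra (ZMod 2) F] {a : ℕ}
    (h : Fintype.card F = 2 ^ a) : Nat.card (F ≃ₐ[ZMod 2] F) = a := by
  rw [IsGalois.card_aut_eq_finrank]
  rw [Module.card_eq_pow_finrank (K := ZMod 2), ZMod.card] at h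
  exact Nat.pow_right_injective le_rfl h

theorem gal : GalStmt.{u} := fun G _ _ V H j a s hH hs => by
  obtain ⟨F, _, _, φ, c, k, hc, _⟩ := s.coord
  let := ZMod.algebra F 2
  choose b σ hb hσ using fun h : H => k.semi s.nj (hH h.2) (hs h h.2)
  obtain ⟨e, he, e1⟩ := k.surj 1
  have uq : ∀ (h : H) (τ : F ≃+* F) (a : F), (∀ v ∈ V, φ (h * v * (h : G)⁻¹) = a * τ (φ v)) → σ h = τ :=
    fun h τ a hτ => by
      have ha := (hσ h e he).symm.trans (hτ e he)
      rw [e1, map_one, map_one, mul_one, mul_one] at ha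
      ext x
      obtain ⟨u, hu, rfl⟩ := k.surj x
      exact mul_left_cancel₀ (hb h) ((hσ h u hu).symm.trans (ha ▸ hτ u hu))
  let π : H →* (F ≃ₐ[ZMod 2] F) := MonoidHom.mk' (fun g => toAlg (σ g)) fun g g' => by
    have := uq (g * g') ((σ g').trans (σ g)) (b g * σ g (b g')) fun u hu => by
      rw [show ((g * g' : H) : G) * u * ((g * g' : H) : G)⁻¹ = g * (g' * u * (g' : G)⁻¹) * (g : G)⁻¹ by
        push_cast; group, hσ g _ (conj_mem_of_mem_normalizer (hH g'.2) hu), hσ g' u hu, map_mul,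
        RingEquiv.trans_apply, mul_assoc]
    ext x; rw [this]; rfl
  have hπ : ∀ g x, π g x = σ g x := fun _ _ => rfl
  refine ⟨F ≃ₐ[ZMod 2] F, IsCyclic.commGroup, inferInstance, (inferInstance : IsCyclic (F ≃ₐ[ZMod 2] F)), π,
    card_gal hc, fun h => ⟨fun e => k.sc s.nj (hH h.2) (hb h) fun v hv => ?_, fun ⟨n, hn⟩ => ?_⟩,
    fun h v hv v1 e => ?_⟩
  · rw [hσ h v hv, ← hπ, e]; rfl
  · ext x
    rw [hπ, uq h (RingEquiv.refl F) (c ^ n) fun v hv => by rw [hn v hv, k.conj n v hv]; rfl]; rfl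
  have v0 := mt (k.eq_zero hv).1 v1
  have fx : ∀ x ∈ V, x ∈ 𝐂[(h : G)] ↔ b h * σ h (φ x) = φ x := fun x hx => by
    rw [cent1_conj', ← hσ h x hx]
    exact ⟨fun e => by rw [e], k.inj _ (conj_mem_of_mem_normalizer (hH h.2) hx) x hx⟩
  have hv' := (fx v hv).1 (mem_cent1.2 e.eq)
  have key : ∀ y : F, y ∈ IntermediateField.fixedField (zpowers (π h)) ↔ σ h y = y := fun y => by
    rw [IntermediateField.mem_fixedField_iff]
    refine ⟨fun e => e _ (mem_zpowers _), fun e f hf => ?_⟩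
    exact (zpowers_le.2 (show π h ∈ stabilizer _ y from e) hf :)
  have key2 : ∀ x : F, σ h (x / φ v) = x / φ v ↔ b h * σ h x = x := fun x => by
    have s0 : σ h (φ v) ≠ 0 := (map_ne_zero _).2 v0
    rw [map_div₀, div_eq_div_iff s0 v0]
    constructor
    · intro e; apply mul_right_cancel₀ s0; linear_combination e + σ h x * hv'
    · intro e; linear_combination σ h (φ v) * e - σ h x * hv'
  have hcard : #|V ⊓ 𝐂[(h : G)]| = Nat.card (IntermediateField.fixedField (zpowers (π h))) :=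
    Nat.card_congr (Equiv.ofBijective (fun x => ⟨φ x / φ v, (key _).2 ((key2 _).2
      ((fx x x.2.1).1 x.2.2))⟩) ⟨fun x y e => Subtype.ext (k.inj _ x.2.1 _ y.2.1
        ((div_left_inj' v0).1 (congrArg Subtype.val e))), fun y => by
      obtain ⟨x, hx, e⟩ := k.surj (y * φ v)
      have e' : φ x / φ v = y := by rw [e, mul_div_cancel_right₀ _ v0]
      exact ⟨⟨x, hx, (fx x hx).2 ((key2 _).1 (e' ▸ (key _).1 y.2))⟩, Subtype.ext e'⟩⟩)
  rw [hcard, ← hc, ← Nat.card_eq_fintype_card, Module.natCard_eq_pow_finrank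
    (K := IntermediateField.fixedField (zpowers (π h))) (V := F),
    IntermediateField.finrank_fixedField_eq_card, Nat.card_zpowers]

theorem inv : InvStmt.{u} := fun G _ _ V K j n a i ψ ψ' s ha hK hn m1 m2 a1 a2 i1 i2 c1 c2 => by
  obtain ⟨F, _, _, φ, c, k, hc, _⟩ := s.coord
  let := ZMod.algebra F 2
  rw [k.pow_mem_iff s.nj]
  have d0 : c ^ i ≠ 0 := pow_ne_zero _ k.ne
  have hj := Subgroup.pow_mem _ s.nj i
  have k1 := k.conj i
  generalize c ^ i = d at *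
  generalize j ^ i = g at *
  have k2 : ∀ x ∈ V, φ (g⁻¹ * x * g) = d⁻¹ * φ x := fun x hx => by
    rw [eq_inv_mul_iff_mul_eq₀ d0, ← k1 _ (conj_mem_of_mem_normalizer' hj hx)]
    congr 1; group
  have o1 : ψ 1 = 1 := by simpa using a1 1 K.one_mem 1 K.one_mem
  have o2 : ψ' 1 = 1 := by simpa using a2 1 K.one_mem 1 K.one_mem
  obtain ⟨⟨x, hx⟩, x1⟩ := ne_bot_iff_exists_ne_one.1 hK
  have p1 : ∀ m : ℕ, ∃ y ∈ K, φ (ψ y) = d ^ m * φ (ψ x) ∧ φ (ψ' y) = d⁻¹ ^ m * φ (ψ' x) := fun m => by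
    induction m with
    | zero => exact ⟨x, hx, by simp⟩
    | succ m ih =>
      obtain ⟨y, hy, e1, e2⟩ := ih
      exact ⟨_, conj_mem_of_mem_normalizer hn hy, by rw [c1 y hy, k1 _ (m1 y hy), e1]; ring,
        by rw [c2 y hy, k2 _ (m2 y hy), e2]; ring⟩
  have p2 : ∀ f : Polynomial (ZMod 2), ∃ y ∈ K, φ (ψ y) = Polynomial.aeval d f * φ (ψ x) ∧
      φ (ψ' y) = Polynomial.aeval d⁻¹ f * φ (ψ' x) := fun f => by
    induction f using Polynomial.induction_on' with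
    | add f g h1 h2 =>
      obtain ⟨y, hy, e1, e2⟩ := h1
      obtain ⟨z, hz, e3, e4⟩ := h2
      exact ⟨_, mul_mem hy hz, by rw [a1 y hy z hz, k.add _ (m1 y hy) _ (m1 z hz), e1, e3, map_add, add_mul],
        by rw [a2 y hy z hz, k.add _ (m2 y hy) _ (m2 z hz), e2, e4, map_add, add_mul]⟩
    | monomial m b =>
      rcases (by decide : ∀ b : ZMod 2, b = 0 ∨ b = 1) b with rfl | rfl
      · exact ⟨1, K.one_mem, by simp [o1, o2, k.one]⟩
      · simpa using p1 m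
  obtain ⟨y, hy, e1, e2⟩ := p2 (minpoly (ZMod 2) d)
  rw [minpoly.aeval, zero_mul, k.eq_zero (m1 y hy)] at e1
  rw [i1 y hy e1, o2, k.one, eq_comm, mul_eq_zero, k.eq_zero (m2 x hx)] at e2
  obtain ⟨σ, hσ⟩ := minpoly.exists_algEquiv_of_root' (Algebra.IsAlgebraic.isAlgebraic d)
    (e2.resolve_right fun e => x1 (Subtype.ext (i2 x hx e)))
  obtain ⟨m, rfl⟩ := ha
  have s2 : ∀ m : ℕ, (σ ^ (2 * m)) d = d := fun m => by
    induction m with
    | zero => simp
    | succ m ih => rw [mul_add, pow_add, mul_one, pow_two, AlgEquiv.mul_apply, AlgEquiv.mul_apply, hσ,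
        map_inv₀, hσ, inv_inv, ih]
  have s3 := pow_card_eq_one' (x := σ)
  rw [card_gal hc, pow_succ'] at s3
  have s4 : σ ((σ ^ (2 * m)) d) = d := by rw [← AlgEquiv.mul_apply, s3]; rfl
  rw [s2, hσ] at s4
  have s5 : d ^ 2 = 1 ^ 2 := by rw [pow_two, one_pow]; nth_rw 1 [← s4]; exact inv_mul_cancel₀ d0
  exact CharTwo.sq_inj.1 s5

end Cfsg.Agent.ZD
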