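import Cfsg.Agent.Lib.ZD.M2c
import Cfsg.Agent.Lib.ZD.Sing

/-! Row M2, Suzuki type: double transitivity. -/

open Subgroup MulAction

set_option linter.unusedSectionVars false

namespace Cfsg.Agent.ZD

open FT Tr SF.GP

universe u

variable {G : Type u} {Ω : Type u} [Group G] [MulAction G Ω]

theorem exists_prim {a : ℕ} (ha : 2 ≤ a) : ∃ r : ℕ, r.Prime ∧ r ∣ 2 ^ a - 1 ∧ ¬ r ∣ a := by
  obtain ⟨p, hp, hm⟩ := a.primeFactors.exists_max_image id (Nat.nonempty_primeFactors.2 ha)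
  have pp := Nat.prime_of_mem_primeFactors hp
  have h1 : 2 ^ p - 1 ≠ 1 := by
    have := Nat.pow_le_pow_right two_pos pp.two_le
    omega
  have hr := Nat.minFac_prime h1
  have hd := Nat.minFac_dvd (2 ^ p - 1)
  set r := (2 ^ p - 1).minFac
  refine ⟨r, hr, hd.trans ?_, fun h => ?_⟩
  · obtain ⟨k, rfl⟩ := Nat.dvd_of_mem_primeFactors hp
    simpa [pow_mul] using Nat.sub_dvd_pow_sub_pow (2 ^ p) 1 k
  have := Fact.mk hr
  have := Fact.mk pp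
  have h2 : (2 : ZMod r) ^ p = 1 := by
    have := (ZMod.natCast_eq_zero_iff _ _).2 hd
    rw [Nat.cast_sub Nat.one_le_two_pow] at this
    simpa [sub_eq_zero] using this
  have h3 := ZMod.orderOf_dvd_card_sub_one (a := (2 : ZMod r)) (fun e => by
    rw [e, zero_pow pp.ne_zero] at h2; exact zero_ne_one h2)
  rw [orderOf_eq_prime h2 (fun e => by
    have : (1 : ZMod r) = 0 := by linear_combination e
    exact one_ne_zero this)] at h3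
  have h4 := hm r (Nat.mem_primeFactors.2 ⟨hr, h, by omega⟩)
  have := Nat.le_of_dvd (by have := hr.two_le; omega) h3
  have := hr.two_le
  simp only [id] at h4
  omega

theorem exists_ord [Finite G] {p : ℕ} [hp : Fact p.Prime] {z : G} (h : IsPGroup p (zpowers z))
    (h1 : z ≠ 1) : ∃ y ∈ zpowers z, orderOf y = p := by
  obtain ⟨n, hn⟩ := IsPGroup.iff_card.1 h
  refine Cauchy hp.out (hn ▸ dvd_pow_self p ?_)
  rintro rfl
  exact h1 (zpowers_eq_bot.1 (card_eq_one.1 hn))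

namespace MF

variable [Finite G] {D : Set G} {t : G} {α β : Ω} {V K P : Subgroup G} {j s s' : G} {q : ℕ}
  (c : MF D t α β V K P j s s' q)
include c

theorem exy {r : ℕ} [Fact r.Prime] (hr : r ∣ q - 1) {γ : Ω} (ne : α ≠ γ) {σ : G} (hσ : σ ∈ D)
    (e : σ • α = γ) : ∃ y, orderOf y = r ∧ y • α = α ∧ y • γ = γ ∧ σ * y * σ⁻¹ = y⁻¹ := by
  have h := c.z.ncard_DS_eq trivial trivial ne hσ e (C := ⊤) trivial
  rw [coe_top, Set.inter_univ, inf_top_eq, c.z.ncard_DS trivial trivial ne, c.ncard_DA] at h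
  set O := 𝐎(⊤ ⊓ Stab G ({α, γ} : Set Ω))
  have hn : zpowers σ ≤ 𝐍(O) := zpowers_le.2 (pcore_norm _ _
    ⟨trivial, mem_Stab_pair (Or.inr ⟨e, c.z.swap hσ e⟩)⟩)
  obtain ⟨R, hR, hR'⟩ := sol_coprime_Sylow_exists r (Or.inl (pgroup_sol (isPGroup_zpowers_sq (c.z.sq hσ))))
    hn (cop2 (odd_core _) (isPGroup_zpowers_sq (c.z.sq hσ)))
  have hR := sylowIn_iff.2 hR
  obtain ⟨x, hx, hc⟩ : ∃ x ∈ R, x ∉ 𝐂[σ] := by
    by_contra! h'
    refine hR.not_dvd_relIndex_of_le (K := O ⊓ 𝐂[σ]) (le_inf hR.le h') inf_le_left ?_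
    rwa [inf_relIndex_left, ← h]
  have hz : x⁻¹ * (σ * x * σ⁻¹) ∈ R :=
    mul_mem (inv_mem hx) (conj_mem_of_mem_normalizer (hR' (mem_zpowers σ)) hx)
  obtain ⟨y, hy, ho⟩ := exists_ord (hR.isPGroup.to_le (zpowers_le.2 hz)) fun e => hc (mem_cent1.2 (by
    rw [inv_mul_eq_one, eq_mul_inv_iff_mul_eq] at e; exact e))
  have h1 := hR.le (zpowers_le.2 hz hy)
  obtain ⟨e1, e2⟩ := fix_of_odd (odd_orderOf_of_odd_card (odd_core _) h1) (pcore_sub _ _ h1).2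
  refine ⟨y, ho, e1, e2, inv_of_mem_zpowers ?_ hy⟩
  rw [show σ * (x⁻¹ * (σ * x * σ⁻¹)) * σ⁻¹ = σ * x⁻¹ * σ * x * (σ * σ)⁻¹ by group, c.z.sq hσ]
  nth_rw 2 [← c.z.inv_eq hσ]
  group

variable (b : B2 Ω t α β V K P q)
include b

theorem actJ {a r : ℕ} (ha : q = 2 ^ a) (hr : r.Prime) (hra : ¬ r ∣ a) {y : G} (ho : orderOf y = r)
    (e1 : y • α = α) (e2 : y • β = β) : ∃ i : ℕ, ∃ n ∈ NN Ω t, y = j ^ i * n := by
  obtain ⟨Γ, _, _, _, ρ, h1, h2, -⟩ := gal G V (stabilizer G α ⊓ stabilizer G β) j a (ha ▸ c.sing)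
    (fun h hh => c.normV hh.1) fun h hh => c.scG (c.abG b hh.1 hh.2) hh.1
  obtain ⟨i, hi⟩ := (h2 ⟨y, e1, e2⟩).1 (by
    rw [← orderOf_eq_one_iff]
    refine Nat.eq_one_of_dvd_coprimes ((Nat.Prime.coprime_iff_not_dvd hr).2 hra) ?_
      (h1 ▸ orderOf_dvd_natCard _)
    rw [← ho]
    exact (orderOf_map_dvd ρ _).trans (orderOf_coe _).symm.dvd)
  refine ⟨i, (j ^ i)⁻¹ * y, c.C0N b (mem_cent.2 fun v hv => ?_) ?_, by simp⟩
  · have := hi v hv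
    simp only at this
    calc v * ((j ^ i)⁻¹ * y) = (j ^ i)⁻¹ * (j ^ i * v * (j ^ i)⁻¹) * y := by group
      _ = _ := by rw [← this]; group
  · rw [mul_smul, e2, inv_smul_eq_iff, c.Jb (pow_mem (mem_zpowers j) i)]

omit b in
theorem invJ {i : ℕ} {n : G} (hn : n ∈ NN Ω t) : s⁻¹ * (j ^ i * n) * s * (j ^ i * n) ∈ 𝐂(V) := by
  have h1 := inv_of_mem_zpowers c.sj (pow_mem (mem_zpowers j) i)
  have h2 : n * s = s * n := mem_cent.1 c.sN n hn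
  have h3 : n * j ^ i = j ^ i * n := mem_cent.1 (pow_mem c.jN i) n hn
  rw [c.z.inv_eq c.sD] at h1 ⊢
  rw [show s * (j ^ i * n) * s * (j ^ i * n) = s * j ^ i * (n * s) * (j ^ i * n) by group, h2,
    show s * j ^ i * (s * n) * (j ^ i * n) = s * j ^ i * s * (n * j ^ i) * n by group, h1, h3]
  simpa using c.NV (mul_mem hn hn)

theorem col {a r : ℕ} (ha : q = 2 ^ a) (hr : r.Prime) (hra : ¬ r ∣ a) (hq : r ∣ q - 1) {γ : Ω}
    (ne : α ≠ γ) {σ y : G} (hσ : σ ∈ D) (e : σ • α = γ) (ho : orderOf y = r) (e1 : y • α = α)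
    (e2 : y • β = β) (e3 : y • γ = γ) (hi : σ * y * σ⁻¹ = y⁻¹) : ∃ g : G, g • α = α ∧ g • β = γ := by
  by_cases hγ : t • γ = γ
  · obtain ⟨x, hx, h⟩ := c.trP γ hγ ne.symm
    exact ⟨x, c.Pa hx, h⟩
  obtain ⟨d, hd, dt, ed, δ, eδ, hδ, h⟩ := c.canon hγ
  have yδ := h y (c.GK b (c.abG b e1 e2)) e3
  obtain ⟨g0, hg0⟩ := c.line hd dt
  obtain ⟨g1, -, a1, a2⟩ := c.tr2F (γ := g0⁻¹ • δ) (δ := g0⁻¹ • γ)
    (conj_fix.1 (by rw [hg0, mul_smul, eδ, hδ])) (conj_fix.1 (hg0 ▸ ed))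
    (fun e => hγ (smul_left_cancel _ e ▸ hδ))
  have b1 : (g0 * g1) • α = δ := by rw [mul_smul, a1, smul_inv_smul]
  have b2 : (g0 * g1) • β = γ := by rw [mul_smul, a2, smul_inv_smul]
  generalize g0 * g1 = g at b1 b2
  obtain ⟨i, n, hn, ey⟩ := c.actJ b ha hr hra ho e1 e2
  have yC : y ∉ 𝐂(V) := fun hC => by
    obtain ⟨v, hv, v1⟩ := c.exV
    have := c.z.eq_one_of_inv hσ (c.VD hv v1) trivial (e ▸ ne.symm) (c.Va hv)
      (ho ▸ Odd.of_dvd_nat c.odd_q1 hq) hi (c.cv hC hv)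
    rw [this, orderOf_one] at ho
    exact hr.one_lt.ne ho
  have jC : j ^ i ∉ 𝐂(V) := fun h => yC (ey ▸ mul_mem h (c.NV hn))
  rcases c.jF i (fun e => jC (e ▸ one_mem _)) δ hδ (by rwa [ey, mul_smul, hn δ hδ] at yδ) with
    rfl | rfl
  · exact ⟨g, b1, b2⟩
  exfalso
  obtain ⟨i', n', hn', ey'⟩ := c.actJ b ha hr hra (y := g⁻¹ * y * g) (by rw [orderOf_conj', ho])
    (by rw [mul_smul, mul_smul, b1, e2, ← b1, inv_smul_smul])
    (by rw [mul_smul, mul_smul, b2, e3, ← b2, inv_smul_smul])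
  have z1 := c.invJ (i := i) hn
  have z2 := c.invJ (i := i') hn'
  rw [← ey] at z1
  rw [← ey'] at z2
  have n1 : s⁻¹ * g ∈ 𝐍(V) := c.normV (by rw [mul_smul, b1, ← c.sa, inv_smul_smul])
  have n2 := c.normV e1
  have xN : σ * g * s * g⁻¹ * s ∈ 𝐍(V) := c.normV (by
    rw [mul_smul, mul_smul, mul_smul, mul_smul, c.sa, ← b1, inv_smul_smul, c.sa, b2, c.z.swap hσ e])
  have z3 : (σ * g * s * g⁻¹ * s)⁻¹ * y * (σ * g * s * g⁻¹ * s) * y ∈ 𝐂(V) := by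
    have := mul_mem z1 (conj_mem_of_mem_normalizer' (cent_norm V n2)
      (conj_mem_of_mem_normalizer (cent_norm V n1) (inv_mem z2)))
    have hi' : σ⁻¹ * y * σ = y⁻¹ := by rw [c.z.inv_eq hσ] at hi ⊢; exact hi
    rwa [show (σ * g * s * g⁻¹ * s)⁻¹ * y * (σ * g * s * g⁻¹ * s) * y =
      s⁻¹ * g * s⁻¹ * g⁻¹ * (σ⁻¹ * y * σ) * (g * s * g⁻¹ * s) * y by group, hi',
      show s⁻¹ * g * s⁻¹ * g⁻¹ * y⁻¹ * (g * s * g⁻¹ * s) * y = s⁻¹ * y * s * y * (y⁻¹ * (s⁻¹ * g *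
        (s⁻¹ * (g⁻¹ * y * g) * s * (g⁻¹ * y * g))⁻¹ * (s⁻¹ * g)⁻¹) * y) by group]
  generalize σ * g * s * g⁻¹ * s = x at xN z3
  obtain ⟨m, hm⟩ := b.odd
  have yv : ∀ v ∈ V, y * v * y⁻¹ = j ^ i * v * (j ^ i)⁻¹ := fun v hv => by
    rw [ey, mul_assoc _ n, (c.cv (c.NV hn) hv).eq]; group
  refine jC (inv G V V j y a i id (fun v => x * v * x⁻¹) (ha ▸ c.sing)
    ⟨m, Nat.pow_right_injective le_rfl (ha.symm.trans hm)⟩ c.sing.ne_bot n2 (fun _ h => h)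
    (fun _ h => conj_mem_of_mem_normalizer xN h) (fun _ _ _ _ => rfl) (fun _ _ _ _ => by group)
    (fun _ _ h => h) (fun _ _ h => by simpa using h) yv fun v hv => ?_)
  have h1 := yv _ (conj_mem_of_mem_normalizer xN (conj_mem_of_mem_normalizer n2 hv))
  have h2 := (c.cv z3 hv).eq
  calc x * (y * v * y⁻¹) * x⁻¹ = (j ^ i)⁻¹ * (y * (x * (y * v * y⁻¹) * x⁻¹) * y⁻¹) * j ^ i := by
        rw [h1]; group
    _ = (j ^ i)⁻¹ * (x * (x⁻¹ * y * x * y * v) * y⁻¹ * x⁻¹ * y⁻¹) * j ^ i := by group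
    _ = _ := by rw [h2]; group

theorem tr2G {γ : Ω} (ne : γ ≠ α) : ∃ g : G, g • α = α ∧ g • β = γ := by
  have := c.fin
  obtain ⟨a, a2, ha⟩ := c.exq
  obtain ⟨r, hr, hq, hra⟩ := exists_prim a2
  rw [← ha] at hq
  have := Fact.mk hr
  obtain ⟨σ, hσ, e⟩ := c.z.exists_DS trivial trivial ne.symm
  obtain ⟨y, ho, e1, e2, hi⟩ := c.exy hq ne.symm hσ e
  set Φ := {ω : Ω | ∃ g : G, g • α = α ∧ g • β = ω}
  have hΦ : ∀ g : G, g • α = α → ∀ ω ∈ Φ, g • ω ∈ Φ := fun g hg ω ⟨x, h1, h2⟩ =>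
    ⟨g * x, by rw [mul_smul, h1, hg], by rw [mul_smul, h2]⟩
  have hb : β ∈ Φ := ⟨1, one_smul _ _, one_smul _ _⟩
  obtain ⟨z, hz, oz⟩ := Cauchy hr (H := zpowers j) (by rwa [Nat.card_zpowers, c.ord])
  have h1 := dvd_sdiff_Fix (isPGroup_zpowers_of_orderOf_eq oz) fun g hg =>
    hΦ g (c.Ja (zpowers_le.2 hz hg))
  rw [Fix_zpowers, show Φ \ fixedBy Ω z = Φ \ {β} from Set.ext fun ω => and_congr_right fun hω =>
    not_congr ⟨fun h => (c.jfix hz (by rintro rfl; exact hr.one_lt.ne (by simpa using oz)) h).resolve_left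
      (by obtain ⟨x, h1, rfl⟩ := hω; exact fun e => c.ne (smul_left_cancel x (h1.trans e.symm))),
      fun h => h ▸ c.Jb hz⟩] at h1
  obtain ⟨-, ⟨g, g1, rfl⟩, h2⟩ := exists_fix (isPGroup_zpowers_of_orderOf_eq ho) (Φ := Φ)
    (fun g hg => hΦ g (zpowers_le.2 (show y ∈ stabilizer G α from e1) hg)) fun h => by
      rw [← Set.ncard_sdiff_singleton_add_one hb, Nat.dvd_add_right h1] at h
      exact hr.one_lt.ne' (Nat.dvd_one.1 h)
  have g2 : g⁻¹ • α = α := by rw [inv_smul_eq_iff, g1]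
  obtain ⟨x, x1, x2⟩ := c.col b ha hr hra hq (γ := g⁻¹ • γ) (σ := g⁻¹ * σ * g⁻¹⁻¹) (y := g⁻¹ * y * g⁻¹⁻¹)
    (fun e => ne (by rw [← smul_inv_smul g γ, ← e, g1])) (c.z.conj σ hσ _ trivial)
    (by rw [mul_smul, mul_smul, inv_inv, g1, e]) (by rw [orderOf_conj, ho])
    (by rw [mul_smul, mul_smul, inv_inv, g1, e1, g2])
    (by rw [mul_smul, mul_smul, inv_inv, h2 y (mem_zpowers y), inv_smul_smul])
    (BS.smul_conj_fixed e2) (by
      rw [show g⁻¹ * σ * g⁻¹⁻¹ * (g⁻¹ * y * g⁻¹⁻¹) * (g⁻¹ * σ * g⁻¹⁻¹)⁻¹ = g⁻¹ * (σ * y * σ⁻¹) * g by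
        group, hi]; group)
  exact ⟨g * x, by rw [mul_smul, x1, g1], by rw [mul_smul, x2, smul_inv_smul]⟩

theorem sylS (h : ∀ w ∈ V, ∃ y ∈ SS K V, y * t * y⁻¹ = t * w) : SylowIn 2 (SS K V) (stabilizer G α) := by
  have := c.fin
  have hle : SS K V ≤ stabilizer G α := fun x hx => c.fixC hx.1
  refine ⟨hle, c.p2S, ?_⟩
  have h1 := card_orb (stabilizer G α) β (Φ := {α}ᶜ) fun ω => ⟨fun h => c.tr2G b h, by
    rintro ⟨x, hx, rfl⟩ e
    exact c.ne (smul_left_cancel x (hx.trans e.symm))⟩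
  have h2 := Set.ncard_add_ncard_compl ({α} : Set Ω)
  rw [Set.ncard_singleton, c.cardn b, add_comm, Nat.add_right_cancel_iff] at h2
  have hK : SylowIn 2 K (stabilizer G α ⊓ stabilizer G β) := sylowIn_of_maximal c.p2K
    (fun k hk => ⟨c.KN hk α c.ta, c.KN hk β c.tb⟩) fun T hT h1 h2 => le_antisymm (fun x hx => by
      obtain ⟨i, hi⟩ := isPGroup_iff_forall_mem.1 hT x hx
      exact c.p2ab b (h2 hx).1 (h2 hx).2 hi) h1
  rw [← Tr.card_mul_relIndex hle, ← Tr.card_mul_relIndex hK.le, c.cardS h, c.cardP b.card, h2] at h1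
  have h3 : (SS K V).relIndex (stabilizer G α) =
      K.relIndex (stabilizer G α ⊓ stabilizer G β) * (q * (q - 1) + 1) :=
    Nat.eq_of_mul_eq_mul_left (show 0 < #|K| * q ^ 2 * q by
      have : 0 < q := by have := c.q4; omega
      have := Nat.card_pos (α := K)
      positivity) (by rw [h1]; ring)
  rw [h3, Nat.prime_two.dvd_mul, not_or]
  refine ⟨hK.not_dvd, ?_⟩
  rw [← even_iff_two_dvd, Nat.not_even_iff_odd]
  exact (Nat.even_mul_pred_self q).add_one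

end MF

end Cfsg.Agent.ZD
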