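import Cfsg.Agent.Lib.ZD.M2d
import Cfsg.Agent.Lib.ZD.M2B1
import Cfsg.Agent.Lib.FT.Main

/-! Row M2, Suzuki type: `N(S)` normalizes `K V`. -/

open Subgroup MulAction

set_option linter.unusedSectionVars false

namespace Cfsg.Agent.ZD

open FT Tr SF.GP

universe u

variable {G : Type u} {Ω : Type u} [Group G] [MulAction G Ω]

theorem cube_lt {n : ℕ} : (n + 8) ^ 3 < 4 ^ (n + 6) := by
  induction n with
  | zero => norm_num
  | succ n ih =>
    rw [show n + 1 + 6 = n + 6 + 1 by ring, pow_succ 4]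
    nlinarith [Nat.zero_le n, Nat.zero_le (n ^ 2), Nat.zero_le (n ^ 3)]

namespace MF

variable [Finite G] {D : Set G} {t : G} {α β : Ω} {V K P : Subgroup G} {j s s' : G} {q : ℕ}
  (c : MF D t α β V K P j s s' q)
include c

theorem j1 : j ≠ 1 := fun e => by
  have := c.ord
  have := c.q4
  simp [e] at *
  omega

theorem exfixV {p : ℕ} [Fact p.Prime] (hp : ¬ p ∣ q - 1) {x : G} (hx : IsPGroup p (zpowers x))
    (hn : x ∈ 𝐍(V)) : ∃ v ∈ V, v ≠ 1 ∧ Commute x v := by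
  obtain ⟨v, hv, h⟩ := exists_cent_of_pgroup hx ((V : Set G) \ {1}) (fun g hg v hv =>
    ⟨conj_mem_of_mem_normalizer (zpowers_le.2 hn hg) hv.1, by simpa using hv.2⟩)
    (by rwa [← c.DA_a, c.ncard_DA])
  exact ⟨v, hv.1, hv.2, h x (mem_zpowers x)⟩

theorem scC {p : ℕ} [Fact p.Prime] (hp : ¬ p ∣ q - 1) {x w : G} (hx : IsPGroup p (zpowers x))
    (hn : x ∈ 𝐍(V)) (hw : w ∈ zpowers j) (h : ∀ v ∈ V, x * v * x⁻¹ = w * v * w⁻¹) : x ∈ 𝐂(V) := by
  obtain ⟨v, hv, v1, e⟩ := c.exfixV hp hx hn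
  have : w = 1 := by
    by_contra w1
    refine v1 (c.fpfV hw w1 hv (mul_inv_eq_iff_eq_mul.1 ?_))
    rw [← h v hv, e.eq, mul_inv_cancel_right]
  exact mem_cent.2 fun v hv => (mul_inv_eq_iff_eq_mul.1 (by simpa [this] using h v hv)).symm

theorem NSa {g : G} (hg : g ∈ 𝐍(SS K V)) : g • α = α := by
  obtain ⟨v, hv, v1⟩ := c.exV
  exact c.eq_a hv v1 (BS.smul_fixed_of_conj
    (c.fixC (conj_mem_of_mem_normalizer' hg (c.PS (c.VP hv))).1))

theorem CSJ {y : G} (hy : y ∈ SS K V) (h : Commute j y) : y ∈ K := by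
  have jt := c.jK c.tK
  have := c.fpfV (mem_zpowers j) c.j1 (c.dl hy.2 (mem_sup_left c.tK))
    (jt.inv_right.mul_right ((h.mul_right jt).mul_right h.inv_right))
  rw [inv_mul_eq_one, eq_mul_inv_iff_mul_eq] at this
  exact c.fpfP (mem_zpowers j) c.j1 (c.CC c.tK c.t1 hy.1 this.symm) h

variable (b : B2 Ω t α β V K P q)
include b

theorem ncard_compl : ({α}ᶜ : Set Ω).ncard = q ^ 3 * (q * (q - 1) + 1) := by
  have := c.fin
  have h2 := Set.ncard_add_ncard_compl ({α} : Set Ω)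
  rwa [Set.ncard_singleton, c.cardn b, add_comm, Nat.add_right_cancel_iff] at h2

theorem pN {p : ℕ} [hp : Fact p.Prime] (p2 : p ≠ 2) (hq : ¬ p ∣ q - 1) {N : Subgroup G}
    (hN : IsPGroup p N) (ha : N ≤ stabilizer G α) (hj : j ∈ 𝐍(N)) {u : G} (hu : u ∈ N)
    (hF : u ∈ GF Ω t) : u ∈ NN Ω t := by
  have := c.fin
  obtain ⟨n, hn⟩ := c.scG hF (ha hu)
  have hz : u * j * u⁻¹ * j⁻¹ ∈ N := by
    simpa [mul_assoc] using mul_mem hu (conj_mem_of_mem_normalizer hj (inv_mem hu))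
  have h1 := c.scC hq (hN.to_le (zpowers_le.2 hz)) (c.normV (ha hz)) (w := j ^ n * j⁻¹)
    (mul_mem (pow_mem (mem_zpowers j) n) (inv_mem (mem_zpowers j))) fun v hv => by
      have := hn _ (conj_mem_of_mem_normalizer' c.jV hv)
      calc u * j * u⁻¹ * j⁻¹ * v * (u * j * u⁻¹ * j⁻¹)⁻¹
          = u * j * u⁻¹ * (j⁻¹ * v * j) * (u * j * u⁻¹)⁻¹ := by group
        _ = _ := by rw [this]; group
  have hp' := hN.to_le (zpowers_le.2 hu)
  obtain ⟨m, hm⟩ := c.sing.cent (c.normV (ha hu)) fun v hv => by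
    have := (c.cv h1 (conj_mem_of_mem_normalizer c.jV
      (conj_mem_of_mem_normalizer (c.normV (ha hu)) hv))).eq
    calc u * (j * v * j⁻¹) * u⁻¹
        = u * j * u⁻¹ * j⁻¹ * (j * (u * v * u⁻¹) * j⁻¹) * (u * j * u⁻¹ * j⁻¹)⁻¹ := by group
      _ = _ := by rw [this]; group
  have h2 := c.scC hq hp' (c.normV (ha hu)) (pow_mem (mem_zpowers j) m) hm
  obtain ⟨γ, hγ, e⟩ := exists_fix hp' (Φ := fixedBy Ω t \ {α}) (fun g hg ω hω =>
    ⟨(zpowers_le.2 hF hg ω).2 hω.1, fun e => hω.2 (smul_left_cancel g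
      (e.trans (zpowers_le.2 (ha hu) hg).symm))⟩) (by
    have h3 := Set.ncard_sdiff_singleton_add_one (show α ∈ fixedBy Ω t from c.ta)
    obtain ⟨a, -, ha⟩ := c.exq
    rw [Nat.add_right_cancel (h3.trans b.card), ha, ← pow_mul]
    exact fun h => p2 ((Nat.prime_dvd_prime_iff_eq hp.out Nat.prime_two).1 (hp.out.dvd_of_dvd_pow h)))
  obtain ⟨x, hx, rfl⟩ := c.trP γ hγ.1 hγ.2
  have := conj_mem_of_mem_normalizer (GF_le_norm t (c.PG hx)) (c.C0N b (y := x⁻¹ * u * x)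
    (mul_mem (mul_mem (inv_mem (c.PV hx)) h2) (c.PV hx))
    (by rw [mul_smul, mul_smul, e u (mem_zpowers u), inv_smul_smul]))
  simpa [mul_assoc] using this

theorem core_le (hS : ∀ w ∈ V, ∃ y ∈ SS K V, y * t * y⁻¹ = t * w) {L : Subgroup G} (ho : Odd #|L|)
    (hL : L ≤ 𝐍(SS K V)) (hj : j ∈ L) {p : ℕ} (hp : p.Prime) : core {p} L ≤ stabilizer G β := by
  by_contra h
  have := Fact.mk hp
  have hN := pcore_isPGroup p L
  have hn := pcore_norm {p} L
  have hle := pcore_sub {p} L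
  generalize core {p} L = N at *
  have ha : L ≤ stabilizer G α := fun x hx => c.NSa (hL hx)
  have hJ : zpowers j ≤ L := zpowers_le.2 hj
  have N1 : N ≠ ⊥ := by rintro rfl; exact h bot_le
  have p2 : p ≠ 2 := by
    rintro rfl
    exact N1 ((eq_bot_iff_forall N).2 fun x hx => eq_one_of_odd ho hN (hle hx) hx)
  have hq : ¬ p ∣ q - 1 := fun hq => by
    obtain ⟨z, hz, oz⟩ := Cauchy hp (H := zpowers j) (by rwa [Nat.card_zpowers, c.ord])
    obtain ⟨ω, hω, e⟩ := exists_fix (isPGroup_sup_of_le_normalizer (isPGroup_zpowers_of_orderOf_eq oz)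
      hN (zpowers_le.2 (hn (hJ hz)))) (Φ := ({α}ᶜ : Set Ω)) (fun g hg ω hω e => hω (smul_left_cancel g
        (e.trans (ha (sup_le (zpowers_le.2 (hJ hz)) hle hg)).symm))) (by
      rw [c.ncard_compl b, hp.dvd_mul, Nat.dvd_add_right (dvd_mul_of_dvd_right hq q), not_or]
      refine ⟨fun h => ?_, hp.not_dvd_one⟩
      have := (Nat.dvd_sub (hp.dvd_of_dvd_pow h) hq)
      rw [Nat.sub_sub_self (by have := c.q4; omega)] at this
      exact hp.not_dvd_one this)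
    rcases c.jfix hz (by rintro rfl; exact hp.one_lt.ne (by simpa using oz))
      (e z (mem_sup_left (mem_zpowers z))) with rfl | rfl
    · exact hω rfl
    · exact h fun x hx => e x (mem_sup_right hx)
  have hY : N ⊓ NN Ω t = ⊥ := by
    by_contra hY
    refine h (nilpotent_sub_norm (pgroup_nil hN) inf_le_left (fun u hu => ⟨hu.1,
      c.pN b p2 hq hN (hle.trans ha) (hn hj) hu.1 (c.normY b hY inf_le_right hu.2)⟩) ▸
      fun x hx => hx.2 β c.tb)
  have h1 : ∀ u ∈ N, u ∈ GF Ω t → u = 1 := fun u hu hF =>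
    (eq_bot_iff_forall _).1 hY u ⟨hu, c.pN b p2 hq hN (hle.trans ha) (hn hj) hu hF⟩
  have hF : Frob (N ⊔ zpowers j) N (zpowers j) := ⟨sdprodEY (hJ.trans hn) ((eq_bot_iff_forall _).2
    fun u hu => h1 u hu.1 (c.GFc c.tK c.t1 (c.JK hu.2 c.tK))), N1, mt zpowers_eq_bot.1 c.j1,
    fun x hx x1 => (eq_bot_iff_forall _).2 fun u hu => h1 u hu.1 (c.abG b (ha (hle hu.1))
      ((c.jfix hx x1 (BS.smul_fixed_of_commute (c.Jb hx) (mem_cent1.1 hu.2))).resolve_left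
        fun e => c.ne (smul_left_cancel u ((ha (hle hu.1)).trans e.symm))))⟩
  have hw := BG2P.wielandt _ rfl hF ((sup_le hle hJ).trans hL)
    (cop2 (ho.of_dvd_nat (card_dvd_of_le (sup_le hle hJ))) c.p2S).symm (pgroup_sol c.p2S)
  have h2 : SS K V ⊓ 𝐂(N ⊔ zpowers j) = ⊥ := (eq_bot_iff_forall _).2 fun k hk => by
    by_contra k1
    refine N1 ((eq_bot_iff_forall _).2 fun u hu => h1 u hu (c.GFc (c.CSJ hk.1 ?_) k1 ?_))
    · exact mem_cent.1 hk.2 j (mem_sup_right (mem_zpowers j))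
    · exact mem_cent.1 hk.2 u (mem_sup_left hu)
  have h3 : #|K| ≤ #|SS K V ⊓ 𝐂(zpowers j)| := card_le_of_le (le_inf (c.KP.trans c.PS)
    fun k hk => mem_cent.2 fun y hy => c.JK hy hk)
  rw [h2, card_bot, one_pow, one_mul, c.cardS hS, c.cardP b.card, Nat.card_zpowers, c.ord] at hw
  have h4 : #|K| ^ (q - 1) ≤ #|K| * q ^ 2 * q := hw ▸ (Nat.pow_le_pow_left h3 _).trans
    (Nat.le_mul_of_pos_right _ Nat.card_pos)
  obtain ⟨n, rfl⟩ : ∃ n, q = n + 8 := by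
    obtain ⟨m, hm⟩ := b.odd
    have := c.q4
    rcases m with _ | m
    · omega
    · exact Nat.exists_eq_add_of_le' (hm ▸ Nat.pow_le_pow_right (n := 2) two_pos
        (show 3 ≤ 2 * (m + 1) + 1 by omega))
  rw [show n + 8 - 1 = n + 6 + 1 by omega, pow_succ', mul_assoc, ← pow_succ,
    Nat.mul_le_mul_left_iff Nat.card_pos] at h4
  exact absurd ((Nat.pow_le_pow_left (Nat.le_of_dvd Nat.card_pos c.four_dvd_K) _).trans h4)
    (not_le.2 cube_lt)

theorem NSE (hS : ∀ w ∈ V, ∃ y ∈ SS K V, y * t * y⁻¹ = t * w) : 𝐍(SS K V) ≤ 𝐍(K ⊔ V) := by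
  have : Fact OddOrderThm.{u} := ⟨FT.oddOrder⟩
  have h1 := pHall_Sylow.2 (sylowIn_iff.1 ((c.sylS b hS).mono (normG _) fun g hg => c.NSa hg))
  obtain ⟨L, hL, hJ⟩ := Hall_superset (π := {2}ᶜ) (series_sol le_rfl (pgroup_sol c.p2S)
    (odd_sol (piG_odd.1 (pHall_quotient_p'group h1 le_rfl)))) (zpowers_le.2 c.jS) (piG_odd.2 c.odd_J)
  have ho := piG_odd.1 (pHall_pgroup hL)
  have hle := pHall_sub hL
  have hj := hJ (mem_zpowers j)
  have hF : fit L ≤ stabilizer G β := Fitting_le_of_pcore_le fun p hp => c.core_le b hS ho hle hj hp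
  have hβ : L ≤ stabilizer G β := by
    by_cases h : fit L ⊓ zpowers j = ⊥
    · refine absurd ((eq_bot_iff_forall _).1 h j ⟨cent_sub_Fitting (odd_sol ho) ⟨hj, mem_cent.2
        fun f hf => ?_⟩, mem_zpowers j⟩) c.j1
      have := (eq_bot_iff_forall _).1 h (f * j * f⁻¹ * j⁻¹) ⟨by
        simpa [mul_assoc] using mul_mem hf (conj_mem_of_mem_normalizer (Fitting_norm L hj) (inv_mem hf)),
        (zpowers j).mul_mem (c.nj (c.NSa (hle (Fitting_sub L hf))) (hF hf))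
          ((zpowers j).inv_mem (mem_zpowers j))⟩
      rwa [mul_inv_eq_one, mul_inv_eq_iff_eq_mul] at this
    · obtain ⟨⟨z, hz⟩, z1⟩ := ne_bot_iff_exists_ne_one.1 h
      exact fun l hl => (c.jfix hz.2 (fun e => z1 (Subtype.ext e)) (BS.smul_fixed_of_conj
        (hF (conj_mem_of_mem_normalizer' (Fitting_norm L hl) hz.1)))).resolve_left
          fun e => c.ne (smul_left_cancel l ((c.NSa (hle hl)).trans e.symm))
  intro g hg
  obtain ⟨x, hx, l, hl, rfl⟩ := (pHall_mulEq_pHall h1 hL g).1 hg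
  exact mul_mem (c.SE hx) (c.GP b (c.abG b (c.NSa (hle hl)) (hβ hl)) (c.NSa (hle hl)))

end MF

end Cfsg.Agent.ZD
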