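import Cfsg.Agent.Lib.ZD.S2b
import Cfsg.Agent.Lib.ZD.G11
import Cfsg.Agent.Lib.ZD.A3

/-!
Row S2, part c: fusion of involutions and the order of a Sylow `2`-subgroup.
-/

set_option autoImplicit false
set_option linter.unusedVariables false
set_option linter.unusedSectionVars false

open Subgroup MulAction
open scoped commutatorElement

namespace Cfsg.Agent.ZD.S2

open FT Tr SF.GP

universe u

variable {G : Type u} {Ω : Type u} [Group G] [Finite G] [MulAction G Ω]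

theorem dvd_of_orbits {Γ Y : Type*} [Group Γ] [MulAction Γ Y] (m k n : ℕ) :
    ∀ A : Set Y, A.Finite → A.ncard = n → (∀ y ∈ A, orbit Γ y ⊆ A) →
      (∀ y ∈ A, m ∣ k * (orbit Γ y).ncard) → m ∣ k * n := by
  induction n using Nat.strong_induction_on with
  | _ n ih =>
    intro A hA hn h1 h2
    rcases A.eq_empty_or_nonempty with rfl | ⟨y, hy⟩
    · rw [← hn]; simp
    have h3 := Set.ncard_sdiff_add_ncard_of_subset (h1 y hy) hA
    have h4 : 0 < (orbit Γ y).ncard :=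
      (Set.ncard_pos (hA.subset (h1 y hy))).2 ⟨y, mem_orbit_self y⟩
    have h5 := ih _ (show (A \ orbit Γ y).ncard < n by omega) _ (hA.subset Set.sdiff_subset) rfl
      (fun x hx t ht => ⟨h1 x hx.1 ht, fun h => hx.2 (by
        rw [← orbit_eq_iff.2 h, orbit_eq_iff.2 ht]; exact mem_orbit_self x)⟩)
      fun x hx => h2 x hx.1
    rw [← hn, ← h3, mul_add]
    exact Nat.dvd_add h5 (h2 y hy)

theorem dvd_of_stab [Finite Ω] {T : Subgroup G} {α : Ω} (h1 : ∀ x ∈ T, x • α = α)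
    (h2 : ∀ ε ≠ α, #|T ⊓ stabilizer G ε| ≤ 2) : #|T| ∣ 2 * ({α}ᶜ : Set Ω).ncard := by
  refine dvd_of_orbits (Γ := T) _ _ _ _ (Set.toFinite _) rfl ?_ fun ε hε => ?_
  · rintro ε hε _ ⟨x, rfl⟩ e
    exact hε (smul_left_cancel (x : G) (e.trans (h1 x x.2).symm))
  · have h3 : (orbit T ε).ncard = (stabilizer G ε).relIndex T :=
      (MulAction.index_stabilizer T ε).symm
    have h4 := h2 ε hε
    have h5 : 0 < #|T ⊓ stabilizer G ε| := Nat.card_pos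
    rw [h3, ← BW.card_mul_relIndex' T (stabilizer G ε)]
    refine Nat.mul_dvd_mul_right ?_ _
    interval_cases #|T ⊓ stabilizer G ε| <;> simp

theorem num2 {m e n : ℕ} (hm : 3 ≤ m) (h : n + 1 = ((2 ^ m) ^ 2 + 1) * (2 ^ e + 1))
    (hd : (2 ^ m) ^ 3 ∣ n) : False := by
  obtain ⟨k, rfl⟩ := hd
  obtain ⟨m, rfl⟩ := Nat.exists_eq_add_of_le hm
  rcases lt_trichotomy e (2 * (3 + m)) with h1 | rfl | h1
  · obtain ⟨r, hr⟩ := Nat.exists_eq_add_of_lt h1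
    have h2 : (2 ^ (3 + m)) ^ 2 = 2 ^ e * (2 * 2 ^ r) := by rw [← pow_mul, mul_comm, hr]; ring
    have h3 : 2 ^ e * (2 * (2 ^ r * 2 ^ (3 + m) * k)) = 2 ^ e * (2 * (2 ^ r * (2 ^ e + 1)) + 1) := by
      rw [pow_succ, h2] at h
      nlinarith
    have := Nat.eq_of_mul_eq_mul_left (by positivity) h3
    omega
  · have h3 : (2 ^ (3 + m)) ^ 2 * (4 * (2 * 2 ^ m * k)) =
        (2 ^ (3 + m)) ^ 2 * (4 * (16 * (2 ^ m) ^ 2) + 2) := by
      rw [mul_comm 2 (3 + m), pow_mul] at h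
      have : 2 ^ (3 + m) = 8 * 2 ^ m := by ring
      rw [this] at h ⊢
      nlinarith
    have := Nat.eq_of_mul_eq_mul_left (by positivity) h3
    omega
  · obtain ⟨r, rfl⟩ := Nat.exists_eq_add_of_lt h1
    have h3 : (2 ^ (3 + m)) ^ 2 * (2 * (4 * 2 ^ m * k)) =
        (2 ^ (3 + m)) ^ 2 * (2 * (2 ^ r * ((2 ^ (3 + m)) ^ 2 + 1)) + 1) := by
      have : 2 ^ (2 * (3 + m) + r + 1) = (2 ^ (3 + m)) ^ 2 * (2 * 2 ^ r) := by ring
      rw [this] at h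
      have : 2 ^ (3 + m) = 8 * 2 ^ m := by ring
      rw [this] at h ⊢
      nlinarith
    have := Nat.eq_of_mul_eq_mul_left (by positivity) h3
    omega

theorem num3 {m p x cb μ l : ℕ} (hm : 3 ≤ m) (hp : 2 ^ m = p + 1)
    (h : x * (cb * μ) = ((2 ^ m) ^ 2 + 1) * (2 ^ m) ^ 2 * (p * (μ * l))) (hμ : Odd μ) (hl : Odd l)
    (hle : l ≤ cb) (hd : 4 * (2 ^ m) ^ 3 ∣ x + (2 ^ m) ^ 2)
    (h11 : cb < 2 ^ m ∨ (cb ∣ (2 ^ m) ^ 2 + 1 ∧ cb ≤ 2 * 2 ^ m + 1)) : False := by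
  obtain ⟨e, rfl⟩ := Nat.exists_eq_add_of_le hle
  obtain ⟨r, hr⟩ : 4 ∣ 2 ^ m := (pow_dvd_pow 2 (by omega : 2 ≤ m) :)
  have h1 : 4 * 2 ^ m ∣ 2 ^ m * l + e := by
    have h2 : (2 ^ m) ^ 2 * (4 * 2 ^ m) ∣
        (2 ^ m) ^ 2 * ((4 * 2 ^ m * (r * p * l) + (2 ^ m * l + e)) * μ) := by
      have e1 : (2 ^ m) ^ 2 * ((4 * 2 ^ m * (r * p * l) + (2 ^ m * l + e)) * μ) =
          (x + (2 ^ m) ^ 2) * ((l + e) * μ) := by
        rw [add_mul x, h]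
        generalize 2 ^ m = q at hp hr
        obtain rfl : p = 4 * r - 1 := by omega
        obtain ⟨r, rfl⟩ : ∃ r', r = r' + 1 := ⟨r - 1, by omega⟩
        rw [hr, show 4 * (r + 1) - 1 = 4 * r + 3 by omega]
        ring
      rw [e1, show (2 ^ m) ^ 2 * (4 * 2 ^ m) = 4 * (2 ^ m) ^ 3 by ring]
      exact hd.mul_right _
    have h3 : (4 * 2 ^ m).Coprime μ := by
      rw [show 4 * 2 ^ m = 2 ^ (m + 2) by ring]
      exact (Nat.coprime_two_left.2 hμ).pow_left _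
    exact (Nat.dvd_add_right (dvd_mul_right _ _)).1
      (h3.dvd_of_dvd_mul_right (Nat.dvd_of_mul_dvd_mul_left (by positivity) h2))
  obtain ⟨u, rfl⟩ := (Nat.dvd_add_right (dvd_mul_right _ _)).1 ((dvd_mul_left _ _).trans h1)
  rw [← mul_add, mul_comm 4] at h1
  have h4 := Nat.dvd_of_mul_dvd_mul_left (by positivity) h1
  obtain ⟨l, rfl⟩ := hl
  rcases h11 with h5 | ⟨h5, h6⟩
  · have : u = 0 := by nlinarith
    omega
  · have h7 : u ≤ 2 := by nlinarith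
    obtain rfl : u = 1 := by omega
    have h8 : (2 * l + 1 + 2 ^ m * 1) % 4 = 3 := by omega
    refine ZMod.nonsquare_of_jacobiSym_eq_neg_one (a := -1) (b := 2 * l + 1 + 2 ^ m * 1) ?_
      ⟨(2 ^ m : ℕ), ?_⟩
    · rw [jacobiSym.at_neg_one (Nat.odd_iff.2 (by omega)), ZMod.χ₄_nat_three_mod_four h8]
    · have := (ZMod.natCast_eq_zero_iff _ _).2 h5
      push_cast at this ⊢
      linear_combination -this

set_option hygiene false in
local notation "π" => pT Ω t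

/-- The members of `D` commuting with `s` and acting on its fixed points as `e`. -/
def fib (Ω : Type u) [MulAction G Ω] (D : Set G) (s e : G) : Set G :=
  {x | x ∈ D ∧ x ∈ 𝐂[s] ∧ ∀ ω ∈ fixedBy Ω s, x • ω = e • ω}

theorem class_split {t d : G} {Y : Subgroup G} (hY : Y ≤ 𝐂[t]) (ho : Odd #|Y|) (hd : d ∈ 𝐂[t])
    (hn : d ∈ 𝐍(Y)) (d2 : d * d = 1) : 𝐂[d].relIndex Y =
      𝐂[π d].relIndex (prS (Stab_inv _) Y) * 𝐂[d].relIndex (Y ⊓ Ker G (fixedBy Ω t)) := by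
  have : Finite (XT Ω t) := finite_XS (Stab_inv _)
  rw [← ncard_class, ← ncard_class (π d), ← mul_one (Set.ncard _)]
  refine dcount (Set.toFinite _) (Set.toFinite _) (fun e ξ => π e = ξ) ?_ ?_
  · rintro _ ⟨y, hy, rfl⟩
    rw [Set.ncard_eq_one]
    exact ⟨_, Set.eq_singleton_iff_unique_mem.2 ⟨⟨⟨_, pr_mem_prS _ hy (st (hY hy)),
      (pconj (hY hy) hd).symm⟩, rfl⟩, fun ξ h => h.2.symm⟩⟩
  · rintro _ ⟨_, hη, rfl⟩
    obtain ⟨y, hy, -, rfl⟩ := (mem_prS _).1 hη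
    have hC : ∀ z ∈ Y, z * d * z⁻¹ ∈ 𝐂[t] := fun z hz => mul_mem (mul_mem (hY hz) hd) (inv_mem (hY hz))
    have hK : y ∈ 𝐍(Y ⊓ Ker G (fixedBy Ω t)) := mem_normalizer_of_forall fun z hz =>
      ⟨Y.mul_mem (mul_mem hy hz.1) (inv_mem hy), (pone_iff (mul_mem (mul_mem (hY hy) (hY hz.1))
        (inv_mem (hY hy)))).1 (by rw [pconj (hY hy) (hY hz.1), (pone_iff (hY hz.1)).2 hz.2]; simp)⟩
    rw [← relIndex_cj y, cj_eq_iff.2 hK, ← centralizer_singleton_conj, ← ncard_class,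
      ← pconj (hY hy) hd]
    congr 1
    ext e
    constructor
    · rintro ⟨⟨z, hz, rfl⟩, e⟩
      have h1 : z * d * z⁻¹ * (y * d * y⁻¹) ∈ Y := by
        convert mul_mem (mul_mem hz ((hn _).1 (mul_mem (inv_mem hz) hy))) (inv_mem hy) using 1
        rw [inv_eq_of_mul_self d2]; group
      obtain ⟨k, hk, e1⟩ := exists_conj_of_odd (conj_mul_self d2 z) (conj_mul_self d2 y)
        (odd_orderOf_of_odd_card ho h1)
      refine ⟨k, zpowers_le.2 (mem_inf.2 ⟨h1, ?_⟩) hk, e1⟩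
      rw [← inv_eq_of_mul_self (conj_mul_self d2 z)]
      exact (peq_iff (hC z hz) (hC y hy)).1 e
    · rintro ⟨z, hz, rfl⟩
      exact ⟨⟨z * y, mul_mem hz.1 hy, by group⟩, by
        rw [pconj (hY hz.1) (hC y hy), (pone_iff (hY hz.1)).2 hz.2]; simp⟩

theorem ncard_fib_conj {D : Set G} (hD : ∀ d ∈ D, ∀ g : G, g * d * g⁻¹ ∈ D) (g s e : G) :
    (fib Ω D (g * s * g⁻¹) (g * e * g⁻¹)).ncard = (fib Ω D s e).ncard := by
  have key : ∀ g s e x : G, x ∈ fib Ω D s e →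
      g * x * g⁻¹ ∈ fib Ω D (g * s * g⁻¹) (g * e * g⁻¹) := fun g s e x hx =>
    ⟨hD x hx.1 g, mem_cent1.2 (commute_conj_iff.2 (mem_cent1.1 hx.2.1)), fun ω hω => by
      simp only [mul_smul, hx.2.2 _ ((fixedBy_conj g s ω).1 hω)]⟩
  exact (Set.ncard_congr (fun x _ => g * x * g⁻¹) (key g s e) (fun _ _ _ _ e => by simpa using e)
    fun x hx => ⟨g⁻¹ * x * g⁻¹⁻¹, by simpa [mul_assoc] using key g⁻¹ _ _ x hx, by group⟩).symm

variable {D : Set G} {t : G} {a b : fixedBy Ω t} {R V : Subgroup G} {j : G} {q : ℕ}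
  {Q W : Subgroup (XT Ω t)}

namespace C2

variable (c : C2 D t a b R V j q Q W)
include c

theorem finite : Finite Ω := Set.finite_univ_iff.1 c.zd.finite_pts

theorem ab : (a : Ω) ≠ b := fun e => c.good.ne (Subtype.ext e)

theorem card_F : (fixedBy Ω t).ncard = q ^ 2 + 1 := c.card ▸ c.good.cardΩ

theorem ne_top {H : Subgroup G} {s : G} (hs : TI Ω s) (h : H ≤ Stab G (fixedBy Ω s)) : H ≠ ⊤ := by
  rintro rfl
  obtain ⟨γ, -, -, -, -, e, -⟩ := hs.fr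
  refine ne_one_of_orderOf_two hs.two (c.min.faith s fun ω => ?_)
  obtain ⟨g, -, rfl⟩ := c.zd.tr (α := γ) (β := ω) trivial trivial
  exact (h (mem_top g) γ).2 e

theorem invol {u z : G} (hz : IsConj t z) (hu : u * u = 1) (h1 : u ≠ 1) (hc : Commute u z) :
    u ∈ D ∨ IsConj t u := by
  obtain ⟨g, rfl⟩ := isConj_iff.1 hz
  obtain ⟨h, hh, hx⟩ := c.sylR.exists_conj_mem (y := g⁻¹ * u * g⁻¹⁻¹) (mem_cent1.2 (by
    simpa [mul_assoc] using (commute_conj_iff (g := g⁻¹).2 hc).eq)) (k := 1)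
    (by rw [pow_one, sq, conj_mul_self hu])
  have e : u = g * h⁻¹ * (h * (g⁻¹ * u * g⁻¹⁻¹) * h⁻¹) * (g * h⁻¹)⁻¹ := by group
  rcases c.memE' hx (conj_mul_self (conj_mul_self hu _) _) with h2 | h2
  · exact Or.inl (e ▸ c.zd.conj _ (((c.memV _).1 h2).resolve_left fun e2 => h1 (by rw [e, e2]; simp)).1 _
      trivial)
  · obtain ⟨k, -, e1⟩ := c.tr2 _ h2
    rw [← mul_assoc, c.tt, one_mul] at e1
    exact Or.inr (isConj_iff.2 ⟨g * h⁻¹ * k, by rw [e, ← e1]; group⟩)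

variable {P₁ : Subgroup G} (s : SylowIn 2 P₁ (𝐂(V) ⊓ 𝐍(R)))
include s

theorem big {x : G} (hx : x ∈ P₁) : #|R| ≤ #|𝐂[x] ⊓ P₁| := by
  have h1 : {y | ∃ g ∈ P₁, g * x * g⁻¹ = y}.ncard ≤ q := by
    rw [← c.sing.card]
    refine Set.ncard_le_ncard_of_injOn (t := (V : Set G)) (fun y => y * x⁻¹) ?_
      (mul_left_injective _).injOn
    rintro _ ⟨g, hg, rfl⟩
    exact c.comm_mem s hg hx
  have h2 := card_inf_mul_relIndex 𝐂[x] P₁
  rw [ncard_class] at h1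
  rw [c.card_P s] at h2
  rw [c.card_R]
  refine Nat.le_of_mul_le_mul_right (c := q) ?_ (by have := c.sing.q4; omega)
  calc _ = 2 * q ^ 3 := by ring
    _ ≤ _ := h2 ▸ Nat.mul_le_mul_left _ h1

theorem dvd1 : q ^ 3 ∣ ({(a : Ω)}ᶜ : Set Ω).ncard := by
  have := c.finite
  refine Nat.dvd_of_mul_dvd_mul_left two_pos (c.card_P s ▸ dvd_of_stab
    (fun x hx => c.fix_a (c.PV s hx)) fun ε hε => ?_)
  have h2 : ∀ x ∈ P₁ ⊓ stabilizer G ε, x * x = 1 := fun x hx =>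
    c.fixV (c.sq_mem s hx.1) hε (mul_mem hx hx).2
  rcases (P₁ ⊓ stabilizer G ε).bot_or_exists_ne_one with e | ⟨x, hx, h1⟩
  · simp [e]
  have h3 : ∀ y ∈ P₁ ⊓ stabilizer G ε, y • (a : Ω) = a := fun y hy => c.fix_a (c.PV s hy.1)
  rw [← orderOf_eq_two (h2 x hx) h1, ← Nat.card_zpowers]
  refine card_le_of_le fun y hy => (mem_zpowers_sq (h2 x hx)).2 (c.hyp x ⟨orderOf_eq_two (h2 x hx) h1,
    _, trivial, _, trivial, hε, hx.2, h3 x hx⟩ _ inf_le_left (s.isPGroup.to_le inf_le_right)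
    (c.big s hx.1) y (h2 y hy) ?_ ⟨_, hx.2, _, h3 x hx, hε, hy.2, h3 y hy⟩)
  exact ST.EA.comm h2 hy hx

theorem isConj (hB : ∀ x : G, TI Ω x → CP (D ∩ 𝐂[x])) {x : G} (hx : TI Ω x) : IsConj t x := by
  by_contra hn
  have := c.finite
  obtain ⟨x2, x1⟩ := orderOf_eq_two_iff.1 hx.two
  have h1 : ∀ g : G, {ω | ω ∈ fixedBy Ω x ∧ g • ω ∈ fixedBy Ω t}.ncard = 1 := fun g => by
    have h2 : IsConj t (g⁻¹ * t * g⁻¹⁻¹) := isConj_iff.2 ⟨_, rfl⟩
    obtain ⟨m, -, h3, h4, h5⟩ := exists_central_of_even x2 (conj_mul_self c.tt g⁻¹)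
      (even_orderOf_mul_of_not_isConj x2 (conj_mul_self c.tt g⁻¹) fun e => hn (h2.trans e.symm))
    obtain ⟨z2, z1⟩ := orderOf_eq_two_iff.1 h3
    have hz := (c.invol h2 z2 z1 h5).resolve_right fun e =>
      c.zd.uniq x ((c.invol e x2 x1 h4.symm).resolve_right hn) hx.fr
    obtain ⟨γ, -, e⟩ := c.zd.ex _ hz
    have key : ∀ ω : Ω, g • ω ∈ fixedBy Ω t ↔ (g⁻¹ * t * g⁻¹⁻¹) • ω = ω := fun ω => by
      rw [mem_fixedBy, inv_inv, mul_smul, mul_smul, inv_smul_eq_iff]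
    refine Set.ncard_eq_one.2 ⟨γ, Set.eq_singleton_iff_unique_mem.2 ⟨⟨c.zd.fix_of_comm hz trivial e
      trivial h4.symm, (key γ).2 (c.zd.fix_of_comm hz trivial e trivial h5.symm)⟩, fun ω hω =>
      c.zd.eq_pt hz trivial trivial ?_ e⟩⟩
    exact (stabilizer G ω).pow_mem ((stabilizer G ω).mul_mem hω.1 ((key ω).1 hω.2)) m
  have h2 : ∀ ω : Ω, {g | g ∈ (Set.univ : Set G) ∧ g • ω ∈ fixedBy Ω t}.ncard =
      {g | g ∈ (Set.univ : Set G) ∧ g • (a : Ω) ∈ fixedBy Ω t}.ncard := fun ω => by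
    obtain ⟨h, -, rfl⟩ := c.zd.tr (α := a) (β := ω) trivial trivial
    exact Set.ncard_congr (fun g _ => g * h) (fun g hg => ⟨trivial, by rw [mul_smul]; exact hg.2⟩)
      (fun _ _ _ _ e => mul_right_cancel e) fun g hg => ⟨g * h⁻¹, ⟨trivial, by
        rw [← mul_smul, inv_mul_cancel_right]; exact hg.2⟩, by simp⟩
  have h3 := dcount (Set.toFinite _) (Set.toFinite _) _ (fun g _ => h1 g) fun ω _ => h2 ω
  have h4 := dcount (S := Set.univ) (T := Set.univ) (m := q ^ 2 + 1) (Set.toFinite _)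
    (Set.toFinite _) (fun (g : G) (ω : Ω) => g • ω ∈ fixedBy Ω t) (fun g _ => by
      rw [← c.card_F]
      exact Set.ncard_congr (fun ω _ => g • ω) (fun ω h => h.2) (fun _ _ _ _ e => smul_left_cancel g e)
        fun ω h => ⟨g⁻¹ • ω, ⟨trivial, by simpa using h⟩, by simp⟩) fun ω _ => h2 ω
  have h5 : 0 < {g | g ∈ (Set.univ : Set G) ∧ g • (a : Ω) ∈ fixedBy Ω t}.ncard :=
    (Set.ncard_pos (Set.toFinite _)).2 ⟨1, trivial, by simp⟩
  rw [mul_one] at h3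
  rw [h3, mul_right_comm] at h4
  have h6 := Nat.eq_of_mul_eq_mul_right h5 h4
  obtain ⟨γ, -, δ, -, ne, e1, e2⟩ := hx.fr
  obtain ⟨Q', W', j', q', h7⟩ := c.min.loc 𝐂[x] (c.ne_top hx fun _ => st) (fixedBy Ω x)
    (by simpa using c.zd.cent1' x2 trivial trivial trivial ne) (hB x hx) ⟨γ, e1⟩ ⟨δ, e2⟩
    fun e => ne (congrArg Subtype.val e)
  have : Finite (XS 𝐂[x] (fixedBy Ω x)) := finite_XS fun g hg => Stab_inv _ g (st hg)
  obtain ⟨e, he⟩ := IsPGroup.iff_card.1 (isPGroup_iff_forall_mem.2 fun y hy => ⟨2, by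
    rw [show y ^ 2 ^ 2 = y * y * (y * y) by simp [pow_succ, mul_assoc]]
    exact (h7.two _ (mul_mem hy hy)).2 (h7.sq y hy)⟩ : IsPGroup 2 Q')
  have h8 : (fixedBy Ω x).ncard = 2 ^ e + 1 := he ▸ h7.cardΩ
  obtain ⟨m, hm, rfl⟩ := c.exq
  refine num2 (e := e) hm ?_ (c.dvd1 s)
  rw [mul_comm, ← h8, h6, add_comm, ← Set.ncard_singleton (a : Ω), Set.ncard_add_ncard_compl,
    Set.ncard_univ]

theorem dvd2 (hB : ∀ x : G, TI Ω x → CP (D ∩ 𝐂[x])) {S : Subgroup G} (hS : IsPGroup 2 S) :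
    #|S| ∣ 2 * ({(a : Ω)}ᶜ : Set Ω).ncard := by
  have := c.finite
  obtain ⟨γ, hγ⟩ := c.min.exists_fix hS
  have e : ({(a : Ω)}ᶜ : Set Ω).ncard = ({γ}ᶜ : Set Ω).ncard := by
    have h1 := Set.ncard_add_ncard_compl ({(a : Ω)} : Set Ω)
    have h2 := Set.ncard_add_ncard_compl ({γ} : Set Ω)
    rw [Set.ncard_singleton] at h1 h2
    omega
  rw [e]
  refine dvd_of_stab hγ fun ε hε => ?_
  set T := S ⊓ stabilizer G ε
  have hT : IsPGroup 2 T := hS.to_le inf_le_left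
  rcases eq_or_ne T ⊥ with e | h1
  · simp [e]
  obtain ⟨x, hx, x1⟩ := (ST.OZ T).bot_or_exists_ne_one.resolve_left (ST.OZ_ne_bot hT h1)
  obtain ⟨g, rfl⟩ := isConj_iff.1 (c.isConj s hB (TI.of_sq hx.2.1 x1
    ⟨_, trivial, _, trivial, hε, hx.1.2, hγ _ hx.1.1⟩))
  rw [← c.ti.two, ← orderOf_conj g, ← Nat.card_zpowers, ← cj_zpowers]
  refine card_le_of_le fun y hy => mem_cj.2 ((mem_zpowers_sq c.tt).2 ?_)
  obtain ⟨k, hk⟩ := isPGroup_iff_forall_mem.1 hT y hy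
  refine c.fr_two (mem_cj.1 (centralizer_singleton_conj g t ▸ mem_cent1.2 (hx.2.2 y hy))) (k := k)
    (by simpa using (show (g⁻¹ * y * g⁻¹⁻¹) ^ 2 ^ k = 1 by rw [conj_pow, hk]; simp))
    ⟨_, (fixedBy_conj g t ε).1 hx.1.2, _, (fixedBy_conj g t γ).1 (hγ _ hx.1.1),
      fun e => hε (smul_left_cancel _ e), ?_, ?_⟩ <;> rw [mul_smul, mul_smul, smul_inv_smul]
  exacts [congrArg _ hy.2, congrArg _ (hγ y hy.1)]

theorem not_dvd (hB : ∀ x : G, TI Ω x → CP (D ∩ 𝐂[x])) :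
    ¬ 4 * q ^ 3 ∣ ({(a : Ω)}ᶜ : Set Ω).ncard := by
  intro hd4
  have := c.finite
  have : Finite (XT Ω t) := finite_XS (Stab_inv _)
  obtain ⟨d, hdV, hd⟩ := c.exV
  have dC := c.VC hdV
  have d2 := c.zd.sq hd
  have da := c.Ra d (c.VR hdV)
  have hK : ∀ x ∈ Ker G (fixedBy Ω t), FR (fixedBy Ω t) x := fun x hx =>
    ⟨a, a.2, b, b.2, c.ab, hx a a.2, hx b b.2⟩
  obtain ⟨O, hO, hO'⟩ := exists_odd_normal_in (𝐂[t] ⊓ Ker G (fixedBy Ω t)) fun T hT h2 => by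
    rw [← c.ti.two, ← Nat.card_zpowers]
    refine card_le_of_le fun y hy => (mem_zpowers_sq c.tt).2 ?_
    obtain ⟨k, hk⟩ := isPGroup_iff_forall_mem.1 h2 y hy
    exact c.fr_two (hT hy).1 hk (hK y (hT hy).2)
  have dO : d ∈ 𝐍(O) := mem_normalizer_of_forall fun y hy => (hO' _).2
    ⟨⟨𝐂[t].mul_mem (mul_mem dC ((hO' y).1 hy).1.1) (inv_mem dC), conj_mem_Ker (st dC) ((hO' y).1 hy).1.2⟩,
      by rw [orderOf_conj]; exact ((hO' y).1 hy).2⟩
  have h1 : (fib Ω D t d).ncard = 𝐂[d].relIndex O := by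
    rw [← ncard_class]
    congr 1
    ext e
    constructor
    · rintro ⟨he, heC, h⟩
      have h2 : e * d ∈ Ker G (fixedBy Ω t) := fun ω hω => by
        rw [mul_smul, h _ (Stab_inv _ d (st dC) ω hω), c.zd.smul_smul hd]
      have h3 := c.zd.odd_of_fr he hd ((hK _ h2).mono (Set.subset_univ _))
      obtain ⟨k, hk, e1⟩ := exists_conj_of_odd (c.zd.sq he) d2 h3
      exact ⟨k, zpowers_le.2 ((hO' _).2 ⟨⟨mul_mem heC dC, h2⟩, h3⟩) hk, e1⟩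
    · rintro ⟨g, hg, rfl⟩
      obtain ⟨h2, h3⟩ := mem_inf.1 ((hO' g).1 hg).1
      exact ⟨c.min.conj hd g, mul_mem (mul_mem h2 dC) (inv_mem h2), fun ω hω => by
        rw [mul_smul, mul_smul, inv_mem h3 ω hω, h3 _ (Stab_inv _ d (st dC) ω hω)]⟩
  have h2 : ∀ e ∈ D, e ∈ 𝐂[t] → (fib Ω D t e).ncard = (fib Ω D t d).ncard := fun e he hc => by
    obtain ⟨g, -, h3, rfl⟩ := c.zd.conj_cent1 c.tt trivial c.ti.fr hd he (mem_cent1.1 dC)
      (mem_cent1.1 hc)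
    rw [← ncard_fib_conj (fun _ h => c.min.conj h) g t d, h3.eq, mul_inv_cancel_right]
  have h3 : ∀ e ∈ D, e ∈ 𝐂[t] → (fib Ω D (t * e) e).ncard = (fib Ω D t d).ncard := fun e he hc => by
    obtain ⟨g, e1⟩ := isConj_iff.1 (c.isConj s hB (c.min.ti_mul c.ti he (mem_cent1.1 hc)))
    rw [← h2 (g⁻¹ * e * g⁻¹⁻¹) (c.min.conj he _) (by
      rw [inv_inv, ← mem_cj, ← centralizer_singleton_conj, e1, mem_cent1, ← mul_assoc,
        mem_cent1.1 hc, mul_assoc]), ← ncard_fib_conj (fun _ h => c.min.conj h) g t, e1]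
    simp [mul_assoc]
  obtain ⟨p, hp⟩ : ∃ p, q = p + 1 := ⟨q - 1, by have := c.sing.q4; omega⟩
  have h4 : (DA (D ∩ 𝐂[t]) (a : Ω)).ncard * 1 = ((V : Set G) \ {1}).ncard * (fib Ω D t d).ncard := by
    refine dcount (Set.toFinite _) (Set.toFinite _) (fun e v => e ∈ fib Ω D t v) ?_ ?_
    · rintro e ⟨⟨he, hc⟩, ea⟩
      obtain ⟨v, hv, e1⟩ := (c.piV _).1 ((c.good.memV _).2 (Or.inr
        ⟨⟨e, ⟨he, st hc⟩, rfl⟩, (psmul hc).2 ea⟩))
      have h5 := fun x (hx : x ∈ 𝐂[t]) => pr_eq_iff (Stab_inv (fixedBy Ω t)) (st hc) (st hx)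
      refine Set.ncard_eq_one.2 ⟨v, Set.eq_singleton_iff_unique_mem.2 ⟨⟨⟨hv, fun e2 => ?_⟩, he, hc,
        (h5 v (c.VC hv)).1 e1.symm⟩, fun w hw => ?_⟩⟩
      · rw [Set.mem_singleton_iff.1 e2, pone] at e1
        exact c.zd.uniq e he ((hK e ((pone_iff hc).1 e1.symm)).mono (Set.subset_univ _))
      · have h6 : w⁻¹ * v ∈ V := mul_mem (inv_mem hw.1.1) hv
        refine inv_mul_eq_one.1 ((c.ker (c.VR h6) ?_).resolve_right fun e2 => c.t_not (e2 ▸ h6))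
        rw [pmul (inv_mem (c.VC hw.1.1)) (c.VC hv), pinv (c.VC hw.1.1), e1,
          show π e = π w from (h5 w (c.VC hw.1.1)).2 hw.2.2.2, inv_mul_cancel]
    · rintro v ⟨hv, v1⟩
      rw [← h2 v (((c.memV v).1 hv).resolve_left v1).1 (c.VC hv)]
      congr 1
      ext e
      exact ⟨fun h => h.2, fun h => ⟨⟨⟨h.1, h.2.1⟩, (h.2.2 a a.2).trans (c.Ra v (c.VR hv))⟩, h⟩⟩
  rw [Set.ncard_sdiff_singleton_of_mem (one_mem V), show (V : Set G).ncard = q from c.sing.card, hp,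
    mul_one, add_tsub_cancel_right, h1] at h4
  have h5 : (DA (D ∩ 𝐂[t]) (a : Ω)).ncard * (fib Ω D t d).ncard ≤ (DA D (a : Ω)).ncard * 1 := by
    refine G11.dc _ _ (fun e x => x ∈ fib Ω D (t * e) e) _ _ (fun e he => ?_) fun x hx => ?_
    · rw [← h3 e he.1.1 he.1.2]
      refine Set.ncard_le_ncard (fun x hx => ⟨⟨hx.1, (hx.2.2 a ?_).trans he.2⟩, hx⟩)
      rw [mem_fixedBy, mul_smul, he.2]; exact a.2
    · have key : ∀ e ∈ DA (D ∩ 𝐂[t]) (a : Ω), x ∈ fib Ω D (t * e) e →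
          Odd (orderOf (e * x)) ∧ e * x * (e * x) = t * (x * t * x) := fun e he h => by
        have hc := mem_cent1.1 h.2.1
        refine ⟨c.zd.odd_of_fr he.1.1 hx.1 ?_, ?_⟩
        · obtain ⟨γ, -, δ, -, ne, e1, e2⟩ := (c.min.ti_mul c.ti he.1.1 (mem_cent1.1 he.1.2)).fr
          exact ⟨γ, trivial, δ, trivial, ne, by rw [mul_smul, h.2.2 γ e1, c.zd.smul_smul he.1.1],
            by rw [mul_smul, h.2.2 δ e2, c.zd.smul_smul he.1.1]⟩
        · calc _ = t * (t * e * x) * (e * x) := by rw [← mul_assoc t, ← mul_assoc t, c.tt, one_mul]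
            _ = _ := by rw [← hc, mul_assoc t, mul_assoc x, mul_assoc t, c.zd.sq' he.1.1, mul_assoc x]
      exact (Set.ncard_le_one (Set.toFinite _)).2 fun e he e' he' => mul_right_cancel
        (eq_of_sq_eq_of_odd (key e he.1 he.2).1 (key e' he'.1 he'.2).1
          ((key e he.1 he.2).2.trans (key e' he'.1 he'.2).2.symm))
  obtain ⟨g, hg, eg⟩ := c.tr2 d hdV
  have ga : g • (a : Ω) = a := by
    have h6 := (hg.2 d).1 hdV
    exact c.zd.smul_of_conj (c.min.conj hd g) trivial trivial da (c.Ra _ (c.VR h6)) trivial rfl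
  have h6 : (DA (D ∩ 𝐂[t * d]) (a : Ω)).ncard = (DA (D ∩ 𝐂[t]) (a : Ω)).ncard := by
    rw [← c.zd.ncard_DA_conj (g := g) trivial t, eg, ga]
  have h7 : (Set.univ ∩ fixedBy Ω (t * d)).ncard = q ^ 2 + 1 := by
    rw [← eg, ncard_fix_conj (fun _ _ => Set.mem_univ _) fun _ _ => Set.mem_univ _,
      Set.univ_inter, c.card_F]
  obtain ⟨ε, hε, eε⟩ : ∃ ε ≠ (a : Ω), (t * d) • ε = ε := by
    obtain ⟨γ, -, δ, -, ne, e1, e2⟩ := (c.min.ti_mul c.ti hd (mem_cent1.1 dC)).fr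
    by_cases e : γ = a
    exacts [⟨δ, fun e' => ne (e.trans e'.symm), e2⟩, ⟨γ, e, e1⟩]
  have dε : d • ε = t • ε := by rw [← c.t_inv, eq_inv_smul_iff, ← mul_smul, eε]
  have tε : t • ε ≠ ε := fun e => hε (c.zd.eq_pt hd trivial trivial (dε.trans e) da)
  have h8 := c.zd.cnt_c c.tt trivial c.ti.fr hd (mem_cent1.1 dC) trivial da trivial tε
  have h9 := c.zd.cnt c.tt trivial c.ti.fr hd (mem_cent1.1 dC) trivial da
  rw [c.zd.ncard_DS_eq trivial trivial tε.symm hd dε dC, h6] at h8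
  set Y := 𝐎(⊤ ⊓ Stab G ({ε, t • ε} : Set Ω)) ⊓ 𝐂[t]
  have hY : Odd #|Y| := (odd_core _).of_dvd_nat (card_dvd_of_le inf_le_left)
  have dY : d ∈ 𝐍(Y) := mem_normalizer_of_forall fun y hy => ⟨conj_mem_of_mem_normalizer
    (pcore_char _ _ (normG _ (mem_inf.2 ⟨trivial, mem_Stab_pair (Or.inr ⟨dε, c.zd.swap hd dε⟩)⟩)))
      hy.1, 𝐂[t].mul_mem (mul_mem dC hy.2) (inv_mem dC)⟩
  have h10 := class_split (Ω := Ω) inf_le_right hY dC dY d2
  obtain ⟨l, hl⟩ := div G O (Y ⊓ Ker G (fixedBy Ω t)) d hO (fun y hy => (hO' y).2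
    ⟨⟨hy.1.2, hy.2⟩, odd_orderOf_of_odd_card hY hy.1⟩) d2 dO (mem_normalizer_of_forall fun y hy =>
      ⟨conj_mem_of_mem_normalizer dY hy.1, conj_mem_Ker (st dC) hy.2⟩)
  have h11 := g11 _ _ _ (c.min.loc_of_cp c.ti (hB t c.ti)) _ _ _ _ _ _ c.good c.card (π d)
    ⟨d, ⟨hd, st dC⟩, rfl⟩ (prS (Stab_inv _) Y) (hY.of_dvd_nat (Dvd.intro_left _
      (card_prS (Stab_inv _) fun y hy => st hy.2))) (mem_normalizer_of_forall fun ξ hξ => by
        obtain ⟨y, hy, -, rfl⟩ := (mem_prS _).1 hξ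
        have := conj_mem_of_mem_normalizer dY hy
        rw [← pconj dC hy.2]
        exact pr_mem_prS _ this (st this.2))
  have h12 : Odd (𝐂[d].relIndex O) := hO.of_dvd_nat (relIndex_dvd_card _ _)
  have h13 : 0 < (DA (D ∩ 𝐂[t]) (a : Ω)).ncard :=
    (Set.ncard_pos (Set.toFinite _)).2 ⟨d, ⟨hd, dC⟩, da⟩
  have h14 : ({(a : Ω)}ᶜ : Set Ω).ncard = (Set.univ \ fixedBy Ω t).ncard + q ^ 2 := by
    have e1 := Set.ncard_add_ncard_compl ({(a : Ω)} : Set Ω)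
    have e2 := Set.ncard_add_ncard_compl (fixedBy Ω t)
    rw [Set.ncard_singleton] at e1
    rw [c.card_F, Set.compl_eq_univ_sdiff] at e2
    omega
  rw [h7, h6, ← h8, Set.univ_inter, c.card_F, ← mul_assoc, add_tsub_cancel_right] at h9
  rw [← h8, h1, mul_one, mul_comm, hl, h10, mul_comm _ l] at h5
  rw [hl, Nat.odd_mul] at h12
  obtain ⟨m, hm, rfl⟩ := c.exq
  refine num3 hm hp ?_ h12.1 h12.2 (Nat.le_of_mul_le_mul_right
    (Nat.le_of_mul_le_mul_right h5 h13) h12.1.pos) (h14 ▸ hd4) h11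
  rw [← h10, Nat.eq_of_mul_eq_mul_right h13 h9, h4, hl]
  ring

theorem card_le (hB : ∀ x : G, TI Ω x → CP (D ∩ 𝐂[x])) {S : Subgroup G} (hS : IsPGroup 2 S) :
    #|S| ≤ 2 * #|P₁| := by
  have h1 := c.dvd2 s hB hS
  have h2 := c.not_dvd s hB
  obtain ⟨k, hk⟩ := IsPGroup.iff_card.1 hS
  obtain ⟨m, -, rfl⟩ := c.exq
  rw [c.card_P s, hk, show 2 * (2 * (2 ^ m) ^ 3) = 2 ^ (m * 3 + 2) by ring]
  refine Nat.pow_le_pow_right two_pos (not_lt.1 fun h => h2 (Nat.dvd_of_mul_dvd_mul_left two_pos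
    (dvd_trans ?_ h1)))
  rw [hk, show 2 * (4 * (2 ^ m) ^ 3) = 2 ^ (m * 3 + 2 + 1) by ring]
  exact pow_dvd_pow 2 h

end C2

end Cfsg.Agent.ZD.S2
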