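import Cfsg.Agent.Lib.ZD.S2c
import Cfsg.Agent.Lib.ZD.Sing

/-!
Row S2, part d: the end of the proof.
-/

set_option autoImplicit false
set_option linter.unusedVariables false
set_option linter.unusedSectionVars false

open Subgroup MulAction
open scoped commutatorElement

namespace Cfsg.Agent.ZD

open FT Tr SF.GP

universe u

namespace S2

variable {G : Type u} {Ω : Type u} [Group G] [Finite G] [MulAction G Ω]

theorem exists_index_two {P V : Subgroup G} {t : G} (hV : V ≤ P) (ht : t ∈ P) (h1 : t ∉ V)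
    (h2 : ∀ x ∈ P, x * x ∈ V) (h3 : ∀ x ∈ P, ∀ y ∈ P, x * y * x⁻¹ * y⁻¹ ∈ V) :
    ∃ M : Subgroup G, V ≤ M ∧ t ∉ M ∧ M.relIndex P = 2 := by
  obtain ⟨M, ⟨hVM, hMP, htM⟩, hm⟩ := exists_maximal_of_wellFoundedGT
    (fun M : Subgroup G => V ≤ M ∧ M ≤ P ∧ t ∉ M) ⟨V, le_rfl, hV, h1⟩
  refine ⟨M, hVM, htM, relIndex_eq_two_iff_exists_notMem_and.2 ⟨t, ht, htM, fun x hx => ?_⟩⟩
  by_contra! h
  have hn : zpowers x ≤ 𝐍(M) := zpowers_le.2 (mem_normalizer_of_forall fun y hy => by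
    simpa using mul_mem (hVM (h3 x hx y (hMP hy))) hy)
  refine h.2 (hm ⟨hVM.trans le_sup_left, sup_le hMP (zpowers_le.2 hx), fun e => ?_⟩ le_sup_left
    (mem_sup_right (mem_zpowers x)))
  obtain ⟨m, hm', _, ⟨k, rfl⟩, e⟩ := (mem_sup_of_le_normalizer' hn).1 e
  have h4 : ∀ i : ℤ, x ^ (2 * i) ∈ M := fun i => by
    rw [zpow_mul, zpow_two]; exact zpow_mem (hVM (h2 x hx)) i
  rcases Int.even_or_odd' k with ⟨i, rfl | rfl⟩
  · exact htM (e ▸ mul_mem hm' (h4 i))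
  · refine h.1 ?_
    convert mul_mem ((hn (mem_zpowers x) _).1 (mul_mem hm' (h4 i))) (hVM (h2 x hx)) using 1
    rw [← e]; group

set_option hygiene false in
local notation "π" => pT Ω t

variable {D : Set G} {t : G} {a b : fixedBy Ω t} {R V : Subgroup G} {j : G} {q : ℕ}
  {Q W : Subgroup (XT Ω t)}

namespace C2

variable (c : C2 D t a b R V j q Q W)
include c

theorem fix_a' {g : G} (hg : g ∈ 𝐍(V)) : g • (a : Ω) = a := by
  obtain ⟨d, hdV, hd⟩ := c.exV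
  exact c.zd.smul_of_conj (c.min.conj hd g) trivial trivial (c.Ra d (c.VR hdV))
    (c.Ra _ (c.VR ((hg d).1 hdV))) trivial rfl

theorem exists_four : ∃ r ∈ R, r * r ≠ 1 := by
  by_contra! h
  refine c.QW (le_antisymm (fun ξ hξ => ?_) c.good.VQ)
  obtain ⟨r, hr, rfl⟩ := (c.piP _).1 hξ
  exact (c.good.two _ hξ).1 (by rw [← pmul (c.RC hr) (c.RC hr), h r hr, pone])

variable {P₁ : Subgroup G} (s : SylowIn 2 P₁ (𝐂(V) ⊓ 𝐍(R)))
include s

theorem trans {x : G} (hx : x ∈ P₁) (h : IsConj t x) :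
    ∃ g ∈ 𝐍(P₁), ∃ v ∈ V, g * t * g⁻¹ = x * v := by
  obtain ⟨g, e⟩ := isConj_iff.1 h
  have h1 : SylowIn 2 (cj g R) 𝐂[x] := by rw [← e, centralizer_singleton_conj]; exact c.sylR.cj g
  obtain ⟨y, hy, e1⟩ := (h1.of_card_le (s.isPGroup.to_le inf_le_right) inf_le_left
    (card_cj g R ▸ c.big s hx)).exists_cj_eq h1
  rw [← cj_mul] at e1
  have e2 : y * g * t * (y * g)⁻¹ = x := by
    calc _ = y * (g * t * g⁻¹) * y⁻¹ := by group
      _ = x := by rw [e, mem_cent1.1 hy, mul_inv_cancel_right]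
  generalize y * g = k at e1 e2
  have hT : V ≤ 𝐂[x] ⊓ P₁ := le_inf (fun v hv => mem_cent1.2 (c.PV s hx v hv)) (c.VP s)
  have h2 : k⁻¹ ∈ 𝐍(V) := mem_normalizer_of_forall fun v hv => (c.memV _).2 (by
    rcases (c.memV v).1 hv with rfl | h2
    · simp
    · exact Or.inr ⟨c.min.conj h2.1 _, by simpa using mem_cj.1 (e1.ge (hT hv))⟩)
  have h3 : P₁ ≤ 𝐍(𝐂[x] ⊓ P₁) := fun z hz => mem_normalizer_of_forall fun y hy => by
    simpa using mul_mem (hT (c.comm_mem s hz hy.2)) hy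
  obtain ⟨l, hl, h4⟩ := s.exists_cj_le (isPGroup_cj k⁻¹ s.isPGroup) (by
    rw [← le_cj_iff_cj_inv_le, cj_inf, ← normalizer_cj, ← centralizer_cj, e1,
      cj_eq_iff.2 (inv_mem_iff.1 h2)]
    exact le_inf (c.PV s) h3)
  rw [← cj_mul] at h4
  obtain ⟨w, hw, e3⟩ := c.del' (inv_mem hl.2) (cent_sub V (inv_mem hl.1))
  refine ⟨_, inv_mem (mem_normalizer_of_cj_le h4), _, (inv_mem_iff.1 h2 w).1 hw, ?_⟩
  calc _ = k * (l⁻¹ * t * l⁻¹⁻¹) * k⁻¹ := by group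
    _ = _ := by rw [e3, ← e2]; group

theorem adjust {m : G} (hm : m ∈ 𝐍(P₁)) (h : m * t * m⁻¹ * t⁻¹ ∈ V) :
    ∃ x ∈ P₁, x⁻¹ * m ∈ 𝐂[t] := by
  obtain ⟨x, hx, e⟩ := c.onto s h
  rw [← mem_cent1.1 (c.VC h), inv_mul_cancel_right] at e
  exact ⟨x, hx, mem_cent1.2 (mul_inv_eq_iff_eq_mul.1 (by
    calc _ = x⁻¹ * (m * t * m⁻¹) * x := by group
      _ = t := by rw [← e]; group))⟩

theorem fixes (hB : ∀ x : G, TI Ω x → CP (D ∩ 𝐂[x])) {g : G} (hg : g ∈ 𝐍(P₁)) :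
    g * t * g⁻¹ * t⁻¹ ∈ V := by
  have : Finite (XT Ω t) := finite_XS (Stab_inv _)
  obtain ⟨i, iN, iC, ei⟩ := c.exists_i s
  have hj : j ∈ 𝐂[t] := by simpa [cent_cycle] using c.jK
  have : (V.subgroupOf P₁).Normal :=
    (normal_subgroupOf_iff_le_normalizer (c.VP s)).2 ((c.PV s).trans (cent_sub V))
  have hI : ST.Inva P₁.normalizerMonoidHom (V.subgroupOf P₁) := fun n x hx =>
    (c.NV s n.2 x).1 hx
  set ψ := ST.quotAut hI
  have key : ∀ (n : 𝐍(P₁)) (x y : P₁), ψ n (x : P₁ ⧸ V.subgroupOf P₁) = y ↔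
      (n : G) * x * (n : G)⁻¹ * (y : G)⁻¹ ∈ V := fun n x y => by
    rw [ST.quotAut_mk, QuotientGroup.eq_iff_div_mem, div_eq_mul_inv]; rfl
  have ker : ∀ n : 𝐍(P₁), ψ n = 1 ↔ ∀ x ∈ P₁, (n : G) * x * (n : G)⁻¹ * x⁻¹ ∈ V := fun n =>
    ⟨fun e x hx => (key n ⟨x, hx⟩ ⟨x, hx⟩).1 (by rw [e]; rfl), fun e => MulEquiv.ext fun w =>
      QuotientGroup.induction_on w fun x => (key n x x).2 (e x x.2)⟩
  have ker' : ∀ n : 𝐍(P₁), (n : G) ∈ 𝐂[t] → π (n : G) = 1 → ψ n = 1 := fun n h1 h2 =>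
    (ker n).2 fun x hx => c.triv s h1 (c.cent_of_ker h1 (c.NR s h1 n.2) (c.NV s n.2) h2) n.2 hx
  have kerP : ∀ n : 𝐍(P₁), (n : G) ∈ P₁ → ψ n = 1 := fun n h1 =>
    (ker n).2 fun x hx => c.comm_mem s h1 hx
  have fpf : ∀ n : ℕ, π j ^ n ≠ 1 → ∀ x ∈ P₁, i ^ n * x * (i ^ n)⁻¹ * x⁻¹ ∈ V →
      x ∈ V ∨ t * x ∈ V := fun n hn x hx h => by
    have yC := pow_mem iC n
    have ey : π (i ^ n) = π j ^ n := by rw [ppow iC, ei]
    obtain ⟨w, hw, e⟩ := c.del' (c.PN s hx) (cent_sub V (c.PV s hx))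
    have h1 : Commute (i ^ n) w := mul_inv_eq_iff_eq_mul.1 (mul_left_cancel (a := t) (by
      calc _ = i ^ n * (t * w) * (i ^ n)⁻¹ := by rw [← mul_assoc, ← mul_assoc, ← mem_cent1.1 yC]; group
        _ = (i ^ n * x * (i ^ n)⁻¹ * x⁻¹) * (x * (i ^ n * t * (i ^ n)⁻¹) * x⁻¹) *
          (i ^ n * x * (i ^ n)⁻¹ * x⁻¹)⁻¹ := by rw [← e]; group
        _ = _ := by
          rw [mem_cent1.1 yC, mul_inv_cancel_right, e,
            c.RV (mul_mem c.tR (c.VR hw)) _ h, mul_inv_cancel_right]))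
    have h2 := c.good.fpf n hn _ (c.pQ (c.VR hw)) (ey ▸ pr_commute (Stab_inv _) (st yC) (st (c.VC hw)) h1)
    rw [(c.ker (c.VR hw) h2).resolve_right fun e => c.t_not (e ▸ hw), mul_one] at e
    have h3 := c.memR s hx (mem_cent1.2 (mul_inv_eq_iff_eq_mul.1 e))
    refine c.memE h3 (c.good.fpfU n hn _ (c.pQ h3) ?_)
    rw [← ey, ← pconj yC (c.RC h3), ← pinv (c.RC h3), ← pmul (mul_mem (mul_mem yC (c.RC h3))
      (inv_mem yC)) (inv_mem (c.RC h3))]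
    exact c.pW h
  obtain ⟨r, hr, r4⟩ := c.exists_four
  have hr1 : ¬ (r ∈ V ∨ t * r ∈ V) := by
    rintro (e | e)
    · exact r4 (c.sing.two r e)
    · refine r4 ?_
      rw [← c.sing.two _ e, mul_assoc, ← mul_assoc r, mem_cent1.1 (c.RC hr), mul_assoc, ← mul_assoc,
        c.tt, one_mul]
  set i' : 𝐍(P₁) := ⟨i, iN⟩
  have ord : ∀ n : ℕ, ψ i' ^ n = 1 ↔ π j ^ n = 1 := fun n => by
    rw [← map_pow]
    refine ⟨fun e => by_contra fun hn => hr1 (fpf n hn r (c.RP s hr) ((ker _).1 e r (c.RP s hr))),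
      fun e => ker' _ (pow_mem iC n) ?_⟩
    rw [← e, ← ei, ← ppow iC]; rfl
  have sing : Sing V i q := ⟨c.sing.two, c.sing.card, c.sing.q4, c.NV s iN, fun v hv v1 w hw w1 => by
    obtain ⟨n, e⟩ := c.sing.tr v hv v1 w hw w1
    have h1 := c.cent_of_ker (mul_mem (inv_mem (pow_mem iC n)) (pow_mem hj n))
      (mul_mem (inv_mem (pow_mem (c.NR s iC iN) n)) (pow_mem c.jP n))
      (mul_mem (inv_mem (pow_mem (c.NV s iN) n)) (pow_mem c.sing.nj n)) (by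
        rw [pmul (inv_mem (pow_mem iC n)) (pow_mem hj n), pinv (pow_mem iC n), ppow iC, ppow hj, ei,
          inv_mul_cancel]) v hv
    refine ⟨n, e ▸ ?_⟩
    calc _ = i ^ n * (v * ((i ^ n)⁻¹ * j ^ n)) * (j ^ n)⁻¹ := by group
      _ = _ := by rw [h1]; group⟩
  obtain ⟨m, hm, eq⟩ := c.exq
  set τ : P₁ := ⟨t, c.RP s c.tR⟩
  have mk1 : ∀ x : P₁, (x : P₁ ⧸ V.subgroupOf P₁) = 1 ↔ (x : G) ∈ V := fun x =>
    QuotientGroup.eq_one_iff x
  have zp : ∀ (n : ψ.range) (k : ℤ), (n : MulAut _) = ψ (i' ^ k) →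
      n ∈ zpowers (ψ.rangeRestrict i') := fun n k e => ⟨k, Subtype.ext (by simp [e])⟩
  refine (key ⟨g, hg⟩ τ τ).1 (fix_of_faithful ψ.range.subtype (s.isPGroup.to_quotient _) hm
    (σ := ψ.rangeRestrict i') (u := (⟨r, c.RP s hr⟩ : P₁)) ?_ (mt (mk1 τ).1 c.t_not) ?_
    ((key i' τ τ).2 ?_) ?_ ?_ ?_ (fun e => hr1 (Or.inl ((mk1 _).1 e))) ?_ (ψ.rangeRestrict ⟨g, hg⟩))
  · have h1 := card_mul_relIndex (c.VP s)
    rw [c.card_P s, c.sing.card] at h1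
    refine Nat.eq_of_mul_eq_mul_left (by have := c.sing.q4; omega : 0 < q) (h1.trans ?_)
    rw [← eq]; ring
  · rw [← eq, ← c.good.ord, ← orderOf_coe]
    exact orderOf_eq_orderOf_iff.2 ord
  · simp [i', τ, mem_cent1.1 iC]
  · intro y hy y1 w hw
    obtain ⟨n, rfl⟩ := mem_powers_iff_mem_zpowers.2 hy
    obtain ⟨x, rfl⟩ := QuotientGroup.mk_surjective w
    refine (fpf n (fun e => y1 (Subtype.ext ((ord n).2 e))) x x.2 ((key (i' ^ n) x x).1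
      (by rw [map_pow]; exact hw))).imp (mk1 x).2 fun e => QuotientGroup.eq.2 ?_
    simpa [τ, mem_subgroupOf, c.t_inv] using inv_mem e
  · intro T hT
    obtain ⟨Y, h1, h2, rfl⟩ := ST.exists_lift_two ψ.rangeRestrict ψ.rangeRestrict_surjective hT
      (isPGroup_subgroupOf s.isPGroup 𝐍(P₁)) fun n hn => Subtype.ext (kerP n hn)
    have h3 := c.card_le s hB (h1.map 𝐍(P₁).subtype)
    have h4 := card_inf_mul_relIndex ψ.rangeRestrict.ker Y
    have h5 : #|P₁.subgroupOf 𝐍(P₁)| ≤ #|ψ.rangeRestrict.ker ⊓ Y| :=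
      card_le_of_le (le_inf (fun n hn => Subtype.ext (kerP n hn)) h2)
    rw [card_map_of_injective (subtype_injective _), ← h4, relIndex_ker] at h3
    rw [Nat.card_congr (subgroupOfEquivOfLe (normG P₁)).toEquiv] at h5
    refine Nat.le_of_mul_le_mul_left (c := #|P₁|) ?_ Nat.card_pos
    exact (Nat.mul_le_mul_right _ h5).trans (h3.trans_eq (mul_comm _ _))
  · rintro ⟨_, n, rfl⟩ hn
    obtain ⟨x, hx, h1⟩ := c.adjust s n.2 ((key n τ τ).1 hn)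
    obtain ⟨ξ, hξ, h2⟩ := c.good.dec _ ((psmul h1).2 (c.fix_a' (c.NV s
      (mul_mem (inv_mem (normG _ hx)) n.2))))
    obtain ⟨y, hy, rfl⟩ := (c.piP _).1 hξ
    rw [← pinv (c.RC hy), ← pmul (inv_mem (c.RC hy)) h1] at h2
    have h3 := mul_mem (inv_mem (c.RC hy)) h1
    set z : 𝐍(P₁) := ⟨x * y, normG _ (mul_mem hx (c.RP s hy))⟩
    have h4 : ψ n = ψ (z⁻¹ * n) := by
      rw [map_mul, map_inv, kerP z (mul_mem hx (c.RP s hy)), inv_one, one_mul]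
    rw [show y⁻¹ * (x⁻¹ * n) = (z⁻¹ * n : 𝐍(P₁)) by simp [z, mul_assoc]] at h2 h3
    generalize z⁻¹ * n = l at h2 h3 h4
    constructor
    · obtain ⟨k, hk⟩ := c.good.nj _ ((psmul h3).2 (c.fix_a' (c.NV s l.2))) h2
      refine zp _ k ?_
      have h5 := mul_mem (mul_mem h3 iC) (inv_mem h3)
      have h6 := ker' (l * i' * l⁻¹ * (i' ^ k)⁻¹) (mul_mem h5 (inv_mem (zpow_mem iC k))) (by
        have : π (i ^ k) = π i ^ k := (prHom (Stab_inv _)).map_zpow ⟨i, st iC⟩ k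
        change π (l * i * (l : G)⁻¹ * (i ^ k)⁻¹) = 1
        rw [pmul h5 (inv_mem (zpow_mem iC k)), pconj h3 iC, pinv (zpow_mem iC k), this, ei, ← hk,
          mul_inv_cancel])
      rw [map_mul, map_inv, mul_inv_eq_one] at h6
      simp [← h6, h4]
    · intro hc
      have h5 : ψ (l * i' * l⁻¹ * i'⁻¹) = 1 := by
        have := congrArg Subtype.val hc.eq
        simp only [coe_mul, h4, MonoidHom.coe_rangeRestrict] at this
        simp [this]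
      have h6 := c.back s ((ker _).1 h5)
      obtain ⟨k, hk⟩ := sing.cent (c.NV s l.2) fun v hv => by
        have := h6 _ ((c.NV s iN _).1 ((c.NV s l.2 v).1 hv))
        calc _ = (l * i * (l : G)⁻¹ * i⁻¹) * (i * (l * v * (l : G)⁻¹) * i⁻¹) *
            (l * i * (l : G)⁻¹ * i⁻¹)⁻¹ := by group
          _ = _ := mul_inv_eq_iff_eq_mul.2 this.symm
      refine zp _ k ?_
      have h7 := (ker ((i' ^ k)⁻¹ * l)).2 fun x hx => c.triv s (mul_mem (inv_mem (pow_mem iC k)) h3)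
        (fun v hv => by
          change v * ((i ^ k)⁻¹ * l) = (i ^ k)⁻¹ * l * v
          calc _ = (i ^ k)⁻¹ * (i ^ k * v * (i ^ k)⁻¹) * l := by group
            _ = _ := by rw [← hk v hv]; group) ((i' ^ k)⁻¹ * l).2 hx
      rw [map_mul, map_inv, inv_mul_eq_one] at h7
      simp [← h7, h4]
  · rintro ⟨_, n, rfl⟩ e
    have h1 : n * t * (n : G)⁻¹ * r⁻¹ ∈ V := (key n τ _).1 e
    have h2 := conj_mul_self c.tt (n : G)
    rw [← inv_mul_cancel_right (n * t * (n : G)⁻¹) r] at h2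
    generalize n * t * (n : G)⁻¹ * r⁻¹ = v at h1 h2
    refine r4 ?_
    rw [← h2, mul_assoc, ← mul_assoc r, ← c.RV hr _ h1, mul_assoc, ← mul_assoc, c.sing.two _ h1,
      one_mul]

omit s in
theorem false (hB : ∀ x : G, TI Ω x → CP (D ∩ 𝐂[x])) : False := by
  obtain ⟨P₁, s⟩ := exists_sylowIn (p := 2) (𝐂(V) ⊓ 𝐍(R))
  have hS : SylowIn 2 P₁ ⊤ := sylowIn_of_maximal s.isPGroup le_top fun T hT h1 _ => by
    by_contra hne
    obtain ⟨x, hx, hn, h2⟩ := exists_mem_normalizer_not_mem hT (h1.lt_of_ne' hne)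
    obtain ⟨y, hy, h3⟩ := c.adjust s hn (c.fixes s hB hn)
    obtain ⟨k, hk⟩ := isPGroup_iff_forall_mem.1 hT _ (mul_mem (inv_mem (h1 hy)) hx)
    exact h2 (by simpa using mul_mem hy (c.RP s (c.two_mem h3
      (c.NR s h3 (mul_mem (inv_mem (normG _ hy)) hn)) hk)))
  obtain ⟨M, hV, ht, hM⟩ := exists_index_two (c.VP s) (c.RP s c.tR) c.t_not
    (fun x hx => c.sq_mem s hx) fun x hx y hy => c.comm_mem s hx hy
  obtain ⟨g, h1, h2⟩ := thompson_transfer c.min.index_ne_two hS hM (u := t) (by rw [sq, c.tt])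
  obtain ⟨h, hh, v, hv, e⟩ := c.trans s h2 (isConj_iff.2 ⟨g, rfl⟩)
  refine ht ?_
  have := mul_mem (inv_mem (hV (c.fixes s hB hh))) (mul_mem h1 (hV hv))
  rw [← e] at this
  simpa [mul_assoc] using this

end C2

end S2

/-- Row S2, given statement B. -/
theorem s2_of (hB : ∀ (G Ω : Type u) [Group G] [Finite G] [MulAction G Ω] (D : Set G), Min Ω D →
    ∀ x : G, TI Ω x → CP (D ∩ 𝐂[x])) : S2Stmt.{u} := by
  intro G Ω _ _ _ D t a b R V K P j q Q W c hK h hQ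
  obtain rfl := S2.eq_P c hQ
  subst hK
  exact S2.C2.false ⟨c, hQ, h⟩ (hB G Ω D c.min)

end Cfsg.Agent.ZD
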