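import Cfsg.Agent.Lib.ZD.Sing
import Cfsg.Agent.Lib.Char.Integral
import Cfsg.Agent.Lib.Fit.Subnormal

/-! Row Z of `docs/ZD_PLAN.md`: the affine model. -/

open Subgroup MulAction

namespace Cfsg.Agent.ZD

open FT Tr Solv

theorem half {G : Type*} [Group G] [Finite G] {V : Subgroup G} {y : G} (h2 : ∀ v ∈ V, v * v = 1)
    (hc : V ≤ 𝐂(V)) (hn : y ∈ 𝐍(V)) (hy : y * y ∈ 𝐂(V)) : 𝐂[y].relIndex V ≤ #|V ⊓ 𝐂[y]| :=
  index_cent1_le fun v hv => by
    have h1 := conj_mem_of_mem_normalizer hn (inv_mem hv)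
    have e : v * y * v⁻¹ * y⁻¹ = v * (y * v⁻¹ * y⁻¹) := by group
    rw [e]
    refine ⟨mul_mem hv h1, cent1_conj'.2 ?_⟩
    have i1 := inv_eq_of_mul_eq_one_right (h2 v hv)
    calc y * (v * (y * v⁻¹ * y⁻¹)) * y⁻¹ = y * v * y⁻¹ * (y * y * v⁻¹ * (y * y)⁻¹) := by group
      _ = _ := by
        rw [cent1_conj.1 (cent_le_cent1 (inv_mem hv) hy), i1] 
        rw [i1] at h1
        exact hc hv _ h1

/-- a doubly transitive group of affine permutations of `F` without translations -/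
structure AF (F : Type) [Field F] (X : Type) [Group X] [MulAction X F] : Prop where
  aff : ∀ (x : X) (a b : F), x • (a + b) = x • a + x • b + x • (0 : F)
  ntr : ∀ x : X, (∀ a : F, x • a = a + x • (0 : F)) → x = 1
  mul : ∀ b : F, b ≠ 0 → ∃ x : X, ∀ a : F, x • a = b * a
  tr : ∀ b : F, ∃ x : X, x • (0 : F) = b
  semi : ∀ x : X, x • (0 : F) = 0 → ∃ σ : F ≃+* F, ∀ a, x • a = x • (1 : F) * σ a

namespace AF

variable {F : Type} [Field F] [CharP F 2] {X : Type} [Group X] [MulAction X F] (h : AF F X)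
  {x y g s w : X} {P : Subgroup X} {u v b : F}

theorem aa (a : F) : a + a = 0 := CharTwo.add_self_eq_zero a

include h

omit [CharP F 2] in
theorem faith (e : ∀ a : F, x • a = a) : x = 1 := h.ntr x fun a => by rw [e, e, add_zero]

/-- the linear part -/
@[instance_reducible] def lin : MulAction X F where
  smul x a := x • a + x • (0 : F)
  one_smul a := by change (1 : X) • a + (1 : X) • (0 : F) = a; simp
  mul_smul x y a := by
    change (x * y) • a + (x * y) • (0 : F) = x • (y • a + y • (0 : F)) + x • (0 : F)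
    rw [h.aff, mul_smul, mul_smul, add_assoc (_ + _), aa, add_zero]

/-- the stabilizer of a vector in the linear action -/
def LS (v : F) : Subgroup X := @stabilizer X F _ h.lin v

theorem mem_LS : x ∈ h.LS v ↔ x • v = v + x • (0 : F) := by
  change x • v + x • (0 : F) = v ↔ _
  constructor <;> intro e
  · linear_combination e - aa (x • (0 : F))
  · rw [e, add_assoc, aa, add_zero]

theorem fixLin [Finite F] (h2 : 2 ∣ Nat.card F) (hP : IsPGroup 2 P) : ∃ v, v ≠ 0 ∧ P ≤ h.LS v := by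
  obtain ⟨v, hv, e⟩ := @IsPGroup.exists_fixed_point_of_prime_dvd_card_of_fixed_point 2 P _ hP _ F
    (@Subgroup.instMulAction X F _ h.lin P) _ h2 0 fun x => h.mem_LS.2 (zero_add _).symm
  exact ⟨v, e.symm, fun x hx => hv ⟨x, hx⟩⟩

theorem LS_add (h1 : x ∈ h.LS u) (h2 : x ∈ h.LS v) : x ∈ h.LS (u + v) := by
  rw [mem_LS] at *
  rw [h.aff, h1, h2]; linear_combination aa (x • (0 : F))

theorem LS_mul (hn : g ∈ 𝐍(P)) (e : ∀ a : F, g • a = b * a) (h1 : P ≤ h.LS v) : P ≤ h.LS (b * v) :=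
  fun x hx => by
  have := h.mem_LS.1 (h1 (conj_mem_of_mem_normalizer' hn hx))
  have e0 : g • (0 : F) = 0 := by rw [e, mul_zero]
  rw [mul_smul, mul_smul, mul_smul, mul_smul, inv_smul_eq_iff, e0, h.aff, smul_inv_smul, e0, add_zero, e] at this
  exact h.mem_LS.2 this

theorem eq_bot (e : ∀ v, P ≤ h.LS v) : P = ⊥ :=
  eq_bot_iff.2 fun x hx => h.ntr x fun a => h.mem_LS.1 (e a hx)

theorem LS_zero : x ∈ h.LS 0 := h.mem_LS.2 (zero_add _).symm

omit [CharP F 2] in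
theorem tr2 (e : u ≠ v) : ∃ g : X, g • (0 : F) = u ∧ g • (1 : F) = v := by
  obtain ⟨x, rfl⟩ := h.tr u
  obtain ⟨m, hm⟩ := h.mul (x⁻¹ • v) fun e1 => e (by rw [← e1, smul_inv_smul])
  exact ⟨x * m, by rw [mul_smul, hm, mul_zero], by rw [mul_smul, hm, mul_one, smul_inv_smul]⟩

variable [Fintype F] [Finite X] {n : ℕ} (hc : Fintype.card F = 2 ^ n) (h2 : 2 ≤ n)
include hc h2

omit h [CharP F 2] in
theorem two_dvd : 2 ∣ Nat.card F := by
  rw [Nat.card_eq_fintype_card, hc]; exact dvd_pow_self 2 (by omega)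

theorem o2 : pCore 2 X = ⊥ := by
  rw [← pcore_top_pCore]
  obtain ⟨v, v0, hv⟩ := h.fixLin (two_dvd hc h2) (pcore_isPGroup 2 (⊤ : Subgroup X))
  refine h.eq_bot fun w => ?_
  by_cases w0 : w = 0
  · exact fun x _ => w0 ▸ h.LS_zero
  obtain ⟨m, hm⟩ := h.mul (w / v) (div_ne_zero w0 v0)
  simpa [v0] using h.LS_mul (pcore_norm _ _ (mem_top m)) hm hv

omit h2 [CharP F 2] in
theorem syl_tr (hP : IsSylowIn 2 P ⊤) (b : F) : ∃ p ∈ P, p • (0 : F) = b := by
  haveI : IsPretransitive X F := ⟨fun a b => by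
    obtain ⟨x, rfl⟩ := h.tr a
    obtain ⟨y, rfl⟩ := h.tr b
    exact ⟨y * x⁻¹, by simp [mul_smul]⟩⟩
  obtain ⟨x, rfl⟩ := h.tr b
  obtain ⟨p, hp, r, hr, rfl⟩ := (pHall_mulEq (R := stabilizer X (0 : F)) (Sylow_pHall hP) le_top (by
    rw [relIndex_top_right, index_stabilizer_of_transitive, Nat.card_eq_fintype_card, hc]
    exact pnat_prime_pow (π := {2}) Nat.prime_two rfl n)).exists (mem_top x)
  exact ⟨p, hp, by rw [mul_smul, hr]⟩

/-- the basic configuration -/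
structure Cf (F : Type) [Field F] {X : Type} [Group X] [MulAction X F] (y γ : X) (r : ℕ) : Prop where
  yy : y * y = 1
  y0 : y • (0 : F) = 1
  y1 : y • (1 : F) = 0
  g0 : γ • (0 : F) = 0
  g1 : γ • (1 : F) = 1
  ord : orderOf γ = r
  pr : r.Prime
  r2 : r ≠ 2
  iv : y * γ * y⁻¹ = γ⁻¹
  syl : ∃ P, IsSylowIn 2 P ⊤ ∧ P ≤ 𝐂[y]

theorem exists_cf : ∃ (y γ : X) (r : ℕ), Cf F y γ r := by
  obtain ⟨P, hP⟩ := Sylow_exists 2 (⊤ : Subgroup X)
  have P1 : P ≠ ⊥ := fun e => by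
    obtain ⟨p, hp, e1⟩ := h.syl_tr hc hP 1
    rw [e, mem_bot] at hp
    simp [hp] at e1
  obtain ⟨y, hy, oy⟩ := exists_involution_of_even (H := 𝐙(P)) (even_iff_two_dvd.2 (by
    by_contra e
    exact mt (center_nil_eq1 (pgroup_nil hP.pgroup)).1 P1 (trivg_pgroup_p'group
      (pgroup_sub inf_le_left hP.pgroup) (p'group_of_not_dvd e))))
  have yy := mul_self_of_orderOf_two oy
  have y1 : y ≠ 1 := by rintro rfl; simp at oy
  have fpf : ∀ u : F, y • u ≠ u := fun u e => y1 (h.faith fun a => by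
    obtain ⟨p, hp, rfl⟩ := h.syl_tr hc hP u
    obtain ⟨p', hp', rfl⟩ := h.syl_tr hc hP a
    rw [← mul_smul, ← hy.2 p hp, mul_smul, smul_left_cancel_iff] at e
    rw [← mul_smul, ← hy.2 p' hp', mul_smul, e])
  obtain ⟨g, hg⟩ := not_forall.1 fun e => y1 (mem_bot.1 (h.o2 hc h2 ▸ Fit.mem_pCore_of_forall_conj (p := 2) y e))
  have yi := inv_eq_of_mul_eq_one_right yy
  have iv : ∀ z ∈ zpowers (y * (g * y * g⁻¹)), y * z * y⁻¹ = z⁻¹ := by
    rintro _ ⟨k, rfl⟩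
    rw [← conj_zpow, ← inv_zpow]; congr 1
    simp only [mul_inv_rev, inv_inv, yi, ← mul_assoc, yy, one_mul]
  have hg' : ¬ PiElt {2} (y * (g * y * g⁻¹)) := fun e => hg (pgroup_sub ((closure_le _).2 (by
      rintro _ (rfl | rfl)
      · exact mem_sup_right (mem_zpowers _)
      · simpa [← mul_assoc, yy] using mul_mem (mem_sup_right (S := zpowers (y * (g * y * g⁻¹)))
          (mem_zpowers y)) (mem_sup_left (mem_zpowers _)))) (isPGroup_sup (p_elt_iff_isPGroup.1 e)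
    (pgroup_sub (zpowers_le.2 hy.1) hP.pgroup) (zpowers_le.2 (mem_normalizer_of_forall fun z hz =>
      iv z hz ▸ inv_mem hz))))
  obtain ⟨r, hr⟩ := not_forall.1 (mt pnatP.2 hg')
  push Not at hr
  obtain ⟨hr, hd, r2⟩ := hr
  haveI := Fact.mk hr
  obtain ⟨⟨γ, hγ⟩, oγ⟩ := exists_prime_orderOf_dvd_card' (G := zpowers (y * (g * y * g⁻¹))) r
    (by rwa [card_cycle])
  rw [Subgroup.orderOf_mk] at oγ
  obtain ⟨u, hu⟩ := (IsPGroup.of_card (G := zpowers γ) (n := 1) (by rw [card_cycle, oγ, pow_one])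
    ).nonempty_fixed_point_of_prime_not_dvd_card F (by
      rw [Nat.card_eq_fintype_card, hc]
      exact fun e => r2 ((Nat.prime_dvd_prime_iff_eq hr Nat.prime_two).1 (hr.dvd_of_dvd_pow e)))
  have u1 : γ • u = u := hu ⟨γ, mem_zpowers γ⟩
  have i1 := iv γ hγ
  have u2 : γ • y • u = y • u := by
    rw [smul_eq_iff_eq_inv_smul, ← i1, mul_smul, mul_smul, inv_smul_smul, u1]
  obtain ⟨k, k0, k1⟩ := h.tr2 (fpf u).symm
  refine ⟨k⁻¹ * y * k, k⁻¹ * γ * k, r, by simp [mul_assoc, ← mul_assoc y y, yy], ?_, ?_, ?_, ?_, ?_, hr, r2,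
    ?_, cj k⁻¹ P, (SylowJT _).2 hP, ?_⟩
  · simp only [mul_smul, k0, inv_smul_eq_iff, k1]
  · simp only [mul_smul, k0, inv_smul_eq_iff, k1]; rw [← mul_smul, yy, one_smul]
  · simp only [mul_smul, k0, inv_smul_eq_iff, u1]
  · simp only [mul_smul, inv_smul_eq_iff, k1, u2]
  · rw [← oγ]; simpa using (MulAut.conj k⁻¹).orderOf_eq γ
  · rw [mul_inv_rev (k⁻¹ * γ), mul_inv_rev k⁻¹, ← i1]; group
  · have := cent1J k⁻¹ y
    rw [inv_inv] at this
    rw [this]; exact cj_mono _ (sub_cent1.2 hy.2)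

end AF

end Cfsg.Agent.ZD
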