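import Cfsg.Agent.Lib.ZD.Z1

/-! Row Z of `docs/ZD_PLAN.md`: the affine group has degree 8. -/

open Subgroup MulAction

namespace Cfsg.Agent.ZD

open FT Tr Solv

theorem exists_inv2 {G : Type*} [Group G] [Finite G] {P : Subgroup G} (hP : IsPGroup 2 P) (h : P ≠ ⊥) :
    ∃ z ∈ P, z * z = 1 ∧ z ≠ 1 := by
  obtain ⟨y, hy, oy⟩ := exists_involution_of_even (H := P) (even_iff_two_dvd.2 (by_contra fun e =>
    h (trivg_pgroup_p'group hP (p'group_of_not_dvd e))))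
  exact ⟨y, hy, mul_self_of_orderOf_two oy, by rintro rfl; simp at oy⟩

namespace AF

variable {F : Type} [Field F] [CharP F 2] [Algebra (ZMod 2) F] [Fintype F] {X : Type} [Group X] [Finite X]
  [MulAction X F] (h : AF F X) {x y γ g s w z : X} {P : Subgroup X} {u v b : F} {n r : ℕ}

theorem gal_comm (σ τ : F ≃ₐ[ZMod 2] F) (a : F) : σ (τ a) = τ (σ a) := by
  obtain ⟨g, hg⟩ := IsCyclic.exists_generator (α := F ≃ₐ[ZMod 2] F)
  obtain ⟨i, rfl⟩ := hg σ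
  obtain ⟨j, rfl⟩ := hg τ
  exact congrArg (fun f : F ≃ₐ[ZMod 2] F => f a) (Commute.zpow_zpow_self g i j).eq

theorem ne0 (e : x • (0 : F) = 0) : x • (1 : F) ≠ 0 := fun e1 =>
  one_ne_zero ((smul_left_cancel_iff x).1 (e1.trans e.symm))

theorem pow_act {σ : F ≃ₐ[ZMod 2] F} (e : ∀ a, x • a = b * σ a) (k : ℕ) :
    ∃ b', (b = 1 → b' = 1) ∧ ∀ a : F, x ^ k • a = b' * (σ ^ k) a := by
  induction k with
  | zero => exact ⟨1, fun _ => rfl, by simp⟩
  | succ k ih =>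
    obtain ⟨b', h1, h2⟩ := ih
    exact ⟨b * σ b', fun e => by simp [e, h1 e], fun a => by
      rw [pow_succ', mul_smul, h2, e, map_mul, pow_succ', AlgEquiv.mul_apply, mul_assoc]⟩

include h

theorem exA (e : x • (0 : F) = 0) : ∃ σ : F ≃ₐ[ZMod 2] F, ∀ a, x • a = x • (1 : F) * σ a :=
  let ⟨σ, hσ⟩ := h.semi x e; ⟨toAlg σ, hσ⟩

variable (c : Cf F y γ r)
include c

theorem exG : ∃ τ : F ≃ₐ[ZMod 2] F, ∀ (k : ℕ) a, γ ^ k • a = (τ ^ k) a := by
  obtain ⟨τ, hτ⟩ := h.exA c.g0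
  refine ⟨τ, fun k a => ?_⟩
  obtain ⟨b, h1, h2⟩ := pow_act hτ k
  rw [h2, h1 c.g1, one_mul]

theorem noinv (e : x • (0 : F) = 0) : x * γ * x⁻¹ ≠ γ⁻¹ := fun e1 => by
  obtain ⟨τ, hτ⟩ := h.exG c
  obtain ⟨σ, hσ⟩ := h.exA e
  have h1 : ∀ a, γ • a = τ a := fun a => by simpa using hτ 1 a
  have e2 : γ * x * γ = x := by rw [mul_assoc, mul_inv_eq_iff_eq_mul.1 e1, mul_inv_cancel_left]
  have h2 : ∀ a, τ (x • (1 : F)) * τ (τ (σ a)) = x • (1 : F) * σ a := fun a => by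
    rw [← hσ, gal_comm τ σ, ← map_mul, ← hσ, ← h1, ← h1, ← mul_smul, ← mul_smul, e2]
  have h3 := h2 1
  simp only [map_one, mul_one] at h3
  refine c.r2 ((Nat.prime_dvd_prime_iff_eq c.pr Nat.prime_two).1 (c.ord ▸ orderOf_dvd_of_pow_eq_one
    (h.faith fun a => ?_)))
  obtain ⟨a, rfl⟩ := σ.surjective a
  rw [pow_two, mul_smul, h1, h1]
  exact mul_left_cancel₀ (ne0 e) (h3 ▸ h2 a :)

theorem fixg (e : γ • u = u) : u = 0 ∨ u = 1 := by
  by_contra hu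
  push Not at hu
  obtain ⟨τ, hτ⟩ := h.exG c
  have h1 : ∀ a, γ • a = τ a := fun a => by simpa using hτ 1 a
  have key : ∀ b : F, b ≠ 0 → γ • b = b → ∃ m ∈ 𝐂[γ], ∀ a : F, m • a = b * a := fun b b0 e => by
    obtain ⟨m, hm⟩ := h.mul b b0
    refine ⟨m, cent1_conj.2 (mul_inv_eq_one.1 (h.faith fun a => ?_)), hm⟩
    obtain ⟨a, rfl⟩ := MulAction.surjective γ a
    obtain ⟨a, rfl⟩ := MulAction.surjective m a
    simp only [mul_smul, inv_smul_smul]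
    rw [hm, hm, h1, h1, map_mul, ← h1 b, e]
  have e1 : γ • y • u = y • u := by
    rw [smul_eq_iff_eq_inv_smul, ← c.iv, mul_smul, mul_smul, inv_smul_smul, e]
  have w0 : y • u ≠ 0 := fun e => hu.2 ((smul_left_cancel_iff y).1 (e.trans c.y1.symm))
  obtain ⟨m, m1, hm⟩ := key u hu.1 e
  obtain ⟨m', m2, hm'⟩ := key _ (inv_ne_zero w0) (by rw [h1, map_inv₀, ← h1, e1])
  have m3 : y * m * y⁻¹ ∈ 𝐂[γ] := by rw [← cent1V, ← c.iv, cent1J]; exact conj_mem_cj.2 m1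
  have m4 := cent1_conj.1 (cent1V γ ▸ inv_mem (mul_mem m2 m3))
  refine h.noinv c (x := (m' * (y * m * y⁻¹))⁻¹ * y) ?_ (by rw [← m4, ← c.iv]; group)
  rw [mul_smul, c.y0, inv_smul_eq_iff, mul_smul, mul_smul, mul_smul, inv_smul_eq_iff.2 c.y1.symm, hm, hm',
    mul_one, inv_mul_cancel₀ w0]

variable (hc : Fintype.card F = 2 ^ n)
include hc

theorem exG' : ∃ τ : F ≃ₐ[ZMod 2] F, (∀ (k : ℕ) a, γ ^ k • a = (τ ^ k) a) ∧ zpowers τ = ⊤ ∧ n = r := by
  obtain ⟨τ, hτ⟩ := h.exG c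
  have h1 : zpowers τ = ⊤ := by
    suffices IntermediateField.fixedField (zpowers τ) = ⊥ by
      rw [← IntermediateField.fixingSubgroup_fixedField (zpowers τ), this, IntermediateField.fixingSubgroup_bot]
    refine eq_bot_iff.2 fun a ha => ?_
    rcases h.fixg c (u := a) (by simpa using (hτ 1 a).trans (ha ⟨_, pow_mem (mem_zpowers τ) 1⟩)) with rfl | rfl
    exacts [zero_mem _, one_mem _]
  refine ⟨τ, hτ, h1, ?_⟩
  rw [← card_gal hc, ← card_top, ← h1, Nat.card_zpowers, ← c.ord, orderOf_eq_orderOf_iff]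
  exact fun k => ⟨fun e => h.faith fun a => by rw [hτ, e]; rfl, fun e => AlgEquiv.ext fun a => by
    rw [← hτ, e]; simp⟩

theorem nr : n = r := let ⟨_, _, _, e⟩ := h.exG' c hc; e

theorem gam (e0 : x • (0 : F) = 0) (e1 : x • (1 : F) = 1) : x ∈ zpowers γ := by
  obtain ⟨τ, hτ, h1, -⟩ := h.exG' c hc
  obtain ⟨σ, hσ⟩ := h.exA e0
  obtain ⟨k, rfl⟩ := mem_powers_iff_mem_zpowers.2 (h1.ge (mem_top σ))
  rw [mul_inv_eq_one.1 (h.faith (x := x * (γ ^ k)⁻¹) fun a => ?_)]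
  · exact pow_mem (mem_zpowers γ) k
  obtain ⟨a, rfl⟩ := MulAction.surjective (γ ^ k) a
  rw [mul_smul, inv_smul_smul, hσ, e1, one_mul]; exact (hτ k a).symm

theorem oddr : Odd r := c.pr.odd_of_ne_two c.r2

theorem inv_fpf (hw : w * w = 1) (e : w • u = u) : w = 1 := by
  obtain ⟨g, rfl⟩ := h.tr u
  have e0 : (g⁻¹ * w * g) • (0 : F) = 0 := by rw [mul_smul, mul_smul, e, inv_smul_smul]
  have e1 : g⁻¹ * w * g * (g⁻¹ * w * g) = 1 := by simp [mul_assoc, ← mul_assoc w w, hw]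
  suffices g⁻¹ * w * g = 1 by simpa [mul_assoc, inv_mul_eq_one] using this
  generalize g⁻¹ * w * g = x at *
  obtain ⟨σ, hσ⟩ := h.exA e0
  have h2 : ∀ a, x • (1 : F) * σ (x • (1 : F)) * σ (σ a) = a := fun a => by
    rw [mul_assoc, ← map_mul, ← hσ, ← hσ, ← mul_smul, e1, one_smul]
  have h3 := h2 1
  simp only [map_one, mul_one] at h3
  have h4 : σ = 1 := eq_one_of_odd_of_mul_self (AlgEquiv.ext fun a => by simpa [h3] using h2 a)
    ((h.oddr c hc).of_dvd_nat (by rw [← h.nr c hc, ← card_gal hc]; exact orderOf_dvd_natCard σ))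
  subst h4
  have h5 : x • (1 : F) = 1 := CharTwo.sq_inj.1 (by simpa [pow_two] using h3)
  exact h.faith fun a => by rw [hσ, h5]; simp

theorem reg (hP : IsPGroup 2 P) (hx : x ∈ P) (e : x • u = u) : x = 1 := by_contra fun x1 => by
  obtain ⟨z, hz, z2, z1⟩ := exists_inv2 (P := P ⊓ stabilizer X u) (pgroup_sub inf_le_left hP)
    fun e1 => x1 (mem_bot.1 (e1.le ⟨hx, e⟩))
  exact z1 (h.inv_fpf c hc z2 hz.2)

omit h c [CharP F 2] [Algebra (ZMod 2) F] [Finite X] in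
theorem card_le (e : ∀ x ∈ P, x • (0 : F) = 0 → x = 1) : #|P| ≤ 2 ^ n := by
  rw [← hc, ← Nat.card_eq_fintype_card]
  exact Nat.card_le_card_of_injective (fun x : P => (x : X) • (0 : F)) fun a b e1 => Subtype.ext
    (inv_mul_eq_one.1 (e _ (mul_mem (inv_mem a.2) b.2) (by rw [mul_smul, inv_smul_eq_iff]; exact e1.symm)))

theorem card_syl (hP : IsSylowIn 2 P ⊤) : #|P| = 2 ^ n := by
  refine (card_le hc fun x hx => h.reg c hc hP.pgroup hx).antisymm ?_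
  rw [← hc, ← Nat.card_eq_fintype_card]
  exact Nat.card_le_card_of_surjective (fun x : P => (x : X) • (0 : F)) fun b =>
    let ⟨p, hp, e⟩ := h.syl_tr hc hP b; ⟨⟨p, hp⟩, e⟩

theorem ivG (hx : x ∈ zpowers γ) : y * x * y⁻¹ = x⁻¹ := by
  obtain ⟨k, rfl⟩ := hx
  rw [← conj_zpow, c.iv, inv_zpow]

theorem oddG (hx : x ∈ zpowers γ) : Odd (orderOf x) :=
  (h.oddr c hc).of_dvd_nat (c.ord ▸ orderOf_dvd_of_mem_zpowers hx)

theorem cw (hw : w * w = 1) (w1 : w ≠ 1) : IsSylowIn 2 𝐂[w] ⊤ ∧ ∃ g, g * y * g⁻¹ = w := by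
  obtain ⟨P, hP, h1⟩ := c.syl
  have h2 : P = 𝐂[y] := eq_of_le_card h1 (h.card_syl c hc hP ▸ card_le hc fun x hx e => by
    have e1 := h.gam c hc e (by rw [← c.y0, ← mul_smul, mem_cent1.1 hx, mul_smul, e])
    exact eq_one_of_odd_of_mul_self (by
      nth_rw 1 [← cent1_conj'.1 hx]; rw [h.ivG c hc e1, inv_mul_cancel]) (h.oddG c hc e1))
  suffices ∃ g, g * y * g⁻¹ = w by
    obtain ⟨g, rfl⟩ := this
    exact ⟨by rw [cent1J, SylowJT]; exact h2 ▸ hP, g, rfl⟩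
  obtain ⟨k, k0, k1⟩ := h.tr2 (u := 0) (v := w • 0) fun e => w1 (h.inv_fpf c hc hw e.symm)
  obtain ⟨l, -, e⟩ := exists_conj_of_odd (x := k⁻¹ * w * k) (by simp [mul_assoc, ← mul_assoc w w, hw]) c.yy
    (h.oddG c hc (h.gam c hc (by
      simp only [mul_smul, c.y0, k1, inv_smul_eq_iff, k0]; rw [← mul_smul, hw, one_smul]) (by
      simp only [mul_smul, c.y1, k1, inv_smul_eq_iff, k0])))
  exact ⟨k * l, by rw [show k * l * y * (k * l)⁻¹ = k * (l * y * l⁻¹) * k⁻¹ by group, e]; group⟩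

theorem cfpf (hP : IsPGroup 2 P) (e : s • (0 : F) = 0) (s1 : s ≠ 1) : P ⊓ 𝐂[s] = ⊥ := by_contra fun e1 => by
  obtain ⟨z, hz, z2, z1⟩ := exists_inv2 (pgroup_sub inf_le_left hP) e1
  exact s1 (h.reg c hc (h.cw c hc z2 z1).1.pgroup (cent1C.1 hz.2) e)

theorem ndvd : ¬ r ∣ 2 ^ r - 1 := fun e => by
  haveI := Fact.mk c.pr
  have h1 := (ZMod.natCast_eq_zero_iff _ _).2 e
  rw [Nat.cast_sub Nat.one_le_two_pow, Nat.cast_pow, ZMod.pow_card] at h1
  norm_num at h1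

theorem n2 : 2 ≤ n := h.nr c hc ▸ c.pr.two_le

theorem nP (hP : IsSylowIn 2 P ⊤) : 𝐍(P) ≤ P := fun g hg => by
  obtain ⟨p, hp, e⟩ := h.syl_tr hc hP (g • 0)
  have hs := mul_mem (le_normalizer (inv_mem hp)) hg
  have e0 : (p⁻¹ * g) • (0 : F) = 0 := by rw [mul_smul, ← e, inv_smul_smul]
  suffices p⁻¹ * g = 1 from inv_mul_eq_one.1 this ▸ hp
  generalize p⁻¹ * g = s at *
  by_contra s1
  obtain ⟨σ, hσ⟩ := h.exA e0
  obtain ⟨b, -, hb⟩ := pow_act hσ r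
  have h1 := pow_card_eq_one' (x := σ)
  rw [card_gal hc, h.nr c hc] at h1
  simp only [h1, AlgEquiv.one_apply] at hb
  have cP := h.card_syl c hc hP
  have h2 : s ^ r = 1 := by
    obtain ⟨v, v0, hv⟩ := h.fixLin (two_dvd hc (h.n2 c hc)) hP.pgroup
    let A : Subalgebra (ZMod 2) F :=
      { carrier := {a | ∀ v, P ≤ h.LS v → P ≤ h.LS (a * v)}
        mul_mem' := fun {a b} ha hb v e => mul_assoc a b v ▸ ha _ (hb v e)
        add_mem' := fun {a b} ha hb v e x hx => add_mul a b v ▸ h.LS_add (ha v e hx) (hb v e hx)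
        algebraMap_mem' := fun a v e => by
          rcases (by decide : ∀ b : ZMod 2, b = 0 ∨ b = 1) a with rfl | rfl
          · exact fun x _ => by simpa using h.LS_zero
          · simpa using e }
    have fr : (Module.finrank (ZMod 2) F).Prime := by
      rw [← IsGalois.card_aut_eq_finrank, card_gal hc, h.nr c hc]; exact c.pr
    rcases (Subalgebra.isSimpleOrder_of_finrank_prime _ _ fr).eq_bot_or_eq_top A with e | e
    · obtain ⟨a, ha⟩ := Algebra.mem_bot.1 (e.le (show b ∈ A from fun v => h.LS_mul (pow_mem hs r) hb))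
      rcases (by decide : ∀ b : ZMod 2, b = 0 ∨ b = 1) a with rfl | rfl
      · have := (hb 1).trans ((hb 0).trans (by simp [← ha])).symm
        simp at this
      · exact h.faith fun a => by simp [hb, ← ha]
    · have := h.eq_bot (P := P) fun w => by simpa [v0] using e.ge (Algebra.mem_top (x := w / v)) v hv
      rw [this, card_bot] at cP
      exact absurd cP (Nat.one_lt_two_pow (by have := h.n2 c hc; omega)).ne
  haveI := Fact.mk c.pr
  have := regular_norm_dvd_pred (zpowers_le.2 hs) fun x hx x1 => h.cfpf c hc hP.pgroup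
    (zpowers_le.2 (show s ∈ stabilizer X (0 : F) from e0) hx) x1
  rw [card_cycle, orderOf_eq_prime h2 s1, cP, h.nr c hc] at this
  exact h.ndvd c hc this

theorem uz (hP : IsSylowIn 2 P ⊤) (hz : z ∈ 𝐂(P)) (hw : w ∈ 𝐂(P)) (z2 : z * z = 1) (w2 : w * w = 1)
    (z1 : z ≠ 1) (w1 : w ≠ 1) : z = w := by
  obtain ⟨h1, g, rfl⟩ := h.cw c hc z2 z1
  obtain ⟨h2, k, rfl⟩ := h.cw c hc w2 w1
  have e1 := Sylow_eq_of_le hP h1 (sub_cent1.2 hz)
  have e2 := Sylow_eq_of_le hP h2 (sub_cent1.2 hw)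
  have e3 : k * g⁻¹ * (g * y * g⁻¹) * (k * g⁻¹)⁻¹ = k * y * k⁻¹ := by group
  rw [← e3]
  exact (cent1_conj.1 (e1.le (h.nP c hc hP (cj_eq_iff.1 (by rw [e1, ← cent1J, e3, ← e2, ← e1]))))).symm

theorem main : n = 3 ∧ ∃ P O : Subgroup X, IsSylowIn 2 P ⊤ ∧ O ≤ P ∧ O.relIndex P = 2 ∧
    (∀ x ∈ O, x * x = 1) ∧ y ∈ P ∧ y ∉ O := by
  haveI := Fact.mk c.pr
  have yY : y ∈ h.LS 1 := h.mem_LS.2 (by rw [c.y0, c.y1, aa])
  have gY : γ ∈ h.LS 1 := h.mem_LS.2 (by rw [c.g0, c.g1, add_zero])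
  have Y0 : ∀ x ∈ h.LS 1, x • (0 : F) = 0 → x ∈ zpowers γ := fun x hx e =>
    h.gam c hc e (by rw [h.mem_LS.1 hx, e, add_zero])
  have G0 : zpowers γ ≤ stabilizer X (0 : F) := zpowers_le.2 c.g0
  have y2 : IsPGroup 2 (zpowers y) := IsPGroup.of_card (n := 1) (by
    rw [card_cycle, pow_one]; exact orderOf_eq_prime (by rw [pow_two, c.yy]) fun e => by simpa [e] using c.y0)
  obtain ⟨P, hP, PY, yP⟩ : ∃ P, IsSylowIn 2 P ⊤ ∧ P ≤ h.LS 1 ∧ y ∈ P := by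
    obtain ⟨Q, hQ⟩ := Sylow_exists 2 (⊤ : Subgroup X)
    obtain ⟨v, v0, hv⟩ := h.fixLin (two_dvd hc (h.n2 c hc)) hQ.pgroup
    obtain ⟨m, hm⟩ := h.mul v v0
    have h1 : cj m⁻¹ Q ≤ h.LS 1 := fun x hx => by
      have := h.mem_LS.1 (hv (mem_cj_inv.1 hx))
      rw [mul_smul, mul_smul, mul_smul, mul_smul, inv_smul_eq_iff.2 ((hm 1).trans (mul_one v)).symm,
        inv_smul_eq_iff.2 ((hm 0).trans (mul_zero v)).symm, hm, hm] at this
      exact h.mem_LS.2 (mul_left_cancel₀ v0 (by rw [this]; ring))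
    have h2 := (SylowJT m⁻¹).2 hQ
    obtain ⟨P, hP, h3⟩ := Sylow_superset (zpowers_le.2 yY) y2
    exact ⟨P, subSylow_Sylow h2 h1 le_top hP, hP.le, h3 (mem_zpowers y)⟩
  generalize h.LS 1 = Y at *
  have cP := h.card_syl c hc hP
  have cG : #|zpowers γ| = r := by rw [card_cycle, c.ord]
  have cY := (mulEq_of_forall PY (zpowers_le.2 gY) fun g hg => by
    obtain ⟨p, hp, e⟩ := h.syl_tr hc hP (g • 0)
    exact ⟨p, hp, _, Y0 _ (mul_mem (inv_mem (PY hp)) hg) (by rw [mul_smul, ← e, inv_smul_smul]),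
      mul_inv_cancel_left p g⟩).card
  rw [show P ⊓ zpowers γ = ⊥ from eq_bot_iff.2 fun x hx => h.reg c hc hP.pgroup hx.1 (G0 hx.2), card_bot,
    mul_one, cP, cG] at cY
  have sY : Group.IsSolvable Y := Char.burnside Nat.prime_two c.pr (a := n) (b := 1) (by rw [← cY, pow_one])
  have r2 : ∀ {k}, k ∣ 2 ^ n → ¬ r ∣ k := fun hk e =>
    c.r2 ((Nat.prime_dvd_prime_iff_eq c.pr Nat.prime_two).1 (c.pr.dvd_of_dvd_pow (e.trans hk)))
  have hG : IsSylowIn r (zpowers γ) Y := ⟨zpowers_le.2 gY, IsPGroup.of_card (n := 1) (by rw [cG, pow_one]),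
    r2 (Dvd.intro 1 (Nat.eq_of_mul_eq_mul_left c.pr.pos (by
      rw [mul_one, mul_comm r (2 ^ n), cY, ← cG]; exact Lagrange (zpowers_le.2 gY))))⟩
  have hM := plength1_Frattini' ((plength1_iff_Sylow_le hG).2 (le_trans (le_inf hG.le
    ((abelianE.1 (cycle_abelian γ)).trans (centS inf_le_right)))
    (BG1P.solvable_p_constrained sY (Sylow_setI_normal (core2_normal _ _ _) hG)))) hG
  have nO := pcore_normal {r}ᶜ Y
  have pO' := pcore_pgroup {r}ᶜ Y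
  generalize core {r}ᶜ Y = O at *
  have pO : IsPGroup 2 O := pgroupE.1 (pgroupP.2 fun p hp e => by
    rcases (Nat.Prime.dvd_mul hp).1 (cY ▸ e.trans (cardSg nO.le)) with e1 | e1
    · exact (Nat.prime_dvd_prime_iff_eq hp Nat.prime_two).1 (hp.dvd_of_dvd_pow e1)
    · exact absurd ((Nat.prime_dvd_prime_iff_eq hp c.pr).1 e1) (pO'.mem hp e))
  have OP := normal_sub_Sylow (⟨PY, hP.pgroup, fun e => hP.not_dvd (e.trans (Dvd.intro _
    (Lagrange_index PY le_top)))⟩ : IsSylowIn 2 P Y) pO nO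
  have g1 : γ ≠ 1 := fun e => c.pr.ne_one (by rw [← c.ord, e, orderOf_one])
  have yY := PY yP
  have yO : y ∉ O := fun e => g1 (eq_one_of_odd_of_mul_self (h.reg c hc pO (u := 0) (by
    have h1 := mul_mem (nO.conj_mem gY e) (inv_mem e)
    rwa [show γ * y * γ⁻¹ * y⁻¹ = γ * (y * γ * y⁻¹)⁻¹ by group, c.iv, inv_inv] at h1)
    (by rw [mul_smul, c.g0, c.g0])) (h.oddG c hc (mem_zpowers γ)))
  have dO : ∀ p ∈ P, y * p ∈ O ∨ p ∈ O := fun p hp => by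
    obtain ⟨o, ho, d, hd, rfl⟩ := hM.exists (PY hp)
    have dP : d ∈ P := by simpa using mul_mem (inv_mem (OP ho)) hp
    have e : γ • d • (0 : F) = d • 0 := by
      have : (d⁻¹ * γ * d) • (0 : F) = 0 := G0 (conj_mem_of_mem_normalizer' hd.2 (mem_zpowers γ))
      rwa [mul_smul, mul_smul, inv_smul_eq_iff] at this
    rcases h.fixg c e with e | e
    · rw [h.reg c hc hP.pgroup dP e, mul_one]; exact .inr ho
    · rw [eq_inv_of_mul_eq_one_right (h.reg c hc hP.pgroup (mul_mem yP dP) (u := 0)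
        (by rw [mul_smul, e, c.y1])), ← mul_assoc]
      exact .inl (nO.conj_mem yY ho)
  have iO : O.relIndex P = 2 := relIndex_eq_two_iff_exists_notMem_and'.2 ⟨y, yP, yO, dO⟩
  have cO := Lagrange OP
  rw [iO, cP] at cO
  have O1 : O ≠ ⊥ := fun e => by
    have := Nat.pow_le_pow_right two_pos (h.n2 c hc)
    rw [e, card_bot] at cO; omega
  have Z1 : Ohm1 2 𝐙(O) ≠ ⊥ := mt (Ohm1_eq1 (pgroup_sub inf_le_left pO)).1
    (mt (center_nil_eq1 (pgroup_nil pO)).1 O1)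
  have ZO : Ohm1 2 𝐙(O) ≤ 𝐙(O) := Ohm_sub _ _
  have aZ : Abelem 2 (Ohm1 2 𝐙(O)) := Ohm1_abelem (abelianE.2 (inf_le_right.trans (centS inf_le_left)))
  have nZ : Y ≤ 𝐍(Ohm1 2 𝐙(O)) := norms_Ohm1 2 (norms_center nO.nz)
  generalize Ohm1 2 𝐙(O) = Z at *
  have Z2 : ∀ z ∈ Z, z * z = 1 := fun z hz => by rw [← pow_two]; exact (abelemP.1 aZ).2 z hz
  have h1 := half Z2 (abelianE.1 (abelemP.1 aZ).1) (nZ yY) (by rw [c.yy]; exact one_mem _)
  have ZP : Z ⊓ 𝐂[y] ≤ 𝐂(P) := centsC.1 fun p hp => by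
    have k1 : O ≤ 𝐂(Z ⊓ 𝐂[y]) := centsC.1 (inf_le_left.trans (ZO.trans inf_le_right))
    rcases dO p hp with e | e
    · simpa using mul_mem (inv_mem (sub_cent1.1 (inf_le_right (a := Z)))) (k1 e)
    · exact k1 e
  have h2 : #|Z ⊓ 𝐂[y]| ≤ 2 := by
    by_cases e : Z ⊓ 𝐂[y] = ⊥
    · rw [e, card_bot]; omega
    obtain ⟨⟨z, hz⟩, z1⟩ := ne_bot_iff_exists_ne_one.1 e
    have z1' : z ≠ 1 := fun e => z1 (Subtype.ext e)
    refine (subset_leq_card (K := zpowers z) fun w hw => ?_).trans (by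
      rw [card_cycle, orderOf_eq_prime (by rw [pow_two, Z2 z hz.1]) z1'])
    by_cases w1 : w = 1
    · exact w1 ▸ one_mem _
    · exact h.uz c hc hP (ZP hz) (ZP hw) (Z2 z hz.1) (Z2 w hw.1) z1' w1 ▸ mem_zpowers z
  have h3 := LagrangeI' Z 𝐂[y]
  have h4 := regular_norm_dvd_pred ((zpowers_le.2 gY).trans nZ) fun x hx x1 =>
    h.cfpf c hc (abelem_pgroup aZ) (G0 hx) x1
  have h5 := cardG_gt1.2 Z1
  have h6 := Nat.le_of_dvd (by omega) h4
  have h7 := c.pr.two_le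
  have h8 := c.r2
  have h9 : #|Z| ≤ 4 := by rw [← h3]; exact Nat.mul_le_mul h2 (h1.trans h2)
  have h10 := h.nr c hc
  have n3 : n = 3 := by omega
  subst n3
  exact ⟨rfl, P, O, hP, OP, iO, eq_of_le_card (ZO.trans inf_le_left) (by omega) ▸ Z2, yP, yO⟩

end AF

end Cfsg.Agent.ZD
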